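import Groth.Agent.SiteBase.Global

/-!
# Flasque sheaves, injective sheaves on spaces
-/

universe u

open CategoryTheory CategoryTheory.Limits Opposite Abelian TopologicalSpace

namespace Groth.Agent.SiteBase

variable {X : TopCat.{u}}

lemma isFlasque_of_injective (F : CohTop.Ab X) [Injective F] : TopCat.Sheaf.IsFlasque F where
  epi {U V} i := by
    have : Mono i.unop := ⟨fun a b _ => Subsingleton.elim a b⟩
    exact (AddCommGrpCat.epi_iff_surjective _).mpr (sections_surjective_of_mono i.unop F)

theorem subsingleton_HU_of_isFlasque (F : CohTop.Ab X) [hF : TopCat.Sheaf.IsFlasque F]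
    (U : Opens X) (n : ℕ) : Subsingleton (CohTop.HU F (n + 1) U) := by
  refine subsingleton_HU_of_class (J := Opens.grothendieckTopology X)
    (fun F => TopCat.Sheaf.IsFlasque F) (fun _ => True) ?_ ?_ hF (U := U) trivial n
  · intro E hE h1 h2
    have := h1
    have := isFlasque_of_injective E.X₂
    exact TopCat.Sheaf.IsFlasque.of_shortExact_of_isFlasque₁₂ hE
  · intro E hE h1 h2 U _
    have := h1
    exact (AddCommGrpCat.epi_iff_surjective _).mp (TopCat.Sheaf.IsFlasque.epi_of_shortExact hE)

theorem subsingleton_H_of_isFlasque (F : CohTop.Ab X) [TopCat.Sheaf.IsFlasque F] (n : ℕ) :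
    Subsingleton (CohTop.H F (n + 1)) :=
  subsingleton_H_of_HU_terminal isTerminalTop F (n + 1) (subsingleton_HU_of_isFlasque F ⊤ n)

instance preservesFiniteLimits_pull {Y : TopCat.{u}} (f : X ⟶ Y) :
    PreservesFiniteLimits (CohTop.pull f) :=
  have : HasSheafify (Opens.grothendieckTopology X) AddCommGrpCat.{u} := inferInstance
  have : HasSheafify (Opens.grothendieckTopology Y) AddCommGrpCat.{u} := inferInstance
  have : ReflectsLimits (forget AddCommGrpCat.{u}) := reflectsLimits_of_reflectsIsomorphisms
  Functor.sheafPullbackConstruction.preservesFiniteLimits (Opens.map f) AddCommGrpCat.{u}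
    (Opens.grothendieckTopology Y) (Opens.grothendieckTopology X)

lemma injective_push {Y : TopCat.{u}} (f : X ⟶ Y) (I : CohTop.Ab X) [hI : Injective I] :
    Injective ((CohTop.push f).obj I) :=
  have : PreservesFiniteLimits (TopCat.Sheaf.pullback AddCommGrpCat.{u} f) := preservesFiniteLimits_pull f
  have : (TopCat.Sheaf.pullback AddCommGrpCat.{u} f).PreservesMonomorphisms :=
    preservesMonomorphisms_of_preservesLimitsOfShape _
  (TopCat.Sheaf.pullbackPushforwardAdjunction AddCommGrpCat.{u} f).map_injective I hI

end Groth.Agent.SiteBase
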