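import Groth.Agent.SiteBase.Cohom
import Mathlib.CategoryTheory.Sites.PreservesSheafification
import Mathlib.CategoryTheory.Sites.Adjunction

/-!
# Cohomology with respect to the sheaf of sets of a representable
-/

universe u

open CategoryTheory CategoryTheory.Limits Opposite Abelian

namespace Groth.Agent.SiteBase

variable {C : Type u} [SmallCategory C] (J : GrothendieckTopology C)

/-- The free abelian sheaf on the sheafification of a presheaf of sets. -/
noncomputable def freeSheafifyIso :
    presheafToSheaf J (Type u) ⋙ Sheaf.composeAndSheafify J AddCommGrpCat.free.{u} ≅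
      (Functor.whiskeringRight Cᵒᵖ (Type u) AddCommGrpCat.{u}).obj AddCommGrpCat.free.{u} ⋙
        presheafToSheaf J AddCommGrpCat.{u} :=
  presheafToSheafCompComposeAndSheafifyIso J AddCommGrpCat.free.{u}

/-- The sheaf of sets of a representable presheaf. -/
noncomputable abbrev hSheaf (U : C) : Sheaf J (Type u) := (presheafToSheaf J (Type u)).obj (yoneda.obj U)

variable {J}

/-- `H^p(h_U, F) ≃ H^p(U, F)`. -/
noncomputable def hkRepEquiv (U : C) (F : Sheaf J AddCommGrpCat.{u}) (p : ℕ) :
    CohCx.HK (hSheaf J U) F p ≃+ CohSite.HU F p U where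
  toFun x := (Ext.mk₀ ((freeSheafifyIso J).inv.app (yoneda.obj U))).comp x (zero_add p)
  invFun (y : Ext (CohCx.freeSheaf J U) F p) :=
    (Ext.mk₀ ((freeSheafifyIso J).hom.app (yoneda.obj U))).comp y (zero_add p)
  left_inv x := by
    refine (Ext.mk₀_comp_mk₀_assoc _ _ _).trans ?_
    rw [Iso.hom_inv_id_app]
    exact Ext.mk₀_id_comp _
  right_inv y := by
    refine (Ext.mk₀_comp_mk₀_assoc _ _ _).trans ?_
    rw [Iso.inv_hom_id_app]
    exact Ext.mk₀_id_comp _
  map_add' x y := Ext.comp_add _ _ _ _

lemma subsingleton_HU_of_totallyAcyclic {F : Sheaf J AddCommGrpCat.{u}}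
    (hF : CohCx.IsTotallyAcyclic F) (U : C) (p : ℕ) : Subsingleton (CohSite.HU F (p + 1) U) :=
  haveI := hF (hSheaf J U) p
  (hkRepEquiv U F (p + 1)).symm.toEquiv.subsingleton

lemma isTotallyAcyclic_of_injective (I : Sheaf J AddCommGrpCat.{u}) [Injective I] :
    CohCx.IsTotallyAcyclic I :=
  fun _ p => Ext.subsingleton_of_injective _ _ p

end Groth.Agent.SiteBase
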