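import Mathlib.CategoryTheory.Abelian.RightDerived
import Mathlib.Algebra.Homology.ShortComplex.ExactFunctor
import Mathlib.Algebra.Homology.ShortComplex.PreservesHomology

/-!
# Right derived functors of a composite with an exact functor
-/

universe v₁ v₂ v₃ u₁ u₂ u₃

open CategoryTheory CategoryTheory.Limits

namespace Groth.Agent.SiteBase

variable {A : Type u₁} [Category.{v₁} A] [Abelian A]
  {B : Type u₂} [Category.{v₂} B] [Abelian B]
  {D : Type u₃} [Category.{v₃} D] [Abelian D]
  (F : A ⥤ B) [F.Additive] (E : B ⥤ D) [E.Additive]
  [PreservesFiniteLimits E] [PreservesFiniteColimits E] (n : ℕ)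

/-- Homology commutes with an exact functor, on complexes of the form `F R`. -/
noncomputable def compHomologyIso (K : CochainComplex A ℕ) :
    (HomologicalComplex.homologyFunctor D (ComplexShape.up ℕ) n).obj
        (((F ⋙ E).mapHomologicalComplex (ComplexShape.up ℕ)).obj K) ≅
      E.obj ((HomologicalComplex.homologyFunctor B (ComplexShape.up ℕ) n).obj
        ((F.mapHomologicalComplex (ComplexShape.up ℕ)).obj K)) :=
  (((F.mapHomologicalComplex (ComplexShape.up ℕ)).obj K).sc n).mapHomologyIso E

lemma compHomologyIso_naturality {K L : CochainComplex A ℕ} (φ : K ⟶ L) :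
    (HomologicalComplex.homologyFunctor D (ComplexShape.up ℕ) n).map
        (((F ⋙ E).mapHomologicalComplex (ComplexShape.up ℕ)).map φ) ≫ (compHomologyIso F E n L).hom =
      (compHomologyIso F E n K).hom ≫ E.map ((HomologicalComplex.homologyFunctor B (ComplexShape.up ℕ) n).map
        ((F.mapHomologicalComplex (ComplexShape.up ℕ)).map φ)) :=
  ShortComplex.mapHomologyIso_hom_naturality
    ((HomologicalComplex.shortComplexFunctor B (ComplexShape.up ℕ) n).map
      ((F.mapHomologicalComplex (ComplexShape.up ℕ)).map φ)) E

variable [EnoughInjectives A]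

/-- `R^n (F ⋙ E) ≅ R^n F ⋙ E` for an exact functor `E`. -/
noncomputable def rightDerivedCompIso : (F ⋙ E).rightDerived n ≅ F.rightDerived n ⋙ E :=
  NatIso.ofComponents
    (fun X => (injectiveResolution X).isoRightDerivedObj (F ⋙ E) n ≪≫
      compHomologyIso F E n (injectiveResolution X).cocomplex ≪≫
        E.mapIso ((injectiveResolution X).isoRightDerivedObj F n).symm)
    (fun {X Y} f => by
      have hc := InjectiveResolution.desc_commutes_zero f (injectiveResolution Y) (injectiveResolution X)
      have h1 := InjectiveResolution.isoRightDerivedObj_hom_naturality f _ _ _ hc (F ⋙ E) n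
      have h2 := InjectiveResolution.isoRightDerivedObj_inv_naturality f _ _ _ hc F n
      have h3 := compHomologyIso_naturality F E n
        (InjectiveResolution.desc f (injectiveResolution Y) (injectiveResolution X))
      simp only [Iso.trans_hom, Functor.mapIso_hom, Iso.symm_hom, Category.assoc, Functor.comp_map]
      rw [reassoc_of% h1]
      congr 1
      refine (Category.assoc _ _ _).symm.trans ((congrArg (· ≫ _) h3).trans ?_)
      refine (Category.assoc _ _ _).trans ?_
      congr 1
      refine (E.map_comp _ _).symm.trans (Eq.trans (congrArg E.map h2.symm) (E.map_comp _ _)))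

end Groth.Agent.SiteBase
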