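import Groth.Agent.SiteBase.Cohom

/-!
# Cohomology classes of positive degree die on a covering
-/

universe u

open CategoryTheory CategoryTheory.Limits Opposite Abelian

namespace Groth.Agent.SiteBase

variable {C : Type u} [SmallCategory C] {J : GrothendieckTopology C}

lemma res_eq_comp (F : Sheaf J AddCommGrpCat.{u}) (n : ℕ) {U V : C} (f : V ⟶ U)
    (x : Ext (CohCx.freeSheaf J U) F n) :
    (CohSite.res F n f x : Ext (CohCx.freeSheaf J V) F n) =
      (Ext.mk₀ (CohCx.freeSheafMap J f)).comp x (zero_add n) := rfl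

lemma exists_cover_res_eq_zero (F : Sheaf J AddCommGrpCat.{u}) (U : C) (n : ℕ)
    (ξ : CohSite.HU F (n + 1) U) :
    ∃ S ∈ J U, ∀ (V : C) (f : V ⟶ U), S f → CohSite.res F (n + 1) f ξ = 0 := by
  induction n generalizing F with
  | zero =>
    suffices h : ∀ (E : ShortComplex (Sheaf J AddCommGrpCat.{u})) (hS : E.ShortExact), Injective E.X₂ →
        ∀ ξ : CohSite.HU E.X₁ (0 + 1) U, ∃ S ∈ J U, ∀ (V : C) (f : V ⟶ U), S f →
          CohSite.res E.X₁ (0 + 1) f ξ = 0 from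
      h _ (injectiveSES_shortExact F) inferInstance ξ
    clear ξ F
    intro E hS hI ξ
    have hepi : Epi E.g := hS.epi_g
    obtain ⟨y, hy⟩ := Ext.covariant_sequence_exact₁ (CohCx.freeSheaf J U) hS ξ
      ((subsingleton_HU_of_injective E.X₂ U 0).elim _ _) (n₀ := 0) rfl
    obtain ⟨φ, rfl⟩ := (Ext.mk₀_bijective (CohCx.freeSheaf J U) E.X₃).2 y
    have hloc : Sheaf.IsLocallySurjective E.g := (Sheaf.isLocallySurjective_iff_epi' _ _).2 hepi
    refine ⟨Presheaf.imageSieve E.g.hom (secEquiv J U E.X₃ φ), hloc.imageSieve_mem _, ?_⟩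
    rintro V f ⟨t, ht⟩
    have hfac : CohCx.freeSheafMap J f ≫ φ = (secEquiv J V E.X₂).symm t ≫ E.g := by
      apply (secEquiv J V E.X₃).injective
      rw [secEquiv_freeSheafMap, secEquiv_comp, AddEquiv.apply_symm_apply]
      exact ht.symm
    show (Ext.mk₀ (CohCx.freeSheafMap J f)).comp ξ (zero_add _) = 0
    rw [← hy, ← Ext.comp_assoc_of_second_deg_zero, Ext.mk₀_comp_mk₀, hfac, ← Ext.mk₀_comp_mk₀,
      Ext.comp_assoc_of_second_deg_zero, hS.comp_extClass, Ext.comp_zero]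
  | succ n ih =>
    suffices h : ∀ (E : ShortComplex (Sheaf J AddCommGrpCat.{u})) (hS : E.ShortExact), Injective E.X₂ →
        ∀ ξ : CohSite.HU E.X₁ (n + 1 + 1) U, ∃ S ∈ J U, ∀ (V : C) (f : V ⟶ U), S f →
          CohSite.res E.X₁ (n + 1 + 1) f ξ = 0 from
      h _ (injectiveSES_shortExact F) inferInstance ξ
    clear ξ F
    intro E hS hI ξ
    obtain ⟨y, hy⟩ := Ext.covariant_sequence_exact₁ (CohCx.freeSheaf J U) hS ξ
      ((subsingleton_HU_of_injective E.X₂ U (n + 1)).elim _ _) (n₀ := n + 1) rfl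
    obtain ⟨S, hSJ, hres⟩ := ih E.X₃ y
    refine ⟨S, hSJ, fun V f hf => ?_⟩
    show (Ext.mk₀ (CohCx.freeSheafMap J f)).comp ξ (zero_add _) = 0
    have h0 : (Ext.mk₀ (CohCx.freeSheafMap J f)).comp y (zero_add _) = 0 := hres V f hf
    rw [← hy, ← Ext.comp_assoc (Ext.mk₀ (CohCx.freeSheafMap J f)) y hS.extClass (zero_add _) rfl
      (by simp), h0, Ext.zero_comp]

end Groth.Agent.SiteBase
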