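import Groth.Agent.SiteBase.Derived
import Groth.Agent.SiteBase.DerivedComp
import Groth.Agent.SiteBase.Kill

/-!
# Higher direct images as sheafified cohomology presheaves
-/

universe u

open CategoryTheory CategoryTheory.Limits Opposite Abelian

namespace Groth.Agent.SiteBase

variable {C D : Type u} [SmallCategory C] [SmallCategory D]
  (J : GrothendieckTopology C) (K : GrothendieckTopology D) (u : D ⥤ C) [u.IsContinuous K J]

/-- Precomposition of presheaves with `u`. -/
noncomputable abbrev precomp : (Cᵒᵖ ⥤ AddCommGrpCat.{u}) ⥤ Dᵒᵖ ⥤ AddCommGrpCat.{u} :=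
  (Functor.whiskeringLeft Dᵒᵖ Cᵒᵖ AddCommGrpCat.{u}).obj u.op

/-- The direct image is sheafified precomposition. -/
noncomputable def pushIso :
    (sheafToPresheaf J AddCommGrpCat.{u} ⋙ precomp u) ⋙ presheafToSheaf K AddCommGrpCat.{u} ≅
      CohSite.push J K u :=
  Functor.isoWhiskerLeft (CohSite.push J K u)
    (asIso (sheafificationAdjunction K AddCommGrpCat.{u}).counit) ≪≫
      (CohSite.push J K u).rightUnitor

/-- Natural isomorphisms induce isomorphisms of right derived functors. -/
noncomputable def rightDerivedCongr {A B : Type*} [Category A] [Category B] [Abelian A] [Abelian B]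
    [EnoughInjectives A] {F G : A ⥤ B} [F.Additive] [G.Additive] (e : F ≅ G) (n : ℕ) :
    F.rightDerived n ≅ G.rightDerived n where
  hom := NatTrans.rightDerived e.hom n
  inv := NatTrans.rightDerived e.inv n
  hom_inv_id := by rw [← NatTrans.rightDerived_comp, e.hom_inv_id, NatTrans.rightDerived_id]
  inv_hom_id := by rw [← NatTrans.rightDerived_comp, e.inv_hom_id, NatTrans.rightDerived_id]

/-- `R^q u_*` is the sheafification of `V ↦ H^q(u V, -)`. -/
noncomputable def rpushIso (q : ℕ) :
    CohSite.Rpush J K u q ≅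
      (Sheaf.cohomologyPresheafFunctor.{u} J q ⋙ precomp u) ⋙ presheafToSheaf K AddCommGrpCat.{u} :=
  rightDerivedCongr (pushIso J K u).symm q ≪≫
    rightDerivedCompIso (sheafToPresheaf J AddCommGrpCat.{u} ⋙ precomp u)
      (presheafToSheaf K AddCommGrpCat.{u}) q ≪≫
    Functor.isoWhiskerRight
      (rightDerivedCompIso (sheafToPresheaf J AddCommGrpCat.{u}) (precomp u) q ≪≫
        Functor.isoWhiskerRight (rightDerivedIsoCohomology q) (precomp u)) _

variable {J K u}

/-- The sheafification of a presheaf all of whose sections are locally zero is zero. -/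
lemma isZero_sheafify (P : Dᵒᵖ ⥤ AddCommGrpCat.{u})
    (h : ∀ (V : D) (x : P.obj (op V)), ∃ S ∈ K V, ∀ (W : D) (g : W ⟶ V), S g → (P.map g.op).hom x = 0) :
    IsZero ((presheafToSheaf K AddCommGrpCat.{u}).obj P) := by
  have hη : toSheafify K P = 0 := by
    ext V x
    obtain ⟨S, hS, hx⟩ := h V.unop x
    refine (Presheaf.IsSheaf.isSeparated ((presheafToSheaf K AddCommGrpCat.{u}).obj P).property) V.unop S hS _ _ ?_
    intro W g hg
    have := congrArg (fun φ => φ.hom x) ((toSheafify K P).naturality g.op)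
    refine this.symm.trans ?_
    exact ((congrArg (((toSheafify K P).app (op W)).hom) (hx W g hg)).trans (map_zero _)).trans
      (map_zero _).symm
  rw [IsZero.iff_id_eq_zero]
  apply Sheaf.hom_ext
  apply sheafify_hom_ext K
  · exact ((presheafToSheaf K AddCommGrpCat.{u}).obj P).property
  · rw [hη, zero_comp, zero_comp]

variable (J K u)

lemma isZero_rpush (q : ℕ) (F : Sheaf J AddCommGrpCat.{u})
    (h : ∀ (V : D) (ξ : CohSite.HU F q (u.obj V)), ∃ S ∈ K V, ∀ (W : D) (g : W ⟶ V), S g →
      CohSite.res F q (u.map g) ξ = 0) :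
    IsZero ((CohSite.Rpush J K u q).obj F) :=
  IsZero.of_iso (isZero_sheafify _ h) ((rpushIso J K u q).app F)

lemma isZero_rpush_of_subsingleton (q : ℕ) (F : Sheaf J AddCommGrpCat.{u})
    (h : ∀ (V : D), Subsingleton (CohSite.HU F q (u.obj V))) :
    IsZero ((CohSite.Rpush J K u q).obj F) :=
  isZero_rpush J K u q F fun V _ => ⟨⊤, K.top_mem V, fun W _ _ =>
    haveI := h W; Subsingleton.elim _ _⟩

end Groth.Agent.SiteBase
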