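import Groth.Agent.SiteBase.LocalFactor

/-!
# Finite type and finite presentation, elementwise
-/

set_option autoImplicit false
set_option backward.isDefEq.respectTransparency false
set_option linter.style.haveILetI false
set_option linter.unusedSectionVars false

universe u

open CategoryTheory CategoryTheory.Limits Opposite
open Groth.Agent.ModTensor Groth.Agent.ModPull Groth.Agent.LocalFactor

noncomputable section

namespace Groth.Agent.SecGen

variable {C : Type u} [SmallCategory C] {J : GrothendieckTopology C} {O : Sheaf J CommRingCat.{u}}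

attribute [local instance] Pres.fκ Pres.fρ

/-- A family of sections on `U` generates on `U`. -/
def Gens (F : ModSite.Mod O) {U : C} {κ : Type} [Fintype κ] (s : κ → ((fg O).obj F).obj (op U)) : Prop :=
  ∀ ⦃W : C⦄ (f : W ⟶ U) (t : ((fg O).obj F).obj (op W)),
    ModPull.Locally J W (fun V g => ∃ c : κ → O.obj.obj (op V),
      rs ((fg O).obj F) g.op t = ∑ i, c i • rs ((fg O).obj F) (g ≫ f).op (s i))

lemma rs_op_comp {F : ModSite.Mod O} {W V U : C} (g : W ⟶ V) (f : V ⟶ U) (x : ((fg O).obj F).obj (op U)) :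
    rs ((fg O).obj F) (g ≫ f).op x = rs ((fg O).obj F) g.op (rs ((fg O).obj F) f.op x) :=
  rs_comp (P := (fg O).obj F) f.op g.op x

lemma Gens.pull {F : ModSite.Mod O} {U : C} {κ : Type} [Fintype κ] {s : κ → ((fg O).obj F).obj (op U)}
    (h : Gens F s) {V : C} (a : V ⟶ U) : Gens F (fun i => rs ((fg O).obj F) a.op (s i)) := fun W f t => by
  refine (h (f ≫ a) t).mono fun V' g hg => ?_
  obtain ⟨c, hc⟩ := hg
  exact ⟨c, hc.trans (Finset.sum_congr rfl fun i _ => by rw [← rs_op_comp, Category.assoc])⟩

/-- Restriction of presentation data. -/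
def presPull {F : ModSite.Mod O} {U : C} (P : Pres O F U) {V : C} (a : V ⟶ U) : Pres O F V where
  κ := P.κ
  ρ := P.ρ
  fκ := P.fκ
  fρ := P.fρ
  s i := rs ((fg O).obj F) a.op (P.s i)
  A j i := (O.obj.map a.op).hom (P.A j i)
  rel j := by
    have := congrArg (rs ((fg O).obj F) a.op) (P.rel j)
    rw [rs_sum] at this
    simp only [rs_smul] at this
    exact this.trans (map_zero _)
  gen := Gens.pull (s := P.s) P.gen a
  exact W f c hc := by
    refine (P.exact (f ≫ a) c ?_).mono fun V' g hg => ?_
    · exact (Finset.sum_congr rfl fun i _ => congrArg (fun z => c i • z) (rs_op_comp f a (P.s i))).trans hc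
    · obtain ⟨d, hd⟩ := hg
      refine ⟨d, fun i => (hd i).trans (Finset.sum_congr rfl fun j _ => congrArg (fun q => d j * q) ?_)⟩
      rw [← Category.assoc, op_comp, Functor.map_comp]
      rfl

/-- The elementwise generators of a finite family of generating sections. -/
theorem exists_gens_of_generatingSections (F : ModSite.Mod O) {U : C}
    (σ : (SheafOfModules.over F U).GeneratingSections) [σ.IsFiniteType] :
    ∃ (n : ℕ) (s : Fin n → ((fg O).obj F).obj (op U)), Gens F s := by
  classical
  let OU := O.over U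
  let π : fr OU σ.I ⟶ (ModSite.restr O U).obj F := σ.π
  haveI : Epi π := σ.epi
  let T : Over U := Over.mk (𝟙 U)
  obtain ⟨n, ⟨e⟩⟩ := Finite.exists_equiv_fin σ.I
  haveI : Fintype σ.I := Fintype.ofFinite _
  let s : σ.I → ((fg O).obj F).obj (op U) := fun i => ((fg OU).map π).app (op T) (fsec i (op T))
  have hs : ∀ (W : Over U) (i : σ.I), ((fg OU).map π).app (op W) (fsec i (op W)) =
      rs ((fg O).obj F) W.hom.op (s i) := fun W i => by
    let h : W ⟶ T := Over.homMk W.hom
    rw [← rs_fsec (O := OU) i h.op, app_rs]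
    rfl
  refine ⟨n, fun i => s (e.symm i), fun W f t => ?_⟩
  let W' : Over U := Over.mk f
  refine Locally.of_over W' (locally_exists_app_eq (O := OU) π (W := W') t) fun V g hg => ?_
  obtain ⟨m, hm⟩ := hg
  refine ⟨fun i => coord (O := OU) (e.symm i) m, ?_⟩
  rw [decomp m] at hm
  refine hm.symm.trans ((map_sum (((fg OU).map π).app (op V)).hom _ _).trans ?_)
  refine (Equiv.sum_comp e.symm _).symm.trans (Finset.sum_congr rfl fun i _ => ?_)
  refine (map_smul (((fg OU).map π).app (op V)).hom _ _).trans ?_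
  refine congrArg (fun z => (coord (O := OU) (e.symm i) m : O.obj.obj (op V.left)) • z) ((hs V _).trans ?_)
  exact congrArg (fun q => rs ((fg O).obj F) q.op (s (e.symm i))) (Over.w g).symm

/-- Finite type: locally finitely many generators. -/
theorem locally_exists_gens (F : ModSite.Mod O) [SheafOfModules.IsFiniteType (R := ModSite.ringSh O) F] (X : C) :
    ModPull.Locally J X (fun V _ => ∃ (n : ℕ) (s : Fin n → ((fg O).obj F).obj (op V)), Gens F s) := by
  obtain ⟨σ, hσ⟩ := SheafOfModules.IsFiniteType.exists_localGeneratorsData (R := ModSite.ringSh O) F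
  refine ⟨_, σ.coversTop X, fun V g hg => ?_⟩
  obtain ⟨i, ⟨a⟩⟩ := (Sieve.mem_ofObjects_iff ..).1 hg
  have := hσ.isFiniteType i
  obtain ⟨n, s, hs⟩ := exists_gens_of_generatingSections F (σ.generators i)
  exact ⟨n, _, hs.pull a⟩

/-- Finite presentation: locally presentation data. -/
theorem locally_exists_pres (F : ModSite.Mod O) [SheafOfModules.IsFinitePresentation (R := ModSite.ringSh O) F]
    (X : C) : ModPull.Locally J X (fun V _ => Nonempty (Pres O F V)) := by
  obtain ⟨q, hq⟩ := SheafOfModules.IsFinitePresentation.exists_quasicoherentData F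
  refine ⟨_, q.coversTop X, fun V g hg => ?_⟩
  obtain ⟨i, ⟨a⟩⟩ := (Sieve.mem_ofObjects_iff ..).1 hg
  have := hq.isFinite_presentation i
  obtain ⟨P⟩ := nonempty_pres O F (q.presentation i)
  exact ⟨presPull P a⟩

section OfData

variable {F : ModSite.Mod O} {U : C} {κ : Type} [Fintype κ]

/-- The map from a free module given by sections. -/
def genMap (F : ModSite.Mod O) {U : C} {κ : Type} (s : κ → ((fg O).obj F).obj (op U)) :
    fr (O.over U) (ULift.{u} κ) ⟶ (ModSite.restr O U).obj F :=
  fdesc fun i => (restrSectionsEquiv O U F).symm (s i.down)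

lemma genMap_sum (s : κ → ((fg O).obj F).obj (op U)) (W : Over U) (c : κ → O.obj.obj (op W.left)) :
    ((fg (O.over U)).map (genMap F s)).app (op W)
        (∑ i : ULift.{u} κ, (c i.down : (O.over U).obj.obj (op W)) • fsec i (op W)) =
      ∑ i, c i • rs ((fg O).obj F) W.hom.op (s i) := by
  refine (map_sum (((fg (O.over U)).map (genMap F s)).app (op W)).hom _ _).trans ?_
  refine Eq.trans ?_ (Equiv.sum_comp Equiv.ulift.{u} (fun i => c i • rs ((fg O).obj F) W.hom.op (s i)))
  refine Finset.sum_congr rfl fun i _ => ?_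
  exact (map_smul (((fg (O.over U)).map (genMap F s)).app (op W)).hom _ _).trans
    (congrArg (fun z => c i.down • z) (fdesc_fsec (fun i : ULift.{u} κ => (restrSectionsEquiv O U F).symm (s i.down)) i (op W)))

lemma epi_genMap {s : κ → ((fg O).obj F).obj (op U)} (hs : Gens F s) : Epi (genMap F s) := by
  refine ⟨fun {Z} p q hpq => (fg (O.over U)).map_injective (PresheafOfModules.hom_ext fun W =>
    ModuleCat.hom_ext (LinearMap.ext fun z => ?_))⟩
  refine eq_of_locally' Z ?_
  obtain ⟨S, hS, hSp⟩ := hs W.unop.hom z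
  refine ⟨(Sieve.overEquiv W.unop).symm S, (J.overEquiv_symm_mem_over W.unop S hS), fun W' k hk => ?_⟩
  rw [Sieve.overEquiv_symm_iff] at hk
  obtain ⟨cf, hcf⟩ := hSp k.left hk
  let OV := O.over U
  let m : ((fg OV).obj (fr OV (ULift.{u} κ))).obj (op W') := ∑ i : ULift.{u} κ, (cf i.down : OV.obj.obj (op W')) • fsec i (op W')
  have hm : ((fg OV).map (genMap F s)).app (op W') m = rs ((fg OV).obj ((ModSite.restr O U).obj F)) k.op z := by
    refine (genMap_sum s W' cf).trans (Eq.trans ?_ hcf.symm)
    exact Finset.sum_congr rfl fun i _ => congrArg (fun q => cf i • rs ((fg O).obj F) q.op (s i)) (Over.w k).symm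
  refine (app_rs ((fg OV).map p) k.op z).symm.trans (Eq.trans ?_ (app_rs ((fg OV).map q) k.op z))
  refine (congrArg (((fg OV).map p).app (op W')).hom hm.symm).trans (Eq.trans ?_ (congrArg (((fg OV).map q).app (op W')).hom hm))
  exact congrArg (fun r : fr OV (ULift.{u} κ) ⟶ Z => ((fg OV).map r).app (op W') m) hpq

/-- The generating sections. -/
def genSec (s : κ → ((fg O).obj F).obj (op U)) (hs : Gens F s) :
    (SheafOfModules.over F U).GeneratingSections where
  I := ULift.{u} κ
  s i := (restrSectionsEquiv O U F).symm (s i.down)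
  epi := epi_genMap hs

lemma genSec_π (s : κ → ((fg O).obj F).obj (op U)) (hs : Gens F s) : (genSec s hs).π = genMap F s := rfl

theorem exists_presentation (P : Pres O F U) :
    ∃ p : (SheafOfModules.over F U).Presentation, p.IsFinite := by
  classical
  let OU := O.over U
  let G := genSec P.s P.gen
  let π : fr OU (ULift.{u} P.κ) ⟶ (ModSite.restr O U).obj F := genMap F P.s
  let row : ULift.{u} P.ρ → ((fg OU).obj (fr OU (ULift.{u} P.κ))).obj (op (Over.mk (𝟙 U))) := fun j =>
    ∑ i : ULift.{u} P.κ, (P.A j.down i.down : OU.obj.obj (op (Over.mk (𝟙 U)))) • fsec i (op (Over.mk (𝟙 U)))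
  let rsec : ULift.{u} P.ρ → (fr OU (ULift.{u} P.κ)).sections := fun j =>
    ⟨fun W => rs ((fg OU).obj (fr OU (ULift.{u} P.κ))) (Over.homMk W.unop.hom : W.unop ⟶ Over.mk (𝟙 U)).op (row j),
      fun {V W} g => (rs_comp (P := (fg OU).obj (fr OU (ULift.{u} P.κ))) _ g (row j)).symm.trans
        (congrArg (fun t => rs ((fg OU).obj (fr OU (ULift.{u} P.κ))) t (row j))
          (Quiver.Hom.unop_inj (Over.OverMorphism.ext (Over.w g.unop))))⟩
  let θ : fr OU (ULift.{u} P.ρ) ⟶ fr OU (ULift.{u} P.κ) := fdesc rsec
  have hrow : ∀ (W : Over U) (j : ULift.{u} P.ρ), ((fg OU).map θ).app (op W) (fsec j (op W)) =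
      ∑ i : ULift.{u} P.κ, ((O.obj.map W.hom.op).hom (P.A j.down i.down) : OU.obj.obj (op W)) • fsec i (op W) := by
    intro W j
    refine (fdesc_fsec rsec j (op W)).trans ?_
    show rs _ _ (row j) = _
    rw [rs_sum]
    exact Finset.sum_congr rfl fun i _ => by rw [rs_smul, rs_fsec]; rfl
  have hθ : θ ≫ π = 0 := by
    refine ((ModSite.restr O U).obj F).freeHomEquiv.injective (funext fun j => (restrSectionsEquiv O U F).injective ?_)
    show ((fg OU).map π).app (op (Over.mk (𝟙 U))) (((fg OU).map θ).app (op (Over.mk (𝟙 U))) (fsec j (op (Over.mk (𝟙 U))))) = 0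
    rw [hrow]
    refine (genMap_sum P.s (Over.mk (𝟙 U)) (fun i => (O.obj.map (𝟙 U).op).hom (P.A j.down i))).trans ?_
    refine Eq.trans (Finset.sum_congr rfl fun i _ => ?_) (P.rel j.down)
    refine congrArg₂ (fun (q : O.obj.obj (op U)) (r : ((fg O).obj F).obj (op U)) => q • r) ?_ (rs_id (P.s i))
    exact ConcreteCategory.congr_hom (O.obj.map_id (op U)) _
  let θ' : fr OU (ULift.{u} P.ρ) ⟶ kernel π := kernel.lift π θ hθ
  haveI : Epi θ' := by
    refine ⟨fun {Z} p q hpq => (fg OU).map_injective (PresheafOfModules.hom_ext fun W =>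
      ModuleCat.hom_ext (LinearMap.ext fun z => ?_))⟩
    refine eq_of_locally' Z ?_
    let w : ((fg OU).obj (fr OU (ULift.{u} P.κ))).obj W := ((fg OU).map (kernel.ι π)).app W z
    have hw : ((fg OU).map π).app W w = 0 :=
      congrArg (fun r : kernel π ⟶ (ModSite.restr O U).obj F => ((fg OU).map r).app W z) (kernel.condition π)
    rw [decomp w] at hw
    let cw : P.κ → O.obj.obj (op W.unop.left) := fun i => coord (O := OU) (⟨i⟩ : ULift.{u} P.κ) w
    obtain ⟨S, hS, hSp⟩ := P.exact W.unop.hom cw ((genMap_sum P.s W.unop cw).symm.trans hw)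
    refine ⟨(Sieve.overEquiv W.unop).symm S, (J.overEquiv_symm_mem_over W.unop S hS), fun W' k hk => ?_⟩
    rw [Sieve.overEquiv_symm_iff] at hk
    obtain ⟨d, hd⟩ := hSp k.left hk
    let m : ((fg OU).obj (fr OU (ULift.{u} P.ρ))).obj (op W') :=
      ∑ j : ULift.{u} P.ρ, (d j.down : OU.obj.obj (op W')) • fsec j (op W')
    have hm : ((fg OU).map θ').app (op W') m = rs ((fg OU).obj (kernel π)) k.op z := by
      apply app_injective (O := OU) (kernel.ι π) (op W')
      refine Eq.trans ?_ (app_rs ((fg OU).map (kernel.ι π)) k.op z).symm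
      show ((fg OU).map (θ' ≫ kernel.ι π)).app (op W') m = rs _ k.op w
      rw [kernel.lift_ι, decomp w, rs_sum]
      refine (map_sum (((fg OU).map θ).app (op W')).hom _ _).trans ?_
      refine Eq.trans (Finset.sum_congr rfl (g := fun j : ULift.{u} P.ρ => ∑ i : ULift.{u} P.κ,
        ((d j.down * (O.obj.map W'.hom.op).hom (P.A j.down i.down) : O.obj.obj (op W'.left)) :
          OU.obj.obj (op W')) • fsec i (op W')) fun j _ => ?_) ?_
      · refine (map_smul (((fg OU).map θ).app (op W')).hom _ _).trans ?_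
        refine (congrArg (fun q => (d j.down : OU.obj.obj (op W')) • q) (hrow W' j)).trans ?_
        rw [Finset.smul_sum]
        exact Finset.sum_congr rfl fun i _ => smul_smul _ _ _
      · rw [Finset.sum_comm]
        refine Finset.sum_congr rfl fun i _ => ?_
        rw [← Finset.sum_smul, rs_smul, rs_fsec]
        refine congrArg (fun q : OU.obj.obj (op W') => q • fsec i (op W')) ?_
        refine Eq.trans ?_ (hd i.down).symm
        refine Eq.trans (Finset.sum_congr rfl fun j _ => ?_)
          (Equiv.sum_comp Equiv.ulift.{u} (fun j => d j * (O.obj.map (k.left ≫ W.unop.hom).op).hom (P.A j i.down)))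
        exact congrArg (fun q => d j.down * (O.obj.map q.op).hom (P.A j.down i.down)) (Over.w k).symm
    refine (app_rs ((fg OU).map p) k.op z).symm.trans (Eq.trans ?_ (app_rs ((fg OU).map q) k.op z))
    refine (congrArg (((fg OU).map p).app (op W')).hom hm.symm).trans (Eq.trans ?_ (congrArg (((fg OU).map q).app (op W')).hom hm))
    exact congrArg (fun r : fr OU (ULift.{u} P.ρ) ⟶ Z => ((fg OU).map r).app (op W') m) hpq
  let R : (kernel G.π).GeneratingSections :=
    { I := ULift.{u} P.ρ
      s := (kernel π).freeHomEquiv θ'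
      epi := by
        show Epi ((kernel π).freeHomEquiv.symm ((kernel π).freeHomEquiv θ'))
        rw [Equiv.symm_apply_apply]
        infer_instance }
  exact ⟨⟨G, R⟩, ⟨⟨inferInstanceAs (Finite (ULift.{u} P.κ))⟩, ⟨inferInstanceAs (Finite (ULift.{u} P.ρ))⟩⟩⟩

end OfData

/-- Finite type from local generators. -/
theorem isFiniteType_of_gens (F : ModSite.Mod O)
    (h : ∀ X : C, ModPull.Locally J X (fun V _ => ∃ (n : ℕ) (s : Fin n → ((fg O).obj F).obj (op V)), Gens F s)) :
    SheafOfModules.IsFiniteType (R := ModSite.ringSh O) F := by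
  let I := {V : C // ∃ (n : ℕ) (s : Fin n → ((fg O).obj F).obj (op V)), Gens F s}
  choose n s hs using fun i : I => i.2
  have hc : J.CoversTop (fun i : I => i.1) := fun X => by
    obtain ⟨S, hS, hSp⟩ := h X
    exact J.superset_covering (fun V g hg => (Sieve.mem_ofObjects_iff ..).2 ⟨⟨V, hSp g hg⟩, ⟨𝟙 V⟩⟩) hS
  let σ : SheafOfModules.LocalGeneratorsData.{u} (R := ModSite.ringSh O) F :=
    { I := I, X := fun i => i.1, coversTop := hc, generators := fun i => genSec (s i) (hs i) }
  have hσ : σ.IsFiniteType := by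
    apply @SheafOfModules.LocalGeneratorsData.IsFiniteType.mk
    intro i
    exact ⟨inferInstanceAs (Finite (ULift.{u} (Fin (n i))))⟩
  exact { exists_localGeneratorsData := ⟨σ, hσ⟩ }

/-- Finite presentation from local presentation data. -/
theorem isFinitePresentation_of_pres (F : ModSite.Mod O)
    (h : ∀ X : C, ModPull.Locally J X (fun V _ => Nonempty (Pres O F V))) :
    SheafOfModules.IsFinitePresentation (R := ModSite.ringSh O) F := by
  let I := {V : C // Nonempty (Pres O F V)}
  choose p hp using fun i : I => exists_presentation i.2.some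
  have hc : J.CoversTop (fun i : I => i.1) := fun X => by
    obtain ⟨S, hS, hSp⟩ := h X
    exact J.superset_covering (fun V g hg => (Sieve.mem_ofObjects_iff ..).2 ⟨⟨V, hSp g hg⟩, ⟨𝟙 V⟩⟩) hS
  let q : SheafOfModules.QuasicoherentData.{u} (R := ModSite.ringSh O) F :=
    { I := I, X := fun i => i.1, coversTop := hc, presentation := p }
  have hq : q.IsFinitePresentation := by
    apply @SheafOfModules.QuasicoherentData.IsFinitePresentation.mk
    exact hp
  exact { exists_quasicoherentData := ⟨q, hq⟩ }

end Groth.Agent.SecGen
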