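import Mathlib.Algebra.Homology.HomotopyCategory.KInjective
import Mathlib.Algebra.Homology.ShortComplex.ExactFunctor
import Mathlib.CategoryTheory.Adjunction.Additive
import Mathlib.CategoryTheory.Adjunction.Limits
import Mathlib.CategoryTheory.Preadditive.Injective.Basic

/-!
# K-injective complexes and adjunctions
-/

universe v v' u u'

open CategoryTheory CategoryTheory.Limits

namespace Groth.Agent.SiteBase

variable {A : Type u} [Category.{v} A] [Abelian A] {B : Type u'} [Category.{v'} B] [Abelian B]
  {L : A ⥤ B} {R : B ⥤ A} (adj : L ⊣ R)

include adj in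
theorem preservesMonomorphisms_leftAdjoint [EnoughInjectives B]
    (hR : ∀ I : B, Injective I → Injective (R.obj I)) : L.PreservesMonomorphisms := by
  refine ⟨fun {P Q} a _ => ?_⟩
  let i := Injective.ι (L.obj P)
  have := hR (Injective.under (L.obj P)) inferInstance
  let t := (adj.homEquiv _ _).symm (Injective.factorThru (adj.homEquiv _ _ i) a)
  have e : L.map a ≫ t = i := (adj.homEquiv_naturality_left_symm a _).symm.trans
    (by rw [Injective.comp_factorThru, Equiv.symm_apply_apply])
  exact mono_of_mono_fac e

include adj in
theorem preservesFiniteLimits_leftAdjoint [EnoughInjectives B] [L.Additive]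
    (hR : ∀ I : B, Injective I → Injective (R.obj I)) : PreservesFiniteLimits L :=
  (Functor.preservesFiniteLimits_iff_forall_exact_map_and_mono L).2 fun S hS => by
    have := preservesMonomorphisms_leftAdjoint adj hR
    have : PreservesColimitsOfSize.{0, 0} L := adj.leftAdjoint_preservesColimits
    have : PreservesFiniteColimits L := ⟨fun _ => inferInstance⟩
    have := hS.mono_f
    exact ⟨((Functor.preservesFiniteColimits_iff_forall_exact_map_and_epi L).1 inferInstance S hS).1,
      inferInstanceAs (Mono (L.map S.f))⟩

include adj in
theorem isKInjective_map [L.Additive] [R.Additive] [PreservesFiniteLimits L] [PreservesFiniteColimits L]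
    (I : CochainComplex B ℤ) [I.IsKInjective] :
    CochainComplex.IsKInjective ((R.mapHomologicalComplex (ComplexShape.up ℤ)).obj I) where
  nonempty_homotopy_zero {K} f hK := by
    let LK := (L.mapHomologicalComplex (ComplexShape.up ℤ)).obj K
    let g : LK ⟶ I :=
      { f := fun n => L.map (f.f n) ≫ adj.counit.app (I.X n)
        comm' := fun i j _ => by
          have e := adj.counit.naturality (I.d i j)
          dsimp at e
          show (L.map (f.f i) ≫ adj.counit.app (I.X i)) ≫ I.d i j =
            L.map (K.d i j) ≫ L.map (f.f j) ≫ adj.counit.app (I.X j)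
          refine (Category.assoc _ _ _).trans ((congrArg (fun t => L.map (f.f i) ≫ t) e.symm).trans ?_)
          refine (Category.assoc _ _ _).symm.trans (Eq.trans ?_ (Category.assoc _ _ _))
          exact congrArg (fun t => t ≫ adj.counit.app (I.X j))
            ((L.map_comp _ _).symm.trans ((congrArg L.map (f.comm i j)).trans (L.map_comp _ _))) }
    have hLK : LK.Acyclic := fun n => (hK n).map L
    let η : K ⟶ (R.mapHomologicalComplex (ComplexShape.up ℤ)).obj LK :=
      { f := fun n => adj.unit.app (K.X n), comm' := fun i j _ => (adj.unit.naturality (K.d i j)).symm }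
    have hf : η ≫ (R.mapHomologicalComplex (ComplexShape.up ℤ)).map g = f := by
      ext n
      show adj.unit.app (K.X n) ≫ R.map (L.map (f.f n) ≫ adj.counit.app (I.X n)) = f.f n
      refine (congrArg (fun t => adj.unit.app (K.X n) ≫ t) (R.map_comp _ _)).trans ?_
      refine (Category.assoc _ _ _).symm.trans ?_
      refine (congrArg (fun t => t ≫ R.map (adj.counit.app (I.X n))) (adj.unit_naturality (f.f n))).trans ?_
      refine (Category.assoc _ _ _).trans ?_
      exact (congrArg (fun t => f.f n ≫ t) (adj.right_triangle_components (I.X n))).trans (Category.comp_id _)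
    exact ⟨(Homotopy.ofEq hf.symm).trans (((R.mapHomotopy (CochainComplex.IsKInjective.homotopyZero g hLK)).compLeft η).trans
      (Homotopy.ofEq (by simp)))⟩

end Groth.Agent.SiteBase
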