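import Groth.Agent.SiteBase.SESResLib

/-!
The horseshoe lemma and the long exact sequence of right derived functors.
-/

universe v u v' u'

open CategoryTheory CategoryTheory.Limits

noncomputable section

namespace SESResLib

variable {C : Type u} [Category.{v} C] [Abelian C]

section Horseshoe

variable {S : ShortComplex C} (hS : S.ShortExact) (I₁ : InjectiveResolution S.X₁)
  (I₃ : InjectiveResolution S.X₃)

def Twist (n : ℕ) : Type v :=
  {t : I₃.cocomplex.X n ⟶ I₁.cocomplex.X (n + 1) //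
    aug I₃ n ≫ t ≫ I₁.cocomplex.d (n + 1) (n + 2) = 0}

lemma twist_succ {n : ℕ} (t : Twist I₁ I₃ n) :
    ∃ t' : Twist I₁ I₃ (n + 1),
      I₃.cocomplex.d n (n + 1) ≫ t'.1 = -(t.1 ≫ I₁.cocomplex.d (n + 1) (n + 2)) := by
  have := I₁.injective (n + 2)
  have h0 : aug I₃ n ≫ (-(t.1 ≫ I₁.cocomplex.d (n + 1) (n + 2))) = 0 := by
    rw [Preadditive.comp_neg, t.2, neg_zero]
  refine ⟨⟨(aug_exact I₃ n).descToInjective _ h0, ?_⟩, (aug_exact I₃ n).comp_descToInjective _ _⟩
  change I₃.cocomplex.d n (n + 1) ≫ _ = 0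
  rw [← Category.assoc]
  erw [(aug_exact I₃ n).comp_descToInjective _ h0]
  rw [Preadditive.neg_comp, Category.assoc, HomologicalComplex.d_comp_d, comp_zero, neg_zero]

include hS in
lemma twist_zero : ∃ (α : S.X₂ ⟶ I₁.cocomplex.X 0) (t : Twist I₁ I₃ 0),
    S.f ≫ α = ι₀ I₁ ∧ α ≫ I₁.cocomplex.d 0 1 + S.g ≫ ι₀ I₃ ≫ t.1 = 0 := by
  have := I₁.injective 0
  have := I₁.injective 1
  have := hS.mono_f
  have := hS.epi_g
  let α := Injective.factorThru (ι₀ I₁) S.f
  have hα : S.f ≫ α = ι₀ I₁ := Injective.comp_factorThru _ _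
  have h : S.f ≫ (α ≫ I₁.cocomplex.d 0 1) = 0 := by rw [reassoc_of% hα, ι₀_d]
  let β := hS.exact.desc _ h
  have hβ : S.g ≫ β = α ≫ I₁.cocomplex.d 0 1 := hS.exact.g_desc _ h
  have ht : ι₀ I₃ ≫ Injective.factorThru (-β) (ι₀ I₃) = -β := Injective.comp_factorThru _ _
  refine ⟨α, ⟨Injective.factorThru (-β) (ι₀ I₃), ?_⟩, hα, ?_⟩
  · change ι₀ I₃ ≫ _ = 0
    rw [reassoc_of% ht, ← cancel_epi S.g, comp_zero, Preadditive.neg_comp, Preadditive.comp_neg,
      reassoc_of% hβ, HomologicalComplex.d_comp_d, comp_zero, neg_zero]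
  · rw [ht, Preadditive.comp_neg, hβ, add_neg_cancel]

variable (t : ∀ n, I₃.cocomplex.X n ⟶ I₁.cocomplex.X (n + 1))
  (ht : ∀ n, I₃.cocomplex.d n (n + 1) ≫ t (n + 1) = -(t n ≫ I₁.cocomplex.d (n + 1) (n + 2)))

def midD (n : ℕ) : (I₁.cocomplex.X n ⊞ I₃.cocomplex.X n) ⟶
    (I₁.cocomplex.X (n + 1) ⊞ I₃.cocomplex.X (n + 1)) :=
  biprod.desc (I₁.cocomplex.d n (n + 1) ≫ biprod.inl)
    (t n ≫ biprod.inl + I₃.cocomplex.d n (n + 1) ≫ biprod.inr)

def midCx : CochainComplex C ℕ :=
  CochainComplex.of (fun n => I₁.cocomplex.X n ⊞ I₃.cocomplex.X n) (midD I₁ I₃ t) (fun n => by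
    apply biprod.hom_ext' <;> apply biprod.hom_ext <;>
      simp [midD, reassoc_of% (ht n)])

def midInl : I₁.cocomplex ⟶ midCx I₁ I₃ t ht where
  f n := biprod.inl
  comm' i j hij := by
    obtain rfl : i + 1 = j := hij
    simp [midCx, midD]

def midSnd : midCx I₁ I₃ t ht ⟶ I₃.cocomplex where
  f n := biprod.snd
  comm' i j hij := by
    obtain rfl : i + 1 = j := hij
    apply biprod.hom_ext' <;> simp [midCx, midD]

lemma midShortExact : (ShortComplex.mk (midInl I₁ I₃ t ht) (midSnd I₁ I₃ t ht)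
    (by ext n; exact biprod.inl_snd)).ShortExact := by
  apply HomologicalComplex.shortExact_of_degreewise_shortExact
  intro n
  exact (ShortComplex.Splitting.ofHasBinaryBiproduct (I₁.cocomplex.X n) (I₃.cocomplex.X n)).shortExact

lemma midD_snd (n : ℕ) :
    midD I₁ I₃ t n ≫ biprod.snd = biprod.snd ≫ I₃.cocomplex.d n (n + 1) := by
  apply biprod.hom_ext' <;> simp [midD]

lemma inl_midD (n : ℕ) :
    biprod.inl ≫ midD I₁ I₃ t n = I₁.cocomplex.d n (n + 1) ≫ biprod.inl := by
  simp [midD]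

lemma midCx_d (n : ℕ) : (midCx I₁ I₃ t ht).d n (n + 1) = midD I₁ I₃ t n :=
  by simp [midCx]

include hS I₁ I₃ in
lemma nonempty_sesRes : Nonempty (RDer.SESRes S) := by
  obtain ⟨α, t₀, hα, hα'⟩ := twist_zero hS I₁ I₃
  let ts : ∀ n, Twist I₁ I₃ n := fun n =>
    Nat.rec t₀ (fun k m => (twist_succ I₁ I₃ m).choose) n
  have hts : ∀ n, I₃.cocomplex.d n (n + 1) ≫ (ts (n + 1)).1 =
      -((ts n).1 ≫ I₁.cocomplex.d (n + 1) (n + 2)) :=
    fun n => (twist_succ I₁ I₃ (ts n)).choose_spec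
  let t := fun n => (ts n).1
  let M := midCx I₁ I₃ t hts
  let ι : S.X₂ ⟶ I₁.cocomplex.X 0 ⊞ I₃.cocomplex.X 0 := biprod.lift α (S.g ≫ ι₀ I₃)
  have hιD : ι ≫ midD I₁ I₃ t 0 = 0 := by
    apply biprod.hom_ext <;> simp [ι, midD, ι₀_d]
    exact hα'
  have hι : (ι : S.X₂ ⟶ M.X 0) ≫ M.d 0 1 = 0 :=
    (congrArg (fun z => ι ≫ z) (midCx_d I₁ I₃ t hts 0)).trans hιD
  have hfi : S.f ≫ ι = ι₀ I₁ ≫ biprod.inl := by
    apply biprod.hom_ext <;> simp [ι, hα, reassoc_of% S.zero]
  have hιsnd : ι ≫ biprod.snd = S.g ≫ ι₀ I₃ := biprod.lift_snd _ _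
  let η : (CochainComplex.single₀ C).obj S.X₂ ⟶ M :=
    (CochainComplex.fromSingle₀Equiv M S.X₂).symm ⟨ι, hι⟩
  have hη : η.f 0 = ι :=
    CochainComplex.fromSingle₀Equiv_symm_apply_f_zero (C := M) (ι : S.X₂ ⟶ M.X 0) hι
  have hq : QuasiIso η := ⟨fun n => by
    cases n with
    | succ n =>
      rw [quasiIsoAt_iff_exactAt]
      · exact (midShortExact I₁ I₃ t hts).exactAt_X₂ (n + 1)
          (RDer.res_exactAt_succ I₁.cocomplex I₁.ι n) (RDer.res_exactAt_succ I₃.cocomplex I₃.ι n)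
      · apply CochainComplex.exactAt_succ_single_obj
    | zero =>
      have := hS.mono_f
      have hmono : Mono ι := by
        rw [Preadditive.mono_iff_cancel_zero]
        intro A x hx
        have hxg : x ≫ S.g = 0 := by
          rw [← cancel_mono (ι₀ I₃), Category.assoc, zero_comp]
          simpa [ι] using congrArg (fun z => z ≫ biprod.snd) hx
        rw [← hS.exact.lift_f x hxg]
        have : hS.exact.lift x hxg ≫ ι₀ I₁ = 0 := by
          rw [← hα, ← Category.assoc, hS.exact.lift_f]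
          simpa [ι] using congrArg (fun z => z ≫ biprod.fst) hx
        rw [zero_of_comp_mono (ι₀ I₁) this, zero_comp]
      rw [CochainComplex.quasiIsoAt₀_iff, ShortComplex.quasiIso_iff_of_zeros]
      · refine (ShortComplex.exact_and_mono_f_iff_of_iso ?_).2
          (⟨?_, hmono⟩ : (ShortComplex.mk ι (M.d 0 1) hι).Exact ∧ Mono ι)
        · exact ShortComplex.isoMk (Iso.refl _) (Iso.refl _) (Iso.refl _)
            ((Category.id_comp _).trans (hη.symm.trans (Category.comp_id _).symm))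
            ((Category.id_comp _).trans (Category.comp_id _).symm)
        · rw [ShortComplex.exact_iff_exact_up_to_refinements]
          intro A x hx
          change A ⟶ I₁.cocomplex.X 0 ⊞ I₃.cocomplex.X 0 at x
          have hxD : x ≫ midD I₁ I₃ t 0 = 0 :=
            (congrArg (fun z => x ≫ z) (midCx_d I₁ I₃ t hts 0)).symm.trans hx
          have hx₃ : (x ≫ biprod.snd) ≫ I₃.cocomplex.d 0 1 = 0 := by
            rw [Category.assoc, ← midD_snd I₁ I₃ t 0, ← Category.assoc, hxD, zero_comp]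
          have := hS.epi_g
          obtain ⟨A₁, π, hπ, v, hv⟩ := surjective_up_to_refinements_of_epi S.g
            ((ι₀_exact I₃).lift (x ≫ biprod.snd) hx₃)
          let y := π ≫ x - v ≫ ι
          have hy₃ : y ≫ biprod.snd = 0 := by
            dsimp [y, ι]
            rw [Preadditive.sub_comp, Category.assoc, Category.assoc, biprod.lift_snd,
              ← Category.assoc v, ← hv, Category.assoc]
            erw [(ι₀_exact I₃).lift_f]
            exact sub_self _
          have hy : y = (y ≫ biprod.fst) ≫ biprod.inl := by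
            apply biprod.hom_ext <;> simp [hy₃]
          have hyd : y ≫ midD I₁ I₃ t 0 = 0 := by
            dsimp [y]
            rw [Preadditive.sub_comp, Category.assoc, Category.assoc, hιD, hxD, comp_zero,
              comp_zero, sub_zero]
          have hy₁ : (y ≫ biprod.fst) ≫ I₁.cocomplex.d 0 1 = 0 := by
            rw [← cancel_mono (biprod.inl : I₁.cocomplex.X 1 ⟶ I₁.cocomplex.X 1 ⊞ I₃.cocomplex.X 1),
              zero_comp, Category.assoc, ← inl_midD I₁ I₃ t 0, ← Category.assoc, ← hy, hyd]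
          have hl : (ι₀_exact I₁).lift (y ≫ biprod.fst) hy₁ ≫ ι₀ I₁ = y ≫ biprod.fst :=
            (ι₀_exact I₁).lift_f _ hy₁
          refine ⟨A₁, π, hπ, v + (ι₀_exact I₁).lift (y ≫ biprod.fst) hy₁ ≫ S.f, ?_⟩
          change π ≫ x = _ ≫ ι
          rw [Preadditive.add_comp, Category.assoc]
          rw [hfi, ← Category.assoc, hl, ← hy]
          dsimp [y]
          abel
      all_goals rfl⟩
  have injM : ∀ n, Injective (M.X n) := fun n => by
    change Injective (I₁.cocomplex.X n ⊞ I₃.cocomplex.X n)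
    infer_instance
  let I₂ : InjectiveResolution S.X₂ := { cocomplex := M, ι := η, quasiIso := hq }
  refine ⟨{
    I₁ := I₁, I₂ := I₂, I₃ := I₃
    f := midInl I₁ I₃ t hts
    g := midSnd I₁ I₃ t hts
    zero := by ext n; exact biprod.inl_snd
    ι_f := ?_
    ι_g := ?_
    shortExact := midShortExact I₁ I₃ t hts }⟩
  · apply HomologicalComplex.from_single_hom_ext
    rw [HomologicalComplex.comp_f, HomologicalComplex.comp_f,
      CochainComplex.single₀_map_f_zero]
    change ι₀ I₁ ≫ biprod.inl = S.f ≫ η.f 0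
    rw [hη]
    exact hfi.symm
  · apply HomologicalComplex.from_single_hom_ext
    rw [HomologicalComplex.comp_f, HomologicalComplex.comp_f,
      CochainComplex.single₀_map_f_zero]
    change η.f 0 ≫ biprod.snd = S.g ≫ ι₀ I₃
    rw [hη]
    exact hιsnd

include hS in
lemma nonempty_sesRes_of_hasInjectiveResolutions [HasInjectiveResolutions C] :
    Nonempty (RDer.SESRes S) :=
  nonempty_sesRes hS (injectiveResolution S.X₁) (injectiveResolution S.X₃)

end Horseshoe

section LES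

variable [HasInjectiveResolutions C] {D : Type u'} [Category.{v'} D] [Abelian D]
  (F : C ⥤ D) [F.Additive] {S : ShortComplex C} (T : RDer.SESRes S)

lemma iso_f (n : ℕ) :
    (F.rightDerived n).map S.f ≫ (T.I₂.isoRightDerivedObj F n).hom =
      (T.I₁.isoRightDerivedObj F n).hom ≫
        HomologicalComplex.homologyMap ((F.mapHomologicalComplex _).map T.f) n :=
  InjectiveResolution.isoRightDerivedObj_hom_naturality S.f T.I₁ T.I₂ T.f (ι₀_comm T.ι_f) F n

lemma iso_g (n : ℕ) :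
    (F.rightDerived n).map S.g ≫ (T.I₃.isoRightDerivedObj F n).hom =
      (T.I₂.isoRightDerivedObj F n).hom ≫
        HomologicalComplex.homologyMap ((F.mapHomologicalComplex _).map T.g) n :=
  InjectiveResolution.isoRightDerivedObj_hom_naturality S.g T.I₂ T.I₃ T.g (ι₀_comm T.ι_g) F n

include T in
lemma exact_map (n : ℕ) :
    (ShortComplex.mk ((F.rightDerived n).map S.f) ((F.rightDerived n).map S.g)
      (by rw [← Functor.map_comp, S.zero, Functor.map_zero])).Exact := by
  refine (ShortComplex.exact_iff_of_iso ?_).2 ((T.map_shortExact F).homology_exact₂ n)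
  exact ShortComplex.isoMk (T.I₁.isoRightDerivedObj F n) (T.I₂.isoRightDerivedObj F n)
    (T.I₃.isoRightDerivedObj F n) (iso_f F T n).symm (iso_g F T n).symm

lemma comp_delta (n₀ n₁ : ℕ) (h : n₀ + 1 = n₁) :
    (F.rightDerived n₀).map S.g ≫ T.delta F n₀ n₁ h = 0 := by
  rw [RDer.SESRes.delta]
  refine (Category.assoc _ _ _).symm.trans ?_
  refine (congrArg (fun z => z ≫ (T.map_shortExact F).δ n₀ n₁ h ≫
    (T.I₁.isoRightDerivedObj F n₁).inv) (iso_g F T n₀)).trans ?_
  refine (Category.assoc _ _ _).trans ?_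
  refine (congrArg (fun z => (T.I₂.isoRightDerivedObj F n₀).hom ≫ z) ?_).trans comp_zero
  refine (Category.assoc _ _ _).symm.trans ?_
  exact (congrArg (fun z => z ≫ (T.I₁.isoRightDerivedObj F n₁).inv)
    ((T.map_shortExact F).comp_δ n₀ n₁ h)).trans zero_comp

lemma delta_comp (n₀ n₁ : ℕ) (h : n₀ + 1 = n₁) :
    T.delta F n₀ n₁ h ≫ (F.rightDerived n₁).map S.f = 0 := by
  rw [← cancel_mono (T.I₂.isoRightDerivedObj F n₁).hom, zero_comp, Category.assoc, iso_f F T n₁]
  refine (Category.assoc _ _ _).symm.trans ?_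
  refine (congrArg (fun z => z ≫ _) (T.delta_comp_isoRightDerivedObj_hom F n₀ n₁ h)).trans ?_
  refine (Category.assoc _ _ _).trans ?_
  exact (congrArg (fun z => (T.I₃.isoRightDerivedObj F n₀).hom ≫ z)
    ((T.map_shortExact F).δ_comp n₀ n₁ h)).trans comp_zero

lemma exact₃' (n₀ n₁ : ℕ) (h : n₀ + 1 = n₁) :
    (ShortComplex.mk _ _ (comp_delta F T n₀ n₁ h)).Exact := by
  refine (ShortComplex.exact_iff_of_iso ?_).2 ((T.map_shortExact F).homology_exact₃ n₀ n₁ h)
  exact ShortComplex.isoMk (T.I₂.isoRightDerivedObj F n₀) (T.I₃.isoRightDerivedObj F n₀)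
    (T.I₁.isoRightDerivedObj F n₁) (iso_g F T n₀).symm
    (T.delta_comp_isoRightDerivedObj_hom F n₀ n₁ h).symm

lemma exact₁' (n₀ n₁ : ℕ) (h : n₀ + 1 = n₁) :
    (ShortComplex.mk _ _ (delta_comp F T n₀ n₁ h)).Exact := by
  refine (ShortComplex.exact_iff_of_iso ?_).2 ((T.map_shortExact F).homology_exact₁ n₀ n₁ h)
  exact ShortComplex.isoMk (T.I₃.isoRightDerivedObj F n₀) (T.I₁.isoRightDerivedObj F n₁)
    (T.I₂.isoRightDerivedObj F n₁) (T.delta_comp_isoRightDerivedObj_hom F n₀ n₁ h).symm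
    (iso_f F T n₁).symm

def derivedLES : RDer.DerivedLES F where
  δ S hS n₀ n₁ h := (nonempty_sesRes_of_hasInjectiveResolutions hS).some.delta F n₀ n₁ h
  δ_eq S hS T n₀ n₁ h := delta_eq F _ T n₀ n₁ h
  δ_natural hS hS' φ n₀ n₁ h := delta_natural F φ hS.exact _ _ n₀ n₁ h
  exact₂ S hS n := exact_map F (nonempty_sesRes_of_hasInjectiveResolutions hS).some n
  comp_δ S hS n₀ n₁ h := comp_delta F _ n₀ n₁ h
  exact₃ S hS n₀ n₁ h := exact₃' F _ n₀ n₁ h
  δ_comp S hS n₀ n₁ h := delta_comp F _ n₀ n₁ h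
  exact₁ S hS n₀ n₁ h := exact₁' F _ n₀ n₁ h

lemma isEffaceable (Δ : RDer.DerivedLES F) : Δ.toCohDeltaFunctor.IsEffaceable := by
  intro n X
  let I := injectiveResolution X
  have := I.injective 0
  refine ⟨I.cocomplex.X 0, ι₀ I, inferInstance, ?_⟩
  exact (F.isZero_rightDerived_obj_injective_succ n (I.cocomplex.X 0)).eq_of_tgt _ _

end LES

end SESResLib

end
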