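import Mathlib.CategoryTheory.Sites.Abelian
import Mathlib.CategoryTheory.Sites.EpiMono
import Mathlib.CategoryTheory.Sites.LocallyBijective
import Mathlib.Algebra.Homology.ShortComplex.Ab
import Mathlib.Algebra.Homology.ShortComplex.ExactFunctor
import Mathlib.Algebra.Category.Grp.Abelian
import Mathlib.Algebra.Category.Grp.Limits
import Mathlib.Algebra.Category.Grp.EpiMono
import Mathlib.Algebra.Category.Grp.Colimits
import Mathlib.Algebra.Category.Grp.Yoneda

/-!
# Exactness of complexes of abelian sheaves and sections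
-/

universe w v u

open CategoryTheory CategoryTheory.Limits Opposite

namespace Groth.Agent.SiteBase

/-- Underlying sets of abelian sheaves are sheaves, in any universes. -/
theorem hasSheafCompose_forget {C : Type u} [Category.{v} C] (J : GrothendieckTopology C) :
    J.HasSheafCompose (forget AddCommGrpCat.{w}) where
  isSheaf P hP := (isSheaf_iff_isSheaf_of_type _ _).2 (Presieve.isSheaf_iso J
    (Functor.isoWhiskerLeft P AddCommGrpCat.coyonedaObjIsoForget) (hP (AddCommGrpCat.of (ULift.{w} ℤ))))

variable {C : Type u} [Category.{v} C] {J : GrothendieckTopology C} [HasSheafify J AddCommGrpCat.{w}]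
  [J.WEqualsLocallyBijective AddCommGrpCat.{w}] (S : ShortComplex (Sheaf J AddCommGrpCat.{w}))

lemma secExact_iff (U : C) :
    (S.map (sheafToPresheaf J AddCommGrpCat.{w} ⋙ (evaluation Cᵒᵖ AddCommGrpCat.{w}).obj (op U))).Exact ↔
      ∀ x : S.X₂.obj.obj (op U), S.g.hom.app (op U) x = 0 → ∃ y, S.f.hom.app (op U) y = x :=
  ShortComplex.ab_exact_iff _

lemma exists_kernel_section (U : C) (x : S.X₂.obj.obj (op U)) (hx : S.g.hom.app (op U) x = 0) :
    ∃ z : (kernel S.g).obj.obj (op U), (kernel.ι S.g).hom.app (op U) z = x := by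
  let T := ShortComplex.mk (kernel.ι S.g) S.g (kernel.condition S.g)
  have h : T.Exact := ShortComplex.exact_of_f_is_kernel _ (kernelIsKernel S.g)
  have : Mono T.f := inferInstanceAs (Mono (kernel.ι S.g))
  exact (ShortComplex.ab_exact_iff _).1 (h.map_of_mono_of_preservesKernel
    (sheafToPresheaf J AddCommGrpCat.{w} ⋙ (evaluation Cᵒᵖ AddCommGrpCat.{w}).obj (op U))
    inferInstance inferInstance) x hx

lemma sheaf_app_injective {X Y : Sheaf J AddCommGrpCat.{w}} (φ : X ⟶ Y) [Mono φ] (U : C) :
    Function.Injective (φ.hom.app (op U)) :=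
  (AddCommGrpCat.mono_iff_injective _).1 (inferInstanceAs
    (Mono ((sheafToPresheaf J AddCommGrpCat.{w} ⋙ (evaluation Cᵒᵖ AddCommGrpCat.{w}).obj (op U)).map φ)))

/-- A complex is exact iff its sequences of sections are, on objects detecting epimorphisms of sheaves of sets
that cover everything. -/
theorem exact_iff_secExact (B : C → Prop)
    (hB : ∀ U : C, B U → ∀ (P Q : Sheaf J (Type w)) (ψ : P ⟶ Q), Epi ψ → Function.Surjective (ψ.hom.app (op U)))
    (hcov : ∀ V : C, ∃ R : Sieve V, R ∈ J V ∧ ∀ ⦃W : C⦄ (f : W ⟶ V), R.arrows f →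
      ∃ (U : C) (g : W ⟶ U) (h : U ⟶ V), B U ∧ g ≫ h = f) :
    S.Exact ↔ ∀ U : C, B U →
      (S.map (sheafToPresheaf J AddCommGrpCat.{w} ⋙ (evaluation Cᵒᵖ AddCommGrpCat.{w}).obj (op U))).Exact := by
  have := hasSheafCompose_forget.{w} J
  constructor
  · intro h U hU
    have := h.epi_kernelLift
    refine (secExact_iff S U).2 fun x hx => ?_
    obtain ⟨z, hz⟩ := exists_kernel_section S U x hx
    have : Sheaf.IsLocallySurjective (kernel.lift S.g S.f S.zero) :=
      (Sheaf.isLocallySurjective_iff_epi' (A := AddCommGrpCat.{w}) _).2 inferInstance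
    let ψ := (sheafCompose J (forget AddCommGrpCat.{w})).map (kernel.lift S.g S.f S.zero)
    have : Epi ψ := by
      have : Sheaf.IsLocallySurjective ψ :=
        (Presheaf.isLocallySurjective_iff_whisker_forget J (kernel.lift S.g S.f S.zero).hom).1 this
      exact Sheaf.epi_of_isLocallySurjective _
    obtain ⟨y, hy⟩ := hB U hU _ _ ψ this z
    refine ⟨y, ?_⟩
    have e : (kernel.lift S.g S.f S.zero ≫ kernel.ι S.g).hom.app (op U) y = x := (congrArg _ hy).trans hz
    rwa [kernel.lift_ι] at e
  · intro h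
    rw [ShortComplex.exact_iff_epi_kernel_lift]
    refine (Sheaf.isLocallySurjective_iff_epi' (A := AddCommGrpCat.{w}) _).1 ⟨fun {V} z => ?_⟩
    obtain ⟨R, hR, hfac⟩ := hcov V
    refine J.superset_covering (fun W f hf => ?_) hR
    obtain ⟨U, g, k, hU, rfl⟩ := hfac f hf
    have h0 : S.g.hom.app (op U) ((kernel.ι S.g).hom.app (op U) ((kernel S.g).obj.map k.op z)) = 0 := by
      have : (kernel.ι S.g ≫ S.g).hom.app (op U) ((kernel S.g).obj.map k.op z) = 0 := by
        rw [kernel.condition]
        rfl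
      exact this
    obtain ⟨y, hy⟩ := (secExact_iff S U).1 (h U hU) _ h0
    refine ⟨S.X₁.obj.map g.op y, sheaf_app_injective (kernel.ι S.g) W ?_⟩
    have e : (kernel.lift S.g S.f S.zero ≫ kernel.ι S.g).hom.app (op W) (S.X₁.obj.map g.op y) =
        (kernel.ι S.g).hom.app (op W) ((kernel S.g).obj.map (g ≫ k).op z) := by
      rw [kernel.lift_ι, NatTrans.naturality_apply, hy, ← NatTrans.naturality_apply]
      simp only [op_comp, Functor.map_comp]
      rfl
    exact e

end Groth.Agent.SiteBase
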