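import Groth.Agent.SiteBase.LerayDegen
import Groth.Agent.SiteBase.Top
import Groth.Prelude.Def_CohTop

/-!
Degenerate cases of the Leray spectral sequence of a continuous map.
-/

set_option autoImplicit false

universe u

open CategoryTheory CategoryTheory.Limits TopologicalSpace Opposite CategoryTheory.Abelian

noncomputable section

namespace Groth.Agent.LerayDegen

/-- The constant sheaf `ℤ`. -/
abbrev zSh (X : TopCat.{u}) : CohTop.Ab X :=
  (constantSheaf (Opens.grothendieckTopology X) AddCommGrpCat.{u}).obj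
    (AddCommGrpCat.of (ULift.{u} ℤ))

variable {X Y : TopCat.{u}} (f : X ⟶ Y)

def zeroEquiv (G : CohTop.Ab X) :
    Ext.{u} (zSh X) G 0 ≃+ Ext.{u} (zSh Y) ((CohTop.push f).obj G) 0 :=
  (Sheaf.H.equiv₀ G isTerminalTop).trans
    (Sheaf.H.equiv₀ ((CohTop.push f).obj G) isTerminalTop).symm

lemma zeroEquiv_natural {G G' : CohTop.Ab X} (φ : G ⟶ G') (y : Ext.{u} (zSh X) G 0) :
    zeroEquiv f G' (y.comp (Ext.mk₀ φ) (add_zero 0)) =
      (zeroEquiv f G y).comp (Ext.mk₀ ((CohTop.push f).map φ)) (add_zero 0) :=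
  ((Sheaf.H.equiv₀_symm_naturality isTerminalTop ((CohTop.push f).map φ) _).trans (congrArg _
    (Sheaf.H.equiv₀_naturality isTerminalTop φ y))).symm

theorem push_left_exact : PreservesFiniteLimits (CohTop.push f) :=
  have : (CohTop.push f).IsRightAdjoint :=
    (TopCat.Sheaf.pullbackPushforwardAdjunction AddCommGrpCat.{u} f).isRightAdjoint
  inferInstance

theorem H_push (F : CohTop.Ab X) (h : ∀ q : ℕ, IsZero ((CohTop.Rpush f (q + 1)).obj F)) (p : ℕ) :
    Nonempty (CohTop.H F p ≃+ CohTop.H ((CohTop.push f).obj F) p) :=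
  haveI := push_left_exact f
  ext_equiv_of_rightDerived (zSh X) (zSh Y) (CohTop.push f)
    (fun I hI => @SiteBase.injective_push _ _ f I hI) (zeroEquiv f) (zeroEquiv_natural f)
    (SESResLib.derivedLES (CohTop.push f)) F h p

theorem H_sections (F : CohTop.Ab X)
    (h : ∀ p q : ℕ, Subsingleton (CohTop.H ((CohTop.Rpush f q).obj F) (p + 1))) (q : ℕ) :
    Nonempty (CohTop.H F q ≃+ ((CohTop.Rpush f q).obj F).obj.obj (op ⊤)) := by
  haveI := push_left_exact f
  obtain ⟨e⟩ := ext_equiv_zero_rightDerived (zSh X) (zSh Y) (CohTop.push f)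
    (fun I hI => @SiteBase.injective_push _ _ f I hI) (zeroEquiv f) (zeroEquiv_natural f)
    (SESResLib.derivedLES (CohTop.push f)) q F fun j p => h p j
  exact ⟨e.trans (Sheaf.H.equiv₀ _ isTerminalTop)⟩

end Groth.Agent.LerayDegen

end

noncomputable section

namespace Groth.Agent.LerayDegen

open CategoryTheory CategoryTheory.Limits

theorem isZero_rightDerived_of_exact {A B : Type*} [Category A] [Abelian A] [HasInjectiveResolutions A]
    [Category B] [Abelian B] (G : A ⥤ B) [G.Additive] [PreservesFiniteLimits G]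
    [PreservesFiniteColimits G] (F : A) (q : ℕ) : IsZero ((G.rightDerived (q + 1)).obj F) := by
  let I := injectiveResolution F
  refine IsZero.of_iso ?_ (I.isoRightDerivedObj G (q + 1))
  refine (HomologicalComplex.exactAt_iff_isZero_homology _ _).1 ?_
  exact (RDer.res_exactAt_succ I.cocomplex I.ι q).map G

end Groth.Agent.LerayDegen

end
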