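import Groth.Agent.SiteBase.SieveAcyclic
import Mathlib.CategoryTheory.Preadditive.Injective.Basic
import Mathlib.CategoryTheory.Adjunction.Additive
import Mathlib.GroupTheory.QuotientGroup.Basic

/-!
# Comparing Ext groups along an exact functor with acyclic images of injectives
-/

universe v v' w w' u u'

open CategoryTheory CategoryTheory.Limits Abelian

namespace Groth.Agent.SiteBase

variable {A : Type u} [Category.{v} A] [Abelian A] [HasExt.{w} A]

lemma conn_surjective (P : A) {S : ShortComplex A} (hS : S.ShortExact)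
    (h₂ : Subsingleton (Ext P S.X₂ 1)) :
    Function.Surjective fun φ : P ⟶ S.X₃ => (Ext.mk₀ φ).comp hS.extClass (zero_add 1) := by
  intro x
  obtain ⟨y, hy⟩ := Ext.covariant_sequence_exact₁ P hS x (h₂.elim _ _) (n₀ := 0) rfl
  obtain ⟨φ, rfl⟩ := (Ext.mk₀_bijective P S.X₃).2 y
  exact ⟨φ, hy⟩

lemma conn_eq_zero_iff (P : A) {S : ShortComplex A} (hS : S.ShortExact) (φ : P ⟶ S.X₃) :
    (Ext.mk₀ φ).comp hS.extClass (zero_add 1) = 0 ↔ ∃ ψ, ψ ≫ S.g = φ := by
  refine ⟨fun h => ?_, ?_⟩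
  · obtain ⟨y, hy⟩ := Ext.covariant_sequence_exact₃ P hS (Ext.mk₀ φ) (n₁ := 1) rfl h
    obtain ⟨ψ, rfl⟩ := (Ext.mk₀_bijective P S.X₂).2 y
    rw [Ext.mk₀_comp_mk₀] at hy
    exact ⟨ψ, (Ext.mk₀_bijective _ _).1 hy⟩
  · rintro ⟨ψ, rfl⟩
    rw [← Ext.mk₀_comp_mk₀, Ext.comp_assoc_of_second_deg_zero, hS.comp_extClass, Ext.comp_zero]

lemma nonempty_conn_addEquiv (P : A) {S : ShortComplex A} (hS : S.ShortExact) (n : ℕ)
    (h₂ : Subsingleton (Ext P S.X₂ (n + 1))) (h₂' : Subsingleton (Ext P S.X₂ (n + 1 + 1))) :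
    Nonempty (Ext P S.X₃ (n + 1) ≃+ Ext P S.X₁ (n + 1 + 1)) := by
  refine ⟨AddEquiv.ofBijective (hS.extClass.postcomp P rfl :
    Ext P S.X₃ (n + 1) →+ Ext P S.X₁ (n + 1 + 1)) ⟨(injective_iff_map_eq_zero _).2 fun x hx => ?_,
      fun z => Ext.covariant_sequence_exact₁ P hS z (h₂'.elim _ _) rfl⟩⟩
  obtain ⟨y, rfl⟩ := Ext.covariant_sequence_exact₃ P hS x rfl hx
  rw [show y = 0 from h₂.elim _ _, Ext.zero_comp]

variable {B : Type u'} [Category.{v'} B] [Abelian B] [HasExt.{w'} B]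

/-- An exact functor sending injectives to acyclic objects and compatible on morphism groups compares Ext. -/
theorem nonempty_ext_addEquiv [EnoughInjectives A] (G : A ⥤ B) [G.PreservesZeroMorphisms]
    (PA : A) (PB : B) (hG : ∀ E : ShortComplex A, E.ShortExact → (E.map G).ShortExact)
    (hI : ∀ I : A, Injective I → ∀ q : ℕ, Subsingleton (Ext PB (G.obj I) (q + 1)))
    (e : ∀ X : A, (PA ⟶ X) ≃+ (PB ⟶ G.obj X))
    (he : ∀ (X Y : A) (φ : PA ⟶ X) (g : X ⟶ Y), e Y (φ ≫ g) = e X φ ≫ G.map g)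
    (n : ℕ) : ∀ X : A, Nonempty (Ext PA X n ≃+ Ext PB (G.obj X) n) := by
  induction n with
  | zero => exact fun X => ⟨Ext.addEquiv₀.trans ((e X).trans Ext.addEquiv₀.symm)⟩
  | succ n ih =>
    suffices H : ∀ E : ShortComplex A, E.ShortExact → Injective E.X₂ →
        Nonempty (Ext PA E.X₁ (n + 1) ≃+ Ext PB (G.obj E.X₁) (n + 1)) from fun X => by
      obtain ⟨P⟩ := EnoughInjectives.presentation X
      exact H P.shortComplex P.shortExact_shortComplex P.injective
    intro E hE hIE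
    have h₂ : ∀ q, Subsingleton (Ext PA E.X₂ (q + 1)) := fun q => Ext.subsingleton_of_injective _ _ q
    rcases n with _ | n
    · let a : (PA ⟶ E.X₃) →+ Ext PA E.X₁ 1 :=
        AddMonoidHom.mk' (fun φ => (Ext.mk₀ φ).comp hE.extClass (zero_add 1))
          fun x y => by rw [Ext.mk₀_add, Ext.add_comp]
      let b : (PA ⟶ E.X₃) →+ Ext PB (G.obj E.X₁) 1 :=
        AddMonoidHom.mk' (fun φ => (Ext.mk₀ (e E.X₃ φ)).comp (hG E hE).extClass (zero_add 1))
          fun x y => by
            rw [map_add, Ext.mk₀_add]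
            exact Ext.add_comp _ _ _ _
      have hb : Function.Surjective b :=
        (conn_surjective PB (hG E hE) (hI E.X₂ hIE 0)).comp (e E.X₃).surjective
      have hker : a.ker = b.ker := AddSubgroup.ext fun φ => by
        refine (conn_eq_zero_iff PA hE φ).trans (Iff.trans ?_ (conn_eq_zero_iff PB (hG E hE) _).symm)
        constructor
        · rintro ⟨ψ, rfl⟩
          exact ⟨e E.X₂ ψ, (he _ _ _ _).symm⟩
        · rintro ⟨ψ, hψ⟩
          obtain ⟨χ, rfl⟩ := (e E.X₂).surjective ψ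
          exact ⟨χ, (e E.X₃).injective ((he _ _ _ _).trans hψ)⟩
      exact ⟨((QuotientAddGroup.quotientKerEquivOfSurjective a (conn_surjective PA hE (h₂ 0))).symm.trans
        (QuotientAddGroup.quotientAddEquivOfEq hker)).trans
        (QuotientAddGroup.quotientKerEquivOfSurjective b hb)⟩
    · obtain ⟨e₁⟩ := nonempty_conn_addEquiv PA hE n (h₂ n) (h₂ (n + 1))
      obtain ⟨e₂⟩ := nonempty_conn_addEquiv PB (hG E hE) n (hI E.X₂ hIE n) (hI E.X₂ hIE (n + 1))
      obtain ⟨e₃⟩ := ih E.X₃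
      exact ⟨e₁.symm.trans (e₃.trans e₂)⟩

/-- An exact right adjoint with exact left adjoint compares Ext. -/
theorem nonempty_ext_addEquiv_of_adjunction [EnoughInjectives A] {F : B ⥤ A} {G : A ⥤ B} (adj : F ⊣ G)
    [G.Additive] [F.PreservesMonomorphisms] [PreservesFiniteColimits G]
    {PA : A} {PB : B} (i : F.obj PB ≅ PA) (n : ℕ) (X : A) :
    Nonempty (Ext PA X n ≃+ Ext PB (G.obj X) n) := by
  have : PreservesLimits G := adj.rightAdjoint_preservesLimits
  have : PreservesFiniteLimits G := inferInstance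
  refine nonempty_ext_addEquiv G PA PB (fun E hE => hE.map_of_exact G)
    (fun I hI q => haveI := Injective.injective_of_adjoint adj I; Ext.subsingleton_of_injective _ _ q)
    (fun Y => ?_) (fun Y Z φ g => ?_) n X
  · exact { ((Iso.homFromEquiv i).symm.trans (adj.homEquiv PB Y)) with
      map_add' := fun φ ψ => by
        show adj.homEquiv PB Y (i.hom ≫ (φ + ψ)) = adj.homEquiv PB Y (i.hom ≫ φ) + adj.homEquiv PB Y (i.hom ≫ ψ)
        simp [Adjunction.homEquiv_unit, Functor.map_add, Preadditive.comp_add] }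
  · show adj.homEquiv PB Z (i.hom ≫ φ ≫ g) = adj.homEquiv PB Y (i.hom ≫ φ) ≫ G.map g
    rw [← Category.assoc, Adjunction.homEquiv_naturality_right]

end Groth.Agent.SiteBase
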