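import Mathlib.Algebra.Category.Grp.Abelian
import Mathlib.Algebra.Homology.ShortComplex.ShortExact
import Mathlib.Algebra.Homology.ShortComplex.Exact
import Mathlib.CategoryTheory.Preadditive.Injective.Basic
import Mathlib.CategoryTheory.Abelian.Injective.Resolution
import Mathlib.Algebra.Category.Grp.EpiMono

/-!
# Morphisms out of effaceable connected sequences of functors
-/

universe w v u

open CategoryTheory CategoryTheory.Limits

namespace Groth.Agent.SiteBase

variable {A : Type u} [Category.{v} A] [Abelian A]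

/-- A connected sequence of functors to abelian groups. -/
structure ConnSeq (A : Type u) [Category.{v} A] [Abelian A] where
  /-- the functors -/
  F : ℕ → A ⥤ AddCommGrpCat.{w}
  /-- the connecting maps -/
  δ : ∀ {S : ShortComplex A}, S.ShortExact → ∀ p, (F p).obj S.X₃ ⟶ (F (p + 1)).obj S.X₁
  δ_natural : ∀ {S T : ShortComplex A} (hS : S.ShortExact) (hT : T.ShortExact) (φ : S ⟶ T) (p : ℕ),
    δ hS p ≫ (F (p + 1)).map φ.τ₁ = (F p).map φ.τ₃ ≫ δ hT p
  map_comp_δ : ∀ {S : ShortComplex A} (hS : S.ShortExact) (p : ℕ), (F p).map S.g ≫ δ hS p = 0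

/-- The connected sequence is effaced by injectives. -/
def ConnSeq.Effaced (H : ConnSeq.{w} A) : Prop :=
  ∀ {S : ShortComplex A} (hS : S.ShortExact), Injective S.X₂ → ∀ p,
    Function.Surjective (H.δ hS p) ∧
      ∀ x : (H.F p).obj S.X₃, H.δ hS p x = 0 → ∃ y, (H.F p).map S.g y = x

variable [EnoughInjectives A]

/-- The chosen embedding into an injective. -/
noncomputable def effSES (P : A) : ShortComplex A :=
  (Classical.arbitrary (InjectivePresentation P)).shortComplex

lemma effSES_shortExact (P : A) : (effSES P).ShortExact :=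
  InjectivePresentation.shortExact_shortComplex _

instance injective_effSES (P : A) : Injective (effSES P).X₂ :=
  (Classical.arbitrary (InjectivePresentation P)).injective

lemma effSES_X₁ (P : A) : (effSES P).X₁ = P := rfl

lemma exists_effSES_map {S : ShortComplex A} (hS : S.ShortExact) {P : A} (a : S.X₁ ⟶ (effSES P).X₁) :
    ∃ φ : S ⟶ effSES P, φ.τ₁ = a := by
  have := hS.mono_f
  have := hS.epi_g
  let b : S.X₂ ⟶ (effSES P).X₂ := Injective.factorThru (a ≫ (effSES P).f) S.f
  have hb : S.f ≫ b = a ≫ (effSES P).f := Injective.comp_factorThru _ _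
  have hz : S.f ≫ b ≫ (effSES P).g = 0 := by
    rw [← Category.assoc, hb, Category.assoc, (effSES P).zero, comp_zero]
  exact ⟨{ τ₁ := a, τ₂ := b, τ₃ := hS.exact.desc (b ≫ (effSES P).g) hz
           comm₁₂ := hb.symm, comm₂₃ := (hS.exact.g_desc _ hz).symm }, rfl⟩

variable {H G : ConnSeq.{w} A}

/-- Two natural families commuting with connecting maps agree if they agree in degree zero. -/
theorem ConnSeq.hom_unique (hH : H.Effaced) (e e' : ∀ p, H.F p ⟶ G.F p)
    (he : ∀ (S : ShortComplex A) (hS : S.ShortExact) (p : ℕ),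
      H.δ hS p ≫ (e (p + 1)).app S.X₁ = (e p).app S.X₃ ≫ G.δ hS p)
    (he' : ∀ (S : ShortComplex A) (hS : S.ShortExact) (p : ℕ),
      H.δ hS p ≫ (e' (p + 1)).app S.X₁ = (e' p).app S.X₃ ≫ G.δ hS p)
    (h0 : e 0 = e' 0) : ∀ p, e p = e' p
  | 0 => h0
  | p + 1 => by
    ext P : 2
    have : Epi (H.δ (effSES_shortExact P) p) :=
      (AddCommGrpCat.epi_iff_surjective _).2 (hH (effSES_shortExact P) inferInstance p).1
    refine (cancel_epi (H.δ (effSES_shortExact P) p)).1 ?_
    exact (he _ _ p).trans ((congrArg (fun t => t ≫ G.δ (effSES_shortExact P) p)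
      (congrArg (fun t => t.app (effSES P).X₃) (hom_unique hH e e' he he' h0 p))).trans (he' _ _ p).symm)

/-- The extension of a natural map to the next degree. -/
theorem ConnSeq.exists_step (hH : H.Effaced) (p : ℕ) (e : H.F p ⟶ G.F p) :
    ∃ e' : H.F (p + 1) ⟶ G.F (p + 1), ∀ (S : ShortComplex A) (hS : S.ShortExact),
      H.δ hS p ≫ e'.app S.X₁ = e.app S.X₃ ≫ G.δ hS p := by
  have hker : ∀ (P : A) (x : (H.F p).obj (effSES P).X₃), H.δ (effSES_shortExact P) p x = 0 →
      G.δ (effSES_shortExact P) p (e.app _ x) = 0 := fun P x hx => by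
    obtain ⟨y, rfl⟩ := (hH (effSES_shortExact P) inferInstance p).2 x hx
    rw [NatTrans.naturality_apply]
    exact ConcreteCategory.congr_hom (G.map_comp_δ (effSES_shortExact P) p) _
  have hdesc : ∀ P : A, ∃ a : (H.F (p + 1)).obj P ⟶ (G.F (p + 1)).obj P,
      H.δ (effSES_shortExact P) p ≫ a = e.app _ ≫ G.δ (effSES_shortExact P) p := fun P => by
    let d := (H.δ (effSES_shortExact P) p).hom
    have hd : Function.Surjective d := (hH (effSES_shortExact P) inferInstance p).1
    let k := (G.δ (effSES_shortExact P) p).hom.comp (e.app (effSES P).X₃).hom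
    have hk : d.ker ≤ k.ker := fun x hx => hker P x hx
    refine ⟨AddCommGrpCat.ofHom (AddMonoidHom.liftOfSurjective d hd ⟨k, hk⟩), ?_⟩
    exact AddCommGrpCat.hom_ext (AddMonoidHom.liftOfRightInverse_comp _ _ _ _)
  choose a ha using hdesc
  have key : ∀ {S : ShortComplex A} (hS : S.ShortExact) {P : A} (f : S.X₁ ⟶ (effSES P).X₁),
      H.δ hS p ≫ (H.F (p + 1)).map f ≫ a P = e.app S.X₃ ≫ G.δ hS p ≫ (G.F (p + 1)).map f := by
    intro S hS P f
    obtain ⟨φ, rfl⟩ := exists_effSES_map hS f
    refine (Category.assoc _ _ _).symm.trans ?_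
    refine (congrArg (fun t => t ≫ a P) (H.δ_natural hS (effSES_shortExact P) φ p)).trans ?_
    refine (Category.assoc _ _ _).trans ((congrArg (fun t => (H.F p).map φ.τ₃ ≫ t) (ha P)).trans ?_)
    exact (Category.assoc _ _ _).symm.trans ((congrArg (fun t => t ≫ G.δ (effSES_shortExact P) p) (e.naturality φ.τ₃)).trans
      ((Category.assoc _ _ _).trans (congrArg (fun t => e.app S.X₃ ≫ t) (G.δ_natural hS (effSES_shortExact P) φ p).symm)))
  refine ⟨{ app := a, naturality := fun P P' f => ?_ }, fun S hS => ?_⟩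
  · have : Epi (H.δ (effSES_shortExact P) p) :=
      (AddCommGrpCat.epi_iff_surjective _).2 (hH (effSES_shortExact P) inferInstance p).1
    refine (cancel_epi (H.δ (effSES_shortExact P) p)).1 ?_
    refine (key (effSES_shortExact P) f).trans ?_
    exact (Category.assoc _ _ _).symm.trans ((congrArg (fun t => t ≫ (G.F (p + 1)).map f) (ha P).symm).trans
      (Category.assoc _ _ _))
  · have h := key hS (𝟙 S.X₁)
    refine Eq.trans ?_ (h.trans ?_)
    · exact congrArg (fun t => H.δ hS p ≫ t) ((congrArg (fun t => t ≫ a S.X₁) ((H.F (p + 1)).map_id S.X₁)).trans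
        (Category.id_comp _)).symm
    · exact congrArg (fun t => e.app S.X₃ ≫ t) ((congrArg (fun t => G.δ hS p ≫ t) ((G.F (p + 1)).map_id S.X₁)).trans
        (Category.comp_id _))

/-- A natural map in degree zero extends to all degrees. -/
theorem ConnSeq.exists_hom (hH : H.Effaced) (e0 : H.F 0 ⟶ G.F 0) :
    ∃ e : ∀ p, H.F p ⟶ G.F p, e 0 = e0 ∧ ∀ (S : ShortComplex A) (hS : S.ShortExact) (p : ℕ),
      H.δ hS p ≫ (e (p + 1)).app S.X₁ = (e p).app S.X₃ ≫ G.δ hS p := by
  choose step hstep using fun (p : ℕ) (e : H.F p ⟶ G.F p) => ConnSeq.exists_step hH p e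
  exact ⟨fun p => Nat.rec e0 (fun n x => step n x) p, rfl, fun S hS p => hstep p _ S hS⟩

end Groth.Agent.SiteBase
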