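import Groth.Agent.SiteBase.Horseshoe
import Groth.Agent.SiteBase.UnivDelta
import Mathlib.Algebra.Homology.ShortComplex.ExactFunctor
import Mathlib.CategoryTheory.Abelian.RightDerived

/-!
# Right derived functors of a composite whose first functor is exact and sends injectives to acyclics
-/

universe v₁ v₂ v₃ u₁ u₂ u₃

open CategoryTheory CategoryTheory.Limits

namespace Groth.Agent.SiteBase

variable {A : Type u₁} [Category.{v₁} A] [Abelian A] [EnoughInjectives A]
  {B : Type u₂} [Category.{v₂} B] [Abelian B] [EnoughInjectives B]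
  {D : Type u₃} [Category.{v₃} D] [Abelian D]
  (E : A ⥤ B) [E.Additive] [PreservesFiniteLimits E] [PreservesFiniteColimits E]
  (G : B ⥤ D) [G.Additive] [PreservesFiniteLimits G]

/-- `R^q (E ⋙ G) ≅ E ⋙ R^q G` for an exact `E` sending injectives to `G`-acyclic objects. -/
theorem nonempty_rightDerived_precomp_of_acyclic
    (hE : ∀ Q : A, Injective Q → ∀ i : ℕ, IsZero ((G.rightDerived (i + 1)).obj (E.obj Q))) (q : ℕ) :
    Nonempty ((E ⋙ G).rightDerived q ≅ E ⋙ G.rightDerived q) := by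
  have : PreservesFiniteLimits (E ⋙ G) := comp_preservesFiniteLimits E G
  induction q with
  | zero =>
    exact ⟨(E ⋙ G).rightDerivedZeroIsoSelf ≪≫ Functor.isoWhiskerLeft E G.rightDerivedZeroIsoSelf.symm⟩
  | succ q ih =>
    obtain ⟨e⟩ := ih
    let L₁ := SESResLib.derivedLES (E ⋙ G)
    let L₂ := SESResLib.derivedLES G
    let S := fun P : A => effSES P
    have hS : ∀ P, (S P).ShortExact := effSES_shortExact
    have hT : ∀ P, ((S P).map E).ShortExact := fun P => (hS P).map_of_exact E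
    let d₁ := fun P => L₁.δ (S P) (hS P) q (q + 1) rfl
    let d₂ := fun P => L₂.δ ((S P).map E) (hT P) q (q + 1) rfl
    have ep₁ : ∀ P, Epi (d₁ P) := fun P =>
      (L₁.exact₁ (S P) (hS P) q (q + 1) rfl).epi_f
        (((E ⋙ G).isZero_rightDerived_obj_injective_succ q _).eq_of_tgt _ _)
    have ep₂ : ∀ P, Epi (d₂ P) := fun P =>
      (L₂.exact₁ ((S P).map E) (hT P) q (q + 1) rfl).epi_f ((hE _ (injective_effSES P) q).eq_of_tgt _ _)
    have c₁ : ∀ P, ((E ⋙ G).rightDerived q).map (S P).g ≫ d₁ P = 0 := fun P =>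
      L₁.comp_δ (S P) (hS P) q (q + 1) rfl
    have c₂ : ∀ P, (G.rightDerived q).map (E.map (S P).g) ≫ d₂ P = 0 := fun P =>
      L₂.comp_δ ((S P).map E) (hT P) q (q + 1) rfl
    let k₁ := fun P => @ShortComplex.Exact.gIsCokernel _ _ _ _ _
      (L₁.exact₃ (S P) (hS P) q (q + 1) rfl) (ep₁ P)
    let k₂ := fun P => @ShortComplex.Exact.gIsCokernel _ _ _ _ _
      (L₂.exact₃ ((S P).map E) (hT P) q (q + 1) rfl) (ep₂ P)
    have w₁ : ∀ P, ((E ⋙ G).rightDerived q).map (S P).g ≫ e.hom.app (S P).X₃ ≫ d₂ P = 0 := fun P => by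
      refine (Category.assoc _ _ _).symm.trans ((congrArg (fun t => t ≫ d₂ P) (e.hom.naturality (S P).g)).trans ?_)
      exact (Category.assoc _ _ _).trans ((congrArg (fun t => e.hom.app (S P).X₂ ≫ t) (c₂ P)).trans comp_zero)
    have w₂ : ∀ P, (G.rightDerived q).map (E.map (S P).g) ≫ e.inv.app (S P).X₃ ≫ d₁ P = 0 := fun P => by
      refine (Category.assoc _ _ _).symm.trans ((congrArg (fun t => t ≫ d₁ P) (e.inv.naturality (S P).g)).trans ?_)
      exact (Category.assoc _ _ _).trans ((congrArg (fun t => e.inv.app (S P).X₂ ≫ t) (c₁ P)).trans comp_zero)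
    choose a ha using fun P =>
      (⟨_, (CokernelCofork.IsColimit.desc' (k₁ P) (e.hom.app (S P).X₃ ≫ d₂ P) (w₁ P)).2⟩ :
        ∃ a : ((E ⋙ G).rightDerived (q + 1)).obj P ⟶ (E ⋙ G.rightDerived (q + 1)).obj P,
          d₁ P ≫ a = e.hom.app (S P).X₃ ≫ d₂ P)
    choose b hb using fun P =>
      (⟨_, (CokernelCofork.IsColimit.desc' (k₂ P) (e.inv.app (S P).X₃ ≫ d₁ P) (w₂ P)).2⟩ :
        ∃ b : (E ⋙ G.rightDerived (q + 1)).obj P ⟶ ((E ⋙ G).rightDerived (q + 1)).obj P,
          d₂ P ≫ b = e.inv.app (S P).X₃ ≫ d₁ P)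
    let i : ∀ P, ((E ⋙ G).rightDerived (q + 1)).obj P ≅ (E ⋙ G.rightDerived (q + 1)).obj P := fun P =>
      { hom := a P
        inv := b P
        hom_inv_id := (ep₁ P).left_cancellation _ _ (by
          refine (Category.assoc _ _ _).symm.trans ((congrArg (fun t => t ≫ b P) (ha P)).trans ?_)
          refine (Category.assoc _ _ _).trans ((congrArg (fun t => e.hom.app (S P).X₃ ≫ t) (hb P)).trans ?_)
          exact (e.hom_inv_id_app_assoc (S P).X₃ (d₁ P)).trans (Category.comp_id _).symm)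
        inv_hom_id := (ep₂ P).left_cancellation _ _ (by
          refine (Category.assoc _ _ _).symm.trans ((congrArg (fun t => t ≫ a P) (hb P)).trans ?_)
          refine (Category.assoc _ _ _).trans ((congrArg (fun t => e.inv.app (S P).X₃ ≫ t) (ha P)).trans ?_)
          exact (e.inv_hom_id_app_assoc (S P).X₃ (d₂ P)).trans (Category.comp_id _).symm) }
    refine ⟨NatIso.ofComponents i fun {P P'} f => ?_⟩
    obtain ⟨φ, rfl⟩ := exists_effSES_map (hS P) (P := P') f
    refine (ep₁ P).left_cancellation _ _ ?_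
    have n₁ : ((E ⋙ G).rightDerived q).map φ.τ₃ ≫ d₁ P' =
        d₁ P ≫ ((E ⋙ G).rightDerived (q + 1)).map φ.τ₁ := L₁.δ_natural (hS P) (hS P') φ q (q + 1) rfl
    have n₂ : (G.rightDerived q).map (E.map φ.τ₃) ≫ d₂ P' =
        d₂ P ≫ (G.rightDerived (q + 1)).map (E.map φ.τ₁) :=
      L₂.δ_natural (hT P) (hT P') (E.mapShortComplex.map φ) q (q + 1) rfl
    refine (Category.assoc _ _ _).symm.trans ((congrArg (fun t => t ≫ a P') n₁.symm).trans ?_)
    refine (Category.assoc _ _ _).trans ((congrArg (fun t => _ ≫ t) (ha P')).trans ?_)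
    refine (Category.assoc _ _ _).symm.trans ((congrArg (fun t => t ≫ d₂ P') (e.hom.naturality φ.τ₃)).trans ?_)
    refine (Category.assoc _ _ _).trans ((congrArg (fun t => e.hom.app (S P).X₃ ≫ t) n₂).trans ?_)
    refine (Category.assoc _ _ _).symm.trans ((congrArg (fun t => t ≫ _) (ha P).symm).trans ?_)
    exact Category.assoc _ _ _

end Groth.Agent.SiteBase
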