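import Groth.Agent.SiteBase.CechCmp
import Groth.Prelude.Def_CohTop
import Mathlib.CategoryTheory.Preadditive.Injective.Basic
import Mathlib.CategoryTheory.Sites.Spaces

/-!
# The two main instances of `CechCtx`: fibre products over an object, intersections of opens
-/

universe u

open CategoryTheory CategoryTheory.Limits Opposite

namespace Groth.Agent.SiteBase

variable {C : Type u} [SmallCategory C] {J : GrothendieckTopology C}

lemma injective_obj (I : Sheaf J AddCommGrpCat.{u}) [Injective I] : Injective I.obj :=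
  Injective.injective_of_adjoint (sheafificationAdjunction J AddCommGrpCat.{u}) I

lemma mono_toCofreeAll {D : Type u} [SmallCategory D] [HasFiniteProducts D]
    (P : Dᵒᵖ ⥤ AddCommGrpCat.{u}) : Mono (toCofreeAll P) := by
  have : ∀ T, Mono ((toCofreeAll P).app T) := fun T => (AddCommGrpCat.mono_iff_injective _).2
    fun a b hab => by
      have h : (P.map (𝟙 T.unop).op).hom a = (P.map (𝟙 T.unop).op).hom b :=
        congrFun (congrFun hab T.unop) (𝟙 _)
      simpa using h
  exact NatTrans.mono_of_mono_app _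

theorem exactAt_cech_injective [HasFiniteProducts C] {ι : Type u} (Y : ι → C)
    (P : Cᵒᵖ ⥤ AddCommGrpCat.{u}) [Injective P] (n : ℕ) :
    ((cechComplexFunctor Y).obj P).ExactAt (n + 1) :=
  have := mono_toCofreeAll P
  exactAt_cech_of_retract Y P (toCofreeAll P) (Injective.factorThru (𝟙 P) (toCofreeAll P))
    (Injective.comp_factorThru _ _) n

theorem injAcyclic_over [HasPullbacks C] {U : C} {ι : Type u} (Y : ι → Over U) :
    InjAcyclic J (Over.forget U) Y := fun I hI p =>
  have := @injective_obj _ _ _ I hI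
  exactAt_cech_forget Y I.obj p

/-- A family over `U`. -/
noncomputable def ctxOver [HasPullbacks C] {U : C} {ι : Type u} (Y : ι → Over U) :
    CechCtx (Over.forget U) U Y where
  s i := (Y i).hom
  comm i := (Over.w (Pi.π (fun k => Y (i k)) 0)).trans (Over.w (Pi.π (fun k => Y (i k)) 1)).symm
  fact i W a b h := by
    let T : Over U := Over.mk (a ≫ (Y (i 0)).hom)
    let f : ∀ k : Fin 2, T ⟶ Y (i k) :=
      Fin.cases (Over.homMk a rfl) (fun j => Fin.cases (motive := fun j => T ⟶ Y (i j.succ))
        (Over.homMk b h.symm) (fun j => j.elim0) j)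
    exact ⟨(Pi.lift f).left, congrArg (fun t : T ⟶ Y (i 0) => t.left) (Pi.lift_π f 0),
      congrArg (fun t : T ⟶ Y (i 1) => t.left) (Pi.lift_π f 1)⟩

lemma ctxOver_sieve [HasPullbacks C] {U : C} {ι : Type u} (Y : ι → Over U) :
    (ctxOver Y).sieve = Sieve.ofArrows (fun i => (Y i).left) (fun i => (Y i).hom) := rfl

section Opens

open TopologicalSpace

variable {X : TopCat.{u}} {ι : Type u} (U : ι → Opens X)

theorem injAcyclic_opens : InjAcyclic (Opens.grothendieckTopology X) (𝟭 (Opens X)) U := fun I hI p =>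
  have := @injective_obj _ _ _ I hI
  exactAt_cech_injective U I.obj p

/-- A family of opens, over its union. -/
noncomputable def ctxOpens : CechCtx (𝟭 (Opens X)) (iSup U) U where
  s i := homOfLE (le_iSup U i)
  comm _ := Subsingleton.elim _ _
  fact i W a b _ := ⟨Pi.lift (Fin.cases a (fun j => Fin.cases (motive := fun j => W ⟶ U (i j.succ))
      b (fun j => j.elim0) j)), Subsingleton.elim _ _, Subsingleton.elim _ _⟩

lemma ctxOpens_sieve_mem : (ctxOpens U).sieve ∈ Opens.grothendieckTopology X (iSup U) := by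
  intro x hx
  obtain ⟨i, hi⟩ := Opens.mem_iSup.1 hx
  exact ⟨U i, homOfLE (le_iSup U i), Sieve.ofArrows_mk _ _ i, hi⟩

lemma piObj_eq_iInf {n : ℕ} (a : Fin n → ι) : (∏ᶜ fun k => U (a k)) = iInf fun k => U (a k) :=
  le_antisymm (le_iInf fun k => (Pi.π (fun k => U (a k)) k).le)
    (Pi.lift fun k => homOfLE (iInf_le (fun k => U (a k)) k)).le

lemma exists_ctxOpens {V : Opens X} (hU : iSup U = V) (T : Sieve V)
    (hT : ∀ i, ∃ f : U i ⟶ V, T.arrows f) :
    ∃ c : CechCtx (𝟭 (Opens X)) V U, c.sieve ∈ Opens.grothendieckTopology X V ∧ ∀ i, T.arrows (c.s i) := by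
  subst hU
  refine ⟨ctxOpens U, ctxOpens_sieve_mem U, fun i => ?_⟩
  obtain ⟨f, hf⟩ := hT i
  rwa [Subsingleton.elim f ((ctxOpens U).s i)] at hf

lemma iSup_sieve_eq {V : Opens X} {T : Sieve V} (hT : T ∈ Opens.grothendieckTopology X V) :
    (⨆ k : { W : Opens X // ∃ f : W ⟶ V, T.arrows f }, k.1) = V :=
  le_antisymm (iSup_le fun k => k.2.choose.le) fun x hx => by
    obtain ⟨W', f, hf, hxW⟩ := hT x hx
    exact Opens.mem_iSup.2 ⟨⟨W', f, hf⟩, hxW⟩

end Opens

end Groth.Agent.SiteBase
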