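import Groth.Agent.SiteBase.NerveCech

/-!
# Direct images of injectives are totally acyclic when the inverse image of sets is left exact
-/

universe u

open CategoryTheory CategoryTheory.Limits Opposite Simplicial AlgebraicTopology

namespace Groth.Agent.SiteBase

section Map

universe v w w' v' u'

variable {A : Type v} [Category.{u'} A] [Abelian A] {B : Type w} [Category.{w'} B] [Abelian B]
  [HasExt.{v'} B] (G : A ⥤ B) [G.PreservesZeroMorphisms] (P : B) (E : ShortComplex A)

lemma subsingleton_ext_map_one (h : (E.map G).ShortExact)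
    (h₂ : Subsingleton (Abelian.Ext P (G.obj E.X₂) 1))
    (hs : Function.Surjective fun φ : P ⟶ G.obj E.X₂ => φ ≫ G.map E.g) :
    Subsingleton (Abelian.Ext P (G.obj E.X₁) 1) :=
  subsingleton_ext_one_X₁ P (S := E.map G) h h₂ hs

lemma subsingleton_ext_map_succ (h : (E.map G).ShortExact) (n : ℕ)
    (h₂ : Subsingleton (Abelian.Ext P (G.obj E.X₂) (n + 1)))
    (h₃ : Subsingleton (Abelian.Ext P (G.obj E.X₃) n)) :
    Subsingleton (Abelian.Ext P (G.obj E.X₁) (n + 1)) :=
  subsingleton_ext_X₁ P (S := E.map G) h n h₂ h₃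

end Map

variable {C D : Type u} [SmallCategory C] [SmallCategory D] {J : GrothendieckTopology C}
  {K : GrothendieckTopology D} (u : D ⥤ C) [u.IsContinuous K J]

/-- Inverse image of sets followed by the free sheaf is left adjoint to the underlying direct image. -/
noncomputable def freePullAdj :
    u.sheafPullback (Type u) K J ⋙ Sheaf.composeAndSheafify J AddCommGrpCat.free.{u} ⊣
      sheafCompose J (CategoryTheory.forget AddCommGrpCat.{u}) ⋙
        u.sheafPushforwardContinuous (Type u) K J :=
  (u.sheafAdjunctionContinuous (Type u) K J).comp (Sheaf.adjunction J AddCommGrpCat.adj)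

/-- Maps out of free sheaves into a direct image. -/
noncomputable def pushEquiv (S : Sheaf K (Type u)) (I : Sheaf J AddCommGrpCat.{u}) :
    (freeSh ((u.sheafPullback (Type u) K J).obj S) ⟶ I) ≃ (freeSh S ⟶ (CohSite.push J K u).obj I) :=
  ((freePullAdj u).homEquiv S I).trans
    ((Sheaf.adjunction K AddCommGrpCat.adj).homEquiv S ((CohSite.push J K u).obj I)).symm

lemma pushEquiv_naturality {S S' : Sheaf K (Type u)} (a : S ⟶ S') {I : Sheaf J AddCommGrpCat.{u}}
    (b : freeSh ((u.sheafPullback (Type u) K J).obj S') ⟶ I) :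
    pushEquiv u S I ((Sheaf.composeAndSheafify J AddCommGrpCat.free.{u}).map
        ((u.sheafPullback (Type u) K J).map a) ≫ b) =
      (Sheaf.composeAndSheafify K AddCommGrpCat.free.{u}).map a ≫ pushEquiv u S' I b := by
  refine Eq.trans (congrArg ((Sheaf.adjunction K AddCommGrpCat.adj).homEquiv S _).symm
    ((freePullAdj u).homEquiv_naturality_left a b)) ?_
  exact Adjunction.homEquiv_naturality_left_symm _ _ _

lemma pushEquiv_eq (S : Sheaf K (Type u)) {I : Sheaf J AddCommGrpCat.{u}}
    (b : freeSh ((u.sheafPullback (Type u) K J).obj S) ⟶ I) :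
    pushEquiv u S I b = pushEquiv u S _ (𝟙 _) ≫ (CohSite.push J K u).map b := by
  have h := (freePullAdj u).homEquiv_naturality_right
    (𝟙 ((u.sheafPullback (Type u) K J ⋙ Sheaf.composeAndSheafify J AddCommGrpCat.free.{u}).obj S)) b
  rw [Category.id_comp] at h
  exact (congrArg ((Sheaf.adjunction K AddCommGrpCat.adj).homEquiv S ((CohSite.push J K u).obj I)).symm h).trans
    ((Sheaf.adjunction K AddCommGrpCat.adj).homEquiv_naturality_right_symm _ ((CohSite.push J K u).map b))

/-- The same, as an additive equivalence. -/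
noncomputable def pushAddEquiv (S : Sheaf K (Type u)) (I : Sheaf J AddCommGrpCat.{u}) :
    (freeSh ((u.sheafPullback (Type u) K J).obj S) ⟶ I) ≃+ (freeSh S ⟶ (CohSite.push J K u).obj I) :=
  { pushEquiv u S I with
    map_add' := fun a b => by
      show pushEquiv u S I (a + b) = pushEquiv u S I a + pushEquiv u S I b
      rw [pushEquiv_eq, pushEquiv_eq u S a, pushEquiv_eq u S b, Functor.map_add, Preadditive.comp_add] }

variable [PreservesLimitsOfShape WalkingCospan (u.sheafPullback (Type u) K J)]

theorem cechKill_push (I : Sheaf J AddCommGrpCat.{u}) [Injective I] {S' S : Sheaf K (Type u)}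
    (f : S' ⟶ S) : CechKill ((CohSite.push J K u).obj I) (nerve f) := by
  let L := u.sheafPullback (Type u) K J
  let X := ((SimplicialObject.Augmented.whiskering _ _).obj L).obj (nerve f)
  have hX : SheafNerveLike X := sheafNerveLike_map f L
  let e := fun n : ℕ => pushAddEquiv u ((nerve f).left.obj (op ⦋n⦌)) I
  have hd : ∀ (n : ℕ) (b : (freeShChain X).X n ⟶ I),
      e (n + 1) ((freeShChain X).d (n + 1) n ≫ b) = (freeShChain (nerve f)).d (n + 1) n ≫ e n b := by
    intro n b
    rw [AlternatingFaceMapComplex.obj_d_eq, AlternatingFaceMapComplex.obj_d_eq]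
    refine (congrArg (e (n + 1)) (Preadditive.sum_comp (C := Sheaf J AddCommGrpCat.{u}) _ _ b)).trans ?_
    refine (map_sum _ _ _).trans ?_
    refine Eq.trans ?_ (Preadditive.sum_comp (C := Sheaf K AddCommGrpCat.{u}) _ _ (e n b)).symm
    refine Finset.sum_congr rfl fun i _ => ?_
    refine (congrArg (e (n + 1)) (Preadditive.zsmul_comp (C := Sheaf J AddCommGrpCat.{u}) _ _ _)).trans ?_
    refine (map_zsmul _ _ _).trans ?_
    refine Eq.trans ?_ (Preadditive.zsmul_comp (C := Sheaf K AddCommGrpCat.{u}) _ _ _).symm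
    exact congrArg (_ • ·) (pushEquiv_naturality u ((nerve f).left.δ i) b)
  intro n w hw
  obtain ⟨v, rfl⟩ := (e (n + 1)).surjective w
  obtain ⟨b, hb⟩ := cechKill_of_injective hX I n v ((e (n + 2)).injective
    (((hd (n + 1) v).trans hw).trans (map_zero _).symm))
  exact ⟨e n b, (hd n b).symm.trans (congrArg _ hb)⟩

theorem isTotallyAcyclic_push_injective (I : Sheaf J AddCommGrpCat.{u}) [Injective I] :
    CohCx.IsTotallyAcyclic ((CohSite.push J K u).obj I) :=
  isTotallyAcyclic_of_cechKill _ fun _ _ f _ => cechKill_push u I f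

theorem shortExact_push {E : ShortComplex (Sheaf J AddCommGrpCat.{u})} (hE : E.ShortExact)
    (hs : ∀ V : D, Function.Surjective (E.g.hom.app (op (u.obj V))).hom) :
    (E.map (CohSite.push J K u)).ShortExact := by
  have := hE.mono_f
  have : PreservesFiniteLimits (CohSite.push J K u) := by
    have : (CohSite.push J K u).IsRightAdjoint := inferInstance
    exact inferInstance
  have hloc : Sheaf.IsLocallySurjective ((CohSite.push J K u).map E.g) := ⟨fun {V} s => by
    obtain ⟨t, ht⟩ := hs V s
    refine K.superset_covering ?_ (K.top_mem _)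
    intro W g _
    exact ⟨((CohSite.push J K u).obj E.X₂).obj.map g.op t,
      (ConcreteCategory.congr_hom (((CohSite.push J K u).map E.g).hom.naturality g.op) t).trans
        (congrArg _ ht)⟩⟩
  exact ShortComplex.ShortExact.mk' (hE.exact.map_of_mono_of_preservesKernel _ ‹_› inferInstance)
    ((CohSite.push J K u).map_mono E.f) ((Sheaf.isLocallySurjective_iff_epi' _ _).1 hloc)

theorem subsingleton_HU_push (F : Sheaf J AddCommGrpCat.{u})
    (hF : ∀ (U : C) (q : ℕ), Subsingleton (CohSite.HU F (q + 1) U)) (V : D) (q : ℕ) :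
    Subsingleton (CohSite.HU ((CohSite.push J K u).obj F) (q + 1) V) := by
  suffices H : ∀ E : ShortComplex (Sheaf J AddCommGrpCat.{u}), E.ShortExact → Injective E.X₂ →
      (∀ (U : C) (q : ℕ), Subsingleton (EH E.X₁ (q + 1) U)) →
      Subsingleton (EH ((CohSite.push J K u).obj E.X₁) (q + 1) V) from by
    obtain ⟨E, hE, hI, rfl⟩ : ∃ E : ShortComplex (Sheaf J AddCommGrpCat.{u}),
        E.ShortExact ∧ Injective E.X₂ ∧ E.X₁ = F :=
      ⟨injectiveSES F, injectiveSES_shortExact F, inferInstance, injectiveSES_X₁ F⟩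
    exact (subsingleton_HU_iff _ _ _).2 (H E hE hI fun U q => (subsingleton_HU_iff _ _ _).1 (hF U q))
  clear hF F
  induction q with
  | zero =>
    intro E hE hI hF
    have hs := fun U => sections_surjective_of_EH_one hE U (hF U 0)
    refine subsingleton_ext_map_one (CohSite.push J K u) (CohCx.freeSheaf K V) E (shortExact_push u hE fun W => hs _)
      ((subsingleton_HU_iff _ _ _).1
        (subsingleton_HU_of_totallyAcyclic (isTotallyAcyclic_push_injective (J := J) (K := K) u E.X₂) V 0)) fun φ => ?_
    obtain ⟨t, ht⟩ := hs (u.obj V) (secEquiv K V ((CohSite.push J K u).obj E.X₃) φ)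
    refine ⟨(secEquiv K V ((CohSite.push J K u).obj E.X₂)).symm t,
      (secEquiv K V ((CohSite.push J K u).obj E.X₃)).injective ?_⟩
    refine (secEquiv_comp V _ ((CohSite.push J K u).map E.g)).trans (Eq.trans ?_ ht)
    exact congrArg (E.g.hom.app (op (u.obj V))).hom ((secEquiv K V ((CohSite.push J K u).obj E.X₂)).apply_symm_apply t)
  | succ q ih =>
    intro E hE hI hF
    have hs := fun U => sections_surjective_of_EH_one hE U (hF U 0)
    refine subsingleton_ext_map_succ (CohSite.push J K u) (CohCx.freeSheaf K V) E (shortExact_push u hE fun W => hs _) (q + 1)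
      ((subsingleton_HU_iff _ _ _).1
        (subsingleton_HU_of_totallyAcyclic (isTotallyAcyclic_push_injective (J := J) (K := K) u E.X₂) V (q + 1))) ?_
    obtain ⟨E', hE', hI', hX⟩ : ∃ E' : ShortComplex (Sheaf J AddCommGrpCat.{u}),
        E'.ShortExact ∧ Injective E'.X₂ ∧ E'.X₁ = E.X₃ :=
      ⟨injectiveSES E.X₃, injectiveSES_shortExact _, inferInstance, injectiveSES_X₁ _⟩
    have := ih E' hE' hI'
    rw [hX] at this
    exact this fun U n => subsingleton_EH_X₃ hE U (n + 1) (hF U (n + 1))
      (subsingleton_EH_of_injective E.X₂ U n)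

end Groth.Agent.SiteBase
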