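import Groth.Agent.SiteBase.Cohom

/-!
# Global cohomology as cohomology over a terminal object
-/

universe u

open CategoryTheory CategoryTheory.Limits Opposite Abelian

namespace Groth.Agent.SiteBase

variable {C : Type u} [SmallCategory C] {J : GrothendieckTopology C} {T : C}

/-- Morphisms out of the constant sheaf `ℤ` are the sections over a terminal object. -/
noncomputable def constEquiv (hT : IsTerminal T) (F : Sheaf J AddCommGrpCat.{u}) :
    ((constantSheaf J AddCommGrpCat.{u}).obj (AddCommGrpCat.of (ULift.{u} ℤ)) ⟶ F) ≃+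
      F.obj.obj (op T) :=
  ((constantSheafAdj J AddCommGrpCat.{u} hT).homAddEquiv _ F).trans
    (AddCommGrpCat.uliftZMultiplesAddEquiv _)

lemma constEquiv_comp (hT : IsTerminal T) {F G : Sheaf J AddCommGrpCat.{u}}
    (φ : (constantSheaf J AddCommGrpCat.{u}).obj (AddCommGrpCat.of (ULift.{u} ℤ)) ⟶ F) (g : F ⟶ G) :
    constEquiv hT G (φ ≫ g) = (g.hom.app (op T)).hom (constEquiv hT F φ) := rfl

/-- The constant sheaf `ℤ` is the free abelian sheaf on a terminal object. -/
noncomputable def freeSheafIsoConst (J : GrothendieckTopology C) (hT : IsTerminal T) :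
    CohCx.freeSheaf J T ≅ (constantSheaf J AddCommGrpCat.{u}).obj (AddCommGrpCat.of (ULift.{u} ℤ)) where
  hom := (secEquiv J T _).symm (constEquiv hT _ (𝟙 _))
  inv := (constEquiv hT _).symm (secEquiv J T _ (𝟙 _))
  hom_inv_id := by
    apply (secEquiv J T _).injective
    rw [secEquiv_comp, AddEquiv.apply_symm_apply, ← constEquiv_comp, Category.id_comp,
      AddEquiv.apply_symm_apply]
  inv_hom_id := by
    apply (constEquiv hT _).injective
    rw [constEquiv_comp, AddEquiv.apply_symm_apply, ← secEquiv_comp, Category.id_comp,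
      AddEquiv.apply_symm_apply]

/-- `H^n(T, F) ≃ H^n(F)` for a terminal object `T`. -/
noncomputable def huTerminalEquiv (hT : IsTerminal T) (F : Sheaf J AddCommGrpCat.{u}) (n : ℕ) :
    CohSite.HU F n T ≃+ Sheaf.H F n where
  toFun (x : Ext (CohCx.freeSheaf J T) F n) :=
    (Ext.mk₀ (freeSheafIsoConst J hT).inv).comp x (zero_add n)
  invFun y :=
    ((Ext.mk₀ (freeSheafIsoConst J hT).hom).comp y (zero_add n) : Ext (CohCx.freeSheaf J T) F n)
  left_inv x := by
    simp only [Ext.mk₀_comp_mk₀_assoc, Iso.hom_inv_id, Ext.mk₀_id_comp]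
  right_inv y := by
    simp only [Ext.mk₀_comp_mk₀_assoc, Iso.inv_hom_id, Ext.mk₀_id_comp]
  map_add' x y := Ext.comp_add _ _ _ _

lemma subsingleton_H_of_HU_terminal (hT : IsTerminal T) (F : Sheaf J AddCommGrpCat.{u}) (n : ℕ)
    (h : Subsingleton (CohSite.HU F n T)) : Subsingleton (Sheaf.H F n) :=
  (huTerminalEquiv hT F n).symm.toEquiv.subsingleton

end Groth.Agent.SiteBase
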