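import Groth.Agent.TriCat.GrothInst
import Mathlib.Algebra.Category.ModuleCat.Sheaf.Abelian
import Mathlib.Algebra.Category.ModuleCat.Sheaf.Colimits
import Mathlib.Algebra.Category.ModuleCat.Sheaf.Limits
import Mathlib.Algebra.Category.ModuleCat.Presheaf.Sheafification

/-!
# Sheaves of modules on a small ringed site form a Grothendieck abelian category
-/

universe u

open CategoryTheory CategoryTheory.Limits

namespace Groth.Agent.SiteBase

variable {C : Type u} [SmallCategory C] {J : GrothendieckTopology C}

instance isGrothendieckAbelian_sheafOfModules (R : Sheaf J RingCat.{u}) :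
    IsGrothendieckAbelian.{u} (SheafOfModules.{u} R) where
  ab5OfSize := ⟨fun K _ _ => by
    have : HasExactColimitsOfShape K (PresheafOfModules.{u} R.obj) := inferInstance
    have : ((SheafOfModules.forget R ⋙ PresheafOfModules.restrictScalars (𝟙 R.obj))).Full := inferInstance
    exact (PresheafOfModules.sheafificationAdjunction (𝟙 R.obj)).hasExactColimitsOfShape K⟩
  hasSeparator := by
    let adj := PresheafOfModules.sheafificationAdjunction (𝟙 R.obj)
    refine ⟨⟨(PresheafOfModules.sheafification (𝟙 R.obj)).obj
      (separator (PresheafOfModules.{u} R.obj)), ?_⟩⟩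
    rw [isSeparator_def]
    intro X Y f g h
    refine (SheafOfModules.forget R ⋙ PresheafOfModules.restrictScalars (𝟙 R.obj)).map_injective ?_
    refine (isSeparator_def _).1 (isSeparator_separator (PresheafOfModules.{u} R.obj)) _ _ fun φ => ?_
    obtain ⟨ψ, rfl⟩ := (adj.homEquiv _ _).surjective φ
    rw [← Adjunction.homEquiv_naturality_right, ← Adjunction.homEquiv_naturality_right, h ψ]

end Groth.Agent.SiteBase
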