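import Groth.Agent.SiteBase.ModKill
import Groth.Agent.SiteBase.ModGroth
import Groth.Agent.SiteBase.ExtCompare
import Groth.Agent.SiteBase.Global
import Mathlib.CategoryTheory.Abelian.GrothendieckCategory.EnoughInjectives
import Mathlib.GroupTheory.FreeAbelianGroup

/-!
# Ext groups of sheaves of modules and cohomology of the underlying abelian sheaves
-/

universe u

open CategoryTheory CategoryTheory.Limits Opposite Abelian

namespace Groth.Agent.SiteBase

variable {C : Type u} [SmallCategory C] {J : GrothendieckTopology C} {R : Sheaf J RingCat.{u}}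
  [HasExt.{u} (SheafOfModules.{u} R)]

/-- Ext out of a free module computes cohomology with respect to the sheaf of sets. -/
theorem nonempty_ext_freeMod_addEquiv (K : Sheaf J (Type u)) (M : SheafOfModules.{u} R) (p : ℕ) :
    Nonempty (Ext ((freeModSh R).obj K) M p ≃+ CohCx.HK K ((SheafOfModules.toSheaf R).obj M) p) :=
  nonempty_ext_addEquiv (SheafOfModules.toSheaf R) ((freeModSh R).obj K) (freeSh K)
    (fun _ hE => hE.map_of_exact (SheafOfModules.toSheaf R))
    (fun I hI q => @isTotallyAcyclic_toSheaf_injective _ _ _ R I hI K q)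
    (fun X => freeModAddEquiv K X)
    (fun X Y φ g => by
      show freeModEquiv K Y (φ ≫ g) = freeModEquiv K X φ ≫ (SheafOfModules.toSheaf R).map g
      rw [freeModEquiv_eq, freeModEquiv_eq K φ, Functor.map_comp, Category.assoc]) p M

omit [HasExt.{u} (SheafOfModules.{u} R)] in
variable (J) in
/-- The constant sheaf `ℤ` is free on a sheaf of sets. -/
noncomputable def constIsoFreeSh :
    (constantSheaf J AddCommGrpCat.{u}).obj (AddCommGrpCat.of (ULift.{u} ℤ)) ≅
      freeSh ((presheafToSheaf J (Type u)).obj ((Functor.const Cᵒᵖ).obj PUnit.{u + 1})) :=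
  (presheafToSheaf J AddCommGrpCat.{u}).mapIso
      (NatIso.ofComponents
        (fun _ => AddEquiv.toAddCommGrpIso
          (AddEquiv.ulift.trans (FreeAbelianGroup.uniqueEquiv PUnit.{u + 1}).symm))
        (fun _ => (Category.id_comp _).trans
          ((Category.comp_id _).symm.trans (congrArg (_ ≫ ·) (AddCommGrpCat.free.map_id _).symm)))) ≪≫
    ((freeSheafifyIso J).app ((Functor.const Cᵒᵖ).obj PUnit.{u + 1})).symm

/-- `1`, as a map from the constant sheaf `ℤ`. -/
noncomputable def oneHom (R : Sheaf J RingCat.{u}) :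
    (constantSheaf J AddCommGrpCat.{u}).obj (AddCommGrpCat.of (ULift.{u} ℤ)) ⟶
      (SheafOfModules.toSheaf R).obj (SheafOfModules.unit R) :=
  ((sheafificationAdjunction J AddCommGrpCat.{u}).homEquiv
    ((Functor.const Cᵒᵖ).obj (AddCommGrpCat.of (ULift.{u} ℤ)))
    ((SheafOfModules.toSheaf R).obj (SheafOfModules.unit R))).symm
    { app := fun U => AddCommGrpCat.ofHom
        ((zmultiplesHom (R.obj.obj U) (1 : R.obj.obj U)).comp AddEquiv.ulift.toAddMonoidHom)
      naturality := fun U V f => by
        ext ⟨n⟩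
        show n • (1 : R.obj.obj V) = (R.obj.map f).hom (n • (1 : R.obj.obj U))
        rw [map_zsmul, map_one] }

omit [HasExt.{u} (SheafOfModules.{u} R)] in
/-- The image of `1`. -/
noncomputable abbrev evalOne {F : Cᵒᵖ ⥤ AddCommGrpCat.{u}}
    (η : (Functor.const Cᵒᵖ).obj (AddCommGrpCat.of (ULift.{u} ℤ)) ⟶ F) (U : Cᵒᵖ) : F.obj U :=
  (η.app U).hom (ULift.up 1)

omit [HasExt.{u} (SheafOfModules.{u} R)] in
lemma oneHom_comp_bijective (M : SheafOfModules.{u} R) :
    Function.Bijective fun φ : SheafOfModules.unit R ⟶ M =>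
      oneHom R ≫ (SheafOfModules.toSheaf R).map φ := by
  let a := sheafificationAdjunction J AddCommGrpCat.{u}
  have key : ∀ φ : SheafOfModules.unit R ⟶ M, ∀ U : Cᵒᵖ,
      evalOne (a.homEquiv ((Functor.const Cᵒᵖ).obj (AddCommGrpCat.of (ULift.{u} ℤ)))
        ((SheafOfModules.toSheaf R).obj M)
          (oneHom R ≫ (SheafOfModules.toSheaf R).map φ)) U =
        (M.unitHomEquiv φ).val U := fun φ U => by
    refine (congrArg (fun η => evalOne η U)
      ((a.homEquiv_naturality_right (oneHom R) ((SheafOfModules.toSheaf R).map φ)).trans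
        (congrArg (· ≫ _) (Equiv.apply_symm_apply _ _)))).trans ?_
    show (φ.val.app U).hom ((1 : ℤ) • (1 : R.obj.obj U)) = _
    rw [one_smul]
    rfl
  constructor
  · intro φ ψ h
    refine M.unitHomEquiv.injective (Subtype.ext (funext fun U => ?_))
    exact (key φ U).symm.trans ((congrArg (fun z => evalOne (a.homEquiv ((Functor.const Cᵒᵖ).obj (AddCommGrpCat.of (ULift.{u} ℤ))) ((SheafOfModules.toSheaf R).obj M) z) U) h).trans (key ψ U))
  · intro b
    let η := a.homEquiv ((Functor.const Cᵒᵖ).obj (AddCommGrpCat.of (ULift.{u} ℤ)))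
      ((SheafOfModules.toSheaf R).obj M) b
    let s : M.sections := ⟨fun U => (η.app U).hom ⟨1⟩, fun {U V} f =>
      (ConcreteCategory.congr_hom (η.naturality f) (ULift.up (1 : ℤ))).symm⟩
    refine ⟨M.unitHomEquiv.symm s, (a.homEquiv _ _).injective ?_⟩
    refine NatTrans.ext (funext fun U => (AddCommGrpCat.uliftZMultiplesAddEquiv _).injective ?_)
    refine Eq.trans (Eq.trans ?_ (key (M.unitHomEquiv.symm s) U)) ?_
    · rfl
    · rw [Equiv.apply_symm_apply]
      rfl

/-- Ext out of the structure sheaf computes cohomology. -/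
theorem nonempty_ext_unit_addEquiv (M : SheafOfModules.{u} R) (n : ℕ) :
    Nonempty (Ext (SheafOfModules.unit R) M n ≃+ Sheaf.H.{u} ((SheafOfModules.toSheaf R).obj M) n) :=
  nonempty_ext_addEquiv (SheafOfModules.toSheaf R) (SheafOfModules.unit R)
    ((constantSheaf J AddCommGrpCat.{u}).obj (AddCommGrpCat.of (ULift.{u} ℤ)))
    (fun _ hE => hE.map_of_exact (SheafOfModules.toSheaf R))
    (fun I hI q => by
      refine subsingleton_of_forall_eq 0 fun x => ?_
      have h : (Ext.mk₀ (constIsoFreeSh J).inv).comp x (zero_add (q + 1)) = 0 :=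
        (@isTotallyAcyclic_toSheaf_injective _ _ _ R I hI
          ((presheafToSheaf J (Type u)).obj ((Functor.const Cᵒᵖ).obj PUnit.{u + 1})) q).elim _ _
      have := congrArg (fun e => (Ext.mk₀ (constIsoFreeSh J).hom).comp e (zero_add (q + 1))) h
      rw [Ext.mk₀_comp_mk₀_assoc, Iso.hom_inv_id, Ext.mk₀_id_comp, Ext.comp_zero] at this
      exact this)
    (fun X => AddEquiv.ofBijective
      (AddMonoidHom.mk' (fun φ => oneHom R ≫ (SheafOfModules.toSheaf R).map φ)
        (fun _ _ => by rw [Functor.map_add, Preadditive.comp_add]))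
      (oneHom_comp_bijective X))
    (fun X Y φ g => by
      show oneHom R ≫ (SheafOfModules.toSheaf R).map (φ ≫ g) = (oneHom R ≫ _) ≫ _
      rw [Functor.map_comp, Category.assoc]) n M

end Groth.Agent.SiteBase
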