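import Groth.Agent.SiteBase.Horseshoe
import Mathlib.Algebra.Homology.DerivedCategory.Ext.EnoughInjectives
import Mathlib.Algebra.Homology.DerivedCategory.Ext.ExactSequences

/-!
Degenerate cases of the Grothendieck spectral sequence for `Ext` out of a fixed object.
-/

set_option autoImplicit false

universe w v v' u u'

open CategoryTheory CategoryTheory.Limits CategoryTheory.Abelian

noncomputable section

namespace Groth.Agent.LerayDegen

variable {A : Type u} [Category.{v} A] [Abelian A] [HasExt.{w} A]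
  {B : Type u'} [Category.{v'} B] [Abelian B] [HasExt.{w} B]

theorem addEquiv_of_surjective {M N L : Type*} [AddCommGroup M] [AddCommGroup N]
    [AddCommGroup L] (a : M →+ N) (c : M →+ L) (ha : Function.Surjective a)
    (hc : Function.Surjective c) (h : ∀ x, a x = 0 ↔ c x = 0) : Nonempty (N ≃+ L) := by
  have hk : a.ker = c.ker := AddSubgroup.ext h
  exact ⟨((QuotientAddGroup.quotientKerEquivOfSurjective a ha).symm.trans
    (QuotientAddGroup.quotientAddEquivOfEq hk)).trans
    (QuotientAddGroup.quotientKerEquivOfSurjective c hc)⟩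

section Conn

variable (a : A) {T : ShortComplex A}

def conn (hT : T.ShortExact) (n : ℕ) : Ext.{w} a T.X₃ n →+ Ext.{w} a T.X₁ (n + 1) :=
  hT.extClass.postcomp a rfl

lemma conn_surjective (hT : T.ShortExact) (n : ℕ) (h : Subsingleton (Ext.{w} a T.X₂ (n + 1))) :
    Function.Surjective (conn a hT n) := fun x =>
  Ext.covariant_sequence_exact₁ _ hT x (Subsingleton.elim _ _) rfl

lemma conn_eq_zero_iff (hT : T.ShortExact) (n : ℕ) (x : Ext.{w} a T.X₃ n) :
    conn a hT n x = 0 ↔ ∃ y : Ext.{w} a T.X₂ n, y.comp (Ext.mk₀ T.g) (add_zero n) = x := by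
  refine ⟨fun h => Ext.covariant_sequence_exact₃ _ hT x rfl h, ?_⟩
  rintro ⟨y, rfl⟩
  show (y.comp (Ext.mk₀ T.g) (add_zero n)).comp hT.extClass rfl = 0
  rw [Ext.comp_assoc_of_second_deg_zero, hT.comp_extClass, Ext.comp_zero]

lemma conn_bijective (hT : T.ShortExact) (n : ℕ) (h₂ : Subsingleton (Ext.{w} a T.X₂ n))
    (h₂' : Subsingleton (Ext.{w} a T.X₂ (n + 1))) : Function.Bijective (conn a hT n) := by
  refine ⟨(injective_iff_map_eq_zero _).2 fun x hx => ?_, conn_surjective a hT n h₂'⟩
  obtain ⟨y, rfl⟩ := (conn_eq_zero_iff a hT n x).1 hx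
  rw [Subsingleton.elim y 0, Ext.zero_comp]

/-- Vanishing of `Ext` out of `a` in positive degrees. -/
def Acy (G : A) : Prop := ∀ p : ℕ, Subsingleton (Ext.{w} a G (p + 1))

lemma acy_injective (G : A) [Injective G] : Acy.{w} a G := fun p =>
  Ext.subsingleton_of_injective a G p

lemma acy_mid (hT : T.ShortExact) (h₁ : Acy.{w} a T.X₁) (h₃ : Acy.{w} a T.X₃) : Acy.{w} a T.X₂ :=
  fun p => subsingleton_of_forall_eq 0 fun x => by
    obtain ⟨y, hy⟩ := Ext.covariant_sequence_exact₂ _ hT x ((h₃ p).elim _ _)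
    rw [← hy, (h₁ p).elim y 0, Ext.zero_comp]

lemma acy_right (hT : T.ShortExact) (h₁ : Acy.{w} a T.X₁) (h₂ : Acy.{w} a T.X₂) : Acy.{w} a T.X₃ :=
  fun p => subsingleton_of_forall_eq 0 fun x => by
    obtain ⟨y, hy⟩ := (conn_eq_zero_iff a hT (p + 1) x).1 ((h₁ (p + 1)).elim _ _)
    rw [← hy, (h₂ p).elim y 0, Ext.zero_comp]

lemma surjective_zero (hT : T.ShortExact) (h₁ : Acy.{w} a T.X₁) (x : Ext.{w} a T.X₃ 0) :
    ∃ y : Ext.{w} a T.X₂ 0, y.comp (Ext.mk₀ T.g) (add_zero 0) = x :=
  (conn_eq_zero_iff a hT 0 x).1 ((h₁ 0).elim _ _)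

lemma acy_of_iso {G G' : A} (e : G ≅ G') (h : Acy.{w} a G) : Acy.{w} a G' := fun p =>
  subsingleton_of_forall_eq 0 fun x => by
    have h' := congrArg (fun y => Ext.comp y (Ext.mk₀ e.hom) (add_zero (p + 1)))
      ((h p).elim (x.comp (Ext.mk₀ e.inv) (add_zero (p + 1))) 0)
    simpa using h'

def isoEquiv {G G' : A} (e : G ≅ G') : Ext.{w} a G 0 ≃+ Ext.{w} a G' 0 where
  toFun x := x.comp (Ext.mk₀ e.hom) (add_zero 0)
  invFun x := x.comp (Ext.mk₀ e.inv) (add_zero 0)
  left_inv x := by simp
  right_inv x := by simp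
  map_add' x y := Ext.add_comp _ _ _ _

end Conn

variable (a : A) (b : B) (P : A ⥤ B) [P.Additive]
  (hinj : ∀ I : A, Injective I → Injective (P.obj I))
  (e : ∀ G : A, Ext.{w} a G 0 ≃+ Ext.{w} b (P.obj G) 0)
  (he : ∀ {G G' : A} (φ : G ⟶ G') (y : Ext.{w} a G 0),
    e G' (y.comp (Ext.mk₀ φ) (add_zero 0)) = (e G y).comp (Ext.mk₀ (P.map φ)) (add_zero 0))

def pres [EnoughInjectives A] (G : A) : ShortComplex A :=
  ShortComplex.mk (Injective.ι G) (cokernel.π (Injective.ι G)) (cokernel.condition _)

lemma pres_shortExact [EnoughInjectives A] (G : A) : (pres G).ShortExact :=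
  { exact := ShortComplex.exact_cokernel _
    mono_f := inferInstanceAs (Mono (Injective.ι G))
    epi_g := inferInstanceAs (Epi (cokernel.π (Injective.ι G))) }

instance [EnoughInjectives A] (G : A) : Injective (pres G).X₂ := Injective.injective_under G

include hinj he in
theorem ext_equiv_of_class [EnoughInjectives A] (C : A → Prop)
    (hquot : ∀ {T : ShortComplex A}, T.ShortExact → C T.X₁ → Injective T.X₂ → C T.X₃)
    (hpush : ∀ {T : ShortComplex A}, T.ShortExact → C T.X₁ → Injective T.X₂ →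
      (T.map P).ShortExact)
    (F : A) (hF : C F) (i : ℕ) :
    Nonempty (Ext.{w} a F i ≃+ Ext.{w} b (P.obj F) i) := by
  induction i using Nat.strong_induction_on generalizing F with
  | _ i ih =>
    match i with
    | 0 => exact ⟨e F⟩
    | m + 1 =>
      have hT := pres_shortExact F
      have hQ : C (pres F).X₃ := hquot hT hF inferInstance
      have hT' := hpush hT hF inferInstance
      have : Injective ((pres F).map P).X₂ := hinj _ (Injective.injective_under F)
      have hv : Acy.{w} a (pres F).X₂ := acy_injective a _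
      have hv' : Acy.{w} b ((pres F).map P).X₂ := acy_injective b _
      match m with
      | 0 =>
        refine addEquiv_of_surjective (conn a hT 0)
          ((conn b hT' 0).comp (e (pres F).X₃).toAddMonoidHom) (conn_surjective a hT 0 (hv 0))
          ((conn_surjective b hT' 0 (hv' 0)).comp (e (pres F).X₃).surjective) fun x => ?_
        refine (conn_eq_zero_iff a hT 0 x).trans ?_
        refine Iff.trans ?_ (conn_eq_zero_iff b hT' 0 (e (pres F).X₃ x)).symm
        constructor
        · rintro ⟨y, hy⟩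
          exact ⟨e _ y, (he (pres F).g y).symm.trans (congrArg _ hy)⟩
        · rintro ⟨z, hz⟩
          refine ⟨(e _).symm z, (e (pres F).X₃).injective ?_⟩
          exact (he (pres F).g _).trans ((congrArg
            (fun t => Ext.comp t (Ext.mk₀ (P.map (pres F).g)) (add_zero 0))
            ((e _).apply_symm_apply z)).trans hz)
      | m + 1 =>
        obtain ⟨ε⟩ := ih (m + 1) (Nat.lt_succ_self _) (pres F).X₃ hQ
        exact ⟨((AddEquiv.ofBijective _ (conn_bijective a hT (m + 1) (hv m) (hv (m + 1)))).symm.trans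
          ε).trans (AddEquiv.ofBijective _ (conn_bijective b hT' (m + 1) (hv' m) (hv' (m + 1))))⟩

variable [HasInjectiveResolutions A] [PreservesFiniteLimits P] (Δ : RDer.DerivedLES P)

include Δ in
lemma isIso_δ {T : ShortComplex A} (hT : T.ShortExact) [Injective T.X₂] (q : ℕ) :
    IsIso (Δ.δ T hT (q + 1) (q + 2) rfl) := by
  have := (Δ.exact₃ T hT (q + 1) (q + 2) rfl).mono_g
    ((P.isZero_rightDerived_obj_injective_succ q T.X₂).eq_of_src _ _)
  have := (Δ.exact₁ T hT (q + 1) (q + 2) rfl).epi_f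
    ((P.isZero_rightDerived_obj_injective_succ (q + 1) T.X₂).eq_of_tgt _ _)
  exact isIso_of_mono_of_epi (Δ.δ T hT (q + 1) (q + 2) rfl)

include hinj he Δ in
theorem ext_equiv_of_rightDerived [EnoughInjectives A] (F : A)
    (h : ∀ q : ℕ, IsZero ((P.rightDerived (q + 1)).obj F)) (n : ℕ) :
    Nonempty (Ext.{w} a F n ≃+ Ext.{w} b (P.obj F) n) := by
  refine ext_equiv_of_class a b P hinj e he (fun G => ∀ q : ℕ, IsZero ((P.rightDerived (q + 1)).obj G))
    (fun {T} hT h₁ h₂ q => (Δ.exact₃ T hT (q + 1) (q + 2) rfl).isZero_X₂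
      ((P.isZero_rightDerived_obj_injective_succ q T.X₂).eq_of_src _ _) ((h₁ (q + 1)).eq_of_tgt _ _))
    (fun {T} hT h₁ _ => ?_) F h n
  have h0 : Epi ((P.rightDerived 0).map T.g) :=
    (Δ.exact₃ T hT 0 1 rfl).epi_f ((h₁ 0).eq_of_tgt _ _)
  have : Epi (P.map T.g) := by
    have he : P.map T.g = P.rightDerivedZeroIsoSelf.inv.app T.X₂ ≫ (P.rightDerived 0).map T.g ≫
        P.rightDerivedZeroIsoSelf.hom.app T.X₃ := by
      rw [P.rightDerivedZeroIsoSelf.hom.naturality, Iso.inv_hom_id_app_assoc]
    rw [he]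
    infer_instance
  have := hT.mono_f
  have : Mono (T.map P).f := inferInstanceAs (Mono (P.map T.f))
  have : Epi (T.map P).g := inferInstanceAs (Epi (P.map T.g))
  exact
    { exact := ShortComplex.exact_of_f_is_kernel _ (KernelFork.mapIsLimit _ hT.fIsKernel P) }

include hinj e he Δ in
theorem ext_equiv_zero_rightDerived [EnoughInjectives A] (q : ℕ) : ∀ F : A,
    (∀ j : ℕ, Acy.{w} b ((P.rightDerived j).obj F)) →
      Nonempty (Ext.{w} a F q ≃+ Ext.{w} b ((P.rightDerived q).obj F) 0) := by
  let e0 := P.rightDerivedZeroIsoSelf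
  induction q with
  | zero => exact fun F _ => ⟨(e F).trans (isoEquiv b (e0.app F).symm)⟩
  | succ q ih =>
    intro F hF
    have hT := pres_shortExact F
    let d := Δ.δ (pres F) hT 0 1 rfl
    have hd : Epi d := (Δ.exact₁ (pres F) hT 0 1 rfl).epi_f
      ((P.isZero_rightDerived_obj_injective_succ 0 (pres F).X₂).eq_of_tgt _ _)
    let S₂ : ShortComplex B := ShortComplex.mk (kernel.ι d) d (kernel.condition d)
    have hS₂ : S₂.ShortExact :=
      { exact := ShortComplex.exact_kernel d, mono_f := inferInstanceAs (Mono (kernel.ι d)), epi_g := hd }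
    let l : (P.rightDerived 0).obj (pres F).X₂ ⟶ kernel d :=
      kernel.lift d ((P.rightDerived 0).map (pres F).g) (Δ.comp_δ (pres F) hT 0 1 rfl)
    have hl : l ≫ kernel.ι d = (P.rightDerived 0).map (pres F).g := kernel.lift_ι _ _ _
    let S₁ : ShortComplex B := ShortComplex.mk ((P.rightDerived 0).map (pres F).f) l
      (by rw [← cancel_mono (kernel.ι d), Category.assoc, hl, ← Functor.map_comp, (pres F).zero,
        Functor.map_zero, zero_comp])
    have hS₁ : S₁.ShortExact :=
      { exact := by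
          let φ : S₁ ⟶ ShortComplex.mk ((P.rightDerived 0).map (pres F).f)
              ((P.rightDerived 0).map (pres F).g)
              (by rw [← Functor.map_comp, (pres F).zero, Functor.map_zero]) :=
            { τ₁ := 𝟙 _, τ₂ := 𝟙 _, τ₃ := kernel.ι d
              comm₁₂ := (Category.id_comp _).trans (Category.comp_id _).symm
              comm₂₃ := (Category.id_comp _).trans hl.symm }
          exact (ShortComplex.exact_iff_of_epi_of_isIso_of_mono φ).2 (Δ.exact₂ (pres F) hT 0)
        mono_f := by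
          have := hT.mono_f
          have he' : (P.rightDerived 0).map (pres F).f =
              e0.hom.app _ ≫ P.map (pres F).f ≫ e0.inv.app _ := by
            rw [← e0.hom.naturality_assoc, Iso.hom_inv_id_app, Category.comp_id]
          show Mono ((P.rightDerived 0).map (pres F).f)
          rw [he']
          infer_instance
        epi_g := (Δ.exact₃ (pres F) hT 0 1 rfl).epi_kernelLift }
    have hI : Acy.{w} b ((P.rightDerived 0).obj (pres F).X₂) :=
      acy_of_iso b (e0.app _).symm
        (@acy_injective _ _ _ _ b (P.obj (pres F).X₂) (hinj _ (Injective.injective_under F)))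
    have hK : Acy.{w} b (kernel d) := acy_right b hS₁ (hF 0) hI
    match q with
    | 0 =>
      let e₃ := (e (pres F).X₃).trans (isoEquiv b (e0.app (pres F).X₃).symm)
      let e₂ := (e (pres F).X₂).trans (isoEquiv b (e0.app (pres F).X₂).symm)
      have hnat : ∀ y, e₃ (y.comp (Ext.mk₀ (pres F).g) (add_zero 0)) =
          (e₂ y).comp (Ext.mk₀ ((P.rightDerived 0).map (pres F).g)) (add_zero 0) := by
        intro y
        show (e (pres F).X₃ (y.comp (Ext.mk₀ (pres F).g) (add_zero 0))).comp
            (Ext.mk₀ (e0.inv.app (pres F).X₃)) (add_zero 0) =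
          ((e (pres F).X₂ y).comp (Ext.mk₀ (e0.inv.app (pres F).X₂)) (add_zero 0)).comp
            (Ext.mk₀ ((P.rightDerived 0).map (pres F).g)) (add_zero 0)
        rw [he, Ext.comp_assoc_of_second_deg_zero, Ext.comp_assoc_of_second_deg_zero,
          Ext.mk₀_comp_mk₀, Ext.mk₀_comp_mk₀, e0.inv.naturality]
      refine addEquiv_of_surjective (conn a hT 0)
        (((Ext.mk₀ d).postcomp b (add_zero 0)).comp e₃.toAddMonoidHom)
        (conn_surjective a hT 0 (acy_injective a _ 0)) ?_ fun x => ?_
      · intro z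
        obtain ⟨w, hw⟩ := surjective_zero b hS₂ hK z
        exact ⟨e₃.symm w, (congrArg (fun t => Ext.comp t (Ext.mk₀ d) (add_zero 0))
          (e₃.apply_symm_apply w)).trans hw⟩
      refine (conn_eq_zero_iff a hT 0 x).trans ?_
      constructor
      · rintro ⟨y, rfl⟩
        show (e₃ (y.comp (Ext.mk₀ (pres F).g) (add_zero 0))).comp (Ext.mk₀ d) (add_zero 0) = 0
        rw [hnat, Ext.comp_assoc_of_second_deg_zero, Ext.mk₀_comp_mk₀,
          show (P.rightDerived 0).map (pres F).g ≫ d = 0 from Δ.comp_δ (pres F) hT 0 1 rfl,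
          Ext.mk₀_zero, Ext.comp_zero]
      · intro hx
        obtain ⟨z', hz'⟩ := Ext.covariant_sequence_exact₂ _ hS₂ (e₃ x) hx
        obtain ⟨z, rfl⟩ := surjective_zero b hS₁ (hF 0) z'
        refine ⟨e₂.symm z, e₃.injective ?_⟩
        rw [hnat, AddEquiv.apply_symm_apply, ← hz', Ext.comp_assoc_of_second_deg_zero,
          Ext.mk₀_comp_mk₀]
        exact congrArg (fun k => Ext.comp z (Ext.mk₀ k) (add_zero 0)) hl.symm
    | q + 1 =>
      have hQ : ∀ j, Acy.{w} b ((P.rightDerived j).obj (pres F).X₃) := fun j => match j with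
        | 0 => acy_mid b hS₂ hK (hF 1)
        | j + 1 =>
          haveI := isIso_δ P Δ hT j
          acy_of_iso b (asIso (Δ.δ (pres F) hT (j + 1) (j + 2) rfl)).symm (hF (j + 2))
      obtain ⟨ε⟩ := ih (pres F).X₃ hQ
      exact ⟨((AddEquiv.ofBijective _ (conn_bijective a hT (q + 1) (acy_injective a _ q)
        (acy_injective a _ (q + 1)))).symm.trans
        ε).trans (isoEquiv b (@asIso _ _ _ _ (Δ.δ (pres F) hT (q + 1) (q + 2) rfl)
          (isIso_δ P Δ hT q)))⟩

end Groth.Agent.LerayDegen

end
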