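import Groth.Prelude.Def_RDer
import Groth.Prelude.Def_RDerDelta
import Mathlib.Algebra.Homology.HomologySequenceLemmas

/-!
Injective resolutions of short exact sequences: horseshoe lemma, lifting of morphisms of short
complexes to resolutions, naturality of `RDer.SESRes.delta`.
-/

universe v u v' u'

open CategoryTheory CategoryTheory.Limits

noncomputable section

namespace SESResLib

variable {C : Type u} [Category.{v} C] [Abelian C]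

section Aug

variable {X : C} (I : InjectiveResolution X)

def augObj : ℕ → C
  | 0 => X
  | n + 1 => I.cocomplex.X n

def aug : (n : ℕ) → augObj I n ⟶ I.cocomplex.X n
  | 0 => I.ι.f 0
  | n + 1 => I.cocomplex.d n (n + 1)

def ι₀ : X ⟶ I.cocomplex.X 0 := I.ι.f 0

instance : Mono (ι₀ I) := RDer.res_mono I.cocomplex I.ι

lemma ι₀_d : ι₀ I ≫ I.cocomplex.d 0 1 = 0 := RDer.res_ι_d I.cocomplex I.ι

lemma ι₀_exact : (ShortComplex.mk _ _ (ι₀_d I)).Exact := RDer.res_exact₀ I.cocomplex I.ι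

lemma aug_d (n : ℕ) : aug I n ≫ I.cocomplex.d n (n + 1) = 0 := by
  cases n with
  | zero => exact ι₀_d I
  | succ n => exact I.cocomplex.d_comp_d _ _ _

lemma aug_exact (n : ℕ) : (ShortComplex.mk _ _ (aug_d I n)).Exact := by
  cases n with
  | zero => exact ι₀_exact I
  | succ n => exact RDer.res_exact_succ I.cocomplex I.ι n

end Aug

lemma ι₀_comm {X Y : C} {I : InjectiveResolution X} {J : InjectiveResolution Y}
    {φ : I.cocomplex ⟶ J.cocomplex} {f : X ⟶ Y}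
    (h : I.ι ≫ φ = (CochainComplex.single₀ C).map f ≫ J.ι) :
    ι₀ I ≫ φ.f 0 = f ≫ ι₀ J := by
  have := HomologicalComplex.congr_hom h 0
  rw [HomologicalComplex.comp_f, HomologicalComplex.comp_f,
    CochainComplex.single₀_map_f_zero] at this
  exact this

lemma exists_desc {X Y : C} (f : X ⟶ Y) (I : InjectiveResolution X) (J : InjectiveResolution Y) :
    ∃ φ : I.cocomplex ⟶ J.cocomplex, ι₀ I ≫ φ.f 0 = f ≫ ι₀ J :=
  ⟨InjectiveResolution.desc f J I, ι₀_comm (InjectiveResolution.desc_commutes f J I)⟩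

variable {S : ShortComplex C}

def split (T : RDer.SESRes S) (n : ℕ) :
    (ShortComplex.mk (T.f.f n) (T.g.f n)
      (by rw [← HomologicalComplex.comp_f, T.zero]; rfl)).Splitting :=
  T.splitting n

lemma mono_f (T : RDer.SESRes S) (n : ℕ) : Mono (T.f.f n) := (split T n).shortExact.mono_f

lemma epi_g (T : RDer.SESRes S) (n : ℕ) : Epi (T.g.f n) := (split T n).shortExact.epi_g

lemma epi_S_g (T : RDer.SESRes S) : Epi S.g := by
  rw [epi_iff_surjective_up_to_refinements]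
  intro A x
  have := epi_g T 0
  obtain ⟨A₁, π₁, _, z, hz⟩ := surjective_up_to_refinements_of_epi (T.g.f 0) (x ≫ ι₀ T.I₃)
  have := mono_f T 1
  have := mono_f T 2
  have h1 : (z ≫ T.I₂.cocomplex.d 0 1) ≫ T.g.f 1 = 0 := by
    rw [Category.assoc, ← T.g.comm, ← Category.assoc, ← hz]
    simp only [Category.assoc, ι₀_d, comp_zero]
  let e := (split T 1).shortExact.exact.lift (z ≫ T.I₂.cocomplex.d 0 1) h1
  have he : e ≫ T.f.f 1 = z ≫ T.I₂.cocomplex.d 0 1 :=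
    (split T 1).shortExact.exact.lift_f _ h1
  have h2 : e ≫ T.I₁.cocomplex.d 1 2 = 0 := by
    rw [← cancel_mono (T.f.f 2), Category.assoc, ← T.f.comm, ← Category.assoc, he, Category.assoc,
      HomologicalComplex.d_comp_d, comp_zero, zero_comp]
  obtain ⟨A₂, π₂, _, y, hy⟩ :=
    (RDer.res_exact_succ T.I₁.cocomplex T.I₁.ι 0).exact_up_to_refinements e h2
  dsimp at y hy
  have h3 : (π₂ ≫ z - y ≫ T.f.f 0) ≫ T.I₂.cocomplex.d 0 1 = 0 := by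
    rw [Preadditive.sub_comp, Category.assoc, Category.assoc, T.f.comm, ← he, ← Category.assoc y,
      ← hy, Category.assoc, sub_self]
  let v := (ι₀_exact T.I₂).lift (π₂ ≫ z - y ≫ T.f.f 0) h3
  have hv : v ≫ ι₀ T.I₂ = π₂ ≫ z - y ≫ T.f.f 0 := (ι₀_exact T.I₂).lift_f _ h3
  refine ⟨A₂, π₂ ≫ π₁, inferInstance, v, ?_⟩
  rw [← cancel_mono (ι₀ T.I₃)]
  have hfg : T.f.f 0 ≫ T.g.f 0 = 0 := by rw [← HomologicalComplex.comp_f, T.zero]; rfl
  calc ((π₂ ≫ π₁) ≫ x) ≫ ι₀ T.I₃ = π₂ ≫ (π₁ ≫ x ≫ ι₀ T.I₃) := by simp only [Category.assoc]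
    _ = π₂ ≫ z ≫ T.g.f 0 := by rw [hz]
    _ = (π₂ ≫ z - y ≫ T.f.f 0) ≫ T.g.f 0 := by
      rw [Preadditive.sub_comp, Category.assoc, Category.assoc, hfg, comp_zero, sub_zero]
    _ = (v ≫ S.g) ≫ ι₀ T.I₃ := by
      rw [← hv, Category.assoc, ι₀_comm T.ι_g, Category.assoc]

lemma exists_mid {A₁ A₂ A₃ B₁ B₂ B₃ Z₁ Z₂ Z₃ : C}
    {f : A₁ ⟶ A₂} {g : A₂ ⟶ A₃} {zA : f ≫ g = 0} (sA : (ShortComplex.mk f g zA).Splitting)
    {f' : B₁ ⟶ B₂} {g' : B₂ ⟶ B₃} {zB : f' ≫ g' = 0} (sB : (ShortComplex.mk f' g' zB).Splitting)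
    {fZ : Z₁ ⟶ Z₂} {gZ : Z₂ ⟶ Z₃} {zZ : fZ ≫ gZ = 0} (hZ : (ShortComplex.mk fZ gZ zZ).Exact)
    [Epi gZ] (a : A₁ ⟶ B₁) (c : A₃ ⟶ B₃) (z₁ : Z₁ ⟶ A₁) (z₂ : Z₂ ⟶ A₂) (z₃ : Z₃ ⟶ A₃)
    (w : Z₂ ⟶ B₂) (h₁ : fZ ≫ z₂ = z₁ ≫ f) (h₃ : z₂ ≫ g = gZ ≫ z₃)
    (hw₁ : fZ ≫ w = z₁ ≫ a ≫ f') (hw₃ : w ≫ g' = gZ ≫ z₃ ≫ c)
    (hfac : ∀ (D : Z₃ ⟶ B₁) (b : A₂ ⟶ B₂), f ≫ b = a ≫ f' → b ≫ g' = g ≫ c →
      gZ ≫ D ≫ f' = w - z₂ ≫ b → ∃ e : A₃ ⟶ B₁, z₃ ≫ e = D) :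
    ∃ b : A₂ ⟶ B₂, f ≫ b = a ≫ f' ∧ b ≫ g' = g ≫ c ∧ z₂ ≫ b = w := by
  have srA : f ≫ sA.r = 𝟙 A₁ := sA.f_r
  have sgB : sB.s ≫ g' = 𝟙 B₃ := sB.s_g
  let b₀ : A₂ ⟶ B₂ := sA.r ≫ a ≫ f' + g ≫ c ≫ sB.s
  have hb₁ : f ≫ b₀ = a ≫ f' := by
    dsimp [b₀]
    rw [Preadditive.comp_add, ← Category.assoc, srA, Category.id_comp, ← Category.assoc f g, zA,
      zero_comp, add_zero]
  have hb₃ : b₀ ≫ g' = g ≫ c := by
    dsimp [b₀]
    simp only [Preadditive.add_comp, Category.assoc, zB, comp_zero, zero_add, sgB,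
      Category.comp_id]
  let D := w - z₂ ≫ b₀
  have hD₁ : fZ ≫ (D ≫ sB.r) = 0 := by
    have : fZ ≫ D = 0 := by
      dsimp [D]
      rw [Preadditive.comp_sub, hw₁, reassoc_of% h₁, hb₁, sub_self]
    rw [← Category.assoc, this, zero_comp]
  have hD₃ : D ≫ g' = 0 := by
    dsimp [D]
    rw [Preadditive.sub_comp, hw₃, Category.assoc, hb₃, reassoc_of% h₃, sub_self]
  obtain ⟨Db, hDb⟩ : ∃ Db : Z₃ ⟶ B₁, gZ ≫ Db = D ≫ sB.r :=
    ⟨hZ.desc _ hD₁, hZ.g_desc _ hD₁⟩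
  have hDb' : gZ ≫ Db ≫ f' = D := by
    have h := sB.id
    dsimp at h
    calc gZ ≫ Db ≫ f' = D ≫ sB.r ≫ f' := by rw [reassoc_of% hDb]
      _ = D ≫ (sB.r ≫ f' + g' ≫ sB.s) := by
        rw [Preadditive.comp_add, ← Category.assoc D g', hD₃, zero_comp, add_zero]
      _ = D := by rw [h, Category.comp_id]
  obtain ⟨e, he⟩ := hfac Db b₀ hb₁ hb₃ hDb'
  refine ⟨b₀ + g ≫ e ≫ f', ?_, ?_, ?_⟩
  · rw [Preadditive.comp_add, hb₁, ← Category.assoc f g, zA, zero_comp, add_zero]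
  · simp only [Preadditive.add_comp, Category.assoc, zB, comp_zero, add_zero, hb₃]
  · rw [Preadditive.comp_add, reassoc_of% h₃, reassoc_of% he, hDb']
    dsimp [D]
    abel

section Lift

variable {S' : ShortComplex C} (φ : S ⟶ S') (T : RDer.SESRes S) (T' : RDer.SESRes S')
  (a : T.I₁.cocomplex ⟶ T'.I₁.cocomplex) (c : T.I₃.cocomplex ⟶ T'.I₃.cocomplex)

def Mid (n : ℕ) : Type v :=
  {b : T.I₂.cocomplex.X n ⟶ T'.I₂.cocomplex.X n //
    T.f.f n ≫ b = a.f n ≫ T'.f.f n ∧ b ≫ T'.g.f n = T.g.f n ≫ c.f n ∧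
      aug T.I₂ n ≫ b ≫ T'.I₂.cocomplex.d n (n + 1) = 0}

lemma aug₃_comp_eq_zero {n : ℕ} {B : C} (D : T.I₃.cocomplex.X n ⟶ B)
    (h : aug T.I₂ n ≫ T.g.f n ≫ D = 0) : aug T.I₃ n ≫ D = 0 := by
  cases n with
  | zero =>
    have := epi_S_g T
    change ι₀ T.I₂ ≫ T.g.f 0 ≫ D = 0 at h
    rw [reassoc_of% (ι₀_comm T.ι_g)] at h
    change ι₀ T.I₃ ≫ D = 0
    rw [← cancel_epi S.g, h, comp_zero]
  | succ n =>
    have := epi_g T n
    change T.I₂.cocomplex.d n (n + 1) ≫ T.g.f (n + 1) ≫ D = 0 at h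
    rw [← T.g.comm_assoc] at h
    change T.I₃.cocomplex.d n (n + 1) ≫ D = 0
    rw [← cancel_epi (T.g.f n), h, comp_zero]

lemma mid_succ {n : ℕ} (m : Mid T T' a c n) :
    ∃ m' : Mid T T' a c (n + 1),
      T.I₂.cocomplex.d n (n + 1) ≫ m'.1 = m.1 ≫ T'.I₂.cocomplex.d n (n + 1) := by
  obtain ⟨b, hb₁, hb₃, hb⟩ := m
  have := mono_f T' (n + 1)
  have := epi_g T n
  have := T'.I₁.injective (n + 1)
  obtain ⟨b', h₁, h₃, h⟩ := exists_mid (split T (n + 1)) (split T' (n + 1)) (split T n).shortExact.exact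
    (a.f (n + 1)) (c.f (n + 1)) (T.I₁.cocomplex.d n (n + 1)) (T.I₂.cocomplex.d n (n + 1))
    (T.I₃.cocomplex.d n (n + 1)) (b ≫ T'.I₂.cocomplex.d n (n + 1)) (T.f.comm n (n + 1))
    (T.g.comm n (n + 1)).symm
    (by rw [reassoc_of% hb₁, T'.f.comm, a.comm_assoc])
    (by rw [Category.assoc, ← T'.g.comm, reassoc_of% hb₃, c.comm])
    (fun D b₀ _ _ hD => by
      have h0 : aug T.I₃ n ≫ D = 0 := by
        apply aug₃_comp_eq_zero T D
        rw [← cancel_mono (T'.f.f (n + 1)), Category.assoc, Category.assoc, zero_comp, hD,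
          Preadditive.comp_sub, hb, reassoc_of% (aug_d T.I₂ n), zero_comp, sub_zero]
      exact ⟨(aug_exact T.I₃ n).descToInjective D h0, (aug_exact T.I₃ n).comp_descToInjective _ _⟩)
  refine ⟨⟨b', h₁, h₃, ?_⟩, h⟩
  change T.I₂.cocomplex.d n (n + 1) ≫ _ = 0
  rw [reassoc_of% h, HomologicalComplex.d_comp_d, comp_zero]

lemma mid_zero (ha : ι₀ T.I₁ ≫ a.f 0 = φ.τ₁ ≫ ι₀ T'.I₁) (hc : ι₀ T.I₃ ≫ c.f 0 = φ.τ₃ ≫ ι₀ T'.I₃)
    (hS : S.Exact) : Nonempty (Mid T T' a c 0) := by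
  have := epi_S_g T
  have := T'.I₁.injective 0
  obtain ⟨b, h₁, h₃, h⟩ := exists_mid (split T 0) (split T' 0) hS
    (a.f 0) (c.f 0) (ι₀ T.I₁) (ι₀ T.I₂) (ι₀ T.I₃) (φ.τ₂ ≫ ι₀ T'.I₂) (ι₀_comm T.ι_f).symm
    (ι₀_comm T.ι_g)
    (by rw [← φ.comm₁₂_assoc, reassoc_of% ha, ι₀_comm T'.ι_f])
    (by rw [Category.assoc, ι₀_comm T'.ι_g, hc, φ.comm₂₃_assoc])
    (fun D _ _ _ _ => ⟨Injective.factorThru D (ι₀ T.I₃), Injective.comp_factorThru _ _⟩)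
  exact ⟨⟨b, h₁, h₃, by
    change ι₀ T.I₂ ≫ _ = 0
    rw [reassoc_of% h, ι₀_d, comp_zero]⟩⟩

include φ in
lemma exists_cxHom (ha : ι₀ T.I₁ ≫ a.f 0 = φ.τ₁ ≫ ι₀ T'.I₁)
    (hc : ι₀ T.I₃ ≫ c.f 0 = φ.τ₃ ≫ ι₀ T'.I₃) (hS : S.Exact) :
    ∃ ψ : T.cx ⟶ T'.cx, ψ.τ₁ = a ∧ ψ.τ₃ = c := by
  obtain ⟨m₀⟩ := mid_zero φ T T' a c ha hc hS
  let ms : ∀ n, Mid T T' a c n := fun n =>
    Nat.rec m₀ (fun k m => (mid_succ T T' a c m).choose) n
  have hms : ∀ n, T.I₂.cocomplex.d n (n + 1) ≫ (ms (n + 1)).1 =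
      (ms n).1 ≫ T'.I₂.cocomplex.d n (n + 1) :=
    fun n => (mid_succ T T' a c (ms n)).choose_spec
  let b : T.I₂.cocomplex ⟶ T'.I₂.cocomplex :=
    { f := fun n => (ms n).1
      comm' := fun i j hij => by
        obtain rfl : i + 1 = j := hij
        exact (hms i).symm }
  refine ⟨ShortComplex.homMk a b c ?_ ?_, rfl, rfl⟩
  · ext n
    exact (ms n).2.1.symm
  · ext n
    exact (ms n).2.2.1

end Lift

section Delta

variable [HasInjectiveResolutions C] {D : Type u'} [Category.{v'} D] [Abelian D]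
  (F : C ⥤ D) [F.Additive]

lemma delta_natural {S' : ShortComplex C} (φ : S ⟶ S') (hS : S.Exact) (T : RDer.SESRes S)
    (T' : RDer.SESRes S') (n₀ n₁ : ℕ) (h : n₀ + 1 = n₁) :
    (F.rightDerived n₀).map φ.τ₃ ≫ T'.delta F n₀ n₁ h =
      T.delta F n₀ n₁ h ≫ (F.rightDerived n₁).map φ.τ₁ := by
  obtain ⟨a, ha⟩ := exists_desc φ.τ₁ T.I₁ T'.I₁
  obtain ⟨c, hc⟩ := exists_desc φ.τ₃ T.I₃ T'.I₃
  obtain ⟨ψ, rfl, rfl⟩ := exists_cxHom φ T T' a c ha hc hS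
  have nat := HomologicalComplex.HomologySequence.δ_naturality
    ((F.mapHomologicalComplex (ComplexShape.up ℕ)).mapShortComplex.map ψ)
    (T.map_shortExact F) (T'.map_shortExact F) n₀ n₁ h
  have e₁ := InjectiveResolution.isoRightDerivedObj_inv_naturality φ.τ₁ T.I₁ T'.I₁ ψ.τ₁ ha F n₁
  have e₃ := InjectiveResolution.isoRightDerivedObj_hom_naturality φ.τ₃ T.I₃ T'.I₃ ψ.τ₃ hc F n₀
  rw [RDer.SESRes.delta, RDer.SESRes.delta]
  calc _ = ((F.rightDerived n₀).map φ.τ₃ ≫ (T'.I₃.isoRightDerivedObj F n₀).hom) ≫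
        (T'.map_shortExact F).δ n₀ n₁ h ≫ (T'.I₁.isoRightDerivedObj F n₁).inv :=
        (Category.assoc _ _ _).symm
    _ = _ := by
      rw [e₃, Category.assoc, Category.assoc]
      congr 1
      refine Eq.trans ?_ (Category.assoc _ _ _).symm
      refine (Category.assoc _ _ _).symm.trans ?_
      refine (congrArg (fun z => z ≫ (T'.I₁.isoRightDerivedObj F n₁).inv) nat.symm).trans ?_
      exact (Category.assoc _ _ _).trans (congrArg (fun z => (T.map_shortExact F).δ n₀ n₁ h ≫ z)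
        e₁.symm)

lemma exact_of_SESRes (T : RDer.SESRes S) : S.Exact := by
  rw [ShortComplex.exact_iff_exact_up_to_refinements]
  intro A x hx
  have := mono_f T 1
  have h1 : (x ≫ ι₀ T.I₂) ≫ T.g.f 0 = 0 := by
    rw [Category.assoc, ι₀_comm T.ι_g, reassoc_of% hx, zero_comp]
  have := mono_f T 0
  let e := (split T 0).shortExact.exact.lift (x ≫ ι₀ T.I₂) h1
  have he : e ≫ T.f.f 0 = x ≫ ι₀ T.I₂ := (split T 0).shortExact.exact.lift_f _ h1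
  have h2 : e ≫ T.I₁.cocomplex.d 0 1 = 0 := by
    rw [← cancel_mono (T.f.f 1), Category.assoc, ← T.f.comm, ← Category.assoc, he, Category.assoc,
      ι₀_d, comp_zero, zero_comp]
  refine ⟨A, 𝟙 A, inferInstance, (ι₀_exact T.I₁).lift e h2, ?_⟩
  rw [← cancel_mono (ι₀ T.I₂), Category.id_comp, Category.assoc, ← ι₀_comm T.ι_f,
    ← Category.assoc, (ι₀_exact T.I₁).lift_f e h2]
  exact he.symm

lemma delta_eq (T T' : RDer.SESRes S) (n₀ n₁ : ℕ) (h : n₀ + 1 = n₁) :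
    T.delta F n₀ n₁ h = T'.delta F n₀ n₁ h := by
  have := delta_natural F (𝟙 S) (exact_of_SESRes T) T T' n₀ n₁ h
  simpa using this.symm

end Delta

end SESResLib

end
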