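import Groth.Agent.SiteBase.DerivedComp
import Mathlib.CategoryTheory.Preadditive.Injective.Preserves
import Mathlib.Algebra.Homology.QuasiIso
import Mathlib.Algebra.Homology.Additive

/-!
# Right derived functors of a composite whose first functor is exact and preserves injectives
-/

universe v₁ v₂ v₃ u₁ u₂ u₃

open CategoryTheory CategoryTheory.Limits

namespace Groth.Agent.SiteBase

variable {A : Type u₁} [Category.{v₁} A] [Abelian A]
  {B : Type u₂} [Category.{v₂} B] [Abelian B]
  {D : Type u₃} [Category.{v₃} D] [Abelian D]
  (E : A ⥤ B) [E.Additive] [PreservesFiniteLimits E] [PreservesFiniteColimits E]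
  [E.PreservesInjectiveObjects]
  (G : B ⥤ D) [G.Additive] (n : ℕ)

/-- The image of an injective resolution. -/
noncomputable def mapResolution {X : A} (I : InjectiveResolution X) :
    InjectiveResolution (E.obj X) where
  cocomplex := (E.mapHomologicalComplex _).obj I.cocomplex
  injective := fun n => Functor.PreservesInjectiveObjects.injective_obj (I.injective n)
  ι := (HomologicalComplex.singleMapHomologicalComplex E (ComplexShape.up ℕ) 0).inv.app X ≫
    (E.mapHomologicalComplex _).map I.ι
  quasiIso := by
    have : QuasiIso ((E.mapHomologicalComplex (ComplexShape.up ℕ)).map I.ι) := inferInstance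
    infer_instance

lemma mapResolution_ι_f_zero {X : A} (I : InjectiveResolution X) :
    (mapResolution E I).ι.f 0 =
      ((HomologicalComplex.singleMapHomologicalComplex E (ComplexShape.up ℕ) 0).inv.app X).f 0 ≫
        E.map (I.ι.f 0) := rfl

variable [EnoughInjectives A] [EnoughInjectives B]

/-- `R^n (E ⋙ G) ≅ E ⋙ R^n G` for an exact functor `E` preserving injectives. -/
noncomputable def rightDerivedPrecompIso : (E ⋙ G).rightDerived n ≅ E ⋙ G.rightDerived n :=
  NatIso.ofComponents
    (fun X => (injectiveResolution X).isoRightDerivedObj (E ⋙ G) n ≪≫
      ((mapResolution E (injectiveResolution X)).isoRightDerivedObj G n).symm)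
    (fun {X Y} f => by
      have hc := InjectiveResolution.desc_commutes_zero f (injectiveResolution Y) (injectiveResolution X)
      let φ := InjectiveResolution.desc f (injectiveResolution Y) (injectiveResolution X)
      let ψ : (mapResolution E (injectiveResolution X)).cocomplex ⟶
          (mapResolution E (injectiveResolution Y)).cocomplex := (E.mapHomologicalComplex _).map φ
      let s := HomologicalComplex.singleMapHomologicalComplex E (ComplexShape.up ℕ) 0
      let M := E.mapHomologicalComplex (ComplexShape.up ℕ)
      have hw : (mapResolution E (injectiveResolution X)).ι ≫ ψ =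
          (CochainComplex.single₀ B).map (E.map f) ≫ (mapResolution E (injectiveResolution Y)).ι := by
        show (s.inv.app X ≫ M.map (injectiveResolution X).ι) ≫ M.map φ =
          (CochainComplex.single₀ B).map (E.map f) ≫ s.inv.app Y ≫ M.map (injectiveResolution Y).ι
        refine (Category.assoc _ _ _).trans ((congrArg (fun t => s.inv.app X ≫ t)
          ((M.map_comp _ _).symm.trans ((congrArg M.map (InjectiveResolution.desc_commutes f
            (injectiveResolution Y) (injectiveResolution X))).trans (M.map_comp _ _)))).trans ?_)
        refine (Category.assoc _ _ _).symm.trans (Eq.trans ?_ (Category.assoc _ _ _))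
        exact congrArg (fun t => t ≫ M.map (injectiveResolution Y).ι) (s.inv.naturality f).symm
      have hψ : (mapResolution E (injectiveResolution X)).ι.f 0 ≫ ψ.f 0 =
          E.map f ≫ (mapResolution E (injectiveResolution Y)).ι.f 0 := by
        refine (HomologicalComplex.comp_f _ _ _).symm.trans ((congrArg (fun t => t.f 0) hw).trans ?_)
        refine (HomologicalComplex.comp_f _ _ _).trans ?_
        exact congrArg (fun t => t ≫ (mapResolution E (injectiveResolution Y)).ι.f 0)
          (CochainComplex.single₀_map_f_zero (E.map f))
      have h1 := InjectiveResolution.isoRightDerivedObj_hom_naturality f _ _ _ hc (E ⋙ G) n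
      have h2 := InjectiveResolution.isoRightDerivedObj_inv_naturality (E.map f) _ _ ψ hψ G n
      refine (Category.assoc _ _ _).symm.trans ((congrArg (fun t => t ≫ _) h1).trans ?_)
      refine (Category.assoc _ _ _).trans (Eq.trans ?_ (Category.assoc _ _ _).symm)
      exact congrArg (fun t => _ ≫ t) h2.symm)

end Groth.Agent.SiteBase
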