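import Groth.Agent.SiteBase.Sections

/-!
# Basic properties of `H^n(U, F)` on a small site
-/

universe u

open CategoryTheory CategoryTheory.Limits Opposite Abelian

namespace Groth.Agent.SiteBase

variable {C : Type u} [SmallCategory C] {J : GrothendieckTopology C}

/-- `H^0(U, F) ≃ F(U)`. -/
noncomputable def huZero (F : Sheaf J AddCommGrpCat.{u}) (U : C) :
    CohSite.HU F 0 U ≃+ F.obj.obj (op U) :=
  (Ext.addEquiv₀ (X := CohCx.freeSheaf J U) (Y := F)).trans (secEquiv J U F)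

lemma huZero_mk₀ (F : Sheaf J AddCommGrpCat.{u}) (U : C) (φ : CohCx.freeSheaf J U ⟶ F) :
    huZero F U (Ext.mk₀ φ) = secEquiv J U F φ := by
  show secEquiv J U F (Ext.addEquiv₀ (Ext.mk₀ φ)) = _
  congr 1
  exact Ext.addEquiv₀.apply_symm_apply φ

instance subsingleton_HU_of_injective (I : Sheaf J AddCommGrpCat.{u}) [Injective I] (U : C) (n : ℕ) :
    Subsingleton (CohSite.HU I (n + 1) U) :=
  subsingleton_of_forall_eq 0 fun (x : Ext (CohCx.freeSheaf J U) I (n + 1)) =>
    Ext.eq_zero_of_injective x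

lemma sections_surjective_of_mono {U V : C} (f : V ⟶ U) [Mono f]
    (I : Sheaf J AddCommGrpCat.{u}) [Injective I] :
    Function.Surjective (I.obj.map f.op).hom := fun s =>
  ⟨secEquiv J U I (Injective.factorThru ((secEquiv J V I).symm s) (CohCx.freeSheafMap J f)), by
    rw [← secEquiv_freeSheafMap, Injective.comp_factorThru, AddEquiv.apply_symm_apply]⟩

section ShortExact

variable {S : ShortComplex (Sheaf J AddCommGrpCat.{u})} (hS : S.ShortExact) (U : C)
include hS

lemma subsingleton_HU_X₁_succ (n : ℕ) (h₂ : Subsingleton (CohSite.HU S.X₂ (n + 2) U))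
    (h₃ : Subsingleton (CohSite.HU S.X₃ (n + 1) U)) :
    Subsingleton (CohSite.HU S.X₁ (n + 2) U) := by
  refine subsingleton_of_forall_eq 0 fun (x : Ext (CohCx.freeSheaf J U) S.X₁ (n + 2)) => ?_
  obtain ⟨y, rfl⟩ := Ext.covariant_sequence_exact₁ (CohCx.freeSheaf J U) hS x
    (h₂.elim _ _) (n₀ := n + 1) rfl
  rw [show y = 0 from h₃.elim _ _, Ext.zero_comp]; rfl

lemma subsingleton_HU_X₃ (n : ℕ) (h₁ : Subsingleton (CohSite.HU S.X₁ (n + 1) U))
    (h₂ : Subsingleton (CohSite.HU S.X₂ n U)) :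
    Subsingleton (CohSite.HU S.X₃ n U) := by
  refine subsingleton_of_forall_eq 0 fun (x : Ext (CohCx.freeSheaf J U) S.X₃ n) => ?_
  obtain ⟨y, rfl⟩ := Ext.covariant_sequence_exact₃ (CohCx.freeSheaf J U) hS x rfl (h₁.elim _ _)
  rw [show y = 0 from h₂.elim _ _, Ext.zero_comp]; rfl

lemma subsingleton_HU_X₂ (n : ℕ) (h₁ : Subsingleton (CohSite.HU S.X₁ n U))
    (h₃ : Subsingleton (CohSite.HU S.X₃ n U)) :
    Subsingleton (CohSite.HU S.X₂ n U) := by
  refine subsingleton_of_forall_eq 0 fun (x : Ext (CohCx.freeSheaf J U) S.X₂ n) => ?_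
  obtain ⟨y, rfl⟩ := Ext.covariant_sequence_exact₂ (CohCx.freeSheaf J U) hS x (h₃.elim _ _)
  rw [show y = 0 from h₁.elim _ _, Ext.zero_comp]; rfl

lemma subsingleton_HU_one_X₁ (h₂ : Subsingleton (CohSite.HU S.X₂ 1 U))
    (hsurj : Function.Surjective (S.g.hom.app (op U)).hom) :
    Subsingleton (CohSite.HU S.X₁ 1 U) := by
  refine subsingleton_of_forall_eq 0 fun (x : Ext (CohCx.freeSheaf J U) S.X₁ 1) => ?_
  obtain ⟨y, rfl⟩ := Ext.covariant_sequence_exact₁ (CohCx.freeSheaf J U) hS x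
    (h₂.elim _ _) (n₀ := 0) rfl
  obtain ⟨φ, rfl⟩ := (Ext.mk₀_bijective (CohCx.freeSheaf J U) S.X₃).2 y
  obtain ⟨t, ht⟩ := hsurj (secEquiv J U S.X₃ φ)
  have hφ : φ = (secEquiv J U S.X₂).symm t ≫ S.g := by
    rw [secEquiv_symm_comp, ht, AddEquiv.symm_apply_apply]
  rw [hφ, ← Ext.mk₀_comp_mk₀, Ext.comp_assoc_of_second_deg_zero, hS.comp_extClass, Ext.comp_zero]; rfl

lemma surjective_sections_of_HU_one (h₁ : Subsingleton (CohSite.HU S.X₁ 1 U)) :
    Function.Surjective (S.g.hom.app (op U)).hom := by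
  intro s
  obtain ⟨y, hy⟩ := Ext.covariant_sequence_exact₃ (CohCx.freeSheaf J U) hS
    (Ext.mk₀ ((secEquiv J U S.X₃).symm s)) (n₁ := 1) rfl (h₁.elim _ _)
  obtain ⟨φ, rfl⟩ := (Ext.mk₀_bijective (CohCx.freeSheaf J U) S.X₂).2 y
  rw [Ext.mk₀_comp_mk₀] at hy
  exact ⟨secEquiv J U S.X₂ φ, by
    rw [← secEquiv_comp, (Ext.mk₀_bijective _ _).1 hy, AddEquiv.apply_symm_apply]⟩

end ShortExact

/-- A short exact sequence `0 ⟶ F ⟶ I ⟶ Q ⟶ 0` with `I` injective. -/
noncomputable def injectiveSES (F : Sheaf J AddCommGrpCat.{u}) :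
    ShortComplex (Sheaf J AddCommGrpCat.{u}) :=
  (Classical.arbitrary (InjectivePresentation F)).shortComplex

lemma injectiveSES_shortExact (F : Sheaf J AddCommGrpCat.{u}) : (injectiveSES F).ShortExact :=
  InjectivePresentation.shortExact_shortComplex _

@[simp] lemma injectiveSES_X₁ (F : Sheaf J AddCommGrpCat.{u}) : (injectiveSES F).X₁ = F := rfl

instance injective_injectiveSES_X₂ (F : Sheaf J AddCommGrpCat.{u}) :
    Injective (injectiveSES F).X₂ :=
  (Classical.arbitrary (InjectivePresentation F)).injective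

/-- Acyclicity criterion by dimension shifting. -/
theorem subsingleton_HU_of_class (P : Sheaf J AddCommGrpCat.{u} → Prop) (S : C → Prop)
    (hcoker : ∀ E : ShortComplex (Sheaf J AddCommGrpCat.{u}), E.ShortExact → P E.X₁ →
      Injective E.X₂ → P E.X₃)
    (hsurj : ∀ E : ShortComplex (Sheaf J AddCommGrpCat.{u}), E.ShortExact → P E.X₁ →
      Injective E.X₂ → ∀ U, S U → Function.Surjective (E.g.hom.app (op U)).hom)
    {F : Sheaf J AddCommGrpCat.{u}} (hF : P F) {U : C} (hU : S U) (n : ℕ) :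
    Subsingleton (CohSite.HU F (n + 1) U) := by
  induction n generalizing F with
  | zero =>
    exact subsingleton_HU_one_X₁ (injectiveSES_shortExact F) U inferInstance
      (hsurj _ (injectiveSES_shortExact F) hF inferInstance U hU)
  | succ n ih =>
    exact subsingleton_HU_X₁_succ (injectiveSES_shortExact F) U n inferInstance
      (ih (hcoker _ (injectiveSES_shortExact F) hF inferInstance))

end Groth.Agent.SiteBase
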