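import Mathlib.CategoryTheory.Abelian.Injective.Ext
import Mathlib.CategoryTheory.Abelian.RightDerived
import Mathlib.Algebra.Homology.ShortComplex.PreservesHomology
import Mathlib.Algebra.Homology.ShortComplex.Ab
import Mathlib.CategoryTheory.Abelian.FunctorCategory

/-!
# Right derived functors of functors of the form `X ↦ Hom(P -, X)`
-/

universe u v w

open CategoryTheory CategoryTheory.Limits Opposite Abelian

namespace Groth.Agent.SiteBase

variable {C : Type u} [SmallCategory C]

lemma exact_of_evaluation (S : ShortComplex (Cᵒᵖ ⥤ AddCommGrpCat.{u}))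
    (h : ∀ U, (S.map ((evaluation Cᵒᵖ AddCommGrpCat.{u}).obj U)).Exact) : S.Exact := by
  rw [S.exact_iff_isZero_homology]
  refine Functor.isZero _ fun U => ?_
  exact IsZero.of_iso ((ShortComplex.exact_iff_isZero_homology _).1 (h U))
    (S.mapHomologyIso ((evaluation Cᵒᵖ AddCommGrpCat.{u}).obj U)).symm

section Generic

variable {K : CochainComplex (Cᵒᵖ ⥤ AddCommGrpCat.{u}) ℕ}

lemma iCycles_app_exact (n : ℕ) (U : Cᵒᵖ) (x : (K.X n).obj U)
    (hx : ((K.d n (n + 1)).app U).hom x = 0) :
    ∃ c, ((K.iCycles n).app U).hom c = x := by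
  have h : (ShortComplex.mk (K.iCycles n) (K.d n (n + 1)) (K.iCycles_d _ _)).Exact :=
    ShortComplex.exact_of_f_is_kernel _ (K.cyclesIsKernel n (n + 1) (by simp))
  have h' := h.map ((evaluation Cᵒᵖ AddCommGrpCat.{u}).obj U)
  rw [ShortComplex.ab_exact_iff] at h'
  exact h' x hx

lemma iCycles_app_injective (n : ℕ) (U : Cᵒᵖ) :
    Function.Injective ((K.iCycles n).app U).hom :=
  (AddCommGrpCat.mono_iff_injective _).1
    (inferInstanceAs (Mono (((evaluation Cᵒᵖ AddCommGrpCat.{u}).obj U).map (K.iCycles n))))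

lemma iCycles_d_apply (n m : ℕ) (U : Cᵒᵖ) (c : (K.cycles n).obj U) :
    ((K.d n m).app U).hom (((K.iCycles n).app U).hom c) = 0 := by
  have h := NatTrans.congr_app (K.iCycles_d n m) U
  exact congrArg (fun α : (K.cycles n).obj U ⟶ (K.X m).obj U => α.hom c) h

lemma toCycles_i_apply (i j : ℕ) (U : Cᵒᵖ) (x : (K.X i).obj U) :
    ((K.iCycles j).app U).hom (((K.toCycles i j).app U).hom x) = ((K.d i j).app U).hom x := by
  have h := NatTrans.congr_app (K.toCycles_i i j) U
  exact congrArg (fun α : (K.X i).obj U ⟶ (K.X j).obj U => α.hom x) h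

end Generic

variable {A : Type v} [Category.{w} A] [Abelian A]

/-- A presentation of a functor `G : A ⥤ (Cᵒᵖ ⥤ Ab)` as `X ↦ Hom(P -, X)`. -/
structure HomPres (P : C ⥤ A) (G : A ⥤ Cᵒᵖ ⥤ AddCommGrpCat.{u}) where
  /-- The identification of `G X` on `U` with morphisms out of `P U`. -/
  σ : ∀ (X : A) (U : C), (P.obj U ⟶ X) ≃+ (G.obj X).obj (op U)
  σ_comp : ∀ {X Y : A} (U : C) (φ : P.obj U ⟶ X) (g : X ⟶ Y),
    σ Y U (φ ≫ g) = ((G.map g).app (op U)).hom (σ X U φ)
  σ_map : ∀ {X : A} {U V : C} (f : V ⟶ U) (φ : P.obj U ⟶ X),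
    σ X V (P.map f ≫ φ) = ((G.obj X).map f.op).hom (σ X U φ)

namespace HomPres

variable {P : C ⥤ A} {G : A ⥤ Cᵒᵖ ⥤ AddCommGrpCat.{u}} [G.Additive] (h : HomPres P G)

lemma σ_symm_comp {X Y : A} (U : C) (s : (G.obj X).obj (op U)) (g : X ⟶ Y) :
    (h.σ X U).symm s ≫ g = (h.σ Y U).symm (((G.map g).app (op U)).hom s) := by
  apply (h.σ Y U).injective
  rw [h.σ_comp, AddEquiv.apply_symm_apply, AddEquiv.apply_symm_apply]

variable [HasExt.{u} A]

/-- The presheaf valued Ext functor `X ↦ Ext^n(P -, X)`. -/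
noncomputable abbrev extPsh (P : C ⥤ A) (n : ℕ) : A ⥤ Cᵒᵖ ⥤ AddCommGrpCat.{u} :=
  Functor.flip (P.op ⋙ extFunctor n)

variable {F : A} (R : InjectiveResolution F) (n : ℕ)

/-- `G` applied to an injective resolution. -/
noncomputable abbrev cx (G : A ⥤ Cᵒᵖ ⥤ AddCommGrpCat.{u}) [G.Additive] {F : A}
    (R : InjectiveResolution F) : CochainComplex (Cᵒᵖ ⥤ AddCommGrpCat.{u}) ℕ :=
  (G.mapHomologicalComplex (ComplexShape.up ℕ)).obj R.cocomplex

/-- The value of a cycle. -/
noncomputable def cycVal (U : C) :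
    ((cx G R).cycles n).obj (op U) →+ (G.obj (R.cocomplex.X n)).obj (op U) :=
  (((cx G R).iCycles n).app (op U)).hom

lemma cycle_d (U : C) (c : ((cx G R).cycles n).obj (op U)) :
    (h.σ _ U).symm (cycVal R n U c) ≫ R.cocomplex.d n (n + 1) = 0 :=
  (h.σ_symm_comp U _ (R.cocomplex.d n (n + 1))).trans
    ((congrArg (h.σ _ U).symm (iCycles_d_apply (K := cx G R) n (n + 1) (op U) c)).trans (map_zero _))

lemma extMk_congr {X : A} {n : ℕ} (f g : X ⟶ R.cocomplex.X n)
    (hf : f ≫ R.cocomplex.d n (n + 1) = 0) (hg : g ≫ R.cocomplex.d n (n + 1) = 0) (e : f = g) :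
    R.extMk f (n + 1) rfl hf = R.extMk g (n + 1) rfl hg := by subst e; rfl

open CochainComplex.HomComplex in
lemma extMk_zero_degree_eq_zero {X : A} (f : X ⟶ R.cocomplex.X 0)
    (hf : f ≫ R.cocomplex.d 0 1 = 0) (e : R.extMk f 1 rfl hf = 0) : f = 0 := by
  rw [← R.extEquivCohomologyClass.apply_eq_iff_eq, InjectiveResolution.extEquivCohomologyClass_extMk,
    InjectiveResolution.extEquivCohomologyClass_zero, CohomologyClass.mk_eq_zero_iff,
    Cocycle.fromSingleMk_mem_coboundaries_iff _ _ _ _ _ (-1) (by omega)] at e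
  obtain ⟨g, hg⟩ := e
  rw [(CochainComplex.isZero_of_isStrictlyGE R.cochainComplex 0 (-1) (by omega)).eq_of_tgt g 0,
    zero_comp] at hg
  exact (Preadditive.IsIso.comp_right_eq_zero f _).1 hg.symm

/-- The Ext class of a cycle. -/
noncomputable def cycExt (U : C) : ((cx G R).cycles n).obj (op U) →+ Ext (P.obj U) F n where
  toFun c := R.extMk ((h.σ _ U).symm (cycVal R n U c)) (n + 1) rfl
    (h.cycle_d R n U c)
  map_zero' := (extMk_congr R _ 0 _ zero_comp (by rw [map_zero, map_zero])).trans (R.extMk_zero _ _)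
  map_add' a b := Eq.trans
    (extMk_congr R _ _ _ (by rw [Preadditive.add_comp, h.cycle_d, h.cycle_d, add_zero])
      (by rw [map_add, map_add]))
    (R.add_extMk _ _ _ _ (h.cycle_d R n U a) (h.cycle_d R n U b)).symm

/-- A cycle gives an Ext class, naturally. -/
noncomputable def cycleToExt : (cx G R).cycles n ⟶ (extPsh P n).obj F where
  app U := AddCommGrpCat.ofHom (h.cycExt R n U.unop)
  naturality U V f := AddCommGrpCat.hom_ext (AddMonoidHom.ext fun c => Eq.trans
    (extMk_congr R _ (P.map f.unop ≫ (h.σ _ U.unop).symm (cycVal R n U.unop c))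
      (h.cycle_d R n V.unop _) (by rw [Category.assoc]; exact (congrArg _ (h.cycle_d R n U.unop c)).trans comp_zero)
      (by
        apply (h.σ _ V.unop).injective
        rw [h.σ_map, AddEquiv.apply_symm_apply, AddEquiv.apply_symm_apply]
        exact congrArg (fun α : ((cx G R).cycles n).obj U ⟶ ((cx G R).X n).obj V => α.hom c)
          (((cx G R).iCycles n).naturality f)))
    (R.mk₀_comp_extMk _ _ rfl (h.cycle_d R n U.unop c) (P.map f.unop)).symm)

lemma cycExt_surjective (U : C) : Function.Surjective (h.cycExt R n U) := by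
  intro α
  obtain ⟨f, hf, rfl⟩ := R.extMk_surjective α (n + 1) rfl
  have hd : ((G.map (R.cocomplex.d n (n + 1))).app (op U)).hom (h.σ _ U f) = 0 :=
    (h.σ_comp U f (R.cocomplex.d n (n + 1))).symm.trans ((congrArg _ hf).trans (map_zero _))
  obtain ⟨c, hc⟩ := iCycles_app_exact (K := cx G R) n (op U) (h.σ _ U f) hd
  exact ⟨c, extMk_congr R _ f (h.cycle_d R n U c) hf
    ((congrArg (h.σ _ U).symm hc).trans (AddEquiv.symm_apply_apply _ f))⟩

lemma cycExt_toCycles (i : ℕ) (U : C) (x : (G.obj (R.cocomplex.X i)).obj (op U)) :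
    h.cycExt R n U ((((cx G R).toCycles i n).app (op U)).hom x) = 0 := by
  have key : (((cx G R).iCycles n).app (op U)).hom ((((cx G R).toCycles i n).app (op U)).hom x) =
      ((G.map (R.cocomplex.d i n)).app (op U)).hom x := toCycles_i_apply (K := cx G R) i n (op U) x
  have hc := h.cycle_d R n U ((((cx G R).toCycles i n).app (op U)).hom x)
  by_cases hi : i + 1 = n
  · refine (R.extMk_eq_zero_iff _ _ rfl hc i hi).2 ⟨(h.σ _ U).symm x, ?_⟩
    exact (h.σ_symm_comp U x (R.cocomplex.d i n)).trans (congrArg (h.σ _ U).symm key.symm)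
  · refine (extMk_congr R _ 0 hc zero_comp ?_).trans (R.extMk_zero _ _)
    refine (congrArg (h.σ _ U).symm (key.trans ?_)).trans (map_zero _)
    rw [R.cocomplex.shape i n (by simpa using hi), G.map_zero]
    rfl

lemma toCycles_cycleToExt (i : ℕ) : (cx G R).toCycles i n ≫ h.cycleToExt R n = 0 :=
  NatTrans.ext (funext fun U => AddCommGrpCat.hom_ext (AddMonoidHom.ext fun x =>
    h.cycExt_toCycles R n i U.unop x))

lemma cycExt_exact (U : C) (c : ((cx G R).cycles n).obj (op U)) (hc : h.cycExt R n U c = 0) :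
    ∃ x, (((cx G R).toCycles ((ComplexShape.up ℕ).prev n) n).app (op U)).hom x = c := by
  rcases n with _ | p
  · refine ⟨0, iCycles_app_injective (K := cx G R) 0 (op U) ?_⟩
    have h0 := extMk_zero_degree_eq_zero R _ (h.cycle_d R 0 U c) hc
    show cycVal R 0 U _ = cycVal R 0 U c
    rw [map_zero, ← (h.σ _ U).apply_symm_apply (cycVal R 0 U c)]
    exact (map_zero _).trans ((congrArg (h.σ (R.cocomplex.X 0) U) h0).trans (map_zero _)).symm
  · obtain ⟨g, hg⟩ := (R.extMk_eq_zero_iff _ _ rfl (h.cycle_d R (p + 1) U c) p rfl).1 hc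
    rw [CochainComplex.prev_nat_succ]
    refine ⟨h.σ _ U g, iCycles_app_injective (K := cx G R) (p + 1) (op U) ?_⟩
    exact (toCycles_i_apply (K := cx G R) p (p + 1) (op U) _).trans
      ((h.σ_comp U g (R.cocomplex.d p (p + 1))).symm.trans
        ((congrArg _ hg).trans (AddEquiv.apply_symm_apply _ _)))

lemma epi_cycleToExt : Epi (h.cycleToExt R n) :=
  have : ∀ U, Epi ((h.cycleToExt R n).app U) := fun U =>
    (AddCommGrpCat.epi_iff_surjective _).2 (h.cycExt_surjective R n U.unop)
  NatTrans.epi_of_epi_app _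

lemma exact_toCycles_cycleToExt :
    (ShortComplex.mk ((cx G R).toCycles ((ComplexShape.up ℕ).prev n) n) (h.cycleToExt R n)
      (h.toCycles_cycleToExt R n _)).Exact :=
  exact_of_evaluation _ fun U => (ShortComplex.ab_exact_iff _).2 fun c hc => h.cycExt_exact R n U.unop c hc

/-- Homology of `G` of an injective resolution is the Ext presheaf. -/
noncomputable def homologyIso :
    (HomologicalComplex.homologyFunctor _ (ComplexShape.up ℕ) n).obj (cx G R) ≅ (extPsh P n).obj F :=
  have := h.epi_cycleToExt R n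
  ((cx G R).homologyIsCokernel _ n rfl).coconePointUniqueUpToIso
    (h.exact_toCycles_cycleToExt R n).gIsCokernel

lemma homologyπ_homologyIso_hom :
    (cx G R).homologyπ n ≫ (h.homologyIso R n).hom = h.cycleToExt R n := by
  have := h.epi_cycleToExt R n
  exact IsColimit.comp_coconePointUniqueUpToIso_hom ((cx G R).homologyIsCokernel _ n rfl)
    (h.exact_toCycles_cycleToExt R n).gIsCokernel WalkingParallelPair.one

lemma cyclesMap_cycleToExt {F' : A} {S : InjectiveResolution F'} {f : F ⟶ F'}
    (φ : InjectiveResolution.Hom R S f) :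
    HomologicalComplex.cyclesMap ((G.mapHomologicalComplex _).map φ.hom) n ≫ h.cycleToExt S n =
      h.cycleToExt R n ≫ (extPsh P n).map f :=
  NatTrans.ext (funext fun U => AddCommGrpCat.hom_ext (AddMonoidHom.ext fun c => by
    refine Eq.trans ?_
      (InjectiveResolution.extMk_comp_mk₀ _ _ rfl (h.cycle_d R n U.unop c) φ).symm
    refine extMk_congr S _ _ (h.cycle_d S n U.unop _) _ ?_
    refine Eq.trans ?_ (h.σ_symm_comp U.unop _ (φ.hom.f n)).symm
    refine congrArg (h.σ _ U.unop).symm ?_
    exact congrArg (fun α : (cx G R).cycles n ⟶ (cx G S).X n => (α.app U).hom c)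
      (HomologicalComplex.cyclesMap_i ((G.mapHomologicalComplex _).map φ.hom) n)))

lemma homologyIso_naturality {F' : A} {S : InjectiveResolution F'} {f : F ⟶ F'}
    (φ : InjectiveResolution.Hom R S f) :
    HomologicalComplex.homologyMap ((G.mapHomologicalComplex _).map φ.hom) n ≫
        (h.homologyIso S n).hom = (h.homologyIso R n).hom ≫ (extPsh P n).map f := by
  apply (cancel_epi ((cx G R).homologyπ n)).1
  refine (HomologicalComplex.homologyπ_naturality_assoc ((G.mapHomologicalComplex _).map φ.hom) n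
    (h.homologyIso S n).hom).trans ?_
  refine Eq.trans ?_ (Category.assoc _ _ _)
  refine Eq.trans ?_ (congrArg (· ≫ _) (h.homologyπ_homologyIso_hom R n)).symm
  refine Eq.trans ?_ (h.cyclesMap_cycleToExt R n φ)
  exact congrArg (_ ≫ ·) (h.homologyπ_homologyIso_hom S n)

variable [EnoughInjectives A]

include h in
/-- `R^n G ≅ Ext^n(P -, -)`. -/
noncomputable def rightDerivedIso (n : ℕ) : G.rightDerived n ≅ extPsh P n :=
  NatIso.ofComponents
    (fun F => (injectiveResolution F).isoRightDerivedObj G n ≪≫ h.homologyIso (injectiveResolution F) n)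
    (fun {F F'} f => by
      let φ : InjectiveResolution.Hom (injectiveResolution F) (injectiveResolution F') f :=
        { hom := InjectiveResolution.desc f (injectiveResolution F') (injectiveResolution F)
          ι_f_zero_comp_hom_f_zero := by
            rw [InjectiveResolution.desc_commutes_zero, CochainComplex.single₀_map_f_zero]; rfl }
      show (G.rightDerived n).map f ≫ ((injectiveResolution F').isoRightDerivedObj G n).hom ≫
        (h.homologyIso (injectiveResolution F') n).hom =
        (((injectiveResolution F).isoRightDerivedObj G n).hom ≫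
          (h.homologyIso (injectiveResolution F) n).hom) ≫ (extPsh P n).map f
      refine (Category.assoc _ _ _).symm.trans ((congrArg (· ≫ _)
        (InjectiveResolution.isoRightDerivedObj_hom_naturality f _ _ φ.hom
          ((InjectiveResolution.desc_commutes_zero f _ _)) G n)).trans ?_)
      refine (Category.assoc _ _ _).trans (Eq.trans ?_ (Category.assoc _ _ _).symm)
      congr 1
      exact h.homologyIso_naturality _ n φ)

end HomPres

end Groth.Agent.SiteBase
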