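import Groth.Agent.SiteBase.Cohom
import Groth.Agent.SiteBase.DerivedExt

/-!
# Cohomology presheaves as right derived functors of `sheafToPresheaf`
-/

universe u

open CategoryTheory CategoryTheory.Limits Opposite Abelian

namespace Groth.Agent.SiteBase

variable {C : Type u} [SmallCategory C] {J : GrothendieckTopology C}

instance additive_sheafToPresheaf : (sheafToPresheaf J AddCommGrpCat.{u}).Additive where

/-- The free abelian sheaf functor `U ↦ freeSheaf J U`. -/
noncomputable abbrev freeSheafFunctor (J : GrothendieckTopology C) : C ⥤ Sheaf J AddCommGrpCat.{u} :=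
  yoneda ⋙ (Functor.whiskeringRight _ _ _).obj AddCommGrpCat.free.{u} ⋙ presheafToSheaf J AddCommGrpCat.{u}

/-- Sections are morphisms out of free sheaves. -/
noncomputable def sheafHomPres (J : GrothendieckTopology C) :
    HomPres (freeSheafFunctor J) (sheafToPresheaf J AddCommGrpCat.{u}) where
  σ F U := secEquiv J U F
  σ_comp U φ g := secEquiv_comp U φ g
  σ_map f φ := secEquiv_freeSheafMap f φ

/-- The `n`th right derived functor of `sheafToPresheaf` is the cohomology presheaf functor. -/
noncomputable def rightDerivedIsoCohomology (n : ℕ) :
    (sheafToPresheaf J AddCommGrpCat.{u}).rightDerived n ≅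
      Sheaf.cohomologyPresheafFunctor.{u} J n :=
  (sheafHomPres J).rightDerivedIso n

end Groth.Agent.SiteBase
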