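import Groth.Agent.SiteBase.NerveCech
import Groth.Agent.QCoh.ToSheaf
import Mathlib.Algebra.Category.ModuleCat.Sheaf.Abelian
import Mathlib.Algebra.Category.ModuleCat.Presheaf.Free
import Mathlib.Algebra.Category.ModuleCat.Presheaf.Sheafification

/-!
# Injective sheaves of modules are totally acyclic
-/

universe u

open CategoryTheory CategoryTheory.Limits Opposite Simplicial AlgebraicTopology

namespace Groth.Agent.SiteBase

section Evaluation

variable {S : SimplicialObject.Augmented (Type u)} {A : Type*} [Category A] [Abelian A]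

/-- Nerve-like simplicial sets have exact chains for every functor to an abelian category. -/
theorem IsNerveLike.exactAt_mapChain (h : IsNerveLike S) (Φ : Type u ⥤ A) (n : ℕ) :
    (AlternatingFaceMapComplex.obj (((SimplicialObject.whiskering _ _).obj Φ).obj S.left)).ExactAt
      (n + 1) := by
  obtain ⟨ed⟩ := h.nonempty_extraDegeneracy
  let T := ((SimplicialObject.Augmented.whiskering _ _).obj Φ).obj (rangeAug S)
  have : QuasiIso ((AlternatingFaceMapComplex.ε (C := A)).app T) :=
    (inferInstance : QuasiIso (ed.map Φ).homotopyEquiv.hom)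
  exact (quasiIsoAt_iff_exactAt' ((AlternatingFaceMapComplex.ε (C := A)).app T) (n + 1)
    (ChainComplex.exactAt_succ_single_obj _ _)).1 inferInstance

end Evaluation

variable {C : Type u} [SmallCategory C] {J : GrothendieckTopology C} (R : Sheaf J RingCat.{u})

/-- The free module on a sheaf of sets. -/
noncomputable abbrev freeModSh : Sheaf J (Type u) ⥤ SheafOfModules.{u} R :=
  sheafToPresheaf J (Type u) ⋙ PresheafOfModules.free R.obj ⋙
    PresheafOfModules.sheafification (𝟙 R.obj)

variable (X : SimplicialObject.Augmented (Sheaf J (Type u)))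

/-- The chain of free modules on a simplicial sheaf of sets. -/
noncomputable abbrev freeModChain : ChainComplex (SheafOfModules.{u} R) ℕ :=
  AlternatingFaceMapComplex.obj (((SimplicialObject.whiskering _ _).obj (freeModSh R)).obj X.left)

variable {X}

theorem exactAt_freeModChain (hX : SheafNerveLike X) (n : ℕ) :
    (freeModChain R X).ExactAt (n + 1) := by
  let G := PresheafOfModules.free R.obj ⋙ PresheafOfModules.toPresheaf R.obj
  let P := AlternatingFaceMapComplex.obj
    (((SimplicialObject.whiskering _ _).obj (sheafToPresheaf J (Type u) ⋙ G)).obj X.left)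
  have hP : (P.sc (n + 1)).Exact := exact_of_evaluation_op _ fun U => by
    have h := (hX.isNerveLike_augAt U).exactAt_mapChain
      (ModuleCat.free (R.obj.obj (op U)) ⋙ forget₂ _ AddCommGrpCat.{u}) n
    have e : (((evaluation Cᵒᵖ AddCommGrpCat.{u}).obj (op U)).mapHomologicalComplex _).obj P =
        AlternatingFaceMapComplex.obj (((SimplicialObject.whiskering _ _).obj
          (ModuleCat.free (R.obj.obj (op U)) ⋙ forget₂ _ AddCommGrpCat.{u})).obj (augAt X U).left) :=
      Functor.congr_obj (map_alternatingFaceMapComplex ((evaluation Cᵒᵖ AddCommGrpCat.{u}).obj (op U)))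
        (((SimplicialObject.whiskering _ _).obj (sheafToPresheaf J (Type u) ⋙ G)).obj X.left)
    rw [← e] at h
    exact h
  have hS : (((presheafToSheaf J AddCommGrpCat.{u}).mapHomologicalComplex _).obj P).ExactAt (n + 1) :=
    hP.map (presheafToSheaf J AddCommGrpCat.{u})
  have e : ((SheafOfModules.toSheaf R).mapHomologicalComplex _).obj (freeModChain R X) =
      ((presheafToSheaf J AddCommGrpCat.{u}).mapHomologicalComplex _).obj P :=
    (Functor.congr_obj (map_alternatingFaceMapComplex (SheafOfModules.toSheaf R))
      (((SimplicialObject.whiskering _ _).obj (freeModSh R)).obj X.left)).trans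
      (Functor.congr_obj (map_alternatingFaceMapComplex (presheafToSheaf J AddCommGrpCat.{u}))
        (((SimplicialObject.whiskering _ _).obj (sheafToPresheaf J (Type u) ⋙ G)).obj X.left)).symm
  rw [← e] at hS
  exact (((freeModChain R X).sc (n + 1)).exact_map_iff_of_faithful (SheafOfModules.toSheaf R)).1 hS

variable {R}

/-- The adjunction between free presheaves of modules on presheaves of sets and sheaves of modules. -/
noncomputable def freeModAdj (R : Sheaf J RingCat.{u}) :
    PresheafOfModules.free R.obj ⋙ PresheafOfModules.sheafification (𝟙 R.obj) ⊣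
      (SheafOfModules.forget R ⋙ PresheafOfModules.restrictScalars (𝟙 R.obj)) ⋙
        PresheafOfModules.toPresheaf R.obj ⋙
          (Functor.whiskeringRight _ _ _).obj (CategoryTheory.forget AddCommGrpCat.{u}) :=
  (PresheafOfModules.freeAdjunction R.obj).comp (PresheafOfModules.sheafificationAdjunction (𝟙 R.obj))

/-- Maps out of free modules are maps out of free abelian sheaves. -/
noncomputable def freeModEquiv (K : Sheaf J (Type u)) (M : SheafOfModules.{u} R) :
    ((freeModSh R).obj K ⟶ M) ≃ (freeSh K ⟶ (SheafOfModules.toSheaf R).obj M) :=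
  ((freeModAdj R).homEquiv K.obj M).trans (freeEquiv J K.obj ((SheafOfModules.toSheaf R).obj M)).symm

lemma freeModEquiv_naturality {K K' : Sheaf J (Type u)} (a : K ⟶ K') {M : SheafOfModules.{u} R}
    (φ : (freeModSh R).obj K' ⟶ M) :
    freeModEquiv K M ((freeModSh R).map a ≫ φ) =
      (Sheaf.composeAndSheafify J AddCommGrpCat.free.{u}).map a ≫ freeModEquiv K' M φ := by
  apply (freeEquiv J K.obj ((SheafOfModules.toSheaf R).obj M)).injective
  refine (Equiv.apply_symm_apply _ _).trans ?_
  refine ((freeModAdj R).homEquiv_naturality_left a.hom φ).trans ?_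
  exact (congrArg (a.hom ≫ ·) (Equiv.apply_symm_apply _ _).symm).trans
    (freeEquiv_precomp a.hom (freeModEquiv K' M φ)).symm

lemma freeModEquiv_eq (K : Sheaf J (Type u)) {M : SheafOfModules.{u} R}
    (φ : (freeModSh R).obj K ⟶ M) :
    freeModEquiv K M φ = freeModEquiv K _ (𝟙 _) ≫ (SheafOfModules.toSheaf R).map φ := by
  apply (freeEquiv J K.obj ((SheafOfModules.toSheaf R).obj M)).injective
  refine (Equiv.apply_symm_apply _ _).trans ?_
  have h := (congrArg ((freeModAdj R).homEquiv K.obj M) (Category.id_comp φ).symm).trans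
    ((freeModAdj R).homEquiv_naturality_right (𝟙 ((freeModSh R).obj K)) φ)
  refine h.trans ?_
  exact (congrArg (· ≫ _) (Equiv.apply_symm_apply _ _).symm).trans
    (freeEquiv_comp (freeModEquiv K ((freeModSh R).obj K) (𝟙 _)) ((SheafOfModules.toSheaf R).map φ)).symm

/-- The same, as an additive equivalence. -/
noncomputable def freeModAddEquiv (K : Sheaf J (Type u)) (M : SheafOfModules.{u} R) :
    ((freeModSh R).obj K ⟶ M) ≃+ (freeSh K ⟶ (SheafOfModules.toSheaf R).obj M) :=
  { freeModEquiv K M with
    map_add' := fun a b => by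
      show freeModEquiv K M (a + b) = freeModEquiv K M a + freeModEquiv K M b
      rw [freeModEquiv_eq, freeModEquiv_eq K a, freeModEquiv_eq K b, Functor.map_add,
        Preadditive.comp_add] }

theorem cechKill_toSheaf_injective (hX : SheafNerveLike X) (I : SheafOfModules.{u} R) [Injective I] :
    CechKill ((SheafOfModules.toSheaf R).obj I) X := by
  let e := fun n : ℕ => freeModAddEquiv (X.left.obj (op ⦋n⦌)) I
  have hd : ∀ (n : ℕ) (b : (freeModChain R X).X n ⟶ I),
      e (n + 1) ((freeModChain R X).d (n + 1) n ≫ b) = (freeShChain X).d (n + 1) n ≫ e n b := by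
    intro n b
    rw [AlternatingFaceMapComplex.obj_d_eq, AlternatingFaceMapComplex.obj_d_eq]
    refine (congrArg (e (n + 1)) (Preadditive.sum_comp (C := SheafOfModules.{u} R) _ _ b)).trans ?_
    refine (map_sum _ _ _).trans ?_
    refine Eq.trans ?_ (Preadditive.sum_comp (C := Sheaf J AddCommGrpCat.{u}) _ _ (e n b)).symm
    refine Finset.sum_congr rfl fun i _ => ?_
    refine (congrArg (e (n + 1)) (Preadditive.zsmul_comp (C := SheafOfModules.{u} R) _ _ _)).trans ?_
    refine (map_zsmul _ _ _).trans ?_
    refine Eq.trans ?_ (Preadditive.zsmul_comp (C := Sheaf J AddCommGrpCat.{u}) _ _ _).symm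
    exact congrArg (_ • ·) (freeModEquiv_naturality (X.left.δ i) b)
  intro n w hw
  obtain ⟨v, rfl⟩ := (e (n + 1)).surjective w
  have h := exactAt_freeModChain R hX n
  rw [HomologicalComplex.exactAt_iff' _ (n + 2) (n + 1) n (by simp) (by simp)] at h
  have hv : (freeModChain R X).d (n + 2) (n + 1) ≫ v = 0 :=
    (e (n + 2)).injective (((hd (n + 1) v).trans hw).trans (map_zero _).symm)
  exact ⟨e n (h.descToInjective v hv), (hd n _).symm.trans (congrArg _ (h.comp_descToInjective v hv))⟩

variable (R) in
/-- Injective sheaves of modules are totally acyclic. -/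
theorem isTotallyAcyclic_toSheaf_injective (I : SheafOfModules.{u} R) [Injective I] :
    CohCx.IsTotallyAcyclic ((SheafOfModules.toSheaf R).obj I) :=
  isTotallyAcyclic_of_cechKill _ fun _ _ f _ => cechKill_toSheaf_injective (sheafNerveLike_nerve f) I

end Groth.Agent.SiteBase
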