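import Groth.Agent.SiteBase.Cohom

/-!
# `H^n(U, F)` as a plain Ext group

Comparing `CohSite.HU F n U` with `Ext (freeSheaf J U) F n` definitionally is expensive for the kernel
(it unfolds the abelian structure of the category of sheaves), so it is done once here.
-/

universe u

open CategoryTheory CategoryTheory.Limits Opposite Abelian

namespace Groth.Agent.SiteBase

variable {C : Type u} [SmallCategory C] {J : GrothendieckTopology C}

/-- Ext groups out of the free sheaf on `U`. -/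
abbrev EH (F : Sheaf J AddCommGrpCat.{u}) (n : ℕ) (U : C) : Type u :=
  Ext (CohCx.freeSheaf J U) F n

/-- `H^n(U, F)` is the Ext group out of the free sheaf. -/
noncomputable def huEquiv (F : Sheaf J AddCommGrpCat.{u}) (n : ℕ) (U : C) :
    CohSite.HU F n U ≃+ EH F n U where
  toFun x := x
  invFun x := x
  left_inv _ := rfl
  right_inv _ := rfl
  map_add' _ _ := rfl

lemma subsingleton_HU_iff (F : Sheaf J AddCommGrpCat.{u}) (n : ℕ) (U : C) :
    Subsingleton (CohSite.HU F n U) ↔ Subsingleton (EH F n U) :=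
  (huEquiv F n U).toEquiv.subsingleton_congr

lemma eh_eq_zero_of_HU {F : Sheaf J AddCommGrpCat.{u}} {n : ℕ} {U : C}
    (h : Subsingleton (CohSite.HU F n U)) (x : EH F n U) : x = 0 :=
  ((subsingleton_HU_iff F n U).1 h).elim _ _

lemma subsingleton_EH_of_injective (I : Sheaf J AddCommGrpCat.{u}) [Injective I] (U : C) (n : ℕ) :
    Subsingleton (EH I (n + 1) U) :=
  Ext.subsingleton_of_injective _ _ n

section ShortExact

variable {S : ShortComplex (Sheaf J AddCommGrpCat.{u})} (hS : S.ShortExact) (U : C)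
include hS

lemma subsingleton_EH_X₃ (n : ℕ) (h₁ : Subsingleton (EH S.X₁ (n + 1) U))
    (h₂ : Subsingleton (EH S.X₂ n U)) : Subsingleton (EH S.X₃ n U) := by
  refine subsingleton_of_forall_eq 0 fun x => ?_
  obtain ⟨y, rfl⟩ := Ext.covariant_sequence_exact₃ (CohCx.freeSheaf J U) hS x rfl (h₁.elim _ _)
  rw [show y = 0 from h₂.elim _ _, Ext.zero_comp]

lemma subsingleton_EH_X₁_succ (n : ℕ) (h₂ : Subsingleton (EH S.X₂ (n + 2) U))
    (h₃ : Subsingleton (EH S.X₃ (n + 1) U)) : Subsingleton (EH S.X₁ (n + 2) U) := by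
  refine subsingleton_of_forall_eq 0 fun x => ?_
  obtain ⟨y, rfl⟩ := Ext.covariant_sequence_exact₁ (CohCx.freeSheaf J U) hS x
    (h₂.elim _ _) (n₀ := n + 1) rfl
  rw [show y = 0 from h₃.elim _ _, Ext.zero_comp]

lemma sections_surjective_of_EH_one (h₁ : Subsingleton (EH S.X₁ 1 U)) :
    Function.Surjective (S.g.hom.app (op U)).hom := by
  intro s
  obtain ⟨y, hy⟩ := Ext.covariant_sequence_exact₃ (CohCx.freeSheaf J U) hS
    (Ext.mk₀ ((secEquiv J U S.X₃).symm s)) (n₁ := 1) rfl (h₁.elim _ _)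
  obtain ⟨φ, rfl⟩ := (Ext.mk₀_bijective (CohCx.freeSheaf J U) S.X₂).2 y
  rw [Ext.mk₀_comp_mk₀] at hy
  exact ⟨secEquiv J U S.X₂ φ, by
    rw [← secEquiv_comp, (Ext.mk₀_bijective _ _).1 hy, AddEquiv.apply_symm_apply]⟩

end ShortExact

end Groth.Agent.SiteBase
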