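import Groth.Agent.SiteBase.CechCtx
import Groth.Agent.SiteBase.EH
import Mathlib.Algebra.Homology.ShortComplex.Ab
import Mathlib.GroupTheory.QuotientGroup.Basic

/-!
# Cech cohomology and cohomology: acyclic covers, Cartan's criterion
-/

universe u

open CategoryTheory CategoryTheory.Limits Opposite Abelian

namespace Groth.Agent.SiteBase

variable {C : Type u} [SmallCategory C] {J : GrothendieckTopology C}
variable {D : Type u} [SmallCategory D] [HasFiniteProducts D]
  {Φ : D ⥤ C} {U : C} {ι : Type u} {Y : ι → D}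

/-- A Cech complex of a sheaf. -/
noncomputable abbrev cechCx (Φ : D ⥤ C) (Y : ι → D) (F : Sheaf J AddCommGrpCat.{u}) :
    CochainComplex AddCommGrpCat.{u} ℕ :=
  (cechComplexFunctor Y).obj (Φ.op ⋙ F.obj)

variable (J) in
/-- Injective sheaves have no higher Cech cohomology for the family. -/
def InjAcyclic (Φ : D ⥤ C) (Y : ι → D) : Prop :=
  ∀ (I : Sheaf J AddCommGrpCat.{u}), Injective I → ∀ p, (cechCx Φ Y I).ExactAt (p + 1)

lemma exists_preimage_of_exactAt {K : CochainComplex AddCommGrpCat.{u} ℕ} {p : ℕ}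
    (h : K.ExactAt (p + 1)) (x : K.X (p + 1)) (hx : (K.d (p + 1) (p + 2)).hom x = 0) :
    ∃ y, (K.d p (p + 1)).hom y = x := by
  rw [HomologicalComplex.exactAt_iff' _ p (p + 1) (p + 2) (by simp) (by simp),
    ShortComplex.ab_exact_iff] at h
  exact h x hx

lemma d_d_apply {K : CochainComplex AddCommGrpCat.{u} ℕ} (p q r : ℕ) (x : K.X p) :
    (K.d q r).hom ((K.d p q).hom x) = 0 :=
  ConcreteCategory.congr_hom (K.d_comp_d p q r) x

section Gluing

variable (c : CechCtx Φ U Y)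

/-- If the first Cech cohomology of the kernel vanishes for a family of local lifts, a section lifts. -/
theorem exists_lift_of_local_lifts {E : ShortComplex (Sheaf J AddCommGrpCat.{u})} (hE : E.ShortExact)
    (hc : c.sieve ∈ J U) (h : (cechCx Φ Y E.X₁).ExactAt 1) (s : E.X₃.obj.obj (op U))
    (hs : ∀ i, ∃ t, (E.g.hom.app (op (Φ.obj (Y i)))).hom t = (E.X₃.obj.map (c.s i).op).hom s) :
    ∃ t, (E.g.hom.app (op U)).hom t = s := by
  choose t ht using hs
  obtain ⟨x, hx⟩ := exists_comp0 Y (Φ.op ⋙ E.X₂.obj) t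
  let fN := fun n => (((cechComplexFunctor Y).map (Functor.whiskerLeft Φ.op E.f.hom)).f n).hom
  obtain ⟨x₃, hx₃⟩ := exists_res0 c E.X₃ s
  have hg : ((((cechComplexFunctor Y).map (Functor.whiskerLeft Φ.op E.g.hom)).f 0).hom x) = x₃ :=
    comp0_ext Y _ (funext fun i => (comp0_map Y _ _ x i).trans
      ((congrArg _ (congrFun hx i)).trans ((ht i).trans (congrFun hx₃ i).symm)))
  have hgd : ∀ i, (E.g.hom.app (op (Φ.obj (∏ᶜ fun k => Y (i k))))).hom
      (cev Y (Φ.op ⋙ E.X₂.obj) 1 i (((cechCx Φ Y E.X₂).d 0 1).hom x)) = 0 := fun i => by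
    refine (cev_map Y (Φ.op ⋙ E.X₂.obj) (Functor.whiskerLeft Φ.op E.g.hom) 1 i _).symm.trans ?_
    refine (congrArg (cev Y _ 1 i) (ConcreteCategory.congr_hom
      (((cechComplexFunctor Y).map (Functor.whiskerLeft Φ.op E.g.hom)).comm 0 1) x).symm).trans ?_
    refine (congrArg (fun z => cev Y (Φ.op ⋙ E.X₃.obj) 1 i
      (((cechCx Φ Y E.X₃).d 0 1).hom z)) hg).trans ?_
    exact (congrArg (cev Y _ 1 i) (res0_cocycle c hx₃)).trans (map_zero _)
  choose w hw using fun i => sections_exact hE _ _ (hgd i)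
  obtain ⟨y, hy⟩ := exists_cev Y (Φ.op ⋙ E.X₁.obj) (n := 1) w
  have hfy : fN 1 y = ((cechCx Φ Y E.X₂).d 0 1).hom x :=
    cev_ext Y _ fun i => (cev_map Y _ _ 1 i y).trans ((congrArg _ (hy i)).trans (hw i))
  have hdy : ((cechCx Φ Y E.X₁).d 1 2).hom y = 0 := by
    refine cev_ext Y _ fun i => sections_f_injective hE _ ?_
    rw [map_zero, map_zero]
    refine (cev_map Y (Φ.op ⋙ E.X₁.obj) (Functor.whiskerLeft Φ.op E.f.hom) 2 i _).symm.trans ?_
    refine (congrArg (cev Y _ 2 i) (ConcreteCategory.congr_hom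
      (((cechComplexFunctor Y).map (Functor.whiskerLeft Φ.op E.f.hom)).comm 1 2) y).symm).trans ?_
    refine (congrArg (fun z => cev Y (Φ.op ⋙ E.X₂.obj) 2 i (((cechCx Φ Y E.X₂).d 1 2).hom z)) hfy).trans ?_
    exact (congrArg (cev Y _ 2 i) (d_d_apply 0 1 2 x)).trans (map_zero _)
  obtain ⟨b, hb⟩ := exists_preimage_of_exactAt h y hdy
  have hx' : ((cechCx Φ Y E.X₂).d 0 1).hom (x - fN 0 b) = 0 := by
    rw [map_sub, sub_eq_zero, ← hfy, ← hb]
    exact (ConcreteCategory.congr_hom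
      (((cechComplexFunctor Y).map (Functor.whiskerLeft Φ.op E.f.hom)).comm 0 1) b).symm
  obtain ⟨t', ht'⟩ := exists_glue c hc _ hx'
  refine ⟨t', res0_injective c hc fun i => ?_⟩
  refine (ConcreteCategory.congr_hom (E.g.hom.naturality (c.s i).op) t').symm.trans ?_
  refine (congrArg (E.g.hom.app (op (Φ.obj (Y i)))).hom (ht' i)).trans ?_
  have hsub : comp0 Y (Φ.op ⋙ E.X₂.obj) (x - fN 0 b) i = t i - (E.f.hom.app (op (Φ.obj (Y i)))).hom
      (comp0 Y (Φ.op ⋙ E.X₁.obj) b i) := by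
    rw [show t i = comp0 Y (Φ.op ⋙ E.X₂.obj) x i from (congrFun hx i).symm]
    refine Eq.trans ?_ (congrArg (fun z => comp0 Y (Φ.op ⋙ E.X₂.obj) x i - z)
      (comp0_map Y (Φ.op ⋙ E.X₁.obj) (Functor.whiskerLeft Φ.op E.f.hom) b i))
    simp only [comp0, map_sub]
    rfl
  rw [hsub, map_sub, ht, sub_eq_self]
  exact ConcreteCategory.congr_hom (NatTrans.congr_app (congrArg (fun φ : E.X₁ ⟶ E.X₃ => φ.hom) E.zero) _) _

end Gluing

section LES

variable {E : ShortComplex (Sheaf J AddCommGrpCat.{u})}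

lemma exactAt_X₃ (hS : (cechSES Φ Y E).ShortExact) (p : ℕ)
    (h₁ : (cechCx Φ Y E.X₁).ExactAt (p + 2)) (h₂ : (cechCx Φ Y E.X₂).ExactAt (p + 1)) :
    (cechCx Φ Y E.X₃).ExactAt (p + 1) := by
  rw [HomologicalComplex.exactAt_iff_isZero_homology] at h₁ h₂ ⊢
  exact (hS.homology_exact₃ (p + 1) (p + 2) rfl).isZero_X₂ (h₂.eq_of_src _ _) (h₁.eq_of_tgt _ _)

lemma δ_bijective (hS : (cechSES Φ Y E).ShortExact) (p : ℕ)
    (h : ∀ p, (cechCx Φ Y E.X₂).ExactAt (p + 1)) :
    Nonempty ((cechCx Φ Y E.X₃).homology (p + 1) ≅ (cechCx Φ Y E.X₁).homology (p + 2)) := by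
  have h₁ : Mono (hS.δ (p + 1) (p + 2) rfl) :=
    (hS.homology_exact₃ (p + 1) (p + 2) rfl).mono_g
      (((HomologicalComplex.exactAt_iff_isZero_homology _ _).1 (h p)).eq_of_src _ _)
  have h₂ : Epi (hS.δ (p + 1) (p + 2) rfl) :=
    (hS.homology_exact₁ (p + 1) (p + 2) rfl).epi_f
      (((HomologicalComplex.exactAt_iff_isZero_homology _ _).1 (h (p + 1))).eq_of_tgt _ _)
  have := isIso_of_mono_of_epi (hS.δ (p + 1) (p + 2) rfl)
  exact ⟨@asIso _ _ _ _ (hS.δ (p + 1) (p + 2) rfl) this⟩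

end LES

/-- An iso of quotients of the same group. -/
lemma nonempty_addEquiv_of_surjective' {A B B' : Type*} [AddCommGroup A] [AddCommGroup B]
    [AddCommGroup B'] (a : A →+ B) (c : A →+ B') (ha : Function.Surjective a)
    (hc : Function.Surjective c) (h : ∀ x, a x = 0 ↔ c x = 0) : Nonempty (B ≃+ B') := by
  have hk : a.ker = c.ker := AddSubgroup.ext h
  exact ⟨((QuotientAddGroup.quotientKerEquivOfSurjective a ha).symm.trans
    (QuotientAddGroup.quotientAddEquivOfEq hk)).trans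
    (QuotientAddGroup.quotientKerEquivOfSurjective c hc)⟩

section H0

variable (c : CechCtx Φ U Y)

/-- Restriction of sections, as a morphism into degree zero cochains. -/
noncomputable def res0Hom (F : Sheaf J AddCommGrpCat.{u}) :
    F.obj.obj (op U) ⟶ (cechCx Φ Y F).X 0 :=
  Pi.lift fun i : Fin 1 → ι => F.obj.map (Φ.map (Pi.π (fun k => Y (i k)) 0) ≫ c.s (i 0)).op

lemma comp0_res0Hom (F : Sheaf J AddCommGrpCat.{u}) (t : F.obj.obj (op U)) :
    comp0 Y (Φ.op ⋙ F.obj) ((res0Hom c F).hom t) = fun i => (F.obj.map (c.s i).op).hom t := by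
  obtain ⟨x, hx⟩ := exists_res0 c F t
  have : (res0Hom c F).hom t = x := cev_ext Y _ fun i => by
    rw [cev_zero_eq Y _ x i, hx]
    refine (ConcreteCategory.congr_hom (Pi.lift_π (fun i : Fin 1 → ι =>
      F.obj.map (Φ.map (Pi.π (fun k => Y (i k)) 0) ≫ c.s (i 0)).op) i) t).trans ?_
    exact map_op_comp_apply F.obj _ _ t
  rw [this, hx]

lemma res0Hom_d (F : Sheaf J AddCommGrpCat.{u}) : res0Hom c F ≫ (cechCx Φ Y F).d 0 1 = 0 :=
  AddCommGrpCat.hom_ext (AddMonoidHom.ext fun t => res0_cocycle c (comp0_res0Hom c F t))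

/-- Sections give degree zero cohomology classes. -/
noncomputable def toH0Hom (F : Sheaf J AddCommGrpCat.{u}) :
    F.obj.obj (op U) ⟶ (cechCx Φ Y F).homology 0 :=
  (cechCx Φ Y F).liftCycles (res0Hom c F) 1 (by simp) (res0Hom_d c F) ≫ (cechCx Φ Y F).homologyπ 0

/-- Sections give degree zero cohomology classes, as an additive map. -/
noncomputable def toH0 (F : Sheaf J AddCommGrpCat.{u}) :
    F.obj.obj (op U) →+ (cechCx Φ Y F).homology 0 := (toH0Hom c F).hom

lemma toH0_bijective (F : Sheaf J AddCommGrpCat.{u}) (hc : c.sieve ∈ J U) :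
    Function.Bijective (toH0 c F) := by
  let K := cechCx Φ Y F
  have hiso : IsIso (K.homologyπ 0) := K.isIso_homologyπ _ 0 rfl (by simp)
  have hπ : Function.Bijective (K.homologyπ 0).hom := ConcreteCategory.bijective_of_isIso _
  have hi : ∀ t, (K.iCycles 0).hom ((K.liftCycles (res0Hom c F) 1 (by simp) (res0Hom_d c F)).hom t) =
      (res0Hom c F).hom t := fun t =>
    ConcreteCategory.congr_hom (K.liftCycles_i (res0Hom c F) 1 (by simp) (res0Hom_d c F)) t
  constructor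
  · intro a b hab
    have h1 : (K.liftCycles (res0Hom c F) 1 (by simp) (res0Hom_d c F)).hom a =
        (K.liftCycles (res0Hom c F) 1 (by simp) (res0Hom_d c F)).hom b := hπ.1 hab
    have h' : (res0Hom c F).hom a = (res0Hom c F).hom b := by rw [← hi a, ← hi b, h1]
    have h'' := congrArg (comp0 Y (Φ.op ⋙ F.obj)) h'
    rw [comp0_res0Hom, comp0_res0Hom] at h''
    exact res0_injective c hc fun i => congrFun h'' i
  · intro z
    obtain ⟨w, rfl⟩ := hπ.2 z
    obtain ⟨t, ht⟩ := exists_glue c hc ((K.iCycles 0).hom w)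
      (ConcreteCategory.congr_hom (K.iCycles_d 0 1) w)
    refine ⟨t, congrArg (K.homologyπ 0).hom ?_⟩
    refine (AddCommGrpCat.mono_iff_injective (K.iCycles 0)).1 (inferInstance : Mono (K.iCycles 0)) ?_
    refine (hi t).trans ?_
    exact comp0_ext Y _ ((comp0_res0Hom c F t).trans (funext ht))

lemma toH0_natural {F G : Sheaf J AddCommGrpCat.{u}} (g : F ⟶ G) (t : F.obj.obj (op U)) :
    (HomologicalComplex.homologyMap ((cechComplexFunctor Y).map (Functor.whiskerLeft Φ.op g.hom)) 0).hom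
        (toH0 c F t) = toH0 c G ((g.hom.app (op U)).hom t) := by
  let φ : cechCx Φ Y F ⟶ cechCx Φ Y G := (cechComplexFunctor Y).map (Functor.whiskerLeft Φ.op g.hom)
  have h : res0Hom c F ≫ φ.f 0 = g.hom.app (op U) ≫ res0Hom c G :=
    AddCommGrpCat.hom_ext (AddMonoidHom.ext fun s => comp0_ext Y _ (funext fun i => by
      refine (comp0_map Y _ _ _ i).trans ?_
      refine (congrArg _ (congrFun (comp0_res0Hom c F s) i)).trans ?_
      refine Eq.trans ?_ (congrFun (comp0_res0Hom c G _) i).symm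
      exact ConcreteCategory.congr_hom (g.hom.naturality (c.s i).op) s))
  have h' : toH0Hom c F ≫ HomologicalComplex.homologyMap φ 0 = g.hom.app (op U) ≫ toH0Hom c G := by
    simp only [toH0Hom, Category.assoc, HomologicalComplex.homologyπ_naturality]
    rw [← Category.assoc, ← Category.assoc]
    congr 1
    rw [← cancel_mono ((cechCx Φ Y G).iCycles 0)]
    simp only [Category.assoc, HomologicalComplex.cyclesMap_i, HomologicalComplex.liftCycles_i,
      HomologicalComplex.liftCycles_i_assoc]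
    exact h
  exact ConcreteCategory.congr_hom h' t

end H0

/-- The connecting map out of sections. -/
noncomputable def secδ {E : ShortComplex (Sheaf J AddCommGrpCat.{u})} (hE : E.ShortExact) (U : C) :
    E.X₃.obj.obj (op U) →+ Ext (CohCx.freeSheaf J U) E.X₁ 1 :=
  AddMonoidHom.mk'
    (fun x => (Ext.mk₀ ((secEquiv J U E.X₃).symm x)).comp hE.extClass (zero_add 1))
    (fun x y => by rw [map_add, Ext.mk₀_add, Ext.add_comp])

lemma secδ_eq_zero_iff {E : ShortComplex (Sheaf J AddCommGrpCat.{u})} (hE : E.ShortExact) (U : C)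
    (x : E.X₃.obj.obj (op U)) :
    secδ hE U x = 0 ↔ ∃ t, (E.g.hom.app (op U)).hom t = x := by
  constructor
  · intro hx
    obtain ⟨y, hy⟩ := Ext.covariant_sequence_exact₃ (CohCx.freeSheaf J U) hE _ rfl hx
    obtain ⟨φ, rfl⟩ := (Ext.mk₀_bijective _ _).2 y
    rw [Ext.mk₀_comp_mk₀] at hy
    refine ⟨secEquiv J U E.X₂ φ, ?_⟩
    rw [← secEquiv_comp, (Ext.mk₀_bijective _ _).1 hy, AddEquiv.apply_symm_apply]
  · rintro ⟨t, rfl⟩
    show (Ext.mk₀ _).comp hE.extClass (zero_add 1) = 0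
    rw [← secEquiv_symm_comp, ← Ext.mk₀_comp_mk₀, Ext.comp_assoc_of_second_deg_zero, hE.comp_extClass,
      Ext.comp_zero]

lemma secδ_surjective {E : ShortComplex (Sheaf J AddCommGrpCat.{u})} (hE : E.ShortExact) (U : C)
    (h : Subsingleton (EH E.X₂ 1 U)) : Function.Surjective (secδ hE U) := by
  intro z
  obtain ⟨y, hy⟩ := Ext.covariant_sequence_exact₁ (CohCx.freeSheaf J U) hE z (h.elim _ _) (n₀ := 0) rfl
  obtain ⟨φ, rfl⟩ := (Ext.mk₀_bijective _ _).2 y
  exact ⟨secEquiv J U E.X₃ φ, by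
    show (Ext.mk₀ _).comp hE.extClass (zero_add 1) = z
    rw [AddEquiv.symm_apply_apply]; exact hy⟩

lemma conn_bijective {E : ShortComplex (Sheaf J AddCommGrpCat.{u})} (hE : E.ShortExact) [Injective E.X₂]
    (U : C) (p : ℕ) :
    Function.Bijective (hE.extClass.postcomp (CohCx.freeSheaf J U) rfl :
      Ext (CohCx.freeSheaf J U) E.X₃ (p + 1) →+ Ext (CohCx.freeSheaf J U) E.X₁ (p + 1 + 1)) := by
  refine ⟨(injective_iff_map_eq_zero _).2 fun x hx => ?_, fun z =>
    Ext.covariant_sequence_exact₁ _ hE z ((subsingleton_EH_of_injective E.X₂ U (p + 1)).elim _ _) rfl⟩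
  obtain ⟨y, rfl⟩ := Ext.covariant_sequence_exact₃ _ hE x rfl hx
  have h0 : Subsingleton (EH E.X₂ (p + 1) U) := subsingleton_EH_of_injective E.X₂ U p
  rw [show y = 0 from h0.elim _ _, Ext.zero_comp]

/-- The connecting isomorphism. -/
noncomputable def connEquiv {E : ShortComplex (Sheaf J AddCommGrpCat.{u})} (hE : E.ShortExact)
    [Injective E.X₂] (U : C) (p : ℕ) :
    EH E.X₃ (p + 1) U ≃+ EH E.X₁ (p + 1 + 1) U :=
  AddEquiv.ofBijective
    (hE.extClass.postcomp (CohCx.freeSheaf J U) rfl :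
      Ext (CohCx.freeSheaf J U) E.X₃ (p + 1) →+ Ext (CohCx.freeSheaf J U) E.X₁ (p + 1 + 1))
    (conn_bijective hE U p)

lemma δ_toH0_eq_zero_iff (c : CechCtx Φ U Y) (hc : c.sieve ∈ J U)
    {E : ShortComplex (Sheaf J AddCommGrpCat.{u})} (hS : (cechSES Φ Y E).ShortExact)
    (x : E.X₃.obj.obj (op U)) :
    (hS.δ 0 1 rfl).hom (toH0 c E.X₃ x) = 0 ↔ ∃ t, (E.g.hom.app (op U)).hom t = x := by
  constructor
  · intro hx
    obtain ⟨w, hw⟩ := (ShortComplex.ab_exact_iff _).1 (hS.homology_exact₃ 0 1 rfl) (toH0 c E.X₃ x) hx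
    obtain ⟨t, rfl⟩ := (toH0_bijective c E.X₂ hc).2 w
    exact ⟨t, (toH0_bijective c E.X₃ hc).1 ((toH0_natural c E.g t).symm.trans hw)⟩
  · rintro ⟨t, rfl⟩
    exact (congrArg (hS.δ 0 1 rfl).hom (toH0_natural c E.g t).symm).trans
      (ConcreteCategory.congr_hom (hS.comp_δ 0 1 rfl) _)

lemma cech_one_addEquiv (c : CechCtx Φ U Y) (hc : c.sieve ∈ J U) (hinj : InjAcyclic J Φ Y)
    {E : ShortComplex (Sheaf J AddCommGrpCat.{u})} (hE : E.ShortExact) (hI : Injective E.X₂)
    (hS : (cechSES Φ Y E).ShortExact) :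
    Nonempty ((cechCx Φ Y E.X₁).homology 1 ≃+ EH E.X₁ 1 U) := by
  have hepi : Function.Surjective (hS.δ 0 1 rfl).hom :=
    (AddCommGrpCat.epi_iff_surjective _).1 ((hS.homology_exact₁ 0 1 rfl).epi_f
      (((HomologicalComplex.exactAt_iff_isZero_homology _ _).1 (hinj E.X₂ hI 0)).eq_of_tgt _ _))
  refine nonempty_addEquiv_of_surjective' ((hS.δ 0 1 rfl).hom.comp (toH0 c E.X₃))
    (secδ hE U) (hepi.comp (toH0_bijective c E.X₃ hc).2)
    (secδ_surjective hE U (subsingleton_EH_of_injective E.X₂ U 0)) fun x => ?_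
  exact (δ_toH0_eq_zero_iff c hc hS x).trans (secδ_eq_zero_iff hE U x).symm

/-- Cech cohomology computes Ext out of the free sheaf for an acyclic cover. -/
theorem nonempty_cech_addEquiv_EH (c : CechCtx Φ U Y) (hc : c.sieve ∈ J U)
    (hinj : InjAcyclic J Φ Y) (p : ℕ) : ∀ (F : Sheaf J AddCommGrpCat.{u}),
    (∀ (n : ℕ) (a : Fin (n + 1) → ι) (q : ℕ),
      Subsingleton (EH F (q + 1) (Φ.obj (∏ᶜ fun k => Y (a k))))) →
    Nonempty ((cechCx Φ Y F).homology p ≃+ EH F p U) := by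
  induction p with
  | zero => exact fun F _ => ⟨(AddEquiv.ofBijective (toH0 c F) (toH0_bijective c F hc)).symm.trans
      ((secEquiv J U F).symm.trans Ext.addEquiv₀.symm)⟩
  | succ p ih =>
    suffices H : ∀ E : ShortComplex (Sheaf J AddCommGrpCat.{u}), E.ShortExact → Injective E.X₂ →
        (∀ (n : ℕ) (a : Fin (n + 1) → ι) (q : ℕ),
          Subsingleton (EH E.X₁ (q + 1) (Φ.obj (∏ᶜ fun k => Y (a k))))) →
        Nonempty ((cechCx Φ Y E.X₁).homology (p + 1) ≃+ EH E.X₁ (p + 1) U) from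
      fun F hF => by
        obtain ⟨E, hE, hI, rfl⟩ : ∃ E : ShortComplex (Sheaf J AddCommGrpCat.{u}),
            E.ShortExact ∧ Injective E.X₂ ∧ E.X₁ = F :=
          ⟨injectiveSES F, injectiveSES_shortExact F, inferInstance, injectiveSES_X₁ F⟩
        exact H E hE hI hF
    intro E hE hI hF
    have hS : (cechSES Φ Y E).ShortExact := cechSES_shortExact Φ Y hE fun n i =>
      sections_surjective_of_EH_one hE _ (hF n i 0)
    rcases p with _ | p
    · exact cech_one_addEquiv c hc hinj hE hI hS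
    · obtain ⟨e₁⟩ := δ_bijective hS p (hinj E.X₂ hI)
      obtain ⟨e₂⟩ := ih E.X₃ fun n a q => subsingleton_EH_X₃ hE _ (q + 1) (hF n a (q + 1))
        (subsingleton_EH_of_injective E.X₂ _ q)
      exact ⟨e₁.addCommGroupIsoToAddEquiv.symm.trans (e₂.trans (connEquiv hE U p))⟩

/-- Cech cohomology computes cohomology for an acyclic cover. -/
theorem nonempty_cech_addEquiv_HU (c : CechCtx Φ U Y) (hc : c.sieve ∈ J U)
    (hinj : InjAcyclic J Φ Y) (p : ℕ) (F : Sheaf J AddCommGrpCat.{u})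
    (h : ∀ (n : ℕ) (a : Fin (n + 1) → ι) (q : ℕ),
      Subsingleton (CohSite.HU F (q + 1) (Φ.obj (∏ᶜ fun k => Y (a k))))) :
    Nonempty ((cechCx Φ Y F).homology p ≃+ CohSite.HU F p U) :=
  (nonempty_cech_addEquiv_EH c hc hinj p F fun n a q => (subsingleton_HU_iff F _ _).1 (h n a q)).map
    fun e => e.trans (huEquiv F p U).symm

end Groth.Agent.SiteBase
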