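import Groth.Agent.SiteBase.Cech
import Groth.Agent.SiteBase.Cohom
import Mathlib.CategoryTheory.Sites.IsSheafFor
import Mathlib.Algebra.Homology.HomologicalComplexAbelian
import Mathlib.Algebra.Homology.HomologySequence

/-!
# Cech complexes of sheaves: degree zero, exactness, gluing
-/

universe u

open CategoryTheory CategoryTheory.Limits Opposite

namespace Groth.Agent.SiteBase

variable {C : Type u} [SmallCategory C] {D : Type u} [SmallCategory D] [HasFiniteProducts D]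

/-- A family in `D` sitting over `U` via `Φ : D ⥤ C`, in which products play the role of fibre
products over `U`. -/
structure CechCtx (Φ : D ⥤ C) (U : C) {ι : Type u} (Y : ι → D) where
  /-- the structure maps -/
  s : ∀ i, Φ.obj (Y i) ⟶ U
  comm : ∀ (i : Fin 2 → ι), Φ.map (Pi.π (fun k => Y (i k)) 0) ≫ s (i 0) =
    Φ.map (Pi.π (fun k => Y (i k)) 1) ≫ s (i 1)
  fact : ∀ (i : Fin 2 → ι) {W : C} (a : W ⟶ Φ.obj (Y (i 0))) (b : W ⟶ Φ.obj (Y (i 1))),
    a ≫ s (i 0) = b ≫ s (i 1) → ∃ k : W ⟶ Φ.obj (∏ᶜ fun k => Y (i k)),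
      k ≫ Φ.map (Pi.π (fun k => Y (i k)) 0) = a ∧ k ≫ Φ.map (Pi.π (fun k => Y (i k)) 1) = b

variable {Φ : D ⥤ C} {U : C} {ι : Type u} {Y : ι → D}

/-- The sieve generated by the family. -/
def CechCtx.sieve (c : CechCtx Φ U Y) : Sieve U := Sieve.ofArrows (fun i => Φ.obj (Y i)) c.s

lemma map_op_comp_apply {E : Type u} [SmallCategory E] (G : Eᵒᵖ ⥤ AddCommGrpCat.{u}) {A B B' : E}
    (f : A ⟶ B) (g : B ⟶ B') (x : G.obj (op B')) :
    (G.map (f ≫ g).op).hom x = (G.map f.op).hom ((G.map g.op).hom x) :=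
  ConcreteCategory.congr_hom (G.map_comp g.op f.op) x

section Deg0

variable (Y) (P : Dᵒᵖ ⥤ AddCommGrpCat.{u})

/-- The components of a degree zero cochain. -/
noncomputable def comp0 (x : ((cechComplexFunctor Y).obj P).X 0) (i : ι) : P.obj (op (Y i)) :=
  (P.map (Pi.lift (fun _ : Fin 1 => 𝟙 (Y i))).op).hom (cev Y P 0 (fun _ => i) x)

lemma cev_zero_eq (x : ((cechComplexFunctor Y).obj P).X 0) (i : Fin 1 → ι) :
    cev Y P 0 i x = (P.map (Pi.π (fun k => Y (i k)) 0).op).hom (comp0 Y P x (i 0)) := by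
  obtain ⟨k, rfl⟩ : ∃ k, i = fun _ => k := ⟨i 0, funext fun j => by rw [Subsingleton.elim j 0]⟩
  refine Eq.trans ?_ (ConcreteCategory.congr_hom (P.map_comp (Pi.lift (fun _ : Fin 1 => 𝟙 (Y k))).op
    (Pi.π (fun _ : Fin 1 => Y k) 0).op) (cev Y P 0 (fun _ => k) x))
  rw [← op_comp, show Pi.π (fun _ : Fin 1 => Y k) 0 ≫ Pi.lift (fun _ : Fin 1 => 𝟙 (Y k)) = 𝟙 _ from
    Pi.hom_ext _ _ fun j => by rw [Subsingleton.elim j 0]; simp]
  simp

lemma exists_comp0 (t : ∀ i, P.obj (op (Y i))) : ∃ x, comp0 Y P x = t := by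
  obtain ⟨x, hx⟩ := exists_cev Y P (n := 0) fun i => (P.map (Pi.π (fun k => Y (i k)) 0).op).hom (t (i 0))
  refine ⟨x, funext fun i => ?_⟩
  rw [comp0, hx]
  refine (ConcreteCategory.congr_hom (P.map_comp (Pi.π (fun _ : Fin 1 => Y i) 0).op
    (Pi.lift (fun _ : Fin 1 => 𝟙 (Y i))).op) (t i)).symm.trans ?_
  rw [← op_comp, show Pi.lift (fun _ : Fin 1 => 𝟙 (Y i)) ≫ Pi.π (fun _ : Fin 1 => Y i) 0 = 𝟙 _ by simp]
  simp

lemma comp0_ext {x y : ((cechComplexFunctor Y).obj P).X 0} (h : comp0 Y P x = comp0 Y P y) : x = y :=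
  cev_ext Y P fun i => by rw [cev_zero_eq, cev_zero_eq, h]

lemma cev_d_zero (x : ((cechComplexFunctor Y).obj P).X 0) (i : Fin 2 → ι) :
    cev Y P 1 i ((((cechComplexFunctor Y).obj P).d 0 1).hom x) =
      (P.map (Pi.π (fun k => Y (i k)) 1).op).hom (comp0 Y P x (i 1)) -
        (P.map (Pi.π (fun k => Y (i k)) 0).op).hom (comp0 Y P x (i 0)) := by
  have key : ∀ j : Fin 2, (P.map (tmap Y i j.succAbove).op).hom (cev Y P 0 (i ∘ j.succAbove) x) =
      (P.map (Pi.π (fun k => Y (i k)) (j.succAbove 0)).op).hom (comp0 Y P x (i (j.succAbove 0))) := by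
    intro j
    rw [cev_zero_eq]
    refine (ConcreteCategory.congr_hom (P.map_comp _ _) _).symm.trans ?_
    rw [← op_comp]
    exact congrArg (fun g => (P.map g.op).hom (comp0 Y P x (i (j.succAbove 0))))
      (Pi.lift_π (fun k => Pi.π (fun k => Y (i k)) (j.succAbove k)) (0 : Fin 1))
  rw [cev_d, Fin.sum_univ_two, key, key]
  simp [sub_eq_add_neg, Fin.succAbove]
  rfl

lemma d_zero_eq_zero_iff (x : ((cechComplexFunctor Y).obj P).X 0) :
    (((cechComplexFunctor Y).obj P).d 0 1).hom x = 0 ↔ ∀ i : Fin 2 → ι,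
      (P.map (Pi.π (fun k => Y (i k)) 0).op).hom (comp0 Y P x (i 0)) =
        (P.map (Pi.π (fun k => Y (i k)) 1).op).hom (comp0 Y P x (i 1)) := by
  constructor
  · intro h i
    have := cev_d_zero Y P x i
    rw [h, map_zero] at this
    exact (sub_eq_zero.1 this.symm).symm
  · intro h
    exact cev_ext Y P fun i => by rw [cev_d_zero, map_zero, h i, sub_self]

lemma comp0_map {Q : Dᵒᵖ ⥤ AddCommGrpCat.{u}} (φ : P ⟶ Q) (x : ((cechComplexFunctor Y).obj P).X 0)
    (i : ι) : comp0 Y Q ((((cechComplexFunctor Y).map φ).f 0).hom x) i =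
      (φ.app (op (Y i))).hom (comp0 Y P x i) := by
  rw [comp0, cev_map]
  exact (ConcreteCategory.congr_hom (φ.naturality _) _).symm

end Deg0

section Sheaf

variable {J : GrothendieckTopology C} (c : CechCtx Φ U Y) (F : Sheaf J AddCommGrpCat.{u})

/-- Restriction of sections over `U` to a degree zero cochain. -/
lemma exists_res0 (t : F.obj.obj (op U)) :
    ∃ x, comp0 Y (Φ.op ⋙ F.obj) x = fun i => (F.obj.map (c.s i).op).hom t :=
  exists_comp0 Y (Φ.op ⋙ F.obj) _

variable {F}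

lemma isSheafFor_sieve (hc : c.sieve ∈ J U) :
    Presieve.IsSheafFor (F.obj ⋙ CategoryTheory.forget AddCommGrpCat.{u})
      (Presieve.ofArrows (fun i => Φ.obj (Y i)) c.s) := by
  rw [Presieve.isSheafFor_iff_generate]
  exact (isSheaf_iff_isSheaf_of_type _ _).1 ((sheafCompose J (CategoryTheory.forget AddCommGrpCat.{u})).obj F).property _ hc

lemma res0_injective (hc : c.sieve ∈ J U) {t t' : F.obj.obj (op U)}
    (h : ∀ i, (F.obj.map (c.s i).op).hom t = (F.obj.map (c.s i).op).hom t') : t = t' := by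
  refine (isSheafFor_sieve c (F := F) hc).isSeparatedFor.ext fun W f hf => ?_
  obtain ⟨i⟩ := hf
  exact h i

/-- Degree zero cocycles glue. -/
lemma exists_glue (hc : c.sieve ∈ J U) (x : ((cechComplexFunctor Y).obj (Φ.op ⋙ F.obj)).X 0)
    (hx : (((cechComplexFunctor Y).obj (Φ.op ⋙ F.obj)).d 0 1).hom x = 0) :
    ∃ t : F.obj.obj (op U), ∀ i, (F.obj.map (c.s i).op).hom t = comp0 Y (Φ.op ⋙ F.obj) x i := by
  rw [d_zero_eq_zero_iff] at hx
  have h := (Presieve.isSheafFor_arrows_iff _ _).1 (isSheafFor_sieve c (F := F) hc)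
    (fun i => comp0 Y (Φ.op ⋙ F.obj) x i) ?_
  · obtain ⟨t, ht, -⟩ := h
    exact ⟨t, ht⟩
  · intro i j Z a b hab
    obtain ⟨k, hk₀, hk₁⟩ := c.fact ![i, j] a b hab
    have h' := congrArg (F.obj.map k.op).hom (hx ![i, j])
    change (F.obj.map a.op).hom _ = (F.obj.map b.op).hom _
    rw [← hk₀, ← hk₁]
    exact ((map_op_comp_apply F.obj k _ _).trans h').trans (map_op_comp_apply F.obj k _ _).symm

lemma res0_cocycle {t : F.obj.obj (op U)} {x : ((cechComplexFunctor Y).obj (Φ.op ⋙ F.obj)).X 0}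
    (hx : comp0 Y (Φ.op ⋙ F.obj) x = fun i => (F.obj.map (c.s i).op).hom t) :
    (((cechComplexFunctor Y).obj (Φ.op ⋙ F.obj)).d 0 1).hom x = 0 := by
  rw [d_zero_eq_zero_iff]
  intro i
  rw [hx]
  refine (ConcreteCategory.congr_hom (F.obj.map_comp (c.s (i 0)).op
    (Φ.map (Pi.π (fun k => Y (i k)) 0)).op) t).symm.trans ?_
  refine Eq.trans ?_ (ConcreteCategory.congr_hom (F.obj.map_comp (c.s (i 1)).op
    (Φ.map (Pi.π (fun k => Y (i k)) 1)).op) t)
  rw [← op_comp, ← op_comp, c.comm]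

end Sheaf

section SES

variable (Φ) (Y) {J : GrothendieckTopology C}
  (E : ShortComplex (Sheaf J AddCommGrpCat.{u}))

/-- The Cech complexes of a short complex of sheaves. -/
noncomputable def cechSES : ShortComplex (CochainComplex AddCommGrpCat.{u} ℕ) :=
  ShortComplex.mk ((cechComplexFunctor Y).map (Functor.whiskerLeft Φ.op E.f.hom))
    ((cechComplexFunctor Y).map (Functor.whiskerLeft Φ.op E.g.hom)) (by
      ext n x
      refine cev_ext Y _ fun i => ?_
      show cev Y (Φ.op ⋙ E.X₃.obj) n i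
        ((((cechComplexFunctor Y).map (Functor.whiskerLeft Φ.op E.g.hom)).f n).hom
        ((((cechComplexFunctor Y).map (Functor.whiskerLeft Φ.op E.f.hom)).f n).hom x)) =
          cev Y (Φ.op ⋙ E.X₃.obj) n i 0
      rw [cev_map, cev_map, map_zero]
      exact ConcreteCategory.congr_hom (NatTrans.congr_app (congrArg (fun φ : E.X₁ ⟶ E.X₃ => φ.hom) E.zero) _)
        _)

variable {E}

lemma sections_f_injective (hE : E.ShortExact) (W : C) :
    Function.Injective (E.f.hom.app (op W)).hom := by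
  intro a b hab
  have : Mono E.f := hE.mono_f
  refine (secEquiv J W E.X₁).symm.injective ?_
  rw [← cancel_mono E.f, secEquiv_symm_comp, secEquiv_symm_comp, hab]

lemma sections_exact (hE : E.ShortExact) (W : C) (x : E.X₂.obj.obj (op W))
    (hx : (E.g.hom.app (op W)).hom x = 0) : ∃ y, (E.f.hom.app (op W)).hom y = x := by
  have : Mono E.f := hE.mono_f
  have h0 : (secEquiv J W E.X₂).symm x ≫ E.g = 0 := by rw [secEquiv_symm_comp, hx, map_zero]
  refine ⟨secEquiv J W E.X₁ (hE.exact.lift _ h0), ?_⟩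
  rw [← secEquiv_comp, hE.exact.lift_f, AddEquiv.apply_symm_apply]

lemma cechSES_shortExact (hE : E.ShortExact)
    (hsurj : ∀ (n : ℕ) (i : Fin (n + 1) → ι),
      Function.Surjective (E.g.hom.app (op (Φ.obj (∏ᶜ fun k => Y (i k))))).hom) :
    (cechSES Φ Y E).ShortExact := by
  refine HomologicalComplex.shortExact_of_degreewise_shortExact _ fun n => ?_
  have hm : Mono (((cechComplexFunctor Y).map (Functor.whiskerLeft Φ.op E.f.hom)).f n) :=
    (AddCommGrpCat.mono_iff_injective _).2 fun a b hab => cev_ext Y _ fun i =>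
      sections_f_injective hE _ (by
        have := congrArg (cev Y (Φ.op ⋙ E.X₂.obj) n i) hab
        rwa [cev_map, cev_map] at this)
  have he : Epi (((cechComplexFunctor Y).map (Functor.whiskerLeft Φ.op E.g.hom)).f n) :=
    (AddCommGrpCat.epi_iff_surjective _).2 fun z => by
      choose t ht using fun i => hsurj n i (cev Y (Φ.op ⋙ E.X₃.obj) n i z)
      obtain ⟨x, hx⟩ := exists_cev Y (Φ.op ⋙ E.X₂.obj) t
      exact ⟨x, cev_ext Y _ fun i => by rw [cev_map, hx]; exact ht i⟩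
  refine ShortComplex.ShortExact.mk' ?_ hm he
  rw [ShortComplex.ab_exact_iff]
  intro x hx
  choose t ht using fun i => sections_exact hE _ (cev Y (Φ.op ⋙ E.X₂.obj) n i x) (by
    have := congrArg (cev Y (Φ.op ⋙ E.X₃.obj) n i) hx
    exact (cev_map Y _ _ n i x).symm.trans (this.trans (map_zero _)))
  obtain ⟨y, hy⟩ := exists_cev Y (Φ.op ⋙ E.X₁.obj) t
  exact ⟨y, cev_ext Y _ fun i => (cev_map Y _ _ n i y).trans ((congrArg _ (hy i)).trans (ht i))⟩

end SES

end Groth.Agent.SiteBase
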