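import Mathlib.Algebra.Homology.ShortComplex.ExactFunctor

/-!
# Left exact functors preserving epimorphisms are exact
-/

universe v v' u u'

open CategoryTheory CategoryTheory.Limits

namespace Groth.Agent.SiteBase

theorem preservesFiniteColimits_of_preservesEpis {A : Type u} [Category.{v} A] [Abelian A] {B : Type u'}
    [Category.{v'} B] [Abelian B] (F : A ⥤ B) [F.Additive] [PreservesFiniteLimits F]
    [F.PreservesEpimorphisms] : PreservesFiniteColimits F :=
  (Functor.preservesFiniteColimits_iff_forall_exact_map_and_epi F).2 fun S hS => by
    have := hS.epi_g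
    exact ⟨((Functor.preservesFiniteLimits_iff_forall_exact_map_and_mono F).1 inferInstance S hS).1,
      inferInstanceAs (Epi (F.map S.g))⟩

end Groth.Agent.SiteBase
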