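import Groth.Prelude.Def_CohTop
import Groth.Agent.SiteBase.Top
import Groth.Agent.SiteBase.RightExact
import Mathlib.Topology.Sheaves.Skyscraper
import Mathlib.Topology.Sheaves.Functors
import Mathlib.Topology.Sheaves.Abelian
import Mathlib.CategoryTheory.Adjunction.FullyFaithful

/-!
Abelian sheaves and closed embeddings.
-/

set_option autoImplicit false

universe u

open CategoryTheory CategoryTheory.Limits TopologicalSpace Opposite TopCat Topology

noncomputable section

namespace Groth.Agent.ClosedEmb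

variable {Z X : TopCat.{u}}

lemma map_eq {C : Type*} [Category C] (P : (Opens Z)ᵒᵖ ⥤ C) {a b c d : (Opens Z)ᵒᵖ}
    (p : a ⟶ b) (q : b ⟶ d) (r : a ⟶ c) (s : c ⟶ d) : P.map p ≫ P.map q = P.map r ≫ P.map s := by
  rw [← P.map_comp, ← P.map_comp]
  rfl

lemma map_id' {C : Type*} [Category C] (P : (Opens Z)ᵒᵖ ⥤ C) {a : (Opens Z)ᵒᵖ} (p : a ⟶ a) :
    P.map p = 𝟙 _ := by
  rw [show p = 𝟙 a from rfl, P.map_id]

theorem push_full {f : Z ⟶ X} (hf : IsInducing f) : (CohTop.push f).Full := by
  have h := hf.map_functorObj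
  refine ⟨fun {F G} η => ?_⟩
  let α : F.1 ⟶ G.1 :=
    { app := fun U => F.1.map (eqToHom (h U.unop)).op ≫ η.1.app (op (hf.functorObj U.unop)) ≫
        G.1.map (eqToHom (h U.unop).symm).op
      naturality := fun U V g => by
        let k := (hf.functor.map g.unop).op
        have nat : F.1.map ((Opens.map f).map k.unop).op ≫ η.1.app (op (hf.functorObj V.unop)) =
            η.1.app (op (hf.functorObj U.unop)) ≫ G.1.map ((Opens.map f).map k.unop).op :=
          η.1.naturality k
        calc F.1.map g ≫ F.1.map (eqToHom (h V.unop)).op ≫ η.1.app (op (hf.functorObj V.unop)) ≫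
              G.1.map (eqToHom (h V.unop).symm).op
            = (F.1.map g ≫ F.1.map (eqToHom (h V.unop)).op) ≫ η.1.app (op (hf.functorObj V.unop)) ≫
              G.1.map (eqToHom (h V.unop).symm).op := (Category.assoc _ _ _).symm
          _ = (F.1.map (eqToHom (h U.unop)).op ≫ F.1.map ((Opens.map f).map k.unop).op) ≫
              η.1.app (op (hf.functorObj V.unop)) ≫ G.1.map (eqToHom (h V.unop).symm).op :=
            congrArg (fun z => z ≫ η.1.app (op (hf.functorObj V.unop)) ≫
              G.1.map (eqToHom (h V.unop).symm).op) (map_eq F.1 _ _ _ _)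
          _ = F.1.map (eqToHom (h U.unop)).op ≫ (F.1.map ((Opens.map f).map k.unop).op ≫
              η.1.app (op (hf.functorObj V.unop))) ≫ G.1.map (eqToHom (h V.unop).symm).op :=
            (Category.assoc _ _ _).trans (congrArg (fun z => F.1.map (eqToHom (h U.unop)).op ≫ z)
              (Category.assoc _ _ _).symm)
          _ = F.1.map (eqToHom (h U.unop)).op ≫ (η.1.app (op (hf.functorObj U.unop)) ≫
              G.1.map ((Opens.map f).map k.unop).op) ≫ G.1.map (eqToHom (h V.unop).symm).op :=
            congrArg (fun z => F.1.map (eqToHom (h U.unop)).op ≫ z ≫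
              G.1.map (eqToHom (h V.unop).symm).op) nat
          _ = F.1.map (eqToHom (h U.unop)).op ≫ η.1.app (op (hf.functorObj U.unop)) ≫
              (G.1.map (eqToHom (h U.unop).symm).op ≫ G.1.map g) :=
            congrArg (fun z => F.1.map (eqToHom (h U.unop)).op ≫ z)
              ((Category.assoc _ _ _).trans (congrArg (fun z => η.1.app (op (hf.functorObj U.unop)) ≫ z)
                (map_eq G.1 _ _ _ _)))
          _ = (F.1.map (eqToHom (h U.unop)).op ≫ η.1.app (op (hf.functorObj U.unop)) ≫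
              G.1.map (eqToHom (h U.unop).symm).op) ≫ G.1.map g :=
            ((Category.assoc _ _ _).trans (congrArg (fun z => F.1.map (eqToHom (h U.unop)).op ≫ z)
              (Category.assoc _ _ _))).symm }
  refine ⟨⟨α⟩, ?_⟩
  apply CategoryTheory.Sheaf.hom_ext
  refine NatTrans.ext (funext fun V => ?_)
  let k := homOfLE (show V.unop ≤ hf.functorObj ((Opens.map f).obj V.unop) from
    hf.le_functorObj_iff.2 le_rfl)
  have nat : F.1.map ((Opens.map f).map k).op ≫ η.1.app V =
      η.1.app (op (hf.functorObj ((Opens.map f).obj V.unop))) ≫ G.1.map ((Opens.map f).map k).op :=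
    η.1.naturality k.op
  refine Eq.trans (b := F.1.map (eqToHom (h ((Opens.map f).obj V.unop))).op ≫
      (F.1.map ((Opens.map f).map k).op ≫ η.1.app V)) ?_ ?_
  · exact congrArg (fun z => F.1.map (eqToHom (h ((Opens.map f).obj V.unop))).op ≫ z)
      ((congrArg (fun z => η.1.app (op (hf.functorObj ((Opens.map f).obj V.unop))) ≫ z)
        (congrArg G.1.map (Subsingleton.elim _ _))).trans nat.symm)
  · exact (Category.assoc _ _ _).symm.trans ((congrArg (fun z => z ≫ η.1.app V)
      ((F.1.map_comp _ _).symm.trans (map_id' F.1 _))).trans (Category.id_comp _))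

theorem push_faithful {f : Z ⟶ X} (hf : IsInducing f) : (CohTop.push f).Faithful := by
  have h := hf.map_functorObj
  refine ⟨fun {F G} a b hab => ?_⟩
  apply CategoryTheory.Sheaf.hom_ext
  refine NatTrans.ext (funext fun U => ?_)
  obtain ⟨U⟩ := U
  have := congrArg (fun q : (CohTop.push f).obj F ⟶ (CohTop.push f).obj G =>
    q.1.app (op (hf.functorObj U))) hab
  have key : ∀ (W : Opens Z), W = U → a.1.app (op W) = b.1.app (op W) →
      a.1.app (op U) = b.1.app (op U) := by
    rintro W rfl e
    exact e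
  exact key _ (h U) this

theorem isIso_counit {f : Z ⟶ X} (hf : IsInducing f) :
    IsIso (TopCat.Sheaf.pullbackPushforwardAdjunction AddCommGrpCat.{u} f).counit := by
  let adj : CohTop.pull f ⊣ CohTop.push f :=
    TopCat.Sheaf.pullbackPushforwardAdjunction AddCommGrpCat.{u} f
  have h1 := push_full hf
  have h2 := push_faithful hf
  exact @Adjunction.counit_isIso_of_R_fully_faithful _ _ _ _ _ _ adj h1 h2

def pushPullIso {f : Z ⟶ X} (hf : IsInducing f) :
    CohTop.push f ⋙ CohTop.pull f ≅ 𝟭 (CohTop.Ab Z) :=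
  @asIso _ _ _ _ (TopCat.Sheaf.pullbackPushforwardAdjunction AddCommGrpCat.{u} f).counit
    (isIso_counit hf)

open scoped Classical in
def skyscraperPushforwardIso (f : Z ⟶ X) (z : Z) :
    skyscraperSheafFunctor (C := AddCommGrpCat.{u}) z ⋙ TopCat.Sheaf.pushforward AddCommGrpCat.{u} f ≅
      skyscraperSheafFunctor (C := AddCommGrpCat.{u}) (f z) :=
  NatIso.ofComponents (fun A => (fullyFaithfulSheafToPresheaf _ _).preimageIso
    (NatIso.ofComponents (fun V => Iso.refl _)))
    fun u => by
      apply CategoryTheory.Sheaf.hom_ext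
      exact (Category.comp_id _).trans (Category.id_comp _).symm

/-- The stalk functor on abelian sheaves. -/
abbrev stalkF (x : X) : CohTop.Ab X ⥤ AddCommGrpCat.{u} :=
  TopCat.Sheaf.forget AddCommGrpCat.{u} X ⋙ TopCat.Presheaf.stalkFunctor AddCommGrpCat.{u} x

instance (x : X) : (stalkF x).Additive where
  map_add {F G} {φ ψ} :=
    (TopCat.Presheaf.stalkFunctor AddCommGrpCat.{u} x).map_add (f := φ.hom) (g := ψ.hom)

open scoped Classical in
def pullStalkIso (f : Z ⟶ X) (z : Z) : CohTop.pull f ⋙ stalkF z ≅ stalkF (f z) :=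
  Adjunction.leftAdjointUniq
    ((TopCat.Sheaf.pullbackPushforwardAdjunction AddCommGrpCat.{u} f).comp
      (stalkSkyscraperSheafAdjunction z))
    ((stalkSkyscraperSheafAdjunction (f z)).ofNatIsoRight (skyscraperPushforwardIso f z).symm)

lemma isZero_stalk_of_forall (F : CohTop.Ab X) (x : X) (U : Opens X) (hx : x ∈ U)
    (h : ∀ V : Opens X, V ≤ U → IsZero (F.obj.obj (op V))) : IsZero (CohTop.stalk F x) := by
  rw [IsZero.iff_id_eq_zero]
  refine TopCat.Presheaf.stalk_hom_ext _ fun W hW => ?_
  rw [Category.comp_id, comp_zero]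
  rw [← TopCat.Presheaf.germ_res F.obj (homOfLE (inf_le_left : W ⊓ U ≤ W)) x ⟨hW, hx⟩,
    (h (W ⊓ U) inf_le_right).eq_of_src (TopCat.Presheaf.germ F.obj (W ⊓ U) x ⟨hW, hx⟩) 0, comp_zero]

lemma isZero_stalk_push {f : Z ⟶ X} (hf : IsClosedEmbedding f) (F : CohTop.Ab Z) (x : X)
    (hx : x ∉ Set.range f) : IsZero (CohTop.stalk ((CohTop.push f).obj F) x) := by
  refine isZero_stalk_of_forall _ x ⟨(Set.range f)ᶜ, hf.isClosed_range.isOpen_compl⟩ hx fun W hW => ?_
  exact (TopCat.Sheaf.isTerminalOfEqEmpty F
    (eq_bot_iff.2 fun z hz => hW hz ⟨z, rfl⟩)).isZero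

lemma isIso_unit {i : Z ⟶ X} (hi : IsClosedEmbedding i) (G : CohTop.Ab X)
    (h : ∀ x : X, x ∉ Set.range i → IsZero (CohTop.stalk G x)) :
    IsIso ((TopCat.Sheaf.pullbackPushforwardAdjunction AddCommGrpCat.{u} i).unit.app G) := by
  let adj := TopCat.Sheaf.pullbackPushforwardAdjunction AddCommGrpCat.{u} i
  have hiso : ∀ x : X, IsIso ((TopCat.Presheaf.stalkFunctor AddCommGrpCat.{u} x).map
      (adj.unit.app G).1) := by
    intro x
    by_cases hx : x ∈ Set.range i
    · obtain ⟨z, rfl⟩ := hx
      have : IsIso ((TopCat.Sheaf.pullback AddCommGrpCat.{u} i).map (adj.unit.app G)) := by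
        have hc' := isIso_counit hi.isInducing
        have hc : IsIso (adj.counit.app ((TopCat.Sheaf.pullback AddCommGrpCat.{u} i).obj G)) :=
          NatIso.isIso_app_of_isIso _ _
        have : IsIso ((TopCat.Sheaf.pullback AddCommGrpCat.{u} i).map (adj.unit.app G) ≫
            adj.counit.app ((TopCat.Sheaf.pullback AddCommGrpCat.{u} i).obj G)) := by
          rw [adj.left_triangle_components G]; exact IsIso.id _
        exact IsIso.of_isIso_comp_right _
          (adj.counit.app ((TopCat.Sheaf.pullback AddCommGrpCat.{u} i).obj G))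
      exact (NatIso.isIso_map_iff (pullStalkIso i z) (adj.unit.app G)).1
        (@Functor.map_isIso _ _ _ _ _ _ (stalkF z)
          ((TopCat.Sheaf.pullback AddCommGrpCat.{u} i).map (adj.unit.app G)) this)
    · exact isIso_of_source_target_iso_zero _ (h x hx).isoZero
        (isZero_stalk_push hi ((CohTop.pull i).obj G) x hx).isoZero
  exact TopCat.Presheaf.isIso_of_stalkFunctor_map_iso (adj.unit.app G)

lemma isIso_stalk_unit {i : Z ⟶ X} (hi : IsInducing i) (G : CohTop.Ab X) (z : Z) :
    IsIso ((stalkF (i z)).map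
      ((TopCat.Sheaf.pullbackPushforwardAdjunction AddCommGrpCat.{u} i).unit.app G)) := by
  let adj := TopCat.Sheaf.pullbackPushforwardAdjunction AddCommGrpCat.{u} i
  have hc' := isIso_counit hi
  have hc : IsIso (adj.counit.app ((TopCat.Sheaf.pullback AddCommGrpCat.{u} i).obj G)) :=
    NatIso.isIso_app_of_isIso _ _
  have h1 : IsIso ((TopCat.Sheaf.pullback AddCommGrpCat.{u} i).map (adj.unit.app G) ≫
      adj.counit.app ((TopCat.Sheaf.pullback AddCommGrpCat.{u} i).obj G)) := by
    rw [adj.left_triangle_components G]; exact IsIso.id _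
  have h2 : IsIso ((TopCat.Sheaf.pullback AddCommGrpCat.{u} i).map (adj.unit.app G)) :=
    IsIso.of_isIso_comp_right _ (adj.counit.app ((TopCat.Sheaf.pullback AddCommGrpCat.{u} i).obj G))
  exact (NatIso.isIso_map_iff (pullStalkIso i z) (adj.unit.app G)).1
    (@Functor.map_isIso _ _ _ _ _ _ (stalkF z)
      ((TopCat.Sheaf.pullback AddCommGrpCat.{u} i).map (adj.unit.app G)) h2)

theorem essImage_iff {i : Z ⟶ X} (hi : IsClosedEmbedding i) (G : CohTop.Ab X) :
    (CohTop.push i).essImage G ↔ ∀ x : X, x ∉ Set.range i → IsZero (CohTop.stalk G x) := by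
  constructor
  · rintro ⟨F, ⟨e⟩⟩ x hx
    exact (isZero_stalk_push hi F x hx).of_iso ((stalkF x).mapIso e).symm
  · intro h
    have := isIso_unit hi G h
    exact ⟨_, ⟨(asIso ((TopCat.Sheaf.pullbackPushforwardAdjunction AddCommGrpCat.{u} i).unit.app G)).symm⟩⟩

theorem preservesFiniteColimits_push {i : Z ⟶ X} (hi : IsClosedEmbedding i) :
    PreservesFiniteColimits (CohTop.push i) := by
  have : (CohTop.push i).PreservesHomology := by
    rw [show (CohTop.push i).PreservesHomology ↔ ∀ S : ShortComplex (CohTop.Ab Z), S.Exact →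
      (S.map (CohTop.push i)).Exact from (CohTop.push i).exact_tfae.out 2 1]
    intro S hS
    refine (TopCat.Sheaf.exact_iff_stalkFunctor_map_exact _).2 ?_
    intro x
    by_cases hx : x ∈ Set.range i
    · obtain ⟨z, rfl⟩ := hx
      refine ShortComplex.exact_of_iso ?_
        ((TopCat.Sheaf.exact_iff_stalkFunctor_map_exact S).1 hS z)
      exact S.mapNatIso ((Functor.leftUnitor _).symm ≪≫
        Functor.isoWhiskerRight (pushPullIso hi.isInducing).symm (stalkF z) ≪≫
        Functor.associator _ _ _ ≪≫ Functor.isoWhiskerLeft (CohTop.push i) (pullStalkIso i z))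
    · exact ShortComplex.exact_of_isZero_X₂ _ (isZero_stalk_push hi _ x hx)
  exact (CohTop.push i).preservesFiniteColimits_of_preservesHomology

end Groth.Agent.ClosedEmb

end
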