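import Groth.Agent.TriCat.Compact
import Groth.Agent.TriCat.DerivedCoproducts
import Groth.Agent.TriCat.Sums
import Groth.Agent.TriCat.KInjRes
import Groth.Agent.H9Misc.BrownGroth
import Mathlib.Algebra.Homology.DerivedCategory.Ext.ExactSequences
import Mathlib.Algebra.Homology.DerivedCategory.Ext.EnoughInjectives
import Mathlib.CategoryTheory.Triangulated.TStructure.TruncLTGE

/-!
# Compactness from Ext groups commuting with direct sums
-/

set_option autoImplicit false
set_option backward.isDefEq.respectTransparency false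
set_option linter.style.haveILetI false

universe w w' v u t

open CategoryTheory CategoryTheory.Category CategoryTheory.Limits CategoryTheory.Pretriangulated
open CategoryTheory.Abelian Groth.Agent.TriCat

noncomputable section

namespace Groth.Agent.CompactDevissage

section General

variable {D : Type u} [Category.{v} D] [Preadditive D] {J : Type t}

/-- All morphisms from `E` to the direct sum are finite sums through the summands. -/
def Fin' (E : D) (M : J → D) [HasCoproduct M] : Prop := ∀ φ : E ⟶ ∐ M, FinFactor φ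

lemma bijective_of_fin {ι : Type v} (E : D) (M : ι → D) [HasCoproduct M] (h : Fin' E M) :
    Function.Bijective (CohDer.homSumToHomCoprod E M) := by
  classical
  have hof : ∀ (i : ι) (a : E ⟶ M i),
      CohDer.homSumToHomCoprod E M (DirectSum.of (fun i => E ⟶ M i) i a) = a ≫ Sigma.ι M i := by
    intro i a
    simp [CohDer.homSumToHomCoprod, DirectSum.toAddMonoid_of]
    rfl
  constructor
  · have key : ∀ (j : ι) (x : DirectSum ι (fun i => E ⟶ M i)),
        CohDer.homSumToHomCoprod E M x ≫ coprodProj M j = x j := by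
      intro j x
      induction x using DirectSum.induction_on with
      | zero => simp
      | of i a =>
        rw [hof, assoc]
        by_cases hij : i = j
        · subst hij; simp [ι_coprodProj_self]
        · rw [ι_coprodProj_ne hij, comp_zero, DirectSum.of_eq_of_ne _ _ _ (Ne.symm hij)]
      | add x y hx hy => rw [map_add, Preadditive.add_comp, hx, hy]; rfl
    intro x y hxy
    refine DFinsupp.ext fun j => ?_
    rw [← key j x, ← key j y, hxy]
  · intro f
    obtain ⟨s, a, rfl⟩ := h f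
    exact ⟨∑ i ∈ s, DirectSum.of _ i (a i), by simp [hof]⟩

lemma finFactor_map {M N : J → D} [HasCoproduct M] [HasCoproduct N] (g : ∀ j, M j ⟶ N j) {E : D}
    {φ : E ⟶ ∐ M} (h : FinFactor φ) : FinFactor (φ ≫ Limits.Sigma.map g) := by
  obtain ⟨s, a, rfl⟩ := h
  exact ⟨s, fun i => a i ≫ g i, by simp [Preadditive.sum_comp]⟩

lemma coprodProj_map {M N : J → D} [HasCoproduct M] [HasCoproduct N] (g : ∀ j, M j ⟶ N j) (i : J) :
    Limits.Sigma.map g ≫ coprodProj N i = coprodProj M i ≫ g i := by
  refine Sigma.hom_ext _ _ fun j => ?_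
  rw [Limits.Sigma.ι_map_assoc]
  by_cases h : j = i
  · subst h; rw [ι_coprodProj_self, ι_coprodProj_self_assoc, comp_id]
  · rw [ι_coprodProj_ne h, ι_coprodProj_ne_assoc h, comp_zero, zero_comp]

lemma Fin'.of_iso {E : D} {M N : J → D} [HasCoproduct M] [HasCoproduct N] (e : ∀ j, M j ≅ N j)
    (h : Fin' E M) : Fin' E N := fun φ => by
  have := finFactor_map (fun j => (e j).hom) (h (φ ≫ Limits.Sigma.map fun j => (e j).inv))
  rwa [assoc, show Limits.Sigma.map (fun j => (e j).inv) ≫ Limits.Sigma.map (fun j => (e j).hom) = 𝟙 _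
    from Sigma.hom_ext _ _ fun j => by simp, comp_id] at this

variable [HasZeroObject D] [HasShift D ℤ] [∀ n : ℤ, (shiftFunctor D n).Additive] [Pretriangulated D]

lemma fin_of_triangles {E : D} {A M B : J → D} [HasCoproduct A] [HasCoproduct M] [HasCoproduct B]
    (f : ∀ j, A j ⟶ M j) (g : ∀ j, M j ⟶ B j) (h : ∀ j, B j ⟶ (A j)⟦(1 : ℤ)⟧)
    (hT : ∀ j, Triangle.mk (f j) (g j) (h j) ∈ distTriang D) (hA : Fin' E A) (hB : Fin' E B) :
    Fin' E M := by
  classical
  let S : Triangle D := Triangle.mk (Limits.Sigma.map f) (Limits.Sigma.map g)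
    (Sigma.desc fun j => h j ≫ (Sigma.ι A j)⟦(1 : ℤ)⟧')
  have hS : S ∈ distTriang D := distinguished_of_isSum
    (fun j => Triangle.mk (f j) (g j) (h j)) hT S
    (fun j =>
      { hom₁ := Sigma.ι A j
        hom₂ := Sigma.ι M j
        hom₃ := Sigma.ι B j
        comm₁ := (Limits.Sigma.ι_map f j).symm
        comm₂ := (Limits.Sigma.ι_map g j).symm
        comm₃ := (Sigma.ι_desc (fun j => h j ≫ (Sigma.ι A j)⟦(1 : ℤ)⟧') j).symm })
    (isSum_sigma A) (isSum_sigma M) (isSum_sigma B)
  intro φ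
  obtain ⟨s, b, hb⟩ := hB (φ ≫ Limits.Sigma.map g)
  have hbi : ∀ i ∈ s, φ ≫ coprodProj M i ≫ g i = b i := fun i hi => by
    rw [← coprodProj_map, ← assoc, hb, Preadditive.sum_comp, Finset.sum_eq_single i]
    · rw [assoc, ι_coprodProj_self, comp_id]
    · intro j _ hj
      rw [assoc, ι_coprodProj_ne hj, comp_zero]
    · exact fun h => absurd hi h
  let ψ := ∑ i ∈ s, (φ ≫ coprodProj M i) ≫ Sigma.ι M i
  have hψ : (φ - ψ) ≫ Limits.Sigma.map g = 0 := by
    rw [Preadditive.sub_comp, hb, sub_eq_zero, Preadditive.sum_comp]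
    refine Finset.sum_congr rfl fun i hi => ?_
    rw [assoc, Limits.Sigma.ι_map, ← hbi i hi]
    simp only [assoc]
  obtain ⟨χ, hχ⟩ : ∃ χ : E ⟶ ∐ A, φ - ψ = χ ≫ Limits.Sigma.map f :=
    Triangle.coyoneda_exact₂ S hS (φ - ψ) hψ
  have h1 : FinFactor (φ - ψ) := hχ ▸ finFactor_map f (hA χ)
  have h2 : FinFactor ψ := ⟨s, fun i => φ ≫ coprodProj M i, rfl⟩
  simpa using h1.add h2

end General

section Derived

variable {A : Type u} [Category.{v} A] [Abelian A] [HasDerivedCategory.{w} A] {J : Type t}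
  [HasColimitsOfShape (Discrete J) A] [HasExactColimitsOfShape (Discrete J) A]

open DerivedCategory.TStructure

lemma coprodQIso_isGE {M : J → DerivedCategory A} [HasCoproduct M] (n : ℤ) (hM : ∀ j, (M j).IsGE n) :
    (∐ M).IsGE n := by
  choose K hK eK using fun j => haveI := hM j; DerivedCategory.exists_iso_Q_obj_of_isGE (M j) n
  haveI : HasColimitsOfShape (Discrete J) (DerivedCategory A) := hasColimitsOfShape_derivedCategory
  haveI := H9Misc.BrownGroth.preservesColimit_Q K
  haveI : (∐ K).IsStrictlyGE n := (CochainComplex.isStrictlyGE_iff _ n).2 fun k hk => by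
    refine IsZero.of_iso ?_ (PreservesCoproduct.iso
      (HomologicalComplex.eval A (ComplexShape.up ℤ) k) K)
    rw [IsZero.iff_id_eq_zero]
    exact Sigma.hom_ext _ _ fun j =>
      (@CochainComplex.isZero_of_isStrictlyGE _ _ _ (K j) n k hk (hK j)).eq_of_src _ _
  exact ⟨⟨∐ K, Limits.Sigma.mapIso (fun j => (eK j).some) ≪≫ (PreservesCoproduct.iso DerivedCategory.Q K).symm,
    inferInstance⟩⟩

lemma coprodQIso_isLE {M : J → DerivedCategory A} [HasCoproduct M] (n : ℤ) (hM : ∀ j, (M j).IsLE n) :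
    (∐ M).IsLE n := by
  choose K hK eK using fun j => haveI := hM j; DerivedCategory.exists_iso_Q_obj_of_isLE (M j) n
  haveI : HasColimitsOfShape (Discrete J) (DerivedCategory A) := hasColimitsOfShape_derivedCategory
  haveI := H9Misc.BrownGroth.preservesColimit_Q K
  haveI : (∐ K).IsStrictlyLE n := (CochainComplex.isStrictlyLE_iff _ n).2 fun k hk => by
    refine IsZero.of_iso ?_ (PreservesCoproduct.iso
      (HomologicalComplex.eval A (ComplexShape.up ℤ) k) K)
    rw [IsZero.iff_id_eq_zero]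
    exact Sigma.hom_ext _ _ fun j =>
      (@CochainComplex.isZero_of_isStrictlyLE _ _ _ (K j) n k hk (hK j)).eq_of_src _ _
  exact ⟨⟨∐ K, Limits.Sigma.mapIso (fun j => (eK j).some) ≪≫ (PreservesCoproduct.iso DerivedCategory.Q K).symm,
    inferInstance⟩⟩

variable [HasExt.{w'} A]

variable (J) in
/-- Every extension class into a direct sum is a finite sum. -/
def SumGen (P : A) : Prop :=
  ∀ (n : ℕ) (H : J → A) (x : Ext P (∐ H) n), ∃ (s : Finset J) (y : ∀ i, Ext P (H i) n),
    x = ∑ i ∈ s, (y i).comp (Ext.mk₀ (Sigma.ι H i)) (add_zero n)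

lemma fin_single {P : A} (hP : SumGen J P) (n : ℕ) (H : J → A)
    [HasCoproduct fun j => ((DerivedCategory.singleFunctor A 0).obj (H j))⟦(n : ℤ)⟧] :
    Fin' ((DerivedCategory.singleFunctor A 0).obj P)
      (fun j => ((DerivedCategory.singleFunctor A 0).obj (H j))⟦(n : ℤ)⟧) := by
  haveI : HasColimitsOfShape (Discrete J) (DerivedCategory A) := hasColimitsOfShape_derivedCategory
  haveI : PreservesColimit (Discrete.functor H) (CochainComplex.singleFunctor A 0) :=
    inferInstanceAs (PreservesColimit (Discrete.functor H) (HomologicalComplex.single A (ComplexShape.up ℤ) 0))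
  haveI := H9Misc.BrownGroth.preservesColimit_Q (fun j => (CochainComplex.singleFunctor A 0).obj (H j))
  haveI : PreservesColimit (Discrete.functor H ⋙ CochainComplex.singleFunctor A 0)
      (DerivedCategory.Q : CochainComplex A ℤ ⥤ DerivedCategory A) :=
    preservesColimit_of_iso_diagram (K₁ := Discrete.functor fun j => (CochainComplex.singleFunctor A 0).obj (H j)) _
      (Discrete.natIso fun j => Iso.refl _)
  haveI : PreservesColimit (Discrete.functor H) (DerivedCategory.singleFunctor A 0) :=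
    preservesColimit_of_natIso _ (DerivedCategory.singleFunctorIsoCompQ A 0).symm
  let F := DerivedCategory.singleFunctor A 0 ⋙ shiftFunctor (DerivedCategory A) (n : ℤ)
  haveI : PreservesColimit (Discrete.functor H) F := inferInstance
  let Me : J → DerivedCategory A := fun j => F.obj (H j)
  intro φ
  let σ : ∐ Me ⟶ F.obj (∐ H) := sigmaComparison F H
  haveI : IsIso σ := inferInstanceAs (IsIso (sigmaComparison F H))
  obtain ⟨s, y, hy⟩ := hP n H (Ext.homEquiv.symm (φ ≫ σ))
  refine ⟨s, fun i => (y i).hom, ?_⟩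
  rw [← cancel_mono σ]
  have e := congrArg (fun z => Ext.homAddEquiv (n := n) z) hy
  simp only [map_sum] at e
  simp only [Ext.homAddEquiv_apply, Ext.hom, Equiv.apply_symm_apply] at e
  refine e.trans ?_
  rw [Preadditive.sum_comp]
  refine Finset.sum_congr rfl fun i _ => ?_
  refine (Ext.comp_hom _ _ _).trans ?_
  rw [Ext.mk₀_hom, ShiftedHom.comp_mk₀, assoc]
  refine congrArg (_ ≫ ·) ?_
  exact (ι_comp_sigmaComparison F H i).symm

lemma fin_of_isGE_neg {P : A} (hP : SumGen J P) (n : ℕ) (M : J → DerivedCategory A) [HasCoproduct M]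
    (hM : ∀ j, (M j).IsGE (-(n : ℤ))) : Fin' ((DerivedCategory.singleFunctor A 0).obj P) M := by
  haveI : HasColimitsOfShape (Discrete J) (DerivedCategory A) := hasColimitsOfShape_derivedCategory
  let E := (DerivedCategory.singleFunctor A 0).obj P
  induction n generalizing M with
  | zero =>
    choose A' B hA hB f g h hT using fun j => t.exists_triangle (M j) 0 1 rfl
    haveI : ∀ j, (B j).IsGE 1 := fun j => ⟨hB j⟩
    haveI : ∀ j, (A' j).IsLE 0 := fun j => ⟨hA j⟩
    have hA0 : ∀ j, (A' j).IsGE 0 := fun j => by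
      haveI : t.IsGE (M j) 0 := by simpa using hM j
      haveI : t.IsGE ((B j)⟦(-1 : ℤ)⟧) 2 := t.isGE_shift (B j) 1 (-1) 2
      haveI : t.IsGE ((B j)⟦(-1 : ℤ)⟧) 0 := t.isGE_of_ge _ 0 2
      exact t.isGE₂ _ (inv_rot_of_distTriang _ (hT j)) 0 ‹_› ‹_›
    choose H eH using fun j => haveI := hA0 j
      DerivedCategory.exists_iso_singleFunctor_obj_of_isGE_of_isLE (A' j) 0
    refine fin_of_triangles f g h hT ?_ fun φ => ?_
    · refine (fin_single hP 0 H).of_iso fun j => ?_
      exact (shiftFunctorZero' (DerivedCategory A) ((0 : ℕ) : ℤ) rfl).app _ ≪≫ (eH j).some.symm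
    · haveI := coprodQIso_isGE (M := B) 1 inferInstance
      rw [t.zero φ 0 1]
      exact FinFactor.zero
  | succ n ih =>
    choose A' B hA hB f g h hT using fun j =>
      t.exists_triangle (M j) (-((n + 1 : ℕ) : ℤ)) (-(n : ℤ)) (by omega)
    haveI : ∀ j, (A' j).IsLE (-((n + 1 : ℕ) : ℤ)) := fun j => ⟨hA j⟩
    have hA0 : ∀ j, (A' j).IsGE (-((n + 1 : ℕ) : ℤ)) := fun j => by
      haveI : t.IsGE (M j) (-((n + 1 : ℕ) : ℤ)) := hM j
      haveI : t.IsGE (B j) (-(n : ℤ)) := ⟨hB j⟩
      haveI : t.IsGE ((B j)⟦(-1 : ℤ)⟧) (1 - (n : ℤ)) := t.isGE_shift (B j) (-(n : ℤ)) (-1) (1 - n)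
      haveI : t.IsGE ((B j)⟦(-1 : ℤ)⟧) (-((n + 1 : ℕ) : ℤ)) := t.isGE_of_ge _ _ (1 - (n : ℤ))
      exact t.isGE₂ _ (inv_rot_of_distTriang _ (hT j)) _ ‹_› ‹_›
    choose H eH using fun j => haveI := hA0 j
      DerivedCategory.exists_iso_singleFunctor_obj_of_isGE_of_isLE (A' j) (-((n + 1 : ℕ) : ℤ))
    refine fin_of_triangles f g h hT ?_ (ih B fun j => ⟨hB j⟩)
    refine (fin_single hP (n + 1) H).of_iso fun j => ?_
    exact ((DerivedCategory.singleFunctors A).shiftIso ((n + 1 : ℕ) : ℤ) (-((n + 1 : ℕ) : ℤ)) 0 (by omega)).app _ ≪≫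
      (eH j).some.symm

theorem fin_of_isGE {P : A} (hP : SumGen J P) (a : ℤ) (M : J → DerivedCategory A) [HasCoproduct M]
    (hM : ∀ j, (M j).IsGE a) : Fin' ((DerivedCategory.singleFunctor A 0).obj P) M :=
  fin_of_isGE_neg hP a.natAbs M fun j => haveI := hM j; t.isGE_of_ge (M j) _ a (by omega)

theorem fin_of_bound {P : A} (hP : SumGen J P) (b : ℤ)
    (hb : ∀ (N : DerivedCategory A), N.IsLE b → ∀ φ : (DerivedCategory.singleFunctor A 0).obj P ⟶ N, φ = 0)
    (M : J → DerivedCategory A) [HasCoproduct M] :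
    Fin' ((DerivedCategory.singleFunctor A 0).obj P) M := by
  haveI : HasColimitsOfShape (Discrete J) (DerivedCategory A) := hasColimitsOfShape_derivedCategory
  choose A' B hA hB f g h hT using fun j => t.exists_triangle (M j) b (b + 1) rfl
  refine fin_of_triangles f g h hT (fun φ => ?_) (fin_of_isGE hP (b + 1) B fun j => ⟨hB j⟩)
  rw [hb (∐ A') (coprodQIso_isLE b fun j => ⟨hA j⟩) φ]
  exact FinFactor.zero

end Derived

section Bound

variable {A : Type u} [Category.{v} A] [Abelian A] [IsGrothendieckAbelian.{v} A]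
  [HasDerivedCategory.{w} A] [HasExt.{w'} A]

omit [IsGrothendieckAbelian.{v} A] [HasExt.{w'} A] in
lemma exists_Q_map {K I : CochainComplex A ℤ} [I.IsKInjective]
    (a : DerivedCategory.Q.obj K ⟶ DerivedCategory.Q.obj I) :
    ∃ g : K ⟶ I, DerivedCategory.Q.map g = a := by
  obtain ⟨g', hg'⟩ := (CochainComplex.IsKInjective.Qh_map_bijective
    ((HomotopyCategory.quotient A _).obj K) I).2
      ((DerivedCategory.quotientCompQhIso A).hom.app K ≫ a ≫
        (DerivedCategory.quotientCompQhIso A).inv.app I)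
  obtain ⟨g, rfl⟩ := (HomotopyCategory.quotient A _).map_surjective g'
  refine ⟨g, ?_⟩
  have := (DerivedCategory.quotientCompQhIso A).hom.naturality g
  simp only [Functor.comp_map] at this
  rw [hg'] at this
  simp only [Category.assoc, Iso.inv_hom_id_app] at this
  erw [Category.comp_id, cancel_epi] at this
  exact this.symm

/-- Above the cohomological dimension there are no maps into sufficiently negative objects. -/
theorem eq_zero_of_isLE {P : A} (d : ℕ) (hd : ∀ (F : A) (i : ℕ), d < i → Subsingleton (Ext P F i))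
    (N : DerivedCategory A) (hN : N.IsLE (-(d : ℤ) - 2))
    (φ : (DerivedCategory.singleFunctor A 0).obj P ⟶ N) : φ = 0 := by
  obtain ⟨I, f, hI, hf, -, hinj⟩ :=
    exists_kInjective_resolution'.{v} (DerivedCategory.Q.objPreimage N)
  haveI := hI
  haveI := hinj
  haveI : IsIso (DerivedCategory.Q.map f) := (DerivedCategory.isIso_Q_map_iff_quasiIso _ _).2 hf
  let e : N ≅ DerivedCategory.Q.obj I :=
    (DerivedCategory.Q.objObjPreimageIso N).symm ≪≫ asIso (DerivedCategory.Q.map f)
  have hexact : ∀ i, -(d : ℤ) - 2 < i → IsZero (I.homology i) := fun i hi =>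
    ((DerivedCategory.isZero_of_isLE N (-(d : ℤ) - 2) i hi).of_iso
      (((DerivedCategory.homologyFunctor A i).mapIso e).symm)).of_iso
      ((DerivedCategory.homologyFunctorFactors A i).app I).symm
  have hses : ∀ i : ℤ, -(d : ℤ) - 2 < i + 1 →
      ∃ w : I.iCycles i ≫ I.toCycles i (i + 1) = 0, (ShortComplex.mk _ _ w).ShortExact := by
    intro i hi
    have w : I.iCycles i ≫ I.toCycles i (i + 1) = 0 := by
      rw [← cancel_mono (I.iCycles (i + 1)), Category.assoc, I.toCycles_i, I.iCycles_d, zero_comp]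
    refine ⟨w, { exact := ?_, mono_f := inferInstance, epi_g := ?_ }⟩
    · refine ShortComplex.exact_of_f_is_kernel _ (KernelFork.IsLimit.ofι _ _
        (fun {Z} k hk => I.liftCycles k (i + 1) (by simp) ?_) (fun _ _ => I.liftCycles_i _ _ _ _)
        (fun _ _ m hm => (cancel_mono (I.iCycles i)).1 (hm.trans (I.liftCycles_i _ _ _ _).symm)))
      have := congrArg (fun z => z ≫ I.iCycles (i + 1)) hk
      simpa using this
    · refine Preadditive.epi_of_cancel_zero _ fun {Z} g hg => ?_
      obtain ⟨l, hl⟩ := CokernelCofork.IsColimit.desc' (I.homologyIsCokernel i (i + 1) (by simp)) g hg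
      rw [← hl, show l = 0 from (hexact _ hi).eq_of_src _ _, comp_zero]
  have hZ : ∀ (k n : ℕ) (i : ℤ), n + k = d → i = -1 - (n : ℤ) →
      Subsingleton (Ext P (I.cycles i) (n + 1)) := fun k => by
    induction k with
    | zero => exact fun n i hn hi => hd _ _ (by omega)
    | succ k ih =>
      intro n i hn hi
      obtain ⟨i, rfl⟩ : ∃ j, i = j + 1 := ⟨i - 1, by omega⟩
      obtain ⟨w, hS⟩ := hses i (by omega)
      haveI : Injective (I.X i) := hinj i
      refine subsingleton_of_forall_eq 0 fun x => ?_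
      obtain ⟨y, rfl⟩ := Ext.covariant_sequence_exact₃ P hS x rfl
        ((ih (n + 1) i (by omega) (by omega)).elim _ _)
      rw [Ext.eq_zero_of_injective y, Ext.zero_comp]
  let ψ := (DerivedCategory.singleFunctorIsoCompQ A 0).inv.app P ≫ φ ≫ e.hom
  obtain ⟨g, hg⟩ : ∃ g : (CochainComplex.singleFunctor A 0).obj P ⟶ I, DerivedCategory.Q.map g = ψ :=
    exists_Q_map ψ
  suffices hψ : ψ = 0 by
    have h' : ψ = (DerivedCategory.singleFunctorIsoCompQ A 0).inv.app P ≫ φ ≫ e.hom := rfl
    rw [hψ] at h'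
    rwa [← cancel_mono e.hom, zero_comp, ← cancel_epi ((DerivedCategory.singleFunctorIsoCompQ A 0).inv.app P),
      comp_zero, eq_comm]
  obtain ⟨w, hS⟩ := hses (-1) (by omega)
  let sx := HomologicalComplex.singleObjXSelf (ComplexShape.up ℤ) 0 P
  let z : P ⟶ I.cycles (-1 + 1) :=
    I.liftCycles (sx.inv ≫ g.f 0 ≫ (I.XIsoOfEq (show (0 : ℤ) = -1 + 1 by omega)).hom) (-1 + 1 + 1)
      (by simp) (by
        simp only [Category.assoc, HomologicalComplex.XIsoOfEq_hom_comp_d]
        erw [HomologicalComplex.Hom.comm]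
        simp)
  obtain ⟨y, hy⟩ := Ext.covariant_sequence_exact₃ P hS (Ext.mk₀ z) rfl ((hZ d 0 (-1) (by omega) (by simp)).elim _ _)
  obtain ⟨y, rfl⟩ : ∃ y', Ext.mk₀ y' = y := (Ext.mk₀_bijective _ _).2 y
  rw [Ext.mk₀_comp_mk₀] at hy
  have hy' : y ≫ I.d (-1) (-1 + 1) =
      sx.inv ≫ g.f 0 ≫ (I.XIsoOfEq (show (0 : ℤ) = -1 + 1 by omega)).hom := by
    rw [← I.toCycles_i (-1) (-1 + 1), ← Category.assoc, (Ext.mk₀_bijective _ _).1 hy]
    exact I.liftCycles_i _ _ _ _
  rw [← hg]
  refine (DerivedCategory.Q_map_eq_of_homotopy _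
    { hom := fun p q => if h : p = 0 ∧ q = -1 then
        (((HomologicalComplex.single A (ComplexShape.up ℤ) 0).obj P).XIsoOfEq h.1).hom ≫ sx.hom ≫ y ≫
            (I.XIsoOfEq h.2).inv else 0
      zero := fun p q hpq => dif_neg fun h => hpq (by rw [h.1, h.2]; rfl)
      comm := fun p => ?_ }).trans (Functor.map_zero _ _ _)
  by_cases hp : p = 0
  · subst hp
    rw [dNext_eq _ (show (ComplexShape.up ℤ).Rel (0 : ℤ) 1 from rfl),
      prevD_eq _ (show (ComplexShape.up ℤ).Rel (-1 : ℤ) 0 from rfl)]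
    erw [HomologicalComplex.single_obj_d, zero_comp, zero_add]
    rw [dif_pos (And.intro rfl rfl), HomologicalComplex.zero_f, add_zero]
    have h := congrArg (fun s => sx.hom ≫ s ≫ (I.XIsoOfEq (show (0 : ℤ) = -1 + 1 by omega)).inv) hy'
    simp only [Category.assoc, Iso.hom_inv_id_assoc, Iso.hom_inv_id, Category.comp_id,
      HomologicalComplex.d_comp_XIsoOfEq_inv] at h
    simp only [HomologicalComplex.XIsoOfEq_rfl, Iso.refl_hom, Iso.refl_inv, Category.id_comp,
      Category.assoc]
    exact h.symm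
  · exact (HomologicalComplex.isZero_single_obj_X _ _ _ _ hp).eq_of_src _ _

end Bound

end Groth.Agent.CompactDevissage
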