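import Groth.Agent.ModTensor.FreeOn
import Groth.Agent.SiteBase.CompactDevissage
import Groth.Prelude.Def_CohCx
import Mathlib.Algebra.Category.Grp.EpiMono
import Mathlib.GroupTheory.QuotientGroup.Defs

/-!
# Sections of direct sums over quasi-compact objects
-/

set_option autoImplicit false
set_option backward.isDefEq.respectTransparency false
set_option linter.style.haveILetI false

universe v u

open CategoryTheory CategoryTheory.Limits Opposite

noncomputable section

namespace Groth.Agent.QcSum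

/-- A direct sum of abelian groups consists of finite sums. -/
lemma exists_finsum {J : Type v} {K : Discrete J ⥤ AddCommGrpCat.{u}} {c : Cocone K} (hc : IsColimit c)
    (x : c.pt) : ∃ (s : Finset J) (y : ∀ i, K.obj ⟨i⟩), x = ∑ i ∈ s, (c.ι.app ⟨i⟩).hom (y i) := by
  classical
  let S : AddSubgroup c.pt := AddSubgroup.closure (⋃ i : J, Set.range (c.ι.app ⟨i⟩).hom)
  have hq : AddCommGrpCat.ofHom (QuotientAddGroup.mk' S) = 0 := hc.hom_ext fun ⟨i⟩ => by
    rw [comp_zero]
    ext y
    exact (QuotientAddGroup.eq_zero_iff _).2 (AddSubgroup.subset_closure (Set.mem_iUnion.2 ⟨i, y, rfl⟩))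
  have hx : x ∈ S := (QuotientAddGroup.eq_zero_iff x).1 (congrArg (fun f => f.hom x) hq)
  induction hx using AddSubgroup.closure_induction with
  | mem z hz =>
    obtain ⟨i, y, rfl⟩ := Set.mem_iUnion.1 hz
    exact ⟨{i}, Function.update (fun _ => 0) i y, by simp⟩
  | zero => exact ⟨∅, fun _ => 0, by simp⟩
  | add a b _ _ ha hb =>
    obtain ⟨s, y, rfl⟩ := ha
    obtain ⟨t, z, rfl⟩ := hb
    refine ⟨s ∪ t, fun i => (if i ∈ s then y i else 0) + (if i ∈ t then z i else 0), ?_⟩
    simp only [map_add, Finset.sum_add_distrib]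
    congr 1
    · rw [← Finset.sum_subset (Finset.subset_union_left (s₁ := s) (s₂ := t))]
      · exact Finset.sum_congr rfl (fun i hi => by simp [hi])
      · intro i _ hi; rw [if_neg hi]; exact map_zero _
    · rw [← Finset.sum_subset (Finset.subset_union_right (s₁ := s) (s₂ := t))]
      · exact Finset.sum_congr rfl (fun i hi => by simp [hi])
      · intro i _ hi; rw [if_neg hi]; exact map_zero _
  | neg a _ ha =>
    obtain ⟨s, y, rfl⟩ := ha
    refine ⟨s, fun i => -y i, ?_⟩
    rw [← Finset.sum_neg_distrib]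
    exact Finset.sum_congr rfl fun i _ => (map_neg _ _).symm

variable {C : Type u} [SmallCategory C] {J : GrothendieckTopology C}

/-- Over a quasi-compact object every covering sieve contains a finite covering family. -/
theorem exists_finite_cover (U : C)
    (hqc : CohCx.IsQcObject ((presheafToSheaf J (Type u)).obj (yoneda.obj U))) (S : Sieve U) (hS : S ∈ J U) :
    ∃ (n : Type u) (_ : Finite n) (Y : n → C) (f : ∀ i, Y i ⟶ U),
      (∀ i, S (f i)) ∧ Sieve.ofArrows Y f ∈ J U := by
  let I := Σ V : C, {f : V ⟶ U // S f}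
  let hs := (presheafToSheaf J (Type u)).obj (yoneda.obj U)
  let F : ∀ i : I, (presheafToSheaf J (Type u)).obj (yoneda.obj i.1) ⟶ hs := fun i =>
    (presheafToSheaf J (Type u)).map (yoneda.map i.2.1)
  have hη : ∀ (V : C) {W : C} (h : W ⟶ V) {W' : C} (g : W' ⟶ W),
      ((presheafToSheaf J (Type u)).obj (yoneda.obj V)).obj.map g.op ((toSheafify J (yoneda.obj V)).app (op W) h) =
        (toSheafify J (yoneda.obj V)).app (op W') (g ≫ h) := fun V {W} h {W'} g =>
    (NatTrans.naturality_apply (toSheafify J (yoneda.obj V)) g.op h).symm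
  have hF : ∀ (i : I) {W : C} (h : W ⟶ i.1),
      (F i).hom.app (op W) ((toSheafify J (yoneda.obj i.1)).app (op W) h) =
        (toSheafify J (yoneda.obj U)).app (op W) (h ≫ i.2.1) := fun i {W} h =>
    (ConcreteCategory.congr_hom (NatTrans.congr_app (toSheafify_naturality J (yoneda.map i.2.1)) (op W)) h).symm
  have hloc : CohCx.JointlySurjective F := fun W s => by
    let I0 : Sieve W := Presheaf.imageSieve (toSheafify J (yoneda.obj U)) s
    have hI0 : ∀ ⦃V : C⦄ ⦃q : V ⟶ W⦄, I0 q → ∃ h : (yoneda.obj U).obj (op V),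
        (toSheafify J (yoneda.obj U)).app (op V) h =
          ((presheafToSheaf J (Type u)).obj (yoneda.obj U)).obj.map q.op s := fun V q hq => hq
    let R : ∀ ⦃V : C⦄ ⦃q : V ⟶ W⦄, I0 q → Sieve V := fun V q hq => S.pullback (hI0 hq).choose
    refine ⟨Sieve.bind I0.arrows R, J.bind_covering (show I0 ∈ J W from Presheaf.imageSieve_mem J (toSheafify J (yoneda.obj U)) (U := op W) s)
      (fun V q hq => J.pullback_stable _ hS), ?_⟩
    rintro V k ⟨V₁, a, b, hb, ha, rfl⟩
    refine ⟨⟨V, a ≫ (hI0 hb).choose, ha⟩, (toSheafify J (yoneda.obj V)).app (op V) (𝟙 V), ?_⟩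
    rw [hF]
    refine (congrArg ((toSheafify J (yoneda.obj U)).app (op V)) (Category.id_comp _)).trans ?_
    refine ((hη U (hI0 hb).choose a).symm.trans ?_)
    rw [(hI0 hb).choose_spec, op_comp, Functor.map_comp]
    rfl
  obtain ⟨t, ht⟩ := hqc I _ F hloc
  refine ⟨t, inferInstance, fun i => i.1.1, fun i => i.1.2.1, fun i => i.1.2.2, ?_⟩
  obtain ⟨T, hT, hTs⟩ := ht U ((toSheafify J (yoneda.obj U)).app (op U) (𝟙 U))
  refine J.transitive hT _ fun V g hg => ?_
  obtain ⟨i, x, hx⟩ := hTs V g hg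
  refine J.transitive (Presheaf.imageSieve_mem J (toSheafify J (yoneda.obj i.1.1)) x) _ fun W k hk => ?_
  obtain ⟨h, hh⟩ := hk
  have e : (toSheafify J (yoneda.obj U)).app (op W) (h ≫ i.1.2.1) =
      (toSheafify J (yoneda.obj U)).app (op W) (k ≫ g ≫ 𝟙 U) := by
    rw [← hF, hh]
    refine (NatTrans.naturality_apply (F i.1).hom k.op x).trans ?_
    rw [hx, hη, hη]
  refine J.superset_covering ?_ (Presheaf.equalizerSieve_mem J (toSheafify J (yoneda.obj U)) _ _ e)
  intro Z q hq
  have hq' : q ≫ h ≫ i.1.2.1 = q ≫ k ≫ g ≫ 𝟙 U := hq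
  rw [Category.comp_id] at hq'
  refine ⟨i.1.1, q ≫ h, i.1.2.1, ⟨i⟩, ?_⟩
  simpa using hq'

section Mod

variable (O : Sheaf J CommRingCat.{u})

/-- Sections of a direct sum of modules are locally finite sums. -/
lemma exists_local_sum {ι : Type u} (H : ι → ModSite.Mod O) {U : C}
    (x : ((SheafOfModules.toSheaf (ModSite.ringSh O)).obj (∐ H)).obj.obj (op U)) :
    ∃ T ∈ J U, ∀ (V : C) (g : V ⟶ U), T g → ∃ (s : Finset ι)
      (y : ∀ i, ((SheafOfModules.toSheaf (ModSite.ringSh O)).obj (H i)).obj.obj (op V)),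
      ((SheafOfModules.toSheaf (ModSite.ringSh O)).obj (∐ H)).obj.map g.op x =
        ∑ i ∈ s, (((SheafOfModules.toSheaf (ModSite.ringSh O)).map (Sigma.ι H i)).hom.app (op V)).hom (y i) := by
  let F := SheafOfModules.toSheaf (ModSite.ringSh O)
  haveI : PreservesColimitsOfSize.{u, u} F := ModTensor.preservesColimits_toSheaf O
  let P : ι → Cᵒᵖ ⥤ AddCommGrpCat.{u} := fun i => (F.obj (H i)).obj
  let c : ∐ P ⟶ (F.obj (∐ H)).obj := Sigma.desc fun i => (F.map (Sigma.ι H i)).hom
  let ψ : (presheafToSheaf J AddCommGrpCat.{u}).obj (∐ P) ⟶ F.obj (∐ H) :=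
    ((sheafificationAdjunction J AddCommGrpCat.{u}).homEquiv _ _).symm c
  have hψ : toSheafify J (∐ P) ≫ ψ.hom = c :=
    (((sheafificationAdjunction J AddCommGrpCat.{u}).homEquiv_unit _ _ ψ).symm).trans (Equiv.apply_symm_apply _ _)
  let hc := isColimitOfPreserves F (coproductIsCoproduct H)
  haveI : Epi ψ := by
    refine ⟨fun {Z} a b hab => hc.hom_ext fun ⟨i⟩ => ?_⟩
    refine Sheaf.hom_ext ?_
    have h1 : (F.map (Sigma.ι H i)).hom = Sigma.ι P i ≫ toSheafify J (∐ P) ≫ ψ.hom := by
      rw [hψ, Sigma.ι_desc]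
    show (F.map (Sigma.ι H i)).hom ≫ a.hom = (F.map (Sigma.ι H i)).hom ≫ b.hom
    rw [h1, Category.assoc, Category.assoc, Category.assoc, Category.assoc]
    exact congrArg (fun t : (presheafToSheaf J AddCommGrpCat.{u}).obj (∐ P) ⟶ Z =>
      Sigma.ι P i ≫ toSheafify J (∐ P) ≫ t.hom) hab
  have hψs : Sheaf.IsLocallySurjective ψ := (Sheaf.isLocallySurjective_iff_epi' _ ψ).2 inferInstance
  haveI : Presheaf.IsLocallySurjective J ψ.hom := hψs
  haveI : Presheaf.IsLocallySurjective J c := hψ ▸ Presheaf.isLocallySurjective_comp J _ _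
  refine ⟨_, Presheaf.imageSieve_mem J c x, fun V g hg => ?_⟩
  obtain ⟨p, hp⟩ := hg
  obtain ⟨s, y, hy⟩ := exists_finsum (isColimitOfPreserves ((evaluation Cᵒᵖ AddCommGrpCat.{u}).obj (op V))
    (coproductIsCoproduct P)) p
  refine ⟨s, y, hp.symm.trans ?_⟩
  rw [hy]
  refine (map_sum (c.app (op V)).hom _ s).trans (Finset.sum_congr rfl fun i _ => ?_)
  exact ConcreteCategory.congr_hom (NatTrans.congr_app (Sigma.ι_desc (fun i => (F.map (Sigma.ι H i)).hom) i) (op V)) (y i)

/-- Sections over an object all whose coverings have finite refinements only see finitely many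
summands. -/
theorem exists_finset_hom' {ι : Type u} (H : ι → ModSite.Mod O) (U : C)
    (hfin : ∀ T ∈ J U, ∃ (n : Type u) (_ : Finite n) (Y : n → C) (f : ∀ i, Y i ⟶ U),
      (∀ i, (T : Sieve U) (f i)) ∧ Sieve.ofArrows Y f ∈ J U)
    (φ : ModSite.freeOn O U ⟶ ∐ H) :
    ∃ (s : Finset ι) (a : ∀ i, ModSite.freeOn O U ⟶ H i), φ = ∑ i ∈ s, a i ≫ Sigma.ι H i := by
  classical
  let F := SheafOfModules.toSheaf (ModSite.ringSh O)
  let x : (F.obj (∐ H)).obj.obj (op U) := (ModTensor.freeOnCorepr O U).homEquiv φ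
  obtain ⟨T, hT, hTs⟩ := exists_local_sum O H x
  obtain ⟨n, hn, Yc, f, hf, hcov⟩ := hfin T hT
  have := Fintype.ofFinite n
  choose s y hy using fun k => hTs (Yc k) (f k) (hf k)
  let t := Finset.univ.biUnion s
  let p : ∐ H ⟶ ∐ H := ∑ i ∈ t, TriCat.coprodProj H i ≫ Sigma.ι H i
  have hp : ∀ i ∈ t, Sigma.ι H i ≫ p = Sigma.ι H i := fun i hi => by
    rw [Preadditive.comp_sum, Finset.sum_eq_single i]
    · rw [← Category.assoc, TriCat.ι_coprodProj_self, Category.id_comp]
    · intro j _ hj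
      rw [← Category.assoc, TriCat.ι_coprodProj_ne (Ne.symm hj), zero_comp]
    · exact fun h => absurd hi h
  have key : ((F.map p).hom.app (op U)).hom x = x := by
    refine (((isSheaf_iff_isSheaf_of_type _ _).1
      ((sheafCompose J (forget AddCommGrpCat.{u})).obj (F.obj (∐ H))).2) _ hcov).isSeparatedFor.ext ?_
    rintro V g ⟨W, a, b, ⟨k⟩, rfl⟩
    have hk : ((F.obj (∐ H)).obj.map (f k).op).hom (((F.map p).hom.app (op U)).hom x) =
        ((F.obj (∐ H)).obj.map (f k).op).hom x := by
      refine (NatTrans.naturality_apply (F.map p).hom (f k).op x).symm.trans ?_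
      refine (congrArg ((F.map p).hom.app (op (Yc k))).hom (hy k)).trans (Eq.trans ?_ (hy k).symm)
      rw [map_sum]
      refine Finset.sum_congr rfl fun i hi => ?_
      exact congrArg (fun q => ((F.map q).hom.app (op (Yc k))).hom (y k i))
        (hp i (Finset.mem_biUnion.2 ⟨k, Finset.mem_univ _, hi⟩))
    simp only [op_comp, Functor.map_comp]
    exact congrArg ((F.obj (∐ H)).obj.map a.op).hom hk
  refine ⟨t, fun i => φ ≫ TriCat.coprodProj H i, ?_⟩
  have h : φ ≫ p = φ := (ModTensor.freeOnCorepr O U).homEquiv.injective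
    (((ModTensor.freeOnCorepr O U).homEquiv_comp p φ).trans key)
  conv_lhs => rw [← h]
  rw [Preadditive.comp_sum]
  simp only [Category.assoc]

/-- Sections over a quasi-compact object only see finitely many summands. -/
theorem exists_finset_hom {ι : Type u} (H : ι → ModSite.Mod O) (U : C)
    (hqc : CohCx.IsQcObject ((presheafToSheaf J (Type u)).obj (yoneda.obj U)))
    (φ : ModSite.freeOn O U ⟶ ∐ H) :
    ∃ (s : Finset ι) (a : ∀ i, ModSite.freeOn O U ⟶ H i), φ = ∑ i ∈ s, a i ≫ Sigma.ι H i :=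
  exists_finset_hom' O H U (fun T hT => exists_finite_cover U hqc T hT) φ

/-- Over a weakly contractible object `j_! O_U` is projective. -/
theorem projective_freeOn (U : C)
    (hep : (sheafToPresheaf J AddCommGrpCat.{u} ⋙ (evaluation Cᵒᵖ AddCommGrpCat.{u}).obj (op U)).PreservesEpimorphisms) :
    Projective (ModSite.freeOn O U) := ⟨fun {E X} f e _ => by
  haveI : PreservesColimitsOfSize.{u, u} (SheafOfModules.toSheaf (ModSite.ringSh O)) :=
    ModTensor.preservesColimits_toSheaf O
  haveI : Epi ((SheafOfModules.toSheaf (ModSite.ringSh O)).map e) := inferInstance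
  obtain ⟨y, hy⟩ := (AddCommGrpCat.epi_iff_surjective _).1
    (hep.preserves ((SheafOfModules.toSheaf (ModSite.ringSh O)).map e))
    ((ModTensor.freeOnCorepr O U).homEquiv f)
  exact ⟨(ModTensor.freeOnCorepr O U).homEquiv.symm y, (ModTensor.freeOnCorepr O U).homEquiv.injective
    (((ModTensor.freeOnCorepr O U).homEquiv_comp e _).trans
      ((congrArg ((ModTensor.secFunctor O U).map e) (Equiv.apply_symm_apply _ y)).trans hy))⟩⟩

end Mod

end Groth.Agent.QcSum
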