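import Groth.Agent.SiteBase.LHom
import Mathlib.CategoryTheory.Filtered.Basic
import Mathlib.Topology.Sheaves.Sheaf
import Mathlib.Topology.Compactness.Compact

/-!
# Finite type directed colimits on compact spaces are reached at a finite stage
-/

set_option autoImplicit false
set_option backward.isDefEq.respectTransparency false
set_option linter.style.haveILetI false
set_option linter.unusedSectionVars false

universe u

open CategoryTheory CategoryTheory.Limits Opposite TopologicalSpace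
open Groth.Agent.ModTensor Groth.Agent.ModPull Groth.Agent.SecGen Groth.Agent.SecGenOps Groth.Agent.LHomLib

noncomputable section

namespace Groth.Agent.FTColimTop

variable {X : TopCat.{u}} {O : TopCat.Sheaf CommRingCat.{u} X} {Λ : Type u} [SmallCategory Λ] [IsFiltered Λ]
  {D : Λ ⥤ ModSite.Mod O} {c : Cocone D}

/-- Being generated at a stage on an open. -/
def GenAt (c : Cocone D) (l : Λ) (V : Opens X) : Prop :=
  ∃ (n : ℕ) (s : Fin n → ((fg O).obj c.pt).obj (op V)) (y : Fin n → ((fg O).obj (D.obj l)).obj (op V)),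
    Gens c.pt s ∧ ∀ k, ap (c.ι.app l) (y k) = s k

lemma genAt_mono {l l' : Λ} (t : l ⟶ l') {V : Opens X} (h : GenAt c l V) : GenAt c l' V := by
  obtain ⟨n, s, y, hs, hy⟩ := h
  exact ⟨n, s, fun k => ap (D.map t) (y k), hs, fun k => by rw [ap_comp, c.w]; exact hy k⟩

lemma genAt_res {l : Λ} {V W : Opens X} (g : W ⟶ V) (h : GenAt c l V) : GenAt c l W := by
  obtain ⟨n, s, y, hs, hy⟩ := h
  exact ⟨n, fun k => rs ((fg O).obj c.pt) g.op (s k), fun k => rs ((fg O).obj (D.obj l)) g.op (y k), hs.pull g,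
    fun k => by rw [ap_rs, hy]; rfl⟩

theorem exists_nhds (hc : IsColimit c) [SheafOfModules.IsFiniteType (R := ModSite.ringSh O) c.pt] (x : X) :
    ∃ (V : Opens X) (l : Λ), x ∈ V ∧ GenAt c l V := by
  classical
  obtain ⟨S, hS, hSp⟩ := locally_exists_gens c.pt (⊤ : Opens X)
  obtain ⟨V, g, hg, hx⟩ := hS x trivial
  obtain ⟨n, s, hs⟩ := hSp g hg
  obtain ⟨S', hS', hS'p⟩ := ModPull.Locally.forall_fintype fun k : Fin n => ColimSec.locally_exists_rep hc (s k)
  obtain ⟨W, g', hg', hxW⟩ := hS' x hx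
  choose l y hy using hS'p g' hg'
  obtain ⟨l₀, hl₀⟩ := IsFiltered.sup_objs_exists (Finset.univ.image l)
  let t : ∀ k, l k ⟶ l₀ := fun k => (hl₀ (Finset.mem_image_of_mem l (Finset.mem_univ k))).some
  refine ⟨W, l₀, hxW, n, fun k => rs ((fg O).obj c.pt) g'.op (s k), fun k => ap (D.map (t k)) (y k),
    hs.pull g', fun k => ?_⟩
  rw [ap_comp, c.w]
  exact hy k

theorem exists_epi [CompactSpace X] (hc : IsColimit c)
    [SheafOfModules.IsFiniteType (R := ModSite.ringSh O) c.pt] : ∃ l : Λ, Epi (c.ι.app l) := by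
  classical
  choose V l hxV hV using exists_nhds (D := D) (c := c) hc
  obtain ⟨T, hT⟩ := isCompact_univ.elim_finite_subcover (fun x : X => (V x : Set X)) (fun x => (V x).isOpen)
    fun x _ => Set.mem_iUnion.2 ⟨x, hxV x⟩
  obtain ⟨l₀, hl₀⟩ := IsFiltered.sup_objs_exists (T.image l)
  refine ⟨l₀, ⟨fun {Z} α β h => (fg O).map_injective (PresheafOfModules.hom_ext fun W =>
    ModuleCat.hom_ext (LinearMap.ext fun z => ?_))⟩⟩
  refine eq_of_locally' (J := Opens.grothendieckTopology X) Z (W := W.unop) ?_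
  have hloc : ModPull.Locally (Opens.grothendieckTopology X) W.unop (fun W' _ => GenAt c l₀ W') := by
    refine ⟨{ arrows := fun W' _ => GenAt c l₀ W'
              downward_closed := fun {A B _} hA k => genAt_res k hA }, fun x hx => ?_, fun W' g hg => hg⟩
    obtain ⟨x₀, hx₀, hxx₀⟩ := Set.mem_iUnion₂.1 (hT (Set.mem_univ x))
    exact ⟨W.unop ⊓ V x₀, homOfLE inf_le_left, genAt_res (homOfLE inf_le_right)
      (genAt_mono (hl₀ (Finset.mem_image_of_mem l hx₀)).some (hV x₀)), hx, hxx₀⟩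
  refine hloc.bind fun W' g hg => ?_
  obtain ⟨n, s, y, hs, hy⟩ := hg
  refine (hs (𝟙 W') (rs ((fg O).obj c.pt) g.op z)).mono fun W'' g' ⟨a, ha⟩ => ?_
  rw [Category.comp_id, ← rs_op_comp] at ha
  have key : ∀ γ : c.pt ⟶ Z, rs ((fg O).obj Z) (g' ≫ g).op (((fg O).map γ).app W z) =
      ∑ i, a i • rs ((fg O).obj Z) g'.op (ap (c.ι.app l₀ ≫ γ) (y i)) := fun γ => by
    refine (app_rs ((fg O).map γ) (g' ≫ g).op z).symm.trans ?_
    refine (congrArg (((fg O).map γ).app (op W'')).hom ha).trans ((ap_sum γ _ _).trans ?_)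
    refine Finset.sum_congr rfl fun i _ => ?_
    rw [← hy i, ap_rs, ap_comp]
  exact (key α).trans ((congrArg (fun γ : D.obj l₀ ⟶ Z => ∑ i, a i • rs ((fg O).obj Z) g'.op (ap γ (y i))) h).trans
    (key β).symm)

theorem mono_app (hc : IsColimit c) (hD : ∀ ⦃a b : Λ⦄ (t : a ⟶ b), Mono (D.map t)) (l : Λ) :
    Mono (c.ι.app l) := by
  refine mono_of_app_eq_zero _ fun W y hy => ?_
  refine eq_of_locally' (D.obj l) (W := W) ((ColimSec.locally_exists_zero hc (W := W) y hy).mono
    fun V g ⟨l', t, ht⟩ => ?_)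
  haveI := hD t
  refine app_injective (D.map t) (op V) (ht.trans ?_)
  rw [show rs ((fg O).obj (D.obj l)) g.op (0 : ((fg O).obj (D.obj l)).obj (op W)) = 0 from map_zero _]
  exact (map_zero _).symm

end Groth.Agent.FTColimTop
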