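import Groth.Agent.SiteBase.EdgeBase

/-!
# Degree zero of the edge maps
-/

universe u

open CategoryTheory CategoryTheory.Limits Opposite CechEdge

namespace Groth.Agent.SiteBase.Edge

section Abstract

universe w v v'

open Abelian

variable {B : Type v} [Category.{v'} B] [Abelian B] [HasExt.{w} B] (X : B)

lemma postcomp_extClass_natural {S T : ShortComplex B} (hS : S.ShortExact) (hT : T.ShortExact) (φ : S ⟶ T)
    (p : ℕ) (x : Ext X S.X₃ p) :
    ((x.comp hS.extClass (rfl : p + 1 = p + 1))).comp (Ext.mk₀ φ.τ₁) (add_zero (p + 1)) =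
      (x.comp (Ext.mk₀ φ.τ₃) (add_zero p)).comp hT.extClass rfl := by
  rw [Ext.comp_assoc_of_third_deg_zero, Ext.comp_assoc_of_second_deg_zero,
    ShortComplex.ShortExact.extClass_naturality hS hT φ]

lemma postcomp_extClass_zero {S : ShortComplex B} (hS : S.ShortExact) (p : ℕ) (x : Ext X S.X₂ p) :
    (x.comp (Ext.mk₀ S.g) (add_zero p)).comp hS.extClass (rfl : p + 1 = p + 1) = 0 := by
  rw [Ext.comp_assoc_of_second_deg_zero, hS.comp_extClass, Ext.comp_zero]

end Abstract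

variable {C : Type u} [SmallCategory C] (J : GrothendieckTopology C)

/-- Cohomology of associated sheaves on presheaves. -/
noncomputable def cohSeq (U : C) : ConnSeq.{u} (Cᵒᵖ ⥤ AddCommGrpCat.{u}) where
  F p := presheafToSheaf J AddCommGrpCat.{u} ⋙ Sheaf.cohomologyPresheafFunctor J p ⋙
    (evaluation Cᵒᵖ AddCommGrpCat.{u}).obj (op U)
  δ hS p := AddCommGrpCat.ofHom (extδ (hS.map_of_exact (presheafToSheaf J AddCommGrpCat.{u})) U p)
  δ_natural {S T} hS hT φ p := AddCommGrpCat.hom_ext <| AddMonoidHom.ext fun x => by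
    exact postcomp_extClass_natural (CohCx.freeSheaf J U) (hS.map_of_exact (presheafToSheaf J AddCommGrpCat.{u}))
      (hT.map_of_exact (presheafToSheaf J AddCommGrpCat.{u}))
      ((presheafToSheaf J AddCommGrpCat.{u}).mapShortComplex.map φ) p x
  map_comp_δ {S} hS p := AddCommGrpCat.hom_ext <| AddMonoidHom.ext fun x => by
    exact postcomp_extClass_zero (CohCx.freeSheaf J U) (hS.map_of_exact (presheafToSheaf J AddCommGrpCat.{u})) p x

variable {J}

lemma sectH0_natural {F G : Sheaf J AddCommGrpCat.{u}} (ψ : F ⟶ G) (U : C) (s : F.obj.obj (op U)) :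
    HUmap ψ 0 U (sectH0 J U F s) = sectH0 J U G (ψ.hom.app (op U) s) := by
  show (Abelian.Ext.mk₀ ((CohFree.homEquivSect J U F).symm s)).comp (Abelian.Ext.mk₀ ψ) (add_zero 0) =
    Abelian.Ext.mk₀ ((CohFree.homEquivSect J U G).symm (ψ.hom.app (op U) s))
  rw [Abelian.Ext.mk₀_comp_mk₀]
  refine congrArg Abelian.Ext.mk₀ ((CohFree.homEquivSect J U G).injective ?_)
  refine Eq.trans ?_ ((CohFree.homEquivSect J U G).apply_symm_apply _).symm
  exact congrArg (fun z => ψ.hom.app (op U) z) ((CohFree.homEquivSect J U F).apply_symm_apply s)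

variable [HasPullbacks C] {U : C} {ι : Type u} (Y : ι → Over U)

lemma toCech₀_eq (F : Sheaf J AddCommGrpCat.{u}) :
    toCech₀ F.obj Y = res0Hom (ctxOver Y) F := by
  refine Pi.hom_ext _ _ fun i => ?_
  refine (Pi.lift_π (fun i : Fin 1 → ι => F.obj.map (∏ᶜ (Y ∘ i)).hom.op) i).trans ?_
  refine Eq.trans ?_ (Pi.lift_π (fun i : Fin 1 → ι =>
    F.obj.map ((Over.forget U).map (Pi.π (fun k => Y (i k)) 0) ≫ (Y (i 0)).hom).op) i).symm
  exact congrArg (fun t => F.obj.map (Quiver.Hom.op t)) (Over.w (Pi.π (fun k => Y (i k)) 0)).symm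

lemma toCech_bijective (F : Sheaf J AddCommGrpCat.{u})
    (hY : Sieve.ofArrows (fun i => (Y i).left) (fun i => (Y i).hom) ∈ J U) :
    Function.Bijective (toCech Y F.obj) := by
  have e : toCycles F.obj Y ≫ (cx F.obj Y).homologyπ 0 = toH0Hom (ctxOver Y) F := by
    refine congrArg (fun t => t ≫ (cx F.obj Y).homologyπ 0) ((cancel_mono ((cx F.obj Y).iCycles 0)).1 ?_)
    exact (toCycles_i F.obj Y).trans ((toCech₀_eq Y F).trans
      ((cechCx (Over.forget U) Y F).liftCycles_i (res0Hom (ctxOver Y) F) 1 (by simp) (res0Hom_d _ F)).symm)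
  exact (congrArg (fun t => Function.Bijective t.hom) e).mpr (toH0_bijective (ctxOver Y) F hY)

lemma toCech_natural {P Q : Cᵒᵖ ⥤ AddCommGrpCat.{u}} (φ : P ⟶ Q) (s : P.obj (op U)) :
    cechHMap Y φ 0 (toCech Y P s) = toCech Y Q (φ.app (op U) s) := by
  have h0 : toCech₀ P Y ≫ ((cxFunctor Y).map φ).f 0 = φ.app (op U) ≫ toCech₀ Q Y := by
    refine Pi.hom_ext _ _ fun i => ?_
    refine (Category.assoc _ _ _).trans ?_
    refine (congrArg (fun t => toCech₀ P Y ≫ t)
      (Pi.map_π (fun i : Fin 1 → ι => φ.app (op (∏ᶜ fun k => Y (i k)).left)) i)).trans ?_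
    refine (Category.assoc _ _ _).symm.trans ?_
    refine (congrArg (fun t => t ≫ φ.app (op (∏ᶜ fun k => Y (i k)).left))
      (Pi.lift_π (fun i : Fin 1 → ι => P.map (∏ᶜ (Y ∘ i)).hom.op) i)).trans ?_
    refine Eq.trans ?_ (Category.assoc _ _ _).symm
    refine Eq.trans ?_ (congrArg (fun t => φ.app (op U) ≫ t)
      (Pi.lift_π (fun i : Fin 1 → ι => Q.map (∏ᶜ (Y ∘ i)).hom.op) i)).symm
    exact φ.naturality _
  have h1 : toCycles P Y ≫ (cx P Y).homologyπ 0 ≫ HomologicalComplex.homologyMap ((cxFunctor Y).map φ) 0 =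
      φ.app (op U) ≫ toCycles Q Y ≫ (cx Q Y).homologyπ 0 := by
    rw [HomologicalComplex.homologyπ_naturality, ← Category.assoc, ← Category.assoc (φ.app (op U))]
    refine congrArg (fun t => t ≫ (cx Q Y).homologyπ 0) ((cancel_mono ((cx Q Y).iCycles 0)).1 ?_)
    rw [Category.assoc, Category.assoc]
    refine (congrArg (fun t => toCycles P Y ≫ t) (HomologicalComplex.cyclesMap_i ((cxFunctor Y).map φ) 0)).trans ?_
    refine (Category.assoc _ _ _).symm.trans ?_
    refine (congrArg (fun t => t ≫ ((cxFunctor Y).map φ).f 0) (toCycles_i P Y)).trans ?_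
    exact h0.trans (congrArg (fun t => φ.app (op U) ≫ t) (toCycles_i Q Y).symm)
  exact ConcreteCategory.congr_hom h1 s

variable (hY : Sieve.ofArrows (fun i => (Y i).left) (fun i => (Y i).hom) ∈ J U)

/-- The degree zero map for sheaves. -/
noncomputable def toCechEquiv (F : Sheaf J AddCommGrpCat.{u}) : F.obj.obj (op U) ≃+ CohCx.cechH F.obj Y 0 :=
  AddEquiv.ofBijective (toCech Y F.obj) (toCech_bijective Y F hY)

/-- The degree zero edge map. -/
noncomputable def edge0Hom (P : Cᵒᵖ ⥤ AddCommGrpCat.{u}) : CohCx.cechH P Y 0 →+ CohSite.HU (shf J P) 0 U :=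
  (sectH0 J U (shf J P)).toAddMonoidHom.comp
    ((toCechEquiv Y hY (shf J P)).symm.toAddMonoidHom.comp (cechHMap Y (toSheafify J P) 0))

lemma edge0Hom_eq {P : Cᵒᵖ ⥤ AddCommGrpCat.{u}} {x : CohCx.cechH P Y 0} {t : (shf J P).obj.obj (op U)}
    (h : toCech Y (shf J P).obj t = cechHMap Y (toSheafify J P) 0 x) :
    edge0Hom Y hY P x = sectH0 J U (shf J P) t :=
  congrArg (sectH0 J U (shf J P)) ((toCechEquiv Y hY (shf J P)).symm_apply_eq.2 h.symm)

include hY in
lemma exists_edge0_section (P : Cᵒᵖ ⥤ AddCommGrpCat.{u}) (x : CohCx.cechH P Y 0) :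
    ∃ t, toCech Y (shf J P).obj t = cechHMap Y (toSheafify J P) 0 x :=
  (toCech_bijective Y (shf J P) hY).2 _

lemma edge0Hom_toCech (P : Cᵒᵖ ⥤ AddCommGrpCat.{u}) (s : P.obj (op U)) :
    edge0Hom Y hY P (toCech Y P s) = sectH0 J U (shf J P) (((toSheafify J P).app (op U)).hom s) :=
  edge0Hom_eq Y hY (toCech_natural Y (toSheafify J P) s).symm

lemma cechHMap_comp {P Q R : Cᵒᵖ ⥤ AddCommGrpCat.{u}} (φ : P ⟶ Q) (ψ : Q ⟶ R) (p : ℕ)
    (x : CohCx.cechH P Y p) : cechHMap Y (φ ≫ ψ) p x = cechHMap Y ψ p (cechHMap Y φ p x) :=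
  ConcreteCategory.congr_hom ((cxFunctor Y ⋙ HomologicalComplex.homologyFunctor _ _ p).map_comp φ ψ) x

lemma edge0Hom_natural {P Q : Cᵒᵖ ⥤ AddCommGrpCat.{u}} (φ : P ⟶ Q) (x : CohCx.cechH P Y 0) :
    edge0Hom Y hY Q (cechHMap Y φ 0 x) = HUmap (shfMap J φ) 0 U (edge0Hom Y hY P x) := by
  obtain ⟨t, ht⟩ := exists_edge0_section Y hY P x
  refine (edge0Hom_eq Y hY (t := (shfMap J φ).hom.app (op U) t) ?_).trans
    ((sectH0_natural (shfMap J φ) U t).symm.trans (congrArg _ (edge0Hom_eq Y hY ht).symm))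
  refine (toCech_natural Y (shfMap J φ).hom t).symm.trans ?_
  refine (congrArg (cechHMap Y (shfMap J φ).hom 0) ht).trans ?_
  refine (cechHMap_comp Y (toSheafify J P) (shfMap J φ).hom 0 x).symm.trans ?_
  refine Eq.trans ?_ (cechHMap_comp Y φ (toSheafify J Q) 0 x)
  exact congrArg (fun t => cechHMap Y t 0 x) (toSheafify_naturality J φ).symm

/-- The degree zero edge maps as a natural transformation. -/
noncomputable def edge0 : (cechSeq Y).F 0 ⟶ (cohSeq J U).F 0 where
  app P := AddCommGrpCat.ofHom (edge0Hom Y hY P)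
  naturality P Q φ := AddCommGrpCat.hom_ext <| AddMonoidHom.ext fun x => edge0Hom_natural Y hY φ x

end Groth.Agent.SiteBase.Edge
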