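import Groth.Prelude.Def_CohTop
import Groth.Agent.SiteBase.KInjAdj
import Mathlib.Topology.Sheaves.Skyscraper
import Mathlib.Topology.Sheaves.Over
import Mathlib.Topology.Sheaves.Abelian
import Mathlib.Algebra.Category.Grp.EnoughInjectives

/-!
Extension by zero of abelian sheaves from an open subspace is exact.
-/

set_option autoImplicit false

universe u

open CategoryTheory CategoryTheory.Limits TopologicalSpace Opposite TopCat

noncomputable section

namespace Groth.Agent.ExtByZero

variable {X : TopCat.{u}} (U : Opens X)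

theorem isRightAdjoint_restr : (CohTop.restrFunctor U).IsRightAdjoint := inferInstance

/-- Extension by zero. -/
def ext0 : CohTop.Ab (TopCat.of U) ⥤ CohTop.Ab X :=
  haveI := isRightAdjoint_restr U
  (CohTop.restrFunctor U).leftAdjoint

def adj : ext0 U ⊣ CohTop.restrFunctor U :=
  haveI := isRightAdjoint_restr U
  Adjunction.ofIsRightAdjoint (CohTop.restrFunctor U)

instance : (ext0 U).Additive := (adj U).left_adjoint_additive

instance : PreservesColimitsOfSize.{0, 0} (ext0 U) := (adj U).leftAdjoint_preservesColimits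

instance : PreservesFiniteColimits (ext0 U) := ⟨fun _ => inferInstance⟩

/-- The open functor of the inclusion. -/
abbrev img (W : Opens (TopCat.of U)) : Opens X :=
  U.isOpenEmbedding.isOpenMap.functor.obj W

lemma mem_img {W : Opens (TopCat.of U)} (x : U) : (x : X) ∈ img U W ↔ x ∈ W :=
  ⟨fun ⟨_, hy, e⟩ => Subtype.ext e ▸ hy, fun h => ⟨x, h, rfl⟩⟩

abbrev stalkF {Z : TopCat.{u}} (x : Z) : CohTop.Ab Z ⥤ AddCommGrpCat.{u} :=
  TopCat.Sheaf.forget AddCommGrpCat.{u} Z ⋙ TopCat.Presheaf.stalkFunctor AddCommGrpCat.{u} x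

open scoped Classical in
def skyRestrIso (x : U) (A : AddCommGrpCat.{u}) :
    (CohTop.restrFunctor U).obj (skyscraperSheaf (x : X) A) ≅
      skyscraperSheaf (X := TopCat.of U) x A := by
  refine (fullyFaithfulSheafToPresheaf _ _).preimageIso (NatIso.ofComponents
    (fun W => eqToIso ?_) ?_)
  · exact if_congr (mem_img U x) rfl rfl
  · intro V W i
    by_cases h : (x : TopCat.of U) ∈ W.unop
    · have h' : (x : X) ∈ img U W.unop := (mem_img U x).2 h
      refine (congrArg (fun k => k ≫ _) (dif_pos h')).trans ?_
      refine Eq.trans ?_ (congrArg (fun k => _ ≫ k) (dif_pos h)).symm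
      exact (eqToHom_trans _ (if_congr (mem_img U x) rfl rfl)).trans
        (eqToHom_trans (if_congr (mem_img U x) rfl rfl) _).symm
    · exact ((if_neg h).symm.ndrec terminalIsTerminal).hom_ext _ _

open scoped Classical in
lemma injective_skyscraper {Z : TopCat.{u}} (x : Z) (A : AddCommGrpCat.{u}) [Injective A] :
    Injective ((skyscraperSheafFunctor (C := AddCommGrpCat.{u}) x).obj A) := by
  have : PreservesFiniteLimits (stalkF x) :=
    inferInstanceAs (PreservesFiniteLimits
      (TopCat.Sheaf.forget AddCommGrpCat.{u} Z ⋙ TopCat.Presheaf.stalkFunctor AddCommGrpCat.{u} x))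
  have : (stalkF x).PreservesMonomorphisms := preservesMonomorphisms_of_preservesLimitsOfShape _
  exact (stalkSkyscraperSheafAdjunction (C := AddCommGrpCat.{u}) x).map_injective A inferInstance

open scoped Classical in
lemma injective_restr_sky (x : X) (A : AddCommGrpCat.{u}) [Injective A] :
    Injective ((CohTop.restrFunctor U).obj
      ((skyscraperSheafFunctor (C := AddCommGrpCat.{u}) x).obj A)) := by
  by_cases hx : x ∈ U
  · exact Injective.of_iso (skyRestrIso U ⟨x, hx⟩ A).symm
      (injective_skyscraper (Z := TopCat.of U) ⟨x, hx⟩ A)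
  · refine ⟨fun {P Q} g f _ => ⟨0, ?_⟩⟩
    apply CategoryTheory.Sheaf.hom_ext
    refine NatTrans.ext (funext fun W => ?_)
    refine (isTerminalSkyscraperSheafObjObjOfNotMem (C := AddCommGrpCat.{u}) ?_).hom_ext _ _
    rintro ⟨y, -, hy⟩
    exact hx (hy ▸ y.2)

open scoped Classical in
theorem preservesFiniteLimits_ext0 : PreservesFiniteLimits (ext0 U) := by
  refine (Functor.preservesFiniteLimits_iff_forall_exact_map_and_mono (ext0 U)).2 fun S hS => ?_
  have := hS.mono_f
  refine ⟨((Functor.preservesFiniteColimits_iff_forall_exact_map_and_epi (ext0 U)).1 inferInstance S hS).1, ?_⟩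
  have : ∀ x : X, Mono ((TopCat.Presheaf.stalkFunctor AddCommGrpCat.{u} x).map ((ext0 U).map S.f).1) := by
    intro x
    have h : (ext0 U ⋙ stalkF x).PreservesMonomorphisms :=
      Groth.Agent.SiteBase.preservesMonomorphisms_leftAdjoint
        ((adj U).comp (stalkSkyscraperSheafAdjunction (C := AddCommGrpCat.{u}) x))
        (fun A hA => @injective_restr_sky _ U x A hA)
    exact h.preserves S.f
  exact (TopCat.Presheaf.mono_iff_stalk_mono ((ext0 U).map S.f)).2 this

end Groth.Agent.ExtByZero

end
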