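import Groth.Agent.SiteBase.Horseshoe
import Groth.Agent.SiteBase.UnivDelta
import Mathlib.Algebra.Homology.ShortComplex.SnakeLemma
import Mathlib.Algebra.Homology.ShortComplex.ExactFunctor
import Mathlib.CategoryTheory.Abelian.RightDerived
import Mathlib.CategoryTheory.Abelian.FunctorCategory

/-!
# Right derived functors of the kernel of a natural transformation which is epi on injectives
-/

universe v u v₂ u₂

open CategoryTheory CategoryTheory.Limits

namespace Groth.Agent.SiteBase

variable {A : Type u} [Category.{v} A] [Abelian A] [EnoughInjectives A]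
  {D : Type u₂} [Category.{v₂} D] [Abelian D]

/-- A natural presentation of a functor `T` by a functor `S` along the chosen injective embeddings. -/
structure StepPres (S T : A ⥤ D) where
  /-- the connecting maps -/
  d : ∀ P, S.obj (effSES P).X₃ ⟶ T.obj P
  w : ∀ P, S.map (effSES P).g ≫ d P = 0
  /-- they are cokernels -/
  isColimit : ∀ P, IsColimit (CokernelCofork.ofπ (d P) (w P))
  nat : ∀ {P P' : A} (φ : effSES P ⟶ effSES P'), S.map φ.τ₃ ≫ d P' = d P ≫ T.map φ.τ₁

/-- Presented functors are determined by the presenting one. -/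
theorem nonempty_iso_of_stepPres {S₁ S₂ T₁ T₂ : A ⥤ D} (h₁ : StepPres S₁ T₁) (h₂ : StepPres S₂ T₂)
    (e : S₁ ≅ S₂) : Nonempty (T₁ ≅ T₂) := by
  have w₁ : ∀ P, S₁.map (effSES P).g ≫ e.hom.app (effSES P).X₃ ≫ h₂.d P = 0 := fun P => by
    rw [e.hom.naturality_assoc, h₂.w P, comp_zero]
  have w₂ : ∀ P, S₂.map (effSES P).g ≫ e.inv.app (effSES P).X₃ ≫ h₁.d P = 0 := fun P => by
    rw [e.inv.naturality_assoc, h₁.w P, comp_zero]
  have ep₁ : ∀ P, Epi (h₁.d P) := fun P => Cofork.IsColimit.epi (h₁.isColimit P)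
  have ep₂ : ∀ P, Epi (h₂.d P) := fun P => Cofork.IsColimit.epi (h₂.isColimit P)
  choose a ha using fun P =>
    (⟨_, (CokernelCofork.IsColimit.desc' (h₁.isColimit P) (e.hom.app (effSES P).X₃ ≫ h₂.d P) (w₁ P)).2⟩ :
      ∃ a : T₁.obj P ⟶ T₂.obj P, h₁.d P ≫ a = e.hom.app (effSES P).X₃ ≫ h₂.d P)
  choose b hb using fun P =>
    (⟨_, (CokernelCofork.IsColimit.desc' (h₂.isColimit P) (e.inv.app (effSES P).X₃ ≫ h₁.d P) (w₂ P)).2⟩ :
      ∃ b : T₂.obj P ⟶ T₁.obj P, h₂.d P ≫ b = e.inv.app (effSES P).X₃ ≫ h₁.d P)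
  let i : ∀ P, T₁.obj P ≅ T₂.obj P := fun P =>
    { hom := a P
      inv := b P
      hom_inv_id := (ep₁ P).left_cancellation _ _ (by
        rw [← Category.assoc, ha P, Category.assoc, hb P, e.hom_inv_id_app_assoc, Category.comp_id])
      inv_hom_id := (ep₂ P).left_cancellation _ _ (by
        rw [← Category.assoc, hb P, Category.assoc, ha P, e.inv_hom_id_app_assoc, Category.comp_id]) }
  refine ⟨NatIso.ofComponents i fun {P P'} f => ?_⟩
  obtain ⟨φ, rfl⟩ := exists_effSES_map (effSES_shortExact P) (P := P') f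
  refine (ep₁ P).left_cancellation _ _ ?_
  refine (Category.assoc _ _ _).symm.trans ((congrArg (fun t => t ≫ a P') (h₁.nat φ).symm).trans ?_)
  refine (Category.assoc _ _ _).trans ((congrArg (fun t => S₁.map φ.τ₃ ≫ t) (ha P')).trans ?_)
  refine (e.hom.naturality_assoc φ.τ₃ _).trans ((congrArg (fun t => e.hom.app _ ≫ t) (h₂.nat φ)).trans ?_)
  exact (Category.assoc _ _ _).symm.trans ((congrArg (fun t => t ≫ T₂.map φ.τ₁) (ha P).symm).trans
    (Category.assoc _ _ _))

variable (F : A ⥤ D) [F.Additive] (q : ℕ)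

instance epi_derivedLES_δ (P : A) :
    Epi ((SESResLib.derivedLES F).δ (effSES P) (effSES_shortExact P) q (q + 1) rfl) :=
  ((SESResLib.derivedLES F).exact₁ (effSES P) (effSES_shortExact P) q (q + 1) rfl).epi_f
    ((F.isZero_rightDerived_obj_injective_succ q _).eq_of_tgt _ _)

/-- `R^{q+1} F` is presented by `R^q F`. -/
noncomputable def derivedStepPres : StepPres (F.rightDerived q) (F.rightDerived (q + 1)) where
  d P := (SESResLib.derivedLES F).δ (effSES P) (effSES_shortExact P) q (q + 1) rfl
  w P := (SESResLib.derivedLES F).comp_δ (effSES P) (effSES_shortExact P) q (q + 1) rfl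
  isColimit P := @ShortComplex.Exact.gIsCokernel _ _ _ _ _
    ((SESResLib.derivedLES F).exact₃ (effSES P) (effSES_shortExact P) q (q + 1) rfl)
    (epi_derivedLES_δ F q P)
  nat {P P'} φ :=
    (SESResLib.derivedLES F).δ_natural (effSES_shortExact P) (effSES_shortExact P') φ q (q + 1) rfl

section Kernel

variable {Γ P : A ⥤ A} [Γ.Additive] [P.Additive] [PreservesFiniteLimits Γ] [PreservesFiniteLimits P]
  (ι : Γ ⟶ 𝟭 A) (η : 𝟭 A ⟶ P) (w : ∀ X, ι.app X ≫ η.app X = 0)
  (hker : ∀ X, IsLimit (KernelFork.ofι (ι.app X) (w X)))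
  (hη : ∀ X : A, Injective X → Epi (η.app X))

/-- The pointwise cokernel cofork. -/
noncomputable def cokerAt (X : A) :
    IsColimit (CokernelCofork.ofπ ((cokernel.π η).app X)
      (show η.app X ≫ (cokernel.π η).app X = 0 by rw [← NatTrans.comp_app, cokernel.condition]; rfl)) :=
  CokernelCofork.mapIsColimit _ (cokernelIsCokernel η) ((evaluation A A).obj X)

instance preservesZeroMorphisms_cokernel : (cokernel η).PreservesZeroMorphisms where
  map_zero X Y := by
    refine (Cofork.IsColimit.epi (cokerAt η X)).left_cancellation _ _ ?_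
    refine ((cokernel.π η).naturality (0 : X ⟶ Y)).symm.trans ?_
    rw [P.map_zero, zero_comp, comp_zero]

include hη in
lemma isZero_cokernel_obj (X : A) (hX : Injective X) : IsZero ((cokernel η).obj X) := by
  have := hη X hX
  have h : (cokernel.π η).app X = 0 := by
    rw [← cancel_epi (η.app X), comp_zero, ← NatTrans.comp_app, cokernel.condition]
    rfl
  rw [IsZero.iff_id_eq_zero]
  refine (Cofork.IsColimit.epi (cokerAt η X)).left_cancellation _ _ ?_
  show (cokernel.π η).app X ≫ 𝟙 _ = (cokernel.π η).app X ≫ 0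
  rw [h, zero_comp, zero_comp]

/-- The snake diagram of a short exact sequence. -/
noncomputable def snake {S : ShortComplex A} (hS : S.ShortExact) : ShortComplex.SnakeInput A where
  L₀ := S.map Γ
  L₁ := S.map (𝟭 A)
  L₂ := S.map P
  L₃ := S.map (cokernel η)
  v₀₁ := S.mapNatTrans ι
  v₁₂ := S.mapNatTrans η
  v₂₃ := S.mapNatTrans (cokernel.π η)
  w₀₂ := by ext <;> exact w _
  w₁₃ := by
    ext <;> exact NatTrans.congr_app (cokernel.condition η) _
  h₀ := ShortComplex.isLimitOfIsLimitπ _
    ((KernelFork.isLimitMapConeEquiv _ ShortComplex.π₁).symm (hker _))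
    ((KernelFork.isLimitMapConeEquiv _ ShortComplex.π₂).symm (hker _))
    ((KernelFork.isLimitMapConeEquiv _ ShortComplex.π₃).symm (hker _))
  h₃ := ShortComplex.isColimitOfIsColimitπ _
    ((CokernelCofork.isColimitMapCoconeEquiv _ ShortComplex.π₁).symm (cokerAt η _))
    ((CokernelCofork.isColimitMapCoconeEquiv _ ShortComplex.π₂).symm (cokerAt η _))
    ((CokernelCofork.isColimitMapCoconeEquiv _ ShortComplex.π₃).symm (cokerAt η _))
  L₁_exact := hS.exact
  epi_L₁_g := hS.epi_g
  L₂_exact := hS.exact.map_of_mono_of_preservesKernel P hS.mono_f inferInstance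
  mono_L₂_f := by
    have := hS.mono_f
    exact P.map_mono S.f

/-- The cokernel of `η` is presented by `Γ`. -/
noncomputable def cokerStepPres : StepPres Γ (cokernel η) where
  d X := (snake ι η w hker (effSES_shortExact X)).δ
  w X := (snake ι η w hker (effSES_shortExact X)).L₀_g_δ
  isColimit X :=
    @ShortComplex.Exact.gIsCokernel _ _ _ _ _ (snake ι η w hker (effSES_shortExact X)).L₁'_exact
      ((snake ι η w hker (effSES_shortExact X)).epi_δ (isZero_cokernel_obj η hη _ (injective_effSES X)))
  nat {X X'} φ :=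
    (ShortComplex.SnakeInput.naturality_δ
      ({ f₀ := Γ.mapShortComplex.map φ
         f₁ := (𝟭 A).mapShortComplex.map φ
         f₂ := P.mapShortComplex.map φ
         f₃ := (cokernel η).mapShortComplex.map φ
         comm₀₁ := by ext <;> exact ι.naturality _
         comm₁₂ := by ext <;> exact η.naturality _
         comm₂₃ := by ext <;> exact (cokernel.π η).naturality _ } :
        snake ι η w hker (effSES_shortExact X) ⟶ snake ι η w hker (effSES_shortExact X'))).symm

include hker hη in
/-- `R¹Γ` is the cokernel of `η`. -/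
theorem nonempty_rightDerived_one_iso : Nonempty (Γ.rightDerived 1 ≅ cokernel η) :=
  nonempty_iso_of_stepPres (derivedStepPres Γ 0) (cokerStepPres ι η w hker hη) Γ.rightDerivedZeroIsoSelf

/-- `R¹P` is presented by the cokernel of `η`. -/
noncomputable def cokerStepPres' : StepPres (cokernel η) (P.rightDerived 1) := by
  let d₀ := fun X : A => P.rightDerivedZeroIsoSelf.inv.app (effSES X).X₃ ≫ (derivedStepPres P 0).d X
  have hd₀ : ∀ X, P.map (effSES X).g ≫ d₀ X = 0 := fun X => by
    show P.map (effSES X).g ≫ _ ≫ _ = 0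
    rw [← Category.assoc, P.rightDerivedZeroIsoSelf.inv.naturality (effSES X).g, Category.assoc,
      (derivedStepPres P 0).w X, comp_zero]
  have hηd : ∀ X, η.app (effSES X).X₃ ≫ d₀ X = 0 := fun X => by
    have := (effSES_shortExact X).epi_g
    rw [← cancel_epi (effSES X).g, comp_zero]
    refine (Category.assoc _ _ _).symm.trans ((congrArg (fun t => t ≫ d₀ X) (η.naturality (effSES X).g)).trans ?_)
    rw [Category.assoc, hd₀, comp_zero]
  let d : ∀ X : A, (cokernel η).obj (effSES X).X₃ ⟶ (P.rightDerived (0 + 1)).obj X :=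
    fun X => (CokernelCofork.IsColimit.desc' (cokerAt η (effSES X).X₃) (d₀ X) (hηd X)).1
  have hd : ∀ X, (cokernel.π η).app (effSES X).X₃ ≫ d X = d₀ X := fun X =>
    (CokernelCofork.IsColimit.desc' (cokerAt η (effSES X).X₃) (d₀ X) (hηd X)).2
  have hw : ∀ X, (cokernel η).map (effSES X).g ≫ d X = 0 := fun X =>
    (isZero_cokernel_obj η hη _ (injective_effSES X)).eq_of_src _ _
  have hπ : ∀ X, (P.rightDerived 0).map (effSES X).g ≫
      P.rightDerivedZeroIsoSelf.hom.app (effSES X).X₃ ≫ (cokernel.π η).app (effSES X).X₃ = 0 := fun X => by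
    have h0 : P.map (effSES X).g ≫ (cokernel.π η).app (effSES X).X₃ = 0 := by
      rw [(cokernel.π η).naturality]
      exact (congrArg (fun t => t ≫ _) ((isZero_cokernel_obj η hη _ (injective_effSES X)).eq_of_tgt
        ((cokernel.π η).app (effSES X).X₂) 0)).trans zero_comp
    rw [P.rightDerivedZeroIsoSelf.hom.naturality_assoc, h0, comp_zero]
  let dinv : ∀ X : A, (P.rightDerived (0 + 1)).obj X ⟶ (cokernel η).obj (effSES X).X₃ :=
    fun X => (CokernelCofork.IsColimit.desc' ((derivedStepPres P 0).isColimit X) _ (hπ X)).1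
  have hdinv : ∀ X, (derivedStepPres P 0).d X ≫ dinv X =
      P.rightDerivedZeroIsoSelf.hom.app (effSES X).X₃ ≫ (cokernel.π η).app (effSES X).X₃ := fun X =>
    (CokernelCofork.IsColimit.desc' ((derivedStepPres P 0).isColimit X) _ (hπ X)).2
  have h₁ : ∀ X, d X ≫ dinv X = 𝟙 _ := fun X => by
    refine (Cofork.IsColimit.epi (cokerAt η (effSES X).X₃)).left_cancellation _ _ ?_
    show (cokernel.π η).app _ ≫ d X ≫ dinv X = (cokernel.π η).app _ ≫ 𝟙 _
    rw [← Category.assoc, hd X, Category.assoc, hdinv X, Category.comp_id, ← Category.assoc,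
      Iso.inv_hom_id_app, Category.id_comp]
  have h₂ : ∀ X, dinv X ≫ d X = 𝟙 _ := fun X => by
    refine (Cofork.IsColimit.epi ((derivedStepPres P 0).isColimit X)).left_cancellation _ _ ?_
    show (derivedStepPres P 0).d X ≫ dinv X ≫ d X = (derivedStepPres P 0).d X ≫ 𝟙 _
    rw [← Category.assoc, hdinv X, Category.assoc, hd X, Category.comp_id]
    exact (Category.assoc _ _ _).symm.trans ((congrArg (fun t => t ≫ (derivedStepPres P 0).d X)
      (P.rightDerivedZeroIsoSelf.hom_inv_id_app _)).trans (Category.id_comp _))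
  exact
    { d := d
      w := hw
      isColimit := fun X => CokernelCofork.IsColimit.ofπ _ _ (fun g _ => dinv X ≫ g)
        (fun g _ => by rw [← Category.assoc, h₁, Category.id_comp])
        (fun g _ m hm => by rw [← hm, ← Category.assoc, h₂, Category.id_comp])
      nat := fun {X X'} φ => by
        refine (Cofork.IsColimit.epi (cokerAt η (effSES X).X₃)).left_cancellation _ _ ?_
        show (cokernel.π η).app _ ≫ (cokernel η).map φ.τ₃ ≫ d X' = (cokernel.π η).app _ ≫ d X ≫ _
        refine (Category.assoc _ _ _).symm.trans ((congrArg (fun t => t ≫ d X')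
          ((cokernel.π η).naturality φ.τ₃).symm).trans ((Category.assoc _ _ _).trans
          ((congrArg (fun t => P.map φ.τ₃ ≫ t) (hd X')).trans ?_)))
        refine Eq.trans ?_ ((congrArg (fun t => t ≫ (P.rightDerived (0 + 1)).map φ.τ₁) (hd X).symm).trans
          (Category.assoc _ _ _))
        refine (Category.assoc _ _ _).symm.trans ((congrArg (fun t => t ≫ (derivedStepPres P 0).d X')
          (P.rightDerivedZeroIsoSelf.inv.naturality φ.τ₃)).trans ((Category.assoc _ _ _).trans ?_))
        exact (congrArg (fun t => P.rightDerivedZeroIsoSelf.inv.app _ ≫ t) ((derivedStepPres P 0).nat φ)).trans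
          (Category.assoc _ _ _).symm }

include hker hη in
/-- `R^{q+2}Γ ≅ R^{q+1}P`. -/
theorem nonempty_rightDerived_succ_iso (q : ℕ) :
    Nonempty (Γ.rightDerived (q + 2) ≅ P.rightDerived (q + 1)) := by
  induction q with
  | zero =>
    obtain ⟨e⟩ := nonempty_rightDerived_one_iso ι η w hker hη
    exact nonempty_iso_of_stepPres (derivedStepPres Γ 1) (cokerStepPres' η hη) e
  | succ q ih =>
    obtain ⟨e⟩ := ih
    exact nonempty_iso_of_stepPres (derivedStepPres Γ (q + 2)) (derivedStepPres P (q + 1)) e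

end Kernel

end Groth.Agent.SiteBase
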