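import Groth.Agent.SiteBase.ClosedEmb
import Groth.Prelude.Def_CohCx
import Mathlib.CategoryTheory.Preadditive.Injective.Basic

/-!
Sections with support of an injective abelian sheaf.
-/

set_option autoImplicit false

universe u

open CategoryTheory CategoryTheory.Limits TopologicalSpace Opposite TopCat Topology

noncomputable section

namespace Groth.Agent.ClosedEmb

variable {X : TopCat.{u}} (U : Opens X)

lemma isClosedEmbedding_inclCompl : IsClosedEmbedding (CohCx.inclCompl U) :=
  U.isOpen.isClosed_compl.isClosedEmbedding_subtypeVal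

lemma isInducing_incl : IsInducing (CohCx.incl U) :=
  U.isOpenEmbedding.isInducing

lemma not_range_inclCompl_iff (x : X) : x ∉ Set.range (CohCx.inclCompl U) ↔ x ∈ U := by
  constructor
  · intro h
    by_contra hx
    exact h ⟨⟨x, hx⟩, rfl⟩
  · rintro hx ⟨⟨y, hy⟩, rfl⟩
    exact hy hx

abbrev pAdj {Y Z : TopCat.{u}} (f : Y ⟶ Z) : CohTop.pull f ⊣ CohTop.push f :=
  TopCat.Sheaf.pullbackPushforwardAdjunction AddCommGrpCat.{u} f

section Abstract

variable {A B C : Type*} [Category A] [Category B] [Category C] [Abelian A]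

lemma isZero_obj_kernel [Abelian B] (G : A ⥤ B) [G.PreservesZeroMorphisms] [PreservesFiniteLimits G]
    {P Q : A} (m : P ⟶ Q) (h : IsIso (G.map m)) : IsZero (G.obj (kernel m)) := by
  refine IsZero.of_mono_eq_zero (G.map (kernel.ι m)) ?_
  rw [← cancel_mono (G.map m), ← G.map_comp, kernel.condition, G.map_zero, zero_comp]

lemma injective_kernel_unit [HasZeroMorphisms C] {L : A ⥤ B} {R : B ⥤ A} (adj : L ⊣ R) [R.Full]
    [R.Faithful] {L' : A ⥤ C} {R' : C ⥤ A} (adj' : L' ⊣ R') (I : A) [Injective I]
    (hK : IsIso (adj.unit.app (kernel (adj'.unit.app I))))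
    (hz : ∀ b : B, IsZero (L'.obj (R.obj b))) :
    Injective (L.obj (kernel (adj'.unit.app I))) := by
  refine ⟨fun {a b} φ f _ => ?_⟩
  have : R.IsRightAdjoint := adj.isRightAdjoint
  have : Injective ((𝟭 A).obj I) := ‹Injective I›
  have : Mono (R.map f) := inferInstance
  let e : R.obj (L.obj (kernel (adj'.unit.app I))) ⟶ kernel (adj'.unit.app I) :=
    inv (adj.unit.app (kernel (adj'.unit.app I)))
  let k : kernel (adj'.unit.app I) ⟶ I := kernel.ι (adj'.unit.app I)
  let ψ : R.obj b ⟶ I := Injective.factorThru (J := I) (R.map φ ≫ e ≫ k) (R.map f)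
  have hψ : ψ ≫ adj'.unit.app I = 0 :=
    (adj'.homEquiv _ _).symm.injective ((hz b).eq_of_src _ _)
  let ψ' : R.obj b ⟶ kernel (adj'.unit.app I) := kernel.lift _ ψ hψ
  have hψ' : R.map f ≫ ψ' = R.map φ ≫ e := by
    rw [← cancel_mono (kernel.ι _), Category.assoc, Category.assoc, kernel.lift_ι]
    exact Injective.comp_factorThru _ _
  refine ⟨R.preimage (ψ' ≫ adj.unit.app _), R.map_injective ?_⟩
  rw [R.map_comp, R.map_preimage, ← Category.assoc, hψ', Category.assoc]
  exact (congrArg (fun z => R.map φ ≫ z) (IsIso.inv_hom_id _)).trans (Category.comp_id _)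

end Abstract

lemma isZero_stalk_sectSupp (F : CohTop.Ab X) (x : X) (hx : x ∈ U) :
    IsZero (CohTop.stalk (CohCx.sectSupp U F) x) := by
  have : PreservesFiniteLimits (stalkF x) :=
    inferInstanceAs (PreservesFiniteLimits
      (TopCat.Sheaf.forget AddCommGrpCat.{u} X ⋙ TopCat.Presheaf.stalkFunctor AddCommGrpCat.{u} x))
  exact isZero_obj_kernel (stalkF x) ((pAdj (CohCx.incl U)).unit.app F)
    (isIso_stalk_unit (isInducing_incl U) F ⟨x, hx⟩)

lemma isZero_pull_push (B : CohTop.Ab (TopCat.of ((U : Set X)ᶜ : Set X))) :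
    IsZero ((CohTop.pull (CohCx.incl U)).obj ((CohTop.push (CohCx.inclCompl U)).obj B)) := by
  refine (TopCat.Sheaf.isZero_iff_stalkFunctor_obj_isZero _).2 fun y => ?_
  exact (isZero_stalk_push (isClosedEmbedding_inclCompl U) B _
    ((not_range_inclCompl_iff U _).2 y.2)).of_iso ((pullStalkIso (CohCx.incl U) y).app _)

theorem injective_HZ (I : CohTop.Ab X) [Injective I] : Injective (CohCx.HZ U I) := by
  have hi := isClosedEmbedding_inclCompl U
  have := push_full hi.isInducing
  have := push_faithful hi.isInducing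
  exact injective_kernel_unit (pAdj (CohCx.inclCompl U)) (pAdj (CohCx.incl U)) I
    (isIso_unit hi _ fun x hx => isZero_stalk_sectSupp U I x ((not_range_inclCompl_iff U x).1 hx))
    (isZero_pull_push U)

end Groth.Agent.ClosedEmb

end
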