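import Groth.Agent.SiteBase.CoLift
import Groth.Agent.SiteBase.Top

/-!
# Cohomology of restrictions to open subspaces
-/

universe u

open CategoryTheory CategoryTheory.Limits Opposite Abelian TopologicalSpace

namespace Groth.Agent.SiteBase

variable {X : TopCat.{u}} (U : Opens X)

lemma isCocontinuous_openFunctor {Y : TopCat.{u}} {f : Y ⟶ X} (hf : Topology.IsOpenEmbedding f) :
    hf.isOpenMap.functor.IsCocontinuous (Opens.grothendieckTopology Y) (Opens.grothendieckTopology X) where
  cover_lift {V S} hS := by
    intro x hx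
    obtain ⟨W, i, hi, hxW⟩ := hS (f x) ⟨x, hx, rfl⟩
    refine ⟨(Opens.map f).obj W, homOfLE fun y hy => ?_, ?_, hxW⟩
    · obtain ⟨z, hz, hzy⟩ := i.le (show f y ∈ W from hy)
      rwa [← hf.injective hzy]
    · show S.arrows _
      have hle : hf.isOpenMap.functor.obj ((Opens.map f).obj W) ≤ W := by
        rintro _ ⟨y, hy, rfl⟩
        exact hy
      have := S.downward_closed hi (homOfLE hle)
      exact (congrArg (fun g => S.arrows g) (Subsingleton.elim _ _)).mp this

instance isFlasque_restr (F : CohTop.Ab X) [hF : TopCat.Sheaf.IsFlasque F] :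
    TopCat.Sheaf.IsFlasque (CohTop.restr F U) where
  epi _ := hF.epi _

theorem nonempty_HU_restr (F : CohTop.Ab X) (n : ℕ) (W : Opens (TopCat.of U)) :
    Nonempty (CohTop.HU (CohTop.restr F U) n W ≃+
      CohTop.HU F n (U.isOpenEmbedding.isOpenMap.functor.obj W)) := by
  have H : Topology.IsOpenEmbedding
      (TopCat.ofHom ⟨Subtype.val, continuous_subtype_val⟩ : TopCat.of U ⟶ X) := U.isOpenEmbedding
  have : H.isOpenMap.functor.IsContinuous (Opens.grothendieckTopology (TopCat.of U))
      (Opens.grothendieckTopology X) := H.functor_isContinuous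
  have := isCocontinuous_openFunctor H
  exact nonempty_HU_push_addEquiv H.isOpenMap.functor W
    (fun I hI q => by
      have := hI
      have := isFlasque_of_injective I
      exact subsingleton_HU_of_isFlasque (CohTop.restr I U) W q) F n

theorem nonempty_HU_addEquiv_H_restr (F : CohTop.Ab X) (n : ℕ) :
    Nonempty (CohTop.HU F n U ≃+ CohTop.H (CohTop.restr F U) n) := by
  obtain ⟨e⟩ := nonempty_HU_restr U F n ⊤
  have hU : U.isOpenEmbedding.isOpenMap.functor.obj ⊤ = U := Opens.ext (by
    show Subtype.val '' (Set.univ : Set U) = (U : Set X)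
    simp)
  obtain ⟨e'⟩ := nonempty_HU_congr (J := Opens.grothendieckTopology X) (eqToIso hU) F n
  exact ⟨e'.symm.trans (e.symm.trans (huTerminalEquiv isTerminalTop (CohTop.restr F U) n))⟩

end Groth.Agent.SiteBase
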