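import Groth.Agent.SiteBase.FreePresAbstract
import Groth.Agent.SiteBase.QcSum
import Groth.Agent.ModPull.Sections
import Groth.Agent.ModTensor.FreeOn
import Groth.Prelude.Def_CohCx
import Mathlib.CategoryTheory.Sites.IsSheafFor

/-!
# Finite direct sums of free modules on quasi-compact generators
-/

set_option autoImplicit false
set_option backward.isDefEq.respectTransparency false
set_option linter.style.haveILetI false
set_option linter.unusedSectionVars false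

universe u

open CategoryTheory CategoryTheory.Limits Opposite
open Groth.Agent.ModTensor Groth.Agent.ModPull

noncomputable section

namespace Groth.Agent.FreeOnPres

variable {C : Type u} [SmallCategory C] {J : GrothendieckTopology C} {O : Sheaf J CommRingCat.{u}}

/-- The section corresponding to a map out of `j_! O_U`. -/
def sec {U : C} {M : ModSite.Mod O} (φ : ModSite.freeOn O U ⟶ M) : ((fg O).obj M).obj (op U) :=
  (freeOnCorepr O U).homEquiv φ

/-- The map corresponding to a section. -/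
def toHom {U : C} {M : ModSite.Mod O} (x : ((fg O).obj M).obj (op U)) : ModSite.freeOn O U ⟶ M :=
  (freeOnCorepr O U).homEquiv.symm x

lemma sec_toHom {U : C} {M : ModSite.Mod O} (x : ((fg O).obj M).obj (op U)) : sec (toHom x) = x :=
  (freeOnCorepr O U).homEquiv.apply_symm_apply x

lemma sec_inj {U : C} {M : ModSite.Mod O} {φ ψ : ModSite.freeOn O U ⟶ M} (h : sec φ = sec ψ) : φ = ψ :=
  (freeOnCorepr O U).homEquiv.injective h

lemma sec_comp {U : C} {M N : ModSite.Mod O} (φ : ModSite.freeOn O U ⟶ M) (g : M ⟶ N) :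
    sec (φ ≫ g) = ((fg O).map g).app (op U) (sec φ) :=
  (freeOnCorepr O U).homEquiv_comp g φ

/-- The map induced by a map of objects. -/
def fmap {V U : C} (f : V ⟶ U) : ModSite.freeOn O V ⟶ ModSite.freeOn O U :=
  toHom (rs ((fg O).obj (ModSite.freeOn O U)) f.op (sec (𝟙 (ModSite.freeOn O U))))

lemma sec_fmap_comp {V U : C} {M : ModSite.Mod O} (f : V ⟶ U) (φ : ModSite.freeOn O U ⟶ M) :
    sec (fmap f ≫ φ) = rs ((fg O).obj M) f.op (sec φ) := by
  rw [sec_comp, fmap, sec_toHom, app_rs, ← sec_comp, Category.id_comp]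

lemma fmap_comp {W V U : C} (g : W ⟶ V) (f : V ⟶ U) :
    fmap (O := O) g ≫ fmap f = fmap (g ≫ f) := by
  refine sec_inj ?_
  rw [sec_fmap_comp, fmap, fmap, sec_toHom, sec_toHom, op_comp, rs_comp]

variable (O) in
/-- A finite direct sum. -/
abbrev fsum {ι : Type u} (U : ι → C) : ModSite.Mod O := ∐ fun i => ModSite.freeOn O (U i)

variable (O) in
/-- Finite direct sums of `j_! O_U`, `U ∈ B`. -/
def IsFree (B : Set C) (P : ModSite.Mod O) : Prop :=
  ∃ (ι : Type u) (_ : Finite ι) (U : ι → C), (∀ i, U i ∈ B) ∧ Nonempty (P ≅ fsum O U)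

lemma exists_cover (B : Set C)
    (hB₁ : ∀ X : C, ∃ (κ : Type u) (Y : κ → C) (g : ∀ k, Y k ⟶ X), Sieve.ofArrows Y g ∈ J X ∧ ∀ k, Y k ∈ B)
    (U : C) (hqc : CohCx.IsQcObject ((presheafToSheaf J (Type u)).obj (yoneda.obj U)))
    (T : Sieve U) (hT : T ∈ J U) :
    ∃ (n : Type u) (_ : Finite n) (Y : n → C) (f : ∀ i, Y i ⟶ U),
      (∀ i, T (f i)) ∧ (∀ i, Y i ∈ B) ∧ Sieve.ofArrows Y f ∈ J U := by
  let I := Σ W : {W : C // W ∈ B}, {g : W.1 ⟶ U // T g}
  have hS : Sieve.ofArrows (fun i : I => i.1.1) (fun i => i.2.1) ∈ J U := by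
    refine J.transitive hT _ fun V g hg => ?_
    obtain ⟨κ, Yc, a, ha, hY⟩ := hB₁ V
    refine J.superset_covering ?_ ha
    rintro W k ⟨_, b, _, ⟨j⟩, rfl⟩
    refine ⟨Yc j, b, a j ≫ g, ⟨(⟨⟨Yc j, hY j⟩, a j ≫ g, T.downward_closed hg (a j)⟩ : I)⟩, ?_⟩
    rw [Category.assoc]
  obtain ⟨n, hn, Y, f, hf, hcov⟩ := QcSum.exists_finite_cover U hqc _ hS
  choose W a b hb e using hf
  have hI : ∀ k, ∃ (i : I) (c : Y k ⟶ i.1.1), c ≫ i.2.1 = f k := fun k => by
    obtain ⟨W', a', b', ⟨i⟩, e'⟩ : Sieve.ofArrows (fun i : I => i.1.1) (fun i => i.2.1) (f k) :=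
      ⟨W k, a k, b k, hb k, e k⟩
    exact ⟨i, a', e'⟩
  choose i c hc using hI
  refine ⟨n, hn, fun k => (i k).1.1, fun k => (i k).2.1, fun k => (i k).2.2, fun k => (i k).1.2, ?_⟩
  refine J.superset_covering ?_ hcov
  rintro V g ⟨_, p, _, ⟨k⟩, rfl⟩
  exact ⟨(i k).1.1, p ≫ c k, (i k).2.1, ⟨k⟩, by rw [Category.assoc, hc]⟩

section Free

variable {B : Set C}

lemma isFree_zero (X : ModSite.Mod O) (hX : IsZero X) : IsFree O B X :=
  ⟨PEmpty, inferInstance, PEmpty.elim, fun i => i.elim, ⟨hX.iso (by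
    rw [IsZero.iff_id_eq_zero]
    exact Sigma.hom_ext _ _ fun j => j.elim)⟩⟩

lemma isFree_biprod (X Y : ModSite.Mod O) (hX : IsFree O B X) (hY : IsFree O B Y) : IsFree O B (X ⊞ Y) := by
  obtain ⟨ι, hι, U, hU, ⟨a⟩⟩ := hX
  obtain ⟨κ, hκ, V, hV, ⟨b⟩⟩ := hY
  let W : ι ⊕ κ → C := Sum.elim U V
  refine ⟨ι ⊕ κ, inferInstance, W, fun k => by rcases k with i | j; exacts [hU i, hV j], ⟨
    { hom := biprod.desc
        (a.hom ≫ Sigma.desc fun j => Sigma.ι (fun k => ModSite.freeOn O (W k)) (Sum.inl j))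
        (b.hom ≫ Sigma.desc fun j => Sigma.ι (fun k => ModSite.freeOn O (W k)) (Sum.inr j))
      inv := Sigma.desc fun k => match k with
        | Sum.inl j => Sigma.ι (fun j => ModSite.freeOn O (U j)) j ≫ a.inv ≫ biprod.inl
        | Sum.inr j => Sigma.ι (fun j => ModSite.freeOn O (V j)) j ≫ b.inv ≫ biprod.inr
      hom_inv_id := ?_
      inv_hom_id := ?_ }⟩⟩
  · apply biprod.hom_ext'
    · rw [biprod.inl_desc_assoc, Category.comp_id, Category.assoc, ← cancel_epi a.inv, Iso.inv_hom_id_assoc]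
      refine Sigma.hom_ext _ _ fun j => ?_
      rw [Sigma.ι_desc_assoc, Sigma.ι_desc]
    · rw [biprod.inr_desc_assoc, Category.comp_id, Category.assoc, ← cancel_epi b.inv, Iso.inv_hom_id_assoc]
      refine Sigma.hom_ext _ _ fun j => ?_
      rw [Sigma.ι_desc_assoc, Sigma.ι_desc]
  · refine Sigma.hom_ext _ _ fun k => ?_
    rw [Sigma.ι_desc_assoc, Category.comp_id]
    rcases k with j | j
    · simp
    · simp

end Free

variable (B : Set C)
    (hB₁ : ∀ X : C, ∃ (κ : Type u) (Y : κ → C) (g : ∀ k, Y k ⟶ X), Sieve.ofArrows Y g ∈ J X ∧ ∀ k, Y k ∈ B)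
    (hB₂ : ∀ U ∈ B, CohCx.IsQcObject ((presheafToSheaf J (Type u)).obj (yoneda.obj U)))

include hB₁ hB₂ in
/-- The data of a lifting after a finite covering. -/
lemma exists_lift {X Y : ModSite.Mod O} (p : X ⟶ Y) [Epi p] {ι : Type u} [Finite ι] (U : ι → C) (hU : ∀ i, U i ∈ B)
    (f : fsum O U ⟶ Y) :
    ∃ (n : ι → Type u) (_ : ∀ i, Finite (n i)) (Z : ∀ i, n i → C) (c : ∀ i k, Z i k ⟶ U i)
      (g : fsum O (fun s : Σ i, n i => Z s.1 s.2) ⟶ X),
      (∀ i k, Z i k ∈ B) ∧ (∀ i, Sieve.ofArrows (Z i) (c i) ∈ J (U i)) ∧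
      g ≫ p = Sigma.desc (fun s : Σ i, n i => fmap (c s.1 s.2) ≫ Sigma.ι (fun i => ModSite.freeOn O (U i)) s.1) ≫ f := by
  have h : ∀ i, ∃ (n : Type u) (_ : Finite n) (Z : n → C) (c : ∀ k, Z k ⟶ U i)
      (m : ∀ k, ((fg O).obj X).obj (op (Z k))), (∀ k, Z k ∈ B) ∧ Sieve.ofArrows Z c ∈ J (U i) ∧
      ∀ k, ((fg O).map p).app (op (Z k)) (m k) =
        rs ((fg O).obj Y) (c k).op (sec (Sigma.ι (fun i => ModSite.freeOn O (U i)) i ≫ f)) := fun i => by
    obtain ⟨T, hT, hTs⟩ := locally_exists_app_eq p (sec (Sigma.ι (fun i => ModSite.freeOn O (U i)) i ≫ f))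
    obtain ⟨n, hn, Z, c, hc, hZ, hcov⟩ := exists_cover B hB₁ (U i) (hB₂ _ (hU i)) T hT
    choose m hm using fun k => hTs (c k) (hc k)
    exact ⟨n, hn, Z, c, m, hZ, hcov, hm⟩
  choose n hn Z c m hZ hcov hm using h
  refine ⟨n, hn, Z, c, Sigma.desc fun s => toHom (m s.1 s.2), hZ, hcov, Sigma.hom_ext _ _ fun s => ?_⟩
  rw [Sigma.ι_desc_assoc, Sigma.ι_desc_assoc, Category.assoc]
  refine sec_inj ?_
  rw [sec_comp, sec_toHom, hm, sec_fmap_comp]

lemma epi_covering {ι : Type u} (U : ι → C) (n : ι → Type u) (Z : ∀ i, n i → C) (c : ∀ i k, Z i k ⟶ U i)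
    (hc : ∀ i, Sieve.ofArrows (Z i) (c i) ∈ J (U i)) :
    Epi (Sigma.desc (fun s : Σ i, n i => fmap (O := O) (c s.1 s.2) ≫ Sigma.ι (fun i => ModSite.freeOn O (U i)) s.1)) := by
  refine ⟨fun {M} a b h => Sigma.hom_ext _ _ fun i => sec_inj ?_⟩
  refine eq_of_locally (J := J) (H := (fg O).obj M) M.isSheaf (hc i) fun V g hg => ?_
  obtain ⟨_, q, _, ⟨k⟩, rfl⟩ := hg
  have hk := congrArg (fun t => Sigma.ι (fun s : Σ i, n i => ModSite.freeOn O (Z s.1 s.2)) ⟨i, k⟩ ≫ t) h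
  simp only [Sigma.ι_desc_assoc, Category.assoc] at hk
  rw [op_comp, rs_comp, rs_comp]
  refine congrArg (rs ((fg O).obj M) q.op) ?_
  rw [← sec_fmap_comp, ← sec_fmap_comp, hk]

include hB₁ hB₂ in
/-- Finite sums of `j_! O_U` form a class of generators. -/
theorem gen : FreePres.Gen (IsFree O B) where
  zero := isFree_zero
  biprod := isFree_biprod
  lift {X Y Q} p _ f hQ := by
    obtain ⟨ι, hι, U, hU, ⟨e⟩⟩ := hQ
    obtain ⟨n, hn, Z, c, g, hZ, hcov, hg⟩ := exists_lift B hB₁ hB₂ p U hU (e.inv ≫ f)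
    haveI := epi_covering (O := O) U n Z c hcov
    refine ⟨_, ⟨Σ i, n i, inferInstance, _, fun s => hZ s.1 s.2, ⟨Iso.refl _⟩⟩, _ ≫ e.inv, g,
      epi_comp _ _, hg.trans (Category.assoc _ _ _).symm⟩

variable [HasPullbacks C]
    (hB₃ : ∀ (U U₁ U₂ : C) (f₁ : U₁ ⟶ U) (f₂ : U₂ ⟶ U), U ∈ B → U₁ ∈ B → U₂ ∈ B →
      CohCx.IsQcObject ((presheafToSheaf J (Type u)).obj (yoneda.obj (pullback f₁ f₂))))

include hB₁ hB₃ in
/-- The kernel of a finite covering is finitely generated. -/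
lemma fg_kernel_covering {ι : Type u} [Finite ι] (U : ι → C) (hU : ∀ i, U i ∈ B) (n : ι → Type u)
    [∀ i, Finite (n i)] (Z : ∀ i, n i → C) (hZ : ∀ i k, Z i k ∈ B) (c : ∀ i k, Z i k ⟶ U i)
    (hc : ∀ i, Sieve.ofArrows (Z i) (c i) ∈ J (U i)) {Q : ModSite.Mod O} (e : fsum O U ≅ Q) :
    FreePres.Fg (IsFree O B) (kernel (Sigma.desc (fun s : Σ i, n i =>
      fmap (O := O) (c s.1 s.2) ≫ Sigma.ι (fun i => ModSite.freeOn O (U i)) s.1) ≫ e.hom)) := by
  let T := Σ i, n i × n i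
  have h : ∀ t : T, ∃ (m : Type u) (_ : Finite m) (W : m → C)
      (w : ∀ j, W j ⟶ pullback (c t.1 t.2.1) (c t.1 t.2.2)), (∀ j, W j ∈ B) ∧
      Sieve.ofArrows W w ∈ J (pullback (c t.1 t.2.1) (c t.1 t.2.2)) := fun t => by
    obtain ⟨m, hm, W, w, -, hW, hw⟩ := exists_cover B hB₁ _
      (hB₃ _ _ _ (c t.1 t.2.1) (c t.1 t.2.2) (hU _) (hZ _ _) (hZ _ _)) ⊤ (J.top_mem _)
    exact ⟨m, hm, W, w, hW, hw⟩
  choose m hm W w hW hw using h
  let Zf : (Σ i, n i) → ModSite.Mod O := fun s => ModSite.freeOn O (Z s.1 s.2)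
  let r : fsum O (fun s : Σ t : T, m t => W s.1 s.2) ⟶ fsum O (fun s : Σ i, n i => Z s.1 s.2) :=
    Sigma.desc fun s =>
      fmap (w s.1 s.2 ≫ pullback.fst (c s.1.1 s.1.2.1) (c s.1.1 s.1.2.2)) ≫ Sigma.ι Zf ⟨s.1.1, s.1.2.1⟩ -
      fmap (w s.1 s.2 ≫ pullback.snd (c s.1.1 s.1.2.1) (c s.1.1 s.1.2.2)) ≫ Sigma.ι Zf ⟨s.1.1, s.1.2.2⟩
  let π := Sigma.desc (fun s : Σ i, n i =>
    fmap (O := O) (c s.1 s.2) ≫ Sigma.ι (fun i => ModSite.freeOn O (U i)) s.1) ≫ e.hom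
  haveI := epi_covering (O := O) U n Z c hc
  haveI : Epi π := epi_comp _ _
  have hr : r ≫ π = 0 := by
    refine Sigma.hom_ext _ _ fun s => ?_
    rw [Sigma.ι_desc_assoc, Preadditive.sub_comp, comp_zero, sub_eq_zero]
    simp only [π, Zf, Category.assoc, Sigma.ι_desc_assoc]
    rw [← Category.assoc, fmap_comp, ← Category.assoc (fmap (O := O) (w s.1 s.2 ≫ pullback.snd _ _)), fmap_comp,
      Category.assoc, Category.assoc, pullback.condition]
  refine ⟨_, ⟨Σ t : T, m t, inferInstance, _, fun s => hW s.1 s.2, ⟨Iso.refl _⟩⟩, kernel.lift π r hr, ?_⟩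
  have key : ∀ {M : ModSite.Mod O} (a : fsum O (fun s : Σ i, n i => Z s.1 s.2) ⟶ M), r ≫ a = 0 →
      ∃ b : Q ⟶ M, π ≫ b = a := by
    intro M a ha
    have hexi : ∀ i, ∃ t : ((fg O).obj M).obj (op (U i)), ∀ k,
        rs ((fg O).obj M) (c i k).op t = sec (Sigma.ι Zf ⟨i, k⟩ ≫ a) := fun i => by
      have hsh : Presieve.IsSheafFor (((fg O).obj M).presheaf ⋙ CategoryTheory.forget Ab.{u})
          (Presieve.ofArrows (Z i) (c i)) := by
        rw [Presieve.isSheafFor_iff_generate]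
        exact ((isSheaf_iff_isSheaf_of_type _ _).1
          ((Presheaf.isSheaf_iff_isSheaf_forget J ((fg O).obj M).presheaf (CategoryTheory.forget Ab.{u})).1 M.isSheaf)) _ (hc i)
      refine ((Presieve.isSheafFor_arrows_iff _ _).1 hsh (fun k => sec (Sigma.ι Zf ⟨i, k⟩ ≫ a)) ?_).exists
      intro k l V gk gl hg
      show rs ((fg O).obj M) gk.op (sec (Sigma.ι Zf ⟨i, k⟩ ≫ a)) =
        rs ((fg O).obj M) gl.op (sec (Sigma.ι Zf ⟨i, l⟩ ≫ a))
      have hp : rs ((fg O).obj M) (pullback.fst (c i k) (c i l)).op (sec (Sigma.ι Zf ⟨i, k⟩ ≫ a)) =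
          rs ((fg O).obj M) (pullback.snd (c i k) (c i l)).op (sec (Sigma.ι Zf ⟨i, l⟩ ≫ a)) := by
        refine eq_of_locally (J := J) (H := (fg O).obj M) M.isSheaf (hw ⟨i, k, l⟩) fun V' g' hg' => ?_
        obtain ⟨_, q, _, ⟨j⟩, rfl⟩ := hg'
        simp only [op_comp, rs_comp]
        refine congrArg (rs ((fg O).obj M) q.op) ?_
        rw [← rs_comp, ← op_comp, ← rs_comp, ← op_comp, ← sec_fmap_comp, ← sec_fmap_comp]
        refine congrArg sec (sub_eq_zero.1 ?_)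
        rw [← Category.assoc, ← Category.assoc, ← Preadditive.sub_comp]
        have := congrArg (fun t => Sigma.ι (fun s : Σ t : T, m t => ModSite.freeOn O (W s.1 s.2)) ⟨⟨i, k, l⟩, j⟩ ≫ t) ha
        simp only [r, Sigma.ι_desc_assoc, comp_zero] at this
        exact this
      rw [← pullback.lift_fst gk gl hg]
      conv_rhs => rw [← pullback.lift_snd gk gl hg]
      rw [op_comp, op_comp, rs_comp, rs_comp, hp]
    choose t ht using hexi
    refine ⟨e.inv ≫ Sigma.desc fun i => toHom (t i), Sigma.hom_ext _ _ fun s => ?_⟩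
    simp only [π, Category.assoc, Iso.hom_inv_id_assoc, Sigma.ι_desc_assoc, Sigma.ι_desc]
    refine sec_inj ?_
    rw [sec_fmap_comp, sec_toHom]
    exact ht s.1 s.2
  have hex : (ShortComplex.mk r π hr).Exact := by
    refine ShortComplex.exact_of_g_is_cokernel _ (CokernelCofork.IsColimit.ofπ π hr
      (fun a ha => (key a ha).choose) (fun a ha => (key a ha).choose_spec)
      (fun a ha b hb => ?_))
    rw [← cancel_epi π, hb, (key a ha).choose_spec]
  exact hex.epi_kernelLift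

include hB₁ hB₂ hB₃ in
/-- With quasi-compact fibre products, the relations of coverings are finitely generated. -/
theorem sgen : FreePres.SGen (IsFree O B) where
  toGen := gen B hB₁ hB₂
  lift' {X Y Q} p _ f hQ := by
    obtain ⟨ι, hι, U, hU, ⟨e⟩⟩ := hQ
    obtain ⟨n, hn, Z, c, g, hZ, hcov, hg⟩ := exists_lift B hB₁ hB₂ p U hU (e.inv ≫ f)
    haveI := epi_covering (O := O) U n Z c hcov
    exact ⟨_, ⟨Σ i, n i, inferInstance, _, fun s => hZ s.1 s.2, ⟨Iso.refl _⟩⟩, _ ≫ e.inv, g,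
      epi_comp _ _, hg.trans (Category.assoc _ _ _).symm,
      fg_kernel_covering B hB₁ hB₃ U hU n Z hZ c hcov e.symm⟩

end Groth.Agent.FreeOnPres
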