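import Groth.Prelude.Def_CohCx

/-!
# Sections as morphisms out of the free abelian sheaf; degree-zero cohomology
-/

universe u

open CategoryTheory CategoryTheory.Limits Opposite

namespace Groth.Agent.SiteBase

variable {C : Type u} [SmallCategory C] {J : GrothendieckTopology C}

/-- The universal section of the free abelian sheaf on `U`. -/
noncomputable def univSection (J : GrothendieckTopology C) (U : C) :
    (CohCx.freeSheaf J U).obj.obj (op U) :=
  ((toSheafify J (yoneda.obj U ⋙ AddCommGrpCat.free.{u})).app (op U)).hom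
    (FreeAbelianGroup.of (𝟙 U))

/-- The hom-equivalence `Hom(freeSheaf U, F) ≃ F(U)` as a chain of adjunctions. -/
noncomputable def secEquiv' (J : GrothendieckTopology C) (U : C) (F : Sheaf J AddCommGrpCat.{u}) :
    (CohCx.freeSheaf J U ⟶ F) ≃ F.obj.obj (op U) :=
  (((sheafificationAdjunction J AddCommGrpCat.{u}).homEquiv _ _).trans
    ((AddCommGrpCat.adj.whiskerRight Cᵒᵖ).homEquiv _ _)).trans yonedaEquiv

lemma secEquiv'_apply (U : C) {F : Sheaf J AddCommGrpCat.{u}} (φ : CohCx.freeSheaf J U ⟶ F) :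
    secEquiv' J U F φ = (φ.hom.app (op U)).hom (univSection J U) := rfl

/-- Morphisms out of the free abelian sheaf on `U` are the sections over `U`. -/
noncomputable def secEquiv (J : GrothendieckTopology C) (U : C) (F : Sheaf J AddCommGrpCat.{u}) :
    (CohCx.freeSheaf J U ⟶ F) ≃+ F.obj.obj (op U) :=
  { secEquiv' J U F with
    map_add' := fun φ ψ => by
      show secEquiv' J U F (φ + ψ) = secEquiv' J U F φ + secEquiv' J U F ψ
      simp only [secEquiv'_apply]
      rfl }

lemma secEquiv_apply (U : C) {F : Sheaf J AddCommGrpCat.{u}} (φ : CohCx.freeSheaf J U ⟶ F) :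
    secEquiv J U F φ = (φ.hom.app (op U)).hom (univSection J U) := rfl

lemma secEquiv_comp (U : C) {F G : Sheaf J AddCommGrpCat.{u}} (φ : CohCx.freeSheaf J U ⟶ F)
    (g : F ⟶ G) : secEquiv J U G (φ ≫ g) = (g.hom.app (op U)).hom (secEquiv J U F φ) := rfl

lemma secEquiv_symm_comp (U : C) {F G : Sheaf J AddCommGrpCat.{u}} (s : F.obj.obj (op U))
    (g : F ⟶ G) :
    (secEquiv J U F).symm s ≫ g = (secEquiv J U G).symm ((g.hom.app (op U)).hom s) := by
  apply (secEquiv J U G).injective
  rw [secEquiv_comp, AddEquiv.apply_symm_apply, AddEquiv.apply_symm_apply]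

lemma freeSheafMap_univSection {U V : C} (f : V ⟶ U) :
    ((CohCx.freeSheafMap J f).hom.app (op V)).hom (univSection J V) =
      ((CohCx.freeSheaf J U).obj.map f.op).hom (univSection J U) := by
  have h1 := congrArg (fun t => (t.hom) (FreeAbelianGroup.of (𝟙 V)))
    (NatTrans.congr_app (toSheafify_naturality J
      (Functor.whiskerRight (yoneda.map f) AddCommGrpCat.free.{u})) (op V))
  have h2 := congrArg (fun t => (t.hom) (FreeAbelianGroup.of (𝟙 U)))
    ((toSheafify J (yoneda.obj U ⋙ AddCommGrpCat.free.{u})).naturality f.op)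
  have e1 : ((Functor.whiskerRight (yoneda.map f) AddCommGrpCat.free.{u}).app (op V)).hom
      (FreeAbelianGroup.of (𝟙 V)) = FreeAbelianGroup.of (f : V ⟶ U) := by
    refine (FreeAbelianGroup.map_of_apply _).trans ?_
    exact congrArg FreeAbelianGroup.of (Category.id_comp f)
  have e2 : ((yoneda.obj U ⋙ AddCommGrpCat.free.{u}).map f.op).hom
      (FreeAbelianGroup.of (𝟙 U)) = FreeAbelianGroup.of (f : V ⟶ U) := by
    refine (FreeAbelianGroup.map_of_apply _).trans ?_
    exact congrArg FreeAbelianGroup.of (Category.comp_id f)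
  refine h1.symm.trans (Eq.trans ?_ h2)
  exact congrArg (((toSheafify J (yoneda.obj U ⋙ AddCommGrpCat.free.{u})).app (op V)).hom)
    (e1.trans e2.symm)

lemma secEquiv_freeSheafMap {U V : C} (f : V ⟶ U) {F : Sheaf J AddCommGrpCat.{u}}
    (φ : CohCx.freeSheaf J U ⟶ F) :
    secEquiv J V F (CohCx.freeSheafMap J f ≫ φ) = (F.obj.map f.op).hom (secEquiv J U F φ) := by
  rw [secEquiv_apply, secEquiv_apply]
  show (φ.hom.app (op V)).hom (((CohCx.freeSheafMap J f).hom.app (op V)).hom (univSection J V)) = _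
  rw [freeSheafMap_univSection]
  exact congrArg (fun t => t.hom (univSection J U)) (φ.hom.naturality f.op)

lemma freeSheafMap_comp {U V W : C} (f : V ⟶ U) (g : W ⟶ V) :
    CohCx.freeSheafMap J (g ≫ f) = CohCx.freeSheafMap J g ≫ CohCx.freeSheafMap J f := by
  simp [CohCx.freeSheafMap]

instance mono_freeSheafMap {U V : C} (f : V ⟶ U) [Mono f] : Mono (CohCx.freeSheafMap J f) := by
  have : Mono (yoneda.map f) := inferInstance
  have : Mono (Functor.whiskerRight (yoneda.map f) AddCommGrpCat.free.{u}) :=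
    ((Functor.whiskeringRight Cᵒᵖ (Type u) AddCommGrpCat.{u}).obj AddCommGrpCat.free.{u}).map_mono
      (yoneda.map f)
  exact (presheafToSheaf J AddCommGrpCat.{u}).map_mono _

lemma freeSheaf_hom_ext {U : C} {F : Sheaf J AddCommGrpCat.{u}} {φ ψ : CohCx.freeSheaf J U ⟶ F}
    (h : secEquiv J U F φ = secEquiv J U F ψ) : φ = ψ :=
  (secEquiv J U F).injective h

end Groth.Agent.SiteBase
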