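import Groth.Agent.SiteBase.SecGen

/-!
# Extensions, kernels and cokernels for finite type and finite presentation
-/

set_option autoImplicit false
set_option backward.isDefEq.respectTransparency false
set_option linter.style.haveILetI false
set_option linter.unusedSectionVars false

universe u

open CategoryTheory CategoryTheory.Limits Opposite
open Groth.Agent.ModTensor Groth.Agent.ModPull Groth.Agent.LocalFactor Groth.Agent.SecGen

noncomputable section

namespace Groth.Agent.SecGenOps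

variable {C : Type u} [SmallCategory C] {J : GrothendieckTopology C} {O : Sheaf J CommRingCat.{u}}

attribute [local instance] Pres.fκ Pres.fρ

/-- The action of a morphism on sections. -/
abbrev ap {M N : ModSite.Mod O} (φ : M ⟶ N) {U : C} (x : ((fg O).obj M).obj (op U)) : ((fg O).obj N).obj (op U) :=
  ((fg O).map φ).app (op U) x

lemma ap_rs {M N : ModSite.Mod O} (φ : M ⟶ N) {V U : C} (g : V ⟶ U) (x : ((fg O).obj M).obj (op U)) :
    ap φ (rs ((fg O).obj M) g.op x) = rs ((fg O).obj N) g.op (ap φ x) :=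
  app_rs ((fg O).map φ) g.op x

lemma ap_add {M N : ModSite.Mod O} (φ : M ⟶ N) {U : C} (x y : ((fg O).obj M).obj (op U)) :
    ap φ (x + y) = ap φ x + ap φ y := map_add (((fg O).map φ).app (op U)).hom x y

lemma ap_sub {M N : ModSite.Mod O} (φ : M ⟶ N) {U : C} (x y : ((fg O).obj M).obj (op U)) :
    ap φ (x - y) = ap φ x - ap φ y := map_sub (((fg O).map φ).app (op U)).hom x y

lemma ap_sum {M N : ModSite.Mod O} (φ : M ⟶ N) {U : C} {κ : Type} [Fintype κ] (c : κ → O.obj.obj (op U))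
    (x : κ → ((fg O).obj M).obj (op U)) : ap φ (∑ i, c i • x i) = ∑ i, c i • ap φ (x i) :=
  (map_sum (((fg O).map φ).app (op U)).hom _ _).trans
    (Finset.sum_congr rfl fun i _ => map_smul (((fg O).map φ).app (op U)).hom (c i) (x i))

lemma rs_sum' {M : ModSite.Mod O} {V U : C} (g : V ⟶ U) {κ : Type} [Fintype κ] (c : κ → O.obj.obj (op U))
    (x : κ → ((fg O).obj M).obj (op U)) :
    rs ((fg O).obj M) g.op (∑ i, c i • x i) = ∑ i, (O.obj.map g.op).hom (c i) • rs ((fg O).obj M) g.op (x i) :=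
  (rs_sum g.op _ _).trans (Finset.sum_congr rfl fun i _ => rs_smul g.op (c i) (x i))

/-- Extensions. -/
theorem locally_exists_gens_of_shortExact {S : ShortComplex (ModSite.Mod O)} (hS : S.ShortExact) {U : C}
    {κ : Type} [Fintype κ] (s : κ → ((fg O).obj S.X₁).obj (op U)) (hs : Gens S.X₁ s)
    {μ : Type} [Fintype μ] (t : μ → ((fg O).obj S.X₃).obj (op U)) (ht : Gens S.X₃ t) :
    ModPull.Locally J U (fun V _ => ∃ (n : ℕ) (z : Fin n → ((fg O).obj S.X₂).obj (op V)), Gens S.X₂ z) := by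
  classical
  haveI := hS.epi_g
  refine (ModPull.Locally.forall_fintype fun a => locally_exists_app_eq S.g (t a)).mono fun V g hg => ?_
  choose m hm using hg
  let z : κ ⊕ μ → ((fg O).obj S.X₂).obj (op V) :=
    Sum.elim (fun i => ap S.f (rs ((fg O).obj S.X₁) g.op (s i))) m
  obtain ⟨n, ⟨e⟩⟩ := Finite.exists_equiv_fin (κ ⊕ μ)
  refine ⟨n, fun k => z (e.symm k), fun W f y => ?_⟩
  refine (ht.pull g f (ap S.g y)).bind fun W₁ g₁ hg₁ => ?_
  obtain ⟨c, hc⟩ := hg₁
  let y' := rs ((fg O).obj S.X₂) g₁.op y - ∑ a, c a • rs ((fg O).obj S.X₂) (g₁ ≫ f).op (m a)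
  obtain ⟨x, hx⟩ := exists_app_eq_of_exact hS (U := W₁) y' (by
    show ap S.g y' = 0
    rw [ap_sub, ap_sum, ap_rs, hc, sub_eq_zero]
    refine Finset.sum_congr rfl fun a _ => congrArg (fun q => c a • q) ?_
    rw [ap_rs]
    exact congrArg (rs ((fg O).obj S.X₃) (g₁ ≫ f).op) (hm a).symm)
  refine (hs.pull g (g₁ ≫ f) x).mono fun W₂ g₂ hg₂ => ?_
  obtain ⟨d, hd⟩ := hg₂
  let cc : κ ⊕ μ → O.obj.obj (op W₂) := Sum.elim d (fun a => (O.obj.map g₂.op).hom (c a))
  refine ⟨fun k => cc (e.symm k), ?_⟩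
  refine Eq.trans ?_ (Equiv.sum_comp e.symm (fun j => cc j • rs ((fg O).obj S.X₂) ((g₂ ≫ g₁) ≫ f).op (z j))).symm
  rw [Fintype.sum_sum_type]
  have e1 : rs ((fg O).obj S.X₂) g₂.op y' = ∑ i, d i • ap S.f (rs ((fg O).obj S.X₁) (g₂ ≫ g₁ ≫ f).op (rs ((fg O).obj S.X₁) g.op (s i))) := by
    rw [show y' = ap S.f x from hx.symm, ← ap_rs, hd, ap_sum]
  rw [show rs ((fg O).obj S.X₂) g₂.op y' = rs ((fg O).obj S.X₂) g₂.op (rs ((fg O).obj S.X₂) g₁.op y) -
      rs ((fg O).obj S.X₂) g₂.op (∑ a, c a • rs ((fg O).obj S.X₂) (g₁ ≫ f).op (m a)) from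
    map_sub (((fg O).obj S.X₂).map g₂.op).hom _ _, rs_sum', sub_eq_iff_eq_add] at e1
  rw [rs_op_comp, e1]
  congr 1
  · refine Finset.sum_congr rfl fun i _ => ?_
    show d i • _ = d i • rs ((fg O).obj S.X₂) ((g₂ ≫ g₁) ≫ f).op (ap S.f (rs ((fg O).obj S.X₁) g.op (s i)))
    rw [Category.assoc, ← ap_rs]
  · refine Finset.sum_congr rfl fun a _ => ?_
    show _ • _ = (O.obj.map g₂.op).hom (c a) • rs ((fg O).obj S.X₂) ((g₂ ≫ g₁) ≫ f).op (m a)
    rw [← rs_op_comp, Category.assoc]

/-- Extensions of modules of finite type. -/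
theorem isFiniteType_of_shortExact {S : ShortComplex (ModSite.Mod O)} (hS : S.ShortExact)
    [SheafOfModules.IsFiniteType (R := ModSite.ringSh O) S.X₁]
    [SheafOfModules.IsFiniteType (R := ModSite.ringSh O) S.X₃] :
    SheafOfModules.IsFiniteType (R := ModSite.ringSh O) S.X₂ := by
  refine isFiniteType_of_gens S.X₂ fun X =>
    ((locally_exists_gens S.X₁ X).bind
      (Q := fun V (_ : V ⟶ X) => (∃ (n : ℕ) (s : Fin n → ((fg O).obj S.X₁).obj (op V)), Gens S.X₁ s) ∧
        ∃ (n : ℕ) (t : Fin n → ((fg O).obj S.X₃).obj (op V)), Gens S.X₃ t)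
      fun V g hg => (locally_exists_gens S.X₃ V).mono fun V' g' hg' => ?_).bind
      fun V g hg => ?_
  · obtain ⟨n, s, hs⟩ := hg
    exact ⟨⟨n, _, hs.pull g'⟩, hg'⟩
  · obtain ⟨⟨n, s, hs⟩, ⟨m, t, ht⟩⟩ := hg
    exact locally_exists_gens_of_shortExact hS s hs t ht

/-- Kernels of epimorphisms onto finitely presented modules. -/
theorem locally_exists_gens_kernel {G F : ModSite.Mod O} (θ : G ⟶ F) [Epi θ] {U : C} (P : Pres O F U)
    {κ : Type} [Fintype κ] (s : κ → ((fg O).obj G).obj (op U)) (hs : Gens G s) :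
    ModPull.Locally J U (fun V _ => ∃ (n : ℕ) (z : Fin n → ((fg O).obj (kernel θ)).obj (op V)), Gens (kernel θ) z) := by
  classical
  let SS := ShortComplex.mk (kernel.ι θ) θ (kernel.condition θ)
  have hSS : SS.ShortExact :=
    { exact := ShortComplex.exact_of_f_is_kernel _ (kernelIsKernel θ), epi_g := ‹Epi θ› }
  refine ((ModPull.Locally.forall_fintype fun i => locally_exists_app_eq θ (P.s i)).and
    (ModPull.Locally.forall_fintype fun a => P.gen (𝟙 U) (ap θ (s a)))).mono fun V g hg => ?_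
  choose u hu using hg.1
  choose M hM using hg.2
  have hM' : ∀ a, rs ((fg O).obj F) g.op (ap θ (s a)) = ∑ i, M a i • rs ((fg O).obj F) g.op (P.s i) := fun a =>
    (hM a).trans (by rw [Category.comp_id])
  let sV : κ → ((fg O).obj G).obj (op V) := fun a => rs ((fg O).obj G) g.op (s a) - ∑ i, M a i • u i
  let rV : P.ρ → ((fg O).obj G).obj (op V) := fun j => ∑ i, (O.obj.map g.op).hom (P.A j i) • u i
  have h1 : ∀ a, ap θ (sV a) = 0 := fun a => by
    rw [ap_sub, ap_sum, ap_rs, hM', sub_eq_zero]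
    exact Finset.sum_congr rfl fun i _ => congrArg (fun q => M a i • q) (hu i).symm
  have h2 : ∀ j, ap θ (rV j) = 0 := fun j => by
    rw [ap_sum]
    refine Eq.trans (Finset.sum_congr rfl fun i _ => congrArg (fun q => (O.obj.map g.op).hom (P.A j i) • q) (hu i)) ?_
    exact (presPull P g).rel j
  choose za hza using fun a => exists_app_eq_of_exact hSS (U := V) (sV a) (h1 a)
  choose zj hzj using fun j => exists_app_eq_of_exact hSS (U := V) (rV j) (h2 j)
  let z : κ ⊕ P.ρ → ((fg O).obj (kernel θ)).obj (op V) := Sum.elim za zj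
  obtain ⟨n, ⟨e⟩⟩ := Finite.exists_equiv_fin (κ ⊕ P.ρ)
  refine ⟨n, fun k => z (e.symm k), fun W f y => ?_⟩
  let x := ap (kernel.ι θ) y
  have hx : ap θ x = 0 :=
    congrArg (fun r : kernel θ ⟶ F => ((fg O).map r).app (op W) y) (kernel.condition θ)
  refine (hs.pull g f x).bind fun W₁ g₁ hg₁ => ?_
  obtain ⟨c, hc⟩ := hg₁
  let f₁ := g₁ ≫ f
  let d : P.κ → O.obj.obj (op W₁) := fun i => ∑ a, c a * (O.obj.map f₁.op).hom (M a i)
  have hd : ∑ i, d i • rs ((fg O).obj F) f₁.op (rs ((fg O).obj F) g.op (P.s i)) = 0 := by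
    have e1 := congrArg (ap θ) hc
    rw [ap_rs, hx, ap_sum] at e1
    refine Eq.trans ?_ (e1.symm.trans (map_zero _))
    simp only [d, Finset.sum_smul]
    rw [Finset.sum_comm]
    refine Finset.sum_congr rfl fun a _ => ?_
    rw [ap_rs, ap_rs, hM', rs_sum', Finset.smul_sum]
    exact Finset.sum_congr rfl fun i _ => (smul_smul _ _ _).symm
  refine ((presPull P g).exact f₁ d hd).mono fun W₂ g₂ hg₂ => ?_
  obtain ⟨E, hE⟩ := hg₂
  let cc : κ ⊕ P.ρ → O.obj.obj (op W₂) := Sum.elim (fun a => (O.obj.map g₂.op).hom (c a)) E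
  refine ⟨fun k => cc (e.symm k), ?_⟩
  refine Eq.trans ?_ (Equiv.sum_comp e.symm (fun j => cc j • rs ((fg O).obj (kernel θ)) ((g₂ ≫ g₁) ≫ f).op (z j))).symm
  apply app_injective (kernel.ι θ) (op W₂)
  show ap (kernel.ι θ) _ = ap (kernel.ι θ) _
  rw [ap_sum, ap_rs, Fintype.sum_sum_type, rs_op_comp]
  rw [show rs ((fg O).obj G) g₁.op (ap (kernel.ι θ) y) = ∑ a, c a • rs ((fg O).obj G) f₁.op (rs ((fg O).obj G) g.op (s a)) from hc,
    rs_sum']
  have ez : ∀ a, ap (kernel.ι θ) (rs ((fg O).obj (kernel θ)) ((g₂ ≫ g₁) ≫ f).op (za a)) =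
      rs ((fg O).obj G) g₂.op (rs ((fg O).obj G) f₁.op (rs ((fg O).obj G) g.op (s a))) -
        ∑ i, (O.obj.map g₂.op).hom ((O.obj.map f₁.op).hom (M a i)) • rs ((fg O).obj G) g₂.op (rs ((fg O).obj G) f₁.op (u i)) := by
    intro a
    rw [Category.assoc, rs_op_comp, ap_rs, ap_rs]
    refine (congrArg (fun q => rs ((fg O).obj G) g₂.op (rs ((fg O).obj G) f₁.op q)) (hza a)).trans ?_
    show rs _ _ (rs _ _ (rs ((fg O).obj G) g.op (s a) - ∑ i, M a i • u i)) = _
    rw [show rs ((fg O).obj G) f₁.op (rs ((fg O).obj G) g.op (s a) - ∑ i, M a i • u i) =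
        rs ((fg O).obj G) f₁.op (rs ((fg O).obj G) g.op (s a)) - rs ((fg O).obj G) f₁.op (∑ i, M a i • u i) from
      map_sub (((fg O).obj G).map f₁.op).hom _ _, rs_sum']
    exact (map_sub (((fg O).obj G).map g₂.op).hom _ _).trans (congrArg (fun q => _ - q) (rs_sum' g₂ _ _))
  have ej : ∀ j, ap (kernel.ι θ) (rs ((fg O).obj (kernel θ)) ((g₂ ≫ g₁) ≫ f).op (zj j)) =
      ∑ i, (O.obj.map g₂.op).hom ((O.obj.map f₁.op).hom ((O.obj.map g.op).hom (P.A j i))) •
        rs ((fg O).obj G) g₂.op (rs ((fg O).obj G) f₁.op (u i)) := by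
    intro j
    rw [Category.assoc, rs_op_comp, ap_rs, ap_rs]
    refine (congrArg (fun q => rs ((fg O).obj G) g₂.op (rs ((fg O).obj G) f₁.op q)) (hzj j)).trans ?_
    show rs _ _ (rs _ _ (∑ i, (O.obj.map g.op).hom (P.A j i) • u i)) = _
    rw [rs_sum', rs_sum']
  simp only [cc, z, Sum.elim_inl, Sum.elim_inr, ez, ej, smul_sub, Finset.sum_sub_distrib, Finset.smul_sum, smul_smul]
  rw [Finset.sum_comm (γ := κ), Finset.sum_comm (γ := P.ρ), sub_add, eq_comm, sub_eq_self, sub_eq_zero]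
  refine Finset.sum_congr rfl fun i _ => ?_
  rw [← Finset.sum_smul, ← Finset.sum_smul]
  refine congrArg (fun q : O.obj.obj (op W₂) => q • _) ?_
  refine Eq.trans ?_ ((hE i).trans (Finset.sum_congr rfl fun j _ => ?_))
  · simp only [d, map_sum, map_mul]
  · refine congrArg (fun q : O.obj.obj (op W₂) => E j * q) ?_
    show (O.obj.map (g₂ ≫ f₁).op).hom ((O.obj.map g.op).hom (P.A j i)) = _
    rw [op_comp, Functor.map_comp]
    rfl

/-- The kernel of an epimorphism from a module of finite type to one of finite presentation. -/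
theorem isFiniteType_kernel {G F : ModSite.Mod O} (θ : G ⟶ F) [Epi θ]
    [SheafOfModules.IsFiniteType (R := ModSite.ringSh O) G]
    [SheafOfModules.IsFinitePresentation (R := ModSite.ringSh O) F] :
    SheafOfModules.IsFiniteType (R := ModSite.ringSh O) (kernel θ) := by
  refine isFiniteType_of_gens _ fun X =>
    ((locally_exists_gens G X).bind
      (Q := fun V (_ : V ⟶ X) => (∃ (n : ℕ) (s : Fin n → ((fg O).obj G).obj (op V)), Gens G s) ∧
        Nonempty (Pres O F V))
      fun V g hg => (locally_exists_pres F V).mono fun V' g' hg' => ?_).bind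
      fun V g hg => ?_
  · obtain ⟨n, s, hs⟩ := hg
    exact ⟨⟨n, _, hs.pull g'⟩, hg'⟩
  · obtain ⟨⟨n, s, hs⟩, ⟨P⟩⟩ := hg
    exact locally_exists_gens_kernel θ P s hs

/-- Presentation data of a cokernel. -/
theorem locally_exists_pres_cokernel {G F : ModSite.Mod O} (φ : G ⟶ F) {U : C} (P : Pres O F U)
    {μ : Type} [Fintype μ] (t : μ → ((fg O).obj G).obj (op U)) (ht : Gens G t) :
    ModPull.Locally J U (fun V _ => Nonempty (Pres O (cokernel φ) V)) := by
  classical
  let π := cokernel.π φ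
  let SS := ShortComplex.mk (kernel.ι π) π (kernel.condition π)
  have hSS : SS.ShortExact :=
    { exact := ShortComplex.exact_of_f_is_kernel _ (kernelIsKernel π), epi_g := inferInstanceAs (Epi π) }
  let l : G ⟶ kernel π := kernel.lift π φ (cokernel.condition φ)
  haveI : Epi l := (ShortComplex.exact_of_g_is_cokernel (ShortComplex.mk φ π (cokernel.condition φ))
    (cokernelIsCokernel φ)).epi_kernelLift
  refine (ModPull.Locally.forall_fintype fun a => P.gen (𝟙 U) (ap φ (t a))).mono fun V g hg => ?_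
  choose M hM using hg
  let Q := presPull P g
  have hM' : ∀ a, ap φ (rs ((fg O).obj G) g.op (t a)) = ∑ i, M a i • rs ((fg O).obj F) g.op (P.s i) := fun a => by
    rw [ap_rs]
    exact (hM a).trans (by rw [Category.comp_id])
  have hπφ : ∀ {W : C} (y : ((fg O).obj G).obj (op W)), ap π (ap φ y) = 0 := fun {W} y =>
    (congrArg (fun r : G ⟶ cokernel φ => ((fg O).map r).app (op W) y) (cokernel.condition φ))
  let A' : P.ρ ⊕ μ → P.κ → O.obj.obj (op V) := Sum.elim Q.A M
  let s' : P.κ → ((fg O).obj (cokernel φ)).obj (op V) := fun i => ap π (rs ((fg O).obj F) g.op (P.s i))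
  refine ⟨{ κ := P.κ, ρ := P.ρ ⊕ μ, fκ := P.fκ, fρ := inferInstance, s := s', A := A',
            rel := fun j => ?_, gen := fun W f y => ?_, exact := fun W f c hc => ?_ }⟩
  · rcases j with j | a
    · exact (ap_sum π (Q.A j) Q.s).symm.trans ((congrArg (ap π) (Q.rel j)).trans (map_zero _))
    · refine Eq.trans ?_ ((congrArg (ap π) (hM' a)).symm.trans (hπφ _))
      exact (ap_sum π _ _).symm
  · refine (locally_exists_app_eq π y).bind fun W₁ g₁ hg₁ => ?_
    obtain ⟨m, hm⟩ := hg₁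
    refine (Q.gen (g₁ ≫ f) m).mono fun W₂ g₂ hg₂ => ?_
    obtain ⟨c, hc⟩ := hg₂
    refine ⟨c, ?_⟩
    rw [rs_op_comp, ← hm, ← ap_rs π g₂ m]
    refine (congrArg (ap π) hc).trans ((ap_sum π _ _).trans ?_)
    refine Finset.sum_congr rfl fun i _ => congrArg (fun q => c i • q) ?_
    rw [ap_rs, Category.assoc]
    rfl
  · let x := ∑ i, c i • rs ((fg O).obj F) f.op (Q.s i)
    obtain ⟨k, hk⟩ := exists_app_eq_of_exact hSS (U := W) x (by
      show ap π x = 0
      refine (ap_sum π _ _).trans (Eq.trans ?_ hc)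
      exact Finset.sum_congr rfl fun i _ => congrArg (fun q => c i • q) (ap_rs π f _))
    refine (locally_exists_app_eq l k).bind fun W₁ g₁ hg₁ => ?_
    obtain ⟨m, hm⟩ := hg₁
    refine ((ht.pull g) (g₁ ≫ f) m).bind fun W₂ g₂ hg₂ => ?_
    obtain ⟨e, he⟩ := hg₂
    let f₂ := g₂ ≫ g₁ ≫ f
    have hφm : ap φ m = ∑ i, (O.obj.map g₁.op).hom (c i) • rs ((fg O).obj F) (g₁ ≫ f).op (Q.s i) := by
      have e0 : ap φ m = ap (kernel.ι π) (ap l m) :=
        congrArg (fun r : G ⟶ F => ((fg O).map r).app (op W₁) m) (kernel.lift_ι π φ (cokernel.condition φ)).symm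
      rw [e0, show ap l m = rs ((fg O).obj (kernel π)) g₁.op k from hm, ap_rs,
        show ap (kernel.ι π) k = x from hk, rs_sum']
      exact Finset.sum_congr rfl fun i _ => congrArg (fun q => (O.obj.map g₁.op).hom (c i) • q) (rs_op_comp g₁ f (Q.s i)).symm
    let d : P.κ → O.obj.obj (op W₂) := fun i =>
      (O.obj.map g₂.op).hom ((O.obj.map g₁.op).hom (c i)) - ∑ a, e a * (O.obj.map f₂.op).hom (M a i)
    have hd : ∑ i, d i • rs ((fg O).obj F) f₂.op (Q.s i) = 0 := by
      simp only [d, sub_smul, Finset.sum_sub_distrib, Finset.sum_smul, ← smul_smul]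
      rw [Finset.sum_comm (γ := P.κ), sub_eq_zero]
      have e1 := congrArg (ap φ) he
      rw [ap_rs, hφm, rs_sum', ap_sum] at e1
      refine Eq.trans (Finset.sum_congr rfl fun i _ => ?_) (e1.trans (Finset.sum_congr rfl fun a _ => ?_))
      · rw [← rs_op_comp]
      · rw [ap_rs, hM', rs_sum', Finset.smul_sum]
        rfl
    refine (Q.exact f₂ d hd).mono fun W₃ g₃ hg₃ => ?_
    obtain ⟨E, hE⟩ := hg₃
    refine ⟨Sum.elim E (fun a => (O.obj.map g₃.op).hom (e a)), fun i => ?_⟩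
    have h1 := hE i
    simp only [d, map_sub, map_sum, map_mul, sub_eq_iff_eq_add] at h1
    rw [Fintype.sum_sum_type]
    refine Eq.trans ?_ (h1.trans (congrArg₂ (· + ·) ?_ ?_))
    · rw [op_comp, op_comp, Functor.map_comp, Functor.map_comp]
      rfl
    · refine Finset.sum_congr rfl fun j _ => congrArg (fun q : O.obj.obj (op W₃) => E j * q) ?_
      show (O.obj.map (g₃ ≫ f₂).op).hom (Q.A j i) = (O.obj.map (((g₃ ≫ g₂) ≫ g₁) ≫ f).op).hom (Q.A j i)
      simp only [f₂, Category.assoc]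
    · refine Finset.sum_congr rfl fun a _ => congrArg (fun q : O.obj.obj (op W₃) => (O.obj.map g₃.op).hom (e a) * q) ?_
      show _ = (O.obj.map (((g₃ ≫ g₂) ≫ g₁) ≫ f).op).hom (M a i)
      simp only [f₂, Category.assoc, op_comp, Functor.map_comp]
      rfl

/-- The cokernel of a map from a module of finite type to one of finite presentation. -/
theorem isFinitePresentation_cokernel {G F : ModSite.Mod O} (φ : G ⟶ F)
    [SheafOfModules.IsFiniteType (R := ModSite.ringSh O) G]
    [SheafOfModules.IsFinitePresentation (R := ModSite.ringSh O) F] :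
    SheafOfModules.IsFinitePresentation (R := ModSite.ringSh O) (cokernel φ) := by
  refine isFinitePresentation_of_pres _ fun X =>
    ((locally_exists_gens G X).bind
      (Q := fun V (_ : V ⟶ X) => (∃ (n : ℕ) (s : Fin n → ((fg O).obj G).obj (op V)), Gens G s) ∧
        Nonempty (Pres O F V))
      fun V g hg => (locally_exists_pres F V).mono fun V' g' hg' => ?_).bind
      fun V g hg => ?_
  · obtain ⟨n, s, hs⟩ := hg
    exact ⟨⟨n, _, hs.pull g'⟩, hg'⟩
  · obtain ⟨⟨n, s, hs⟩, ⟨P⟩⟩ := hg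
    exact locally_exists_pres_cokernel φ P s hs

end Groth.Agent.SecGenOps
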