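import Groth.Agent.SiteBase.NervePush

/-!
# Direct images of totally acyclic sheaves are totally acyclic
-/

universe u

open CategoryTheory CategoryTheory.Limits Opposite Simplicial AlgebraicTopology Abelian

namespace Groth.Agent.SiteBase

variable {C : Type u} [SmallCategory C] {J : GrothendieckTopology C}
  {X : SimplicialObject.Augmented (Sheaf J (Type u))}

/-- Totally acyclic sheaves have no higher cohomology along a nerve-like epimorphism. -/
theorem cechKill_of_isTotallyAcyclic' (hX : SheafNerveLike X) [Epi (X.hom.app (op ⦋0⦌))]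
    (G : Sheaf J AddCommGrpCat.{u}) (hG : CohCx.IsTotallyAcyclic G) : CechKill G X := by
  let ε : (freeShChain X).X 0 ⟶ freeSh (SimplicialObject.Augmented.point.obj X) :=
    (freeShNerve X).hom.app (op ⦋0⦌)
  have hε : Epi ε := (Sheaf.composeAndSheafify J AddCommGrpCat.free.{u}).map_epi _
  have hdε : (freeShChain X).d 1 0 ≫ ε = 0 := d_comp_aug _
  suffices H : ∀ n : ℕ, ∀ E : ShortComplex (Sheaf J AddCommGrpCat.{u}), E.ShortExact → Injective E.X₂ →
      CohCx.IsTotallyAcyclic E.X₁ → ∀ w : (freeShChain X).X (n + 1) ⟶ E.X₁,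
      (freeShChain X).d (n + 2) (n + 1) ≫ w = 0 →
        ∃ b : (freeShChain X).X n ⟶ E.X₁, (freeShChain X).d (n + 1) n ≫ b = w from by
    intro n
    obtain ⟨E, hE, hI, rfl⟩ : ∃ E : ShortComplex (Sheaf J AddCommGrpCat.{u}),
        E.ShortExact ∧ Injective E.X₂ ∧ E.X₁ = G :=
      ⟨injectiveSES G, injectiveSES_shortExact G, inferInstance, injectiveSES_X₁ G⟩
    exact H n E hE hI hG
  clear hG G
  intro n
  induction n with
  | zero =>
    intro E hE hI hA w hw
    have := hE.mono_f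
    obtain ⟨b, hb⟩ := cechKill_of_injective hX E.X₂ 0 (w ≫ E.f)
      (by rw [← Category.assoc, hw, zero_comp])
    have hbg : (freeShChain X).d 1 0 ≫ b ≫ E.g = 0 := by
      rw [← Category.assoc, hb, Category.assoc, E.zero, comp_zero]
    have : Epi (freeShAugSc X).g := hε
    obtain ⟨c, hc⟩ : ∃ c : freeSh (SimplicialObject.Augmented.point.obj X) ⟶ E.X₃, ε ≫ c = b ≫ E.g :=
      ⟨(exact_freeShAugSc hX).desc _ hbg, (exact_freeShAugSc hX).g_desc _ hbg⟩
    obtain ⟨e, rfl⟩ := exists_lift_of_ext_one (freeSh (SimplicialObject.Augmented.point.obj X)) hE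
      (hA _ 0) c
    have h0 : (b - ε ≫ e) ≫ E.g = 0 := by
      rw [Preadditive.sub_comp, Category.assoc, hc, sub_self]
    refine ⟨hE.exact.lift _ h0, (cancel_mono E.f).1 ?_⟩
    rw [Category.assoc, hE.exact.lift_f, Preadditive.comp_sub, hb, ← Category.assoc, hdε,
      zero_comp, sub_zero]
  | succ n ih =>
    intro E hE hI hA w hw
    have := hE.mono_f
    obtain ⟨b, hb⟩ := cechKill_of_injective hX E.X₂ (n + 1) (w ≫ E.f)
      (by rw [← Category.assoc, hw, zero_comp])
    have hA₃ : CohCx.IsTotallyAcyclic E.X₃ := fun K q =>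
      subsingleton_ext_X₃ _ hE (q + 1) (hA K (q + 1)) (Ext.subsingleton_of_injective _ E.X₂ q)
    obtain ⟨E', hE', hI', hX'⟩ : ∃ E' : ShortComplex (Sheaf J AddCommGrpCat.{u}),
        E'.ShortExact ∧ Injective E'.X₂ ∧ E'.X₁ = E.X₃ :=
      ⟨injectiveSES E.X₃, injectiveSES_shortExact _, inferInstance, injectiveSES_X₁ _⟩
    have hih := ih E' hE' hI'
    rw [hX'] at hih
    obtain ⟨c, hc⟩ := hih hA₃ (b ≫ E.g)
      (by rw [← Category.assoc, hb, Category.assoc, E.zero, comp_zero])
    obtain ⟨e, rfl⟩ := exists_lift_of_ext_one ((freeShChain X).X n) hE (hA (X.left.obj (op ⦋n⦌)) 0) c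
    have h0 : (b - (freeShChain X).d (n + 1) n ≫ e) ≫ E.g = 0 := by
      rw [Preadditive.sub_comp, Category.assoc, hc, sub_self]
    refine ⟨hE.exact.lift _ h0, (cancel_mono E.f).1 ?_⟩
    rw [Category.assoc, hE.exact.lift_f, Preadditive.comp_sub, hb, ← Category.assoc,
      HomologicalComplex.d_comp_d, zero_comp, sub_zero]

variable {D : Type u} [SmallCategory D] {K : GrothendieckTopology D} (u : D ⥤ C) [u.IsContinuous K J]
  [PreservesLimitsOfShape WalkingCospan (u.sheafPullback (Type u) K J)]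

theorem cechKill_push' (G : Sheaf J AddCommGrpCat.{u}) (hG : CohCx.IsTotallyAcyclic G)
    {S' S : Sheaf K (Type u)} (f : S' ⟶ S) [Epi f] :
    CechKill ((CohSite.push J K u).obj G) (nerve f) := by
  let L := u.sheafPullback (Type u) K J
  have : L.IsLeftAdjoint := (u.sheafAdjunctionContinuous (Type u) K J).isLeftAdjoint
  let X := ((SimplicialObject.Augmented.whiskering _ _).obj L).obj (nerve f)
  have hX : SheafNerveLike X := sheafNerveLike_map f L
  have h0 : Epi ((nerve f).hom.app (op ⦋0⦌)) := by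
    let l : S' ⟶ (nerve f).left.obj (op ⦋0⦌) :=
      WidePullback.lift (arrows := fun _ : Fin 1 => f) f (fun _ => 𝟙 _) (fun _ => Category.id_comp _)
    have e : l ≫ (nerve f).hom.app (op ⦋0⦌) = f := WidePullback.lift_base _ _ _ _
    exact @epi_of_epi_fac _ _ _ _ _ l ((nerve f).hom.app (op ⦋0⦌)) f ‹Epi f› e
  have hE : Epi (X.hom.app (op ⦋0⦌)) := by
    have : Epi (L.map ((nerve f).hom.app (op ⦋0⦌))) := L.map_epi _
    show Epi (_ ≫ _)
    have this : IsIso ((Functor.constComp SimplexCategoryᵒᵖ (nerve f).right L).hom.app (op ⦋0⦌)) :=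
      inferInstanceAs (IsIso (((Functor.constComp SimplexCategoryᵒᵖ (nerve f).right L).app (op ⦋0⦌)).hom))
    exact @epi_comp _ _ _ _ _ (L.map ((nerve f).hom.app (op ⦋0⦌))) ‹_› _ (@IsIso.epi_of_iso _ _ _ _ _ this)
  let e := fun n : ℕ => pushAddEquiv u ((nerve f).left.obj (op ⦋n⦌)) G
  have hd : ∀ (n : ℕ) (b : (freeShChain X).X n ⟶ G),
      e (n + 1) ((freeShChain X).d (n + 1) n ≫ b) = (freeShChain (nerve f)).d (n + 1) n ≫ e n b := by
    intro n b
    rw [AlternatingFaceMapComplex.obj_d_eq, AlternatingFaceMapComplex.obj_d_eq]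
    refine (congrArg (e (n + 1)) (Preadditive.sum_comp (C := Sheaf J AddCommGrpCat.{u}) _ _ b)).trans ?_
    refine (map_sum _ _ _).trans ?_
    refine Eq.trans ?_ (Preadditive.sum_comp (C := Sheaf K AddCommGrpCat.{u}) _ _ (e n b)).symm
    refine Finset.sum_congr rfl fun i _ => ?_
    refine (congrArg (e (n + 1)) (Preadditive.zsmul_comp (C := Sheaf J AddCommGrpCat.{u}) _ _ _)).trans ?_
    refine (map_zsmul _ _ _).trans ?_
    refine Eq.trans ?_ (Preadditive.zsmul_comp (C := Sheaf K AddCommGrpCat.{u}) _ _ _).symm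
    exact congrArg (_ • ·) (pushEquiv_naturality u ((nerve f).left.δ i) b)
  intro n w hw
  obtain ⟨v, rfl⟩ := (e (n + 1)).surjective w
  obtain ⟨b, hb⟩ := cechKill_of_isTotallyAcyclic' hX G hG n v ((e (n + 2)).injective
    (((hd (n + 1) v).trans hw).trans (map_zero _).symm))
  exact ⟨e n b, (hd n b).symm.trans (congrArg _ hb)⟩

theorem isTotallyAcyclic_push (G : Sheaf J AddCommGrpCat.{u}) (hG : CohCx.IsTotallyAcyclic G) :
    CohCx.IsTotallyAcyclic ((CohSite.push J K u).obj G) :=
  isTotallyAcyclic_of_cechKill _ fun _ _ f hf => @cechKill_push' _ _ _ _ _ _ u _ _ G hG _ _ f hf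

end Groth.Agent.SiteBase
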