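import Groth.Agent.SiteBase.QcSum
import Mathlib.CategoryTheory.Preadditive.Yoneda.Basic
import Mathlib.CategoryTheory.Limits.Preserves.Shapes.Products

/-!
# Additive functors commuting with direct sums
-/

set_option autoImplicit false
set_option backward.isDefEq.respectTransparency false
set_option linter.style.haveILetI false

universe w v u

open CategoryTheory CategoryTheory.Limits Opposite

noncomputable section

namespace Groth.Agent.PreservesSum

/-- An additive functor to abelian groups whose values on direct sums are generated by the summands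
commutes with direct sums. -/
theorem preservesColimitsOfShape {A : Type u} [Category.{v} A] [Preadditive A] (G : A ⥤ AddCommGrpCat.{w})
    [G.Additive] (ι : Type w) [HasColimitsOfShape (Discrete ι) A]
    (h : ∀ (H : ι → A) (x : G.obj (∐ H)), ∃ (s : Finset ι) (a : ∀ i, G.obj (H i)),
      x = ∑ i ∈ s, (G.map (Sigma.ι H i)).hom (a i)) :
    PreservesColimitsOfShape (Discrete ι) G := by
  suffices key : ∀ H : ι → A, PreservesColimit (Discrete.functor H) G from
    ⟨fun {K} => preservesColimit_of_iso_diagram (K₁ := Discrete.functor fun i => K.obj ⟨i⟩) G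
      Discrete.natIsoFunctor.symm⟩
  intro H
  have hι : ∀ i, Sigma.ι (fun j => G.obj (H j)) i ≫ sigmaComparison G H = G.map (Sigma.ι H i) := fun i =>
    ι_comp_sigmaComparison G H i
  haveI : IsIso (sigmaComparison G H) := by
    rw [ConcreteCategory.isIso_iff_bijective]
    refine ⟨(injective_iff_map_eq_zero (sigmaComparison G H).hom).2 fun z hz => ?_, fun x => ?_⟩
    · obtain ⟨s, y, rfl⟩ := QcSum.exists_finsum (coproductIsCoproduct fun j => G.obj (H j)) z
      refine Finset.sum_eq_zero fun i hi => ?_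
      suffices y i = 0 by rw [this]; exact map_zero _
      have h1 := congrArg (G.map (TriCat.coprodProj H i)).hom hz
      rw [map_zero, map_sum, map_sum, Finset.sum_eq_single i] at h1
      · refine Eq.trans ?_ h1
        refine Eq.trans ?_ (congrArg (G.map (TriCat.coprodProj H i)).hom
          (ConcreteCategory.congr_hom (hι i) (y i))).symm
        refine Eq.trans ?_ (ConcreteCategory.congr_hom (G.map_comp (Sigma.ι H i) (TriCat.coprodProj H i)) (y i))
        rw [TriCat.ι_coprodProj_self, G.map_id]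
        rfl
      · intro j _ hj
        refine (congrArg (G.map (TriCat.coprodProj H i)).hom (ConcreteCategory.congr_hom (hι j) (y j))).trans ?_
        refine (ConcreteCategory.congr_hom (G.map_comp (Sigma.ι H j) (TriCat.coprodProj H i)).symm (y j)).trans ?_
        rw [TriCat.ι_coprodProj_ne hj, G.map_zero]
        rfl
      · exact fun hn => absurd hi hn
    · obtain ⟨s, a, rfl⟩ := h H x
      refine ⟨∑ i ∈ s, (Sigma.ι (fun j => G.obj (H j)) i).hom (a i), ?_⟩
      refine (map_sum (sigmaComparison G H).hom _ s).trans (Finset.sum_congr rfl fun i _ => ?_)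
      exact ConcreteCategory.congr_hom (hι i) (a i)
  exact PreservesCoproduct.of_iso_comparison G H

variable {C : Type u} [SmallCategory C] {J : GrothendieckTopology C} (O : Sheaf J CommRingCat.{u})

theorem preservesColimits_hom (U : C)
    (hfin : ∀ T ∈ J U, ∃ (n : Type u) (_ : Finite n) (Y : n → C) (f : ∀ i, Y i ⟶ U),
      (∀ i, (T : Sieve U) (f i)) ∧ Sieve.ofArrows Y f ∈ J U) (ι : Type u) :
    PreservesColimitsOfShape (Discrete ι) (preadditiveCoyoneda.obj (op (ModSite.freeOn O U))) := by
  refine preservesColimitsOfShape _ ι fun H x => ?_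
  obtain ⟨s, a, hs⟩ := QcSum.exists_finset_hom' O H U hfin x
  exact ⟨s, a, hs⟩

theorem exists_finset_sect (U : C)
    (hfin : ∀ T ∈ J U, ∃ (n : Type u) (_ : Finite n) (Y : n → C) (f : ∀ i, Y i ⟶ U),
      (∀ i, (T : Sieve U) (f i)) ∧ Sieve.ofArrows Y f ∈ J U) {ι : Type u} (H : ι → ModSite.Mod O)
    (x : ((SheafOfModules.toSheaf (ModSite.ringSh O)).obj (∐ H)).obj.obj (op U)) :
    ∃ (s : Finset ι) (a : ∀ i, ((SheafOfModules.toSheaf (ModSite.ringSh O)).obj (H i)).obj.obj (op U)),
      x = ∑ i ∈ s, (((SheafOfModules.toSheaf (ModSite.ringSh O)).map (Sigma.ι H i)).hom.app (op U)).hom (a i) := by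
  let F := SheafOfModules.toSheaf (ModSite.ringSh O)
  let e := fun M => (ModTensor.freeOnCorepr O U).homEquiv (Y := M)
  have hadd : ∀ {M : ModSite.Mod O} (f g : ModSite.freeOn O U ⟶ M), e M (f + g) =
      ((F.obj M).obj.obj (op U)).str.toAdd.add (e M f) (e M g) := fun f g => rfl
  obtain ⟨s, b, hs⟩ := QcSum.exists_finset_hom' O H U hfin ((e (∐ H)).symm x)
  refine ⟨s, fun i => e (H i) (b i), ?_⟩
  have hx : x = e (∐ H) (∑ i ∈ s, b i ≫ Sigma.ι H i) := by rw [← hs, Equiv.apply_symm_apply]
  let E : (ModSite.freeOn O U ⟶ ∐ H) →+ (F.obj (∐ H)).obj.obj (op U) :=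
    AddMonoidHom.mk' (e (∐ H)) fun f g => hadd f g
  refine hx.trans ((map_sum E _ s).trans (Finset.sum_congr rfl fun i _ => ?_))
  exact (ModTensor.freeOnCorepr O U).homEquiv_comp _ _

theorem preservesColimits_sections (U : C)
    (hfin : ∀ T ∈ J U, ∃ (n : Type u) (_ : Finite n) (Y : n → C) (f : ∀ i, Y i ⟶ U),
      (∀ i, (T : Sieve U) (f i)) ∧ Sieve.ofArrows Y f ∈ J U) (ι : Type u) :
    PreservesColimitsOfShape (Discrete ι)
      (SheafOfModules.toSheaf (ModSite.ringSh O) ⋙ (sheafSections J AddCommGrpCat.{u}).obj (op U)) := by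
  haveI : (SheafOfModules.toSheaf (ModSite.ringSh O) ⋙ (sheafSections J AddCommGrpCat.{u}).obj (op U)).Additive :=
    ⟨fun {_ _ _ _} => rfl⟩
  exact preservesColimitsOfShape _ ι fun H x => exists_finset_sect O U hfin H x

/-- Vanishing of a finite sum of sections through the summands. -/
theorem eq_zero_of_sum {U : C} {ι : Type u} (H : ι → ModSite.Mod O) (s : Finset ι)
    (a : ∀ i, ((SheafOfModules.toSheaf (ModSite.ringSh O)).obj (H i)).obj.obj (op U))
    (h : ∑ i ∈ s, (((SheafOfModules.toSheaf (ModSite.ringSh O)).map (Sigma.ι H i)).hom.app (op U)).hom (a i) = 0)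
    (i : ι) (hi : i ∈ s) : a i = 0 := by
  classical
  let F := SheafOfModules.toSheaf (ModSite.ringSh O)
  have h1 := congrArg ((F.map (TriCat.coprodProj H i)).hom.app (op U)).hom h
  rw [map_zero, map_sum, Finset.sum_eq_single i] at h1
  · refine Eq.trans ?_ h1
    exact congrArg (fun q => ((F.map q).hom.app (op U)).hom (a i)) (TriCat.ι_coprodProj_self (X := H) i).symm
  · intro j _ hj
    exact congrArg (fun q => ((F.map q).hom.app (op U)).hom (a j)) (TriCat.ι_coprodProj_ne (X := H) hj)
  · exact fun hn => absurd hi hn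

/-- Coverings of a compact open have finite refinements. -/
theorem finite_refinement_opens {X : TopCat.{u}} (U : TopologicalSpace.Opens X) (hU : IsCompact (U : Set X))
    (T : Sieve U) (hT : T ∈ Opens.grothendieckTopology X U) :
    ∃ (n : Type u) (_ : Finite n) (Y : n → TopologicalSpace.Opens X) (f : ∀ i, Y i ⟶ U),
      (∀ i, T (f i)) ∧ Sieve.ofArrows Y f ∈ Opens.grothendieckTopology X U := by
  choose V g hg hx using fun x : (U : Set X) => hT x.1 x.2
  obtain ⟨t, ht⟩ := hU.elim_finite_subcover (fun x => (V x : Set X)) (fun x => (V x).2)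
    fun x hxU => Set.mem_iUnion.2 ⟨⟨x, hxU⟩, hx ⟨x, hxU⟩⟩
  refine ⟨t, inferInstance, fun i => V i.1, fun i => g i.1, fun i => hg i.1, fun x hxU => ?_⟩
  obtain ⟨i, hi, hxi⟩ := Set.mem_iUnion₂.1 (ht hxU)
  exact ⟨V i, g i, Sieve.ofArrows_mk (fun j : t => V j.1) (fun j => g j.1) ⟨i, hi⟩, hxi⟩

end Groth.Agent.PreservesSum
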