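import Groth.Agent.SiteBase.HomColim
import Groth.Agent.SiteBase.PreservesSum
import Groth.Agent.ModPull.Free
import Mathlib.Topology.Sheaves.Sheaf

/-!
# The case of a quasi-compact quasi-separated space
-/

set_option autoImplicit false
set_option backward.isDefEq.respectTransparency false
set_option linter.style.haveILetI false
set_option linter.unusedSectionVars false
set_option linter.unusedVariables false
set_option linter.deprecated false

universe u

open CategoryTheory CategoryTheory.Limits Opposite TopologicalSpace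
open Groth.Agent.ModPull Groth.Agent.HomColim

noncomputable section

namespace Groth.Agent.HomColimTop

variable {X : TopCat.{u}}

theorem exists_generators
    (hX : ∀ (ι : Type u) (V : ι → Opens X), iSup V = ⊤ →
      ∃ (J : Type u) (_ : Finite J) (U : J → Opens X), iSup U = ⊤ ∧ (∀ j, ∃ i, U j ≤ V i) ∧
        ∀ j j', IsCompact ((U j ⊓ U j' : Opens X) : Set X))
    (G : Sheaf (Opens.grothendieckTopology X) (Type u)) (hG : Epi (terminal.from G)) :
    ∃ K ∈ {K : Sheaf (Opens.grothendieckTopology X) (Type u) | CohCx.IsQcObject (K ⨯ K)},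
      Epi (terminal.from K) ∧ Nonempty (K ⟶ G) := by
  classical
  let J := Opens.grothendieckTopology X
  let I := {V : Opens X // Nonempty (G.obj.obj (op V))}
  have hI : iSup (fun i : I => i.1) = ⊤ := by
    refine top_unique fun x _ => ?_
    obtain ⟨S, hS, hSp⟩ := locally_nonempty_of_epi (J := J) hG (⊤ : Opens X)
    obtain ⟨V, g, hg, hxV⟩ := hS x trivial
    exact Opens.mem_iSup.2 ⟨⟨V, hSp g hg⟩, hxV⟩
  obtain ⟨ι, hι, U, hU, hle, hcpt⟩ := hX I _ hI
  choose a ha using hle
  let s : ∀ j, G.obj.obj (op (U j)) := fun j => G.obj.map (homOfLE (ha j)).op (a j).2.some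
  let Q := sigYon (C := Opens X) U
  let K := (presheafToSheaf J (Type u)).obj Q
  let η := toSheafify J Q
  let φ : Q ⟶ G.obj :=
    { app := fun V => ↾fun p => G.obj.map p.2.op (s p.1)
      naturality := fun V W g => by
        ext p
        exact (FunctorToTypes.map_comp_apply G.obj p.2.op g (s p.1)) }
  let f : K ⟶ G := ((sheafificationAdjunction J (Type u)).homEquiv _ _).symm φ
  let κ : ∀ j, K.obj.obj (op (U j)) := fun j => η.app (op (U j)) ⟨j, 𝟙 _⟩
  have hK : Epi (terminal.from K) := epi_of_locally_nonempty fun W => by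
    refine ⟨{ arrows := fun V _ => ∃ j, V ≤ U j
              downward_closed := fun {V V' _} ⟨j, hj⟩ g => ⟨j, g.le.trans hj⟩ }, ?_, fun V g hg => ?_⟩
    · intro x hx
      obtain ⟨j, hj⟩ := Opens.mem_iSup.1 (hU.symm ▸ trivial : x ∈ iSup U)
      exact ⟨W ⊓ U j, homOfLE inf_le_left, ⟨j, inf_le_right⟩, ⟨hx, hj⟩⟩
    · obtain ⟨j, hj⟩ := hg
      exact ⟨K.obj.map (homOfLE hj).op (κ j)⟩
  have hloc : ∀ (W : Opens X) (t : K.obj.obj (op W)), ModPull.Locally J W (fun V g =>
      ∃ (j : ι) (h : V ⟶ U j), K.obj.map h.op (κ j) = K.obj.map g.op t) := fun W t =>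
    ⟨_, Presheaf.imageSieve_mem J η (U := op W) t, fun V g hg => by
      obtain ⟨⟨j, h⟩, hh⟩ := hg
      refine ⟨j, h, Eq.trans ?_ hh⟩
      refine (NatTrans.naturality_apply η h.op ⟨j, 𝟙 _⟩).symm.trans (congrArg (η.app (op V)) ?_)
      show (⟨j, _⟩ : Σ i, V ⟶ U i) = ⟨j, h⟩
      exact congrArg (Sigma.mk j) (Subsingleton.elim _ _)⟩
  refine ⟨K, ?_, hK, ⟨f⟩⟩
  let W2 : ι × ι → Opens X := fun p => U p.1 ⊓ U p.2
  choose p hp₁ hp₂ using fun jj : ι × ι => exists_pair (J := J)
    (K.obj.map (homOfLE (inf_le_left : W2 jj ≤ U jj.1)).op (κ jj.1))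
    (K.obj.map (homOfLE (inf_le_right : W2 jj ≤ U jj.2)).op (κ jj.2))
  refine isQc_of_finite W2 p (fun W t => ?_) fun jj T hT => PreservesSum.finite_refinement_opens _ (hcpt _ _) T hT
  let q₁ : K ⨯ K ⟶ K := prod.fst
  let q₂ : K ⨯ K ⟶ K := prod.snd
  refine ((hloc W (q₁.hom.app (op W) t)).and (hloc W (q₂.hom.app (op W) t))).mono fun V g hg => ?_
  obtain ⟨⟨j₁, h₁, e₁⟩, ⟨j₂, h₂, e₂⟩⟩ := hg
  let hle2 : V ≤ W2 (j₁, j₂) := le_inf h₁.le h₂.le
  refine ⟨(j₁, j₂), homOfLE hle2, ?_⟩
  have hx1 : q₁.hom.app (op V) ((K ⨯ K).obj.map (homOfLE hle2).op (p (j₁, j₂))) =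
      q₁.hom.app (op V) ((K ⨯ K).obj.map g.op t) := by
    rw [NatTrans.naturality_apply q₁.hom, NatTrans.naturality_apply q₁.hom, hp₁, ← map_comp_op]
    exact (congrArg (fun k : V ⟶ U j₁ => K.obj.map k.op (κ j₁)) (Subsingleton.elim _ h₁)).trans e₁
  have hx2 : q₂.hom.app (op V) ((K ⨯ K).obj.map (homOfLE hle2).op (p (j₁, j₂))) =
      q₂.hom.app (op V) ((K ⨯ K).obj.map g.op t) := by
    rw [NatTrans.naturality_apply q₂.hom, NatTrans.naturality_apply q₂.hom, hp₂, ← map_comp_op]
    exact (congrArg (fun k : V ⟶ U j₂ => K.obj.map k.op (κ j₂)) (Subsingleton.elim _ h₂)).trans e₂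
  rw [← secMap_gen ((K ⨯ K).obj.map (homOfLE hle2).op (p (j₁, j₂))), ← secMap_gen ((K ⨯ K).obj.map g.op t)]
  refine congrArg (fun z : hs J V ⟶ K ⨯ K => z.hom.app (op V) (gen J V)) ?_
  apply prod.hom_ext
  · refine ((sheafificationAdjunction J (Type u)).homEquiv _ _).injective (yonedaEquiv.injective ?_)
    simp only [Adjunction.homEquiv_naturality_right, secMap, Equiv.apply_symm_apply, yonedaEquiv_comp]
    exact hx1
  · refine ((sheafificationAdjunction J (Type u)).homEquiv _ _).injective (yonedaEquiv.injective ?_)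
    simp only [Adjunction.homEquiv_naturality_right, secMap, Equiv.apply_symm_apply, yonedaEquiv_comp]
    exact hx2

end Groth.Agent.HomColimTop
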