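import Groth.Agent.SiteBase.ClosedPushFT
import Groth.Agent.SiteBase.ClosedEmb
import Groth.Agent.QCoh.ToSheaf
import Mathlib.Topology.Sheaves.SheafCondition.UniqueGluing

/-!
# Modules on a closed subspace as modules killed by the kernel
-/

set_option autoImplicit false
set_option backward.isDefEq.respectTransparency false
set_option linter.style.haveILetI false
set_option linter.unusedSectionVars false
set_option linter.unusedVariables false

universe u

open CategoryTheory CategoryTheory.Limits Opposite TopologicalSpace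
open Groth.Agent.ModTensor Groth.Agent.ModPull Groth.Agent.SecGen Groth.Agent.ClosedPushFT

noncomputable section

namespace Groth.Agent.ClosedPushEq

variable {Z X : TopCat.{u}} (i : Z ⟶ X) {O_Z : TopCat.Sheaf CommRingCat.{u} Z}
  {O_X : TopCat.Sheaf CommRingCat.{u} X}
  (c : O_X ⟶ ((Opens.map i).sheafPushforwardContinuous CommRingCat.{u}
      (Opens.grothendieckTopology X) (Opens.grothendieckTopology Z)).obj O_Z)
  (hi : Topology.IsClosedEmbedding i)

/-- The image of a function on `X` on the subspace. -/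
abbrev cc (W : Opens X) (a : O_X.obj.obj (op W)) : O_Z.obj.obj (op ((Opens.map i).obj W)) :=
  (c.hom.app (op W)).hom a

lemma cc_res {W' W : Opens X} (h : W' ≤ W) (a : O_X.obj.obj (op W)) :
    cc i c W' ((O_X.obj.map (homOfLE h).op).hom a) =
      (O_Z.obj.map ((Opens.map i).map (homOfLE h)).op).hom (cc i c W a) :=
  ConcreteCategory.congr_hom (c.hom.naturality (homOfLE h).op) a

lemma omap_trans {A B D : Opens Z} (g : A ⟶ B) (h : B ⟶ D) (k : A ⟶ D) (r : O_Z.obj.obj (op D)) :
    (O_Z.obj.map g.op).hom ((O_Z.obj.map h.op).hom r) = (O_Z.obj.map k.op).hom r := by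
  rw [← CommRingCat.comp_apply, ← O_Z.obj.map_comp]
  rfl

theorem reflectsIsomorphisms_toSheaf (O : TopCat.Sheaf CommRingCat.{u} X) :
    (SheafOfModules.toSheaf.{u} (ModSite.ringSh O)).ReflectsIsomorphisms :=
  ⟨fun {A B} φ hφ => by
    haveI : IsIso ((SheafOfModules.forget (ModSite.ringSh O) ⋙
        PresheafOfModules.toPresheaf (ModSite.ringSh O).obj).map φ) :=
      inferInstanceAs (IsIso ((sheafToPresheaf (Opens.grothendieckTopology X) AddCommGrpCat.{u}).map
        ((SheafOfModules.toSheaf (ModSite.ringSh O)).map φ)))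
    exact isIso_of_reflects_iso φ
      (SheafOfModules.forget (ModSite.ringSh O) ⋙ PresheafOfModules.toPresheaf (ModSite.ringSh O).obj)⟩

include hi in
/-- Sections of the ring of the subspace lift locally. -/
theorem exists_lift (hc : Sheaf.IsLocallySurjective c) {V : Opens Z} (r : O_Z.obj.obj (op V)) {z : Z}
    (hz : z ∈ V) : ∃ (W : Opens X) (a : O_X.obj.obj (op W)) (h : (Opens.map i).obj W ≤ V),
      i z ∈ W ∧ cc i c W a = (O_Z.obj.map (homOfLE h).op).hom r := by
  haveI : Presheaf.IsLocallySurjective (Opens.grothendieckTopology X) c.hom := hc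
  obtain ⟨W₀, -, e⟩ := exists_open_eq i hi V (W := (⊤ : Opens X)) (fun x _ => trivial)
  obtain ⟨W, g, ⟨a, ha⟩, hzW⟩ := Presheaf.imageSieve_mem (Opens.grothendieckTopology X) c.hom
    (U := op W₀) ((O_Z.obj.map (homOfLE e.le).op).hom r) (i z) (show z ∈ (Opens.map i).obj W₀ from e.symm ▸ hz)
  refine ⟨W, a, ((Opens.map i).map g).le.trans e.le, hzW, ?_⟩
  exact ha.trans (omap_trans _ _ _ r)

section Full

variable {F G : ModSite.Mod O_Z}

/-- The push forward. -/
abbrev pushF : ModSite.Mod O_Z ⥤ ModSite.Mod O_X := (ModSite.RMor.ofFlat (Opens.map i) c).push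

/-- Pushing commutes with the underlying abelian sheaf. -/
def pushToSheafIso : pushF i c ⋙ SheafOfModules.toSheaf (ModSite.ringSh O_X) ≅
    SheafOfModules.toSheaf (ModSite.ringSh O_Z) ⋙ CohTop.push i :=
  Iso.refl _

include hi in
theorem faithful_push : (pushF i c).Faithful := by
  haveI := ClosedEmb.push_faithful hi.isInducing
  haveI : (pushF i c ⋙ SheafOfModules.toSheaf (ModSite.ringSh O_X)).Faithful :=
    Functor.Faithful.of_iso (pushToSheafIso i c).symm
  exact Functor.Faithful.of_comp (pushF i c) (SheafOfModules.toSheaf _)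

include hi in
theorem preservesFiniteColimits_push : PreservesFiniteColimits (pushF i c) := by
  haveI := ClosedEmb.preservesFiniteColimits_push hi
  refine ⟨fun J _ _ => ?_⟩
  haveI : PreservesColimitsOfShape J (pushF i c ⋙ SheafOfModules.toSheaf (ModSite.ringSh O_X)) :=
    preservesColimitsOfShape_of_natIso (pushToSheafIso i c).symm
  haveI := reflectsIsomorphisms_toSheaf O_X
  haveI : ReflectsColimitsOfShape J (SheafOfModules.toSheaf (ModSite.ringSh O_X)) :=
    reflectsColimitsOfShape_of_reflectsIsomorphisms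
  exact preservesColimitsOfShape_of_reflects_of_preserves (pushF i c)
    (SheafOfModules.toSheaf (ModSite.ringSh O_X))

include hi in
theorem full_push (hc : Sheaf.IsLocallySurjective c) : (pushF i c).Full := by
  refine ⟨fun {F G} η => ?_⟩
  haveI := ClosedEmb.push_full hi.isInducing
  haveI := faithful_push i c hi
  obtain ⟨α, hα⟩ : ∃ α : ModSite.toAb F ⟶ ModSite.toAb G,
      (CohTop.push i).map α = (SheafOfModules.toSheaf (ModSite.ringSh O_X)).map η :=
    (CohTop.push i).map_surjective _
  have hαW : ∀ (W : Opens X) (x : ((fg O_Z).obj F).obj (op ((Opens.map i).obj W))),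
      (α.hom.app (op ((Opens.map i).obj W))).hom x = (η.val.app (op W)).hom x := fun W x =>
    congrArg (fun φ : (CohTop.push i).obj (ModSite.toAb F) ⟶ (CohTop.push i).obj (ModSite.toAb G) =>
      (φ.hom.app (op W)).hom x) hα
  have hlin : ∀ (V : (Opens Z)ᵒᵖ) (r : (ModSite.ringSh O_Z).obj.obj V) (m : ((fg O_Z).obj F).obj V),
      (α.hom.app V).hom (r • m) = r • (show ((fg O_Z).obj G).obj V from (α.hom.app V).hom m) := by
    rintro ⟨V⟩ r m
    refine eq_of_locally' (J := Opens.grothendieckTopology Z) G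
      ⟨{ arrows := fun A _ => ∃ (W : Opens X) (a : O_X.obj.obj (op W)) (h : (Opens.map i).obj W ≤ V),
                A ≤ (Opens.map i).obj W ∧ cc i c W a = (O_Z.obj.map (homOfLE h).op).hom r
         downward_closed := fun {A B _} ⟨W, a, h, hA, e⟩ k => ⟨W, a, h, k.le.trans hA, e⟩ },
      fun z hz => ?_, fun A g hA => ?_⟩
    · obtain ⟨W, a, h, hzW, e⟩ := exists_lift i c hi hc r hz
      exact ⟨(Opens.map i).obj W, homOfLE h, ⟨W, a, h, le_rfl, e⟩, hzW⟩
    · obtain ⟨W, a, h, hA', e⟩ := hA
      have nat : ∀ {P Q : Opens Z} (k : P ⟶ Q) (y : ((fg O_Z).obj F).obj (op Q)),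
          rs ((fg O_Z).obj G) k.op ((α.hom.app (op Q)).hom y) =
            (α.hom.app (op P)).hom (rs ((fg O_Z).obj F) k.op y) := fun k y =>
        (ConcreteCategory.congr_hom (α.hom.naturality k.op) y).symm
      have key : rs ((fg O_Z).obj G) (homOfLE h).op ((α.hom.app (op V)).hom (r • m)) =
          rs ((fg O_Z).obj G) (homOfLE h).op
            (r • (show ((fg O_Z).obj G).obj (op V) from (α.hom.app (op V)).hom m)) := by
        refine (nat (homOfLE h) _).trans ?_
        rw [rs_smul, rs_smul]
        refine Eq.trans ?_ (congrArg₂ (· • ·) rfl (nat (homOfLE h) m).symm)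
        refine Eq.trans (congrArg (α.hom.app (op ((Opens.map i).obj W))).hom
          (congrArg₂ (· • ·) e.symm rfl)) ?_
        refine Eq.trans ?_ (congrArg₂ (· • ·) e rfl)
        rw [hαW, hαW]
        exact (η.val.app (op W)).hom.map_smul a _
      rw [show g.op = (homOfLE h).op ≫ (homOfLE hA').op from Subsingleton.elim _ _, rs_comp, rs_comp]
      exact congrArg _ key
  refine ⟨(SheafOfModules.fullyFaithfulForget (ModSite.ringSh O_Z)).preimage
    (PresheafOfModules.homMk α.hom hlin), ?_⟩
  apply (SheafOfModules.toSheaf (ModSite.ringSh O_X)).map_injective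
  exact hα

end Full

section EssImage

variable (G : ModSite.Mod O_X)

/-- The kernel of the ring map kills the module. -/
def Killed : Prop :=
  ∀ (W : Opens X) (a : O_X.obj.obj (op W)), cc i c W a = 0 → ∀ s : ((fg O_X).obj G).obj (op W), a • s = 0

theorem killed_of_essImage (h : (pushF i c).essImage G) : Killed i c G := by
  obtain ⟨F, ⟨e⟩⟩ := h
  intro W a ha s
  have h0 : ∀ y : ((fg O_X).obj ((pushF i c).obj F)).obj (op W), a • y = 0 := fun y =>
    (congrArg (fun r : O_Z.obj.obj (op ((Opens.map i).obj W)) =>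
      r • (show ((fg O_Z).obj F).obj (op ((Opens.map i).obj W)) from y)) ha).trans (zero_smul _ _)
  have h1 : ∀ y, (e.hom.val.app (op W)).hom ((e.inv.val.app (op W)).hom y) = y := fun y => by
    have h2 : e.inv.val.app (op W) ≫ e.hom.val.app (op W) = 𝟙 _ := by
      rw [← PresheafOfModules.comp_app, ← SheafOfModules.comp_val, e.inv_hom_id]
      rfl
    exact congrArg (fun φ => φ.hom y) h2
  rw [← h1 (a • s), (e.inv.val.app (op W)).hom.map_smul, h0, map_zero]

include hi in
theorem isZero_stalk (hG : Killed i c G) (x : X) (hx : x ∉ Set.range i) :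
    IsZero (CohTop.stalk (ModSite.toAb G) x) := by
  refine ClosedEmb.isZero_stalk_of_forall _ x ⟨(Set.range i)ᶜ, hi.isClosed_range.isOpen_compl⟩ hx
    fun W hW => ?_
  have hemp : ∀ z, z ∉ (Opens.map i).obj W := fun z hz => hW hz ⟨z, rfl⟩
  have hs : Subsingleton (O_Z.obj.obj (op ((Opens.map i).obj W))) :=
    ⟨fun a b => eq_of_isEmpty (SheafOfModules.unit (ModSite.ringSh O_Z)) hemp a b⟩
  have h0 : ∀ s : ((fg O_X).obj G).obj (op W), s = 0 := fun s =>
    (one_smul _ s).symm.trans (hG W 1 (Subsingleton.elim _ _) s)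
  haveI : Subsingleton ((ModSite.toAb G).obj.obj (op W)) := ⟨fun a b => (h0 a).trans (h0 b).symm⟩
  exact AddCommGrpCat.isZero_of_subsingleton _

variable (P : CohTop.Ab Z) (e : ModSite.toAb G ≅ (CohTop.push i).obj P)

/-- Sections as sections of the pushed sheaf. -/
abbrev eh (W : Opens X) (s : ((fg O_X).obj G).obj (op W)) : P.obj.obj (op ((Opens.map i).obj W)) :=
  (e.hom.hom.app (op W)).hom s

/-- Sections of the pushed sheaf as sections. -/
abbrev ei (W : Opens X) (x : P.obj.obj (op ((Opens.map i).obj W))) : ((fg O_X).obj G).obj (op W) :=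
  (e.inv.hom.app (op W)).hom x

lemma eh_ei (W : Opens X) (x : P.obj.obj (op ((Opens.map i).obj W))) :
    eh i G P e W (ei i G P e W x) = x :=
  congrArg (fun φ : (CohTop.push i).obj P ⟶ (CohTop.push i).obj P => (φ.hom.app (op W)).hom x)
    e.inv_hom_id

lemma ei_eh (W : Opens X) (s : ((fg O_X).obj G).obj (op W)) :
    ei i G P e W (eh i G P e W s) = s :=
  congrArg (fun φ : ModSite.toAb G ⟶ ModSite.toAb G => (φ.hom.app (op W)).hom s) e.hom_inv_id

/-- Restriction on the subspace. -/
abbrev pr {A B : Opens Z} (h : A ≤ B) (x : P.obj.obj (op B)) : P.obj.obj (op A) :=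
  (P.obj.map (homOfLE h).op).hom x

lemma pr_pr {A B D : Opens Z} (h : A ≤ B) (h' : B ≤ D) (x : P.obj.obj (op D)) :
    pr P h (pr P h' x) = pr P (h.trans h') x := by
  dsimp only [pr]
  rw [← AddCommGrpCat.comp_apply, ← P.obj.map_comp]
  rfl

lemma pr_id {A : Opens Z} (h : A ≤ A) (x : P.obj.obj (op A)) : pr P h x = x := by
  dsimp only [pr]
  rw [show (homOfLE h).op = 𝟙 (op A) from Subsingleton.elim _ _, P.obj.map_id]
  rfl

lemma eh_res {W' W : Opens X} (h : W' ≤ W) (s : ((fg O_X).obj G).obj (op W)) :
    pr P ((Opens.map i).map (homOfLE h)).le (eh i G P e W s) =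
      eh i G P e W' (rs ((fg O_X).obj G) (homOfLE h).op s) :=
  (ConcreteCategory.congr_hom (e.hom.hom.naturality (homOfLE h).op) s).symm

lemma ei_res {W' W : Opens X} (h : W' ≤ W) (x : P.obj.obj (op ((Opens.map i).obj W))) :
    ei i G P e W' (pr P ((Opens.map i).map (homOfLE h)).le x) =
      rs ((fg O_X).obj G) (homOfLE h).op (ei i G P e W x) :=
  ConcreteCategory.congr_hom (e.inv.hom.naturality (homOfLE h).op) x

/-- The action of a function on `X`. -/
def act (W : Opens X) (a : O_X.obj.obj (op W)) (x : P.obj.obj (op ((Opens.map i).obj W))) :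
    P.obj.obj (op ((Opens.map i).obj W)) :=
  eh i G P e W (a • ei i G P e W x)

lemma act_res {W' W : Opens X} (h : W' ≤ W) (a : O_X.obj.obj (op W))
    (x : P.obj.obj (op ((Opens.map i).obj W))) :
    pr P ((Opens.map i).map (homOfLE h)).le (act i G P e W a x) =
      act i G P e W' ((O_X.obj.map (homOfLE h).op).hom a)
        (pr P ((Opens.map i).map (homOfLE h)).le x) := by
  refine (eh_res i G P e h _).trans (congrArg (eh i G P e W') ?_)
  rw [rs_smul]
  exact congrArg₂ (· • ·) rfl (ei_res i G P e h x).symm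

lemma act_congr (hG : Killed i c G) (W : Opens X) {a a' : O_X.obj.obj (op W)}
    (h : cc i c W a = cc i c W a') (x : P.obj.obj (op ((Opens.map i).obj W))) :
    act i G P e W a x = act i G P e W a' x := by
  refine congrArg (eh i G P e W) ?_
  have h0 := hG W (a - a') (by rw [cc, map_sub, sub_eq_zero]; exact h) (ei i G P e W x)
  rwa [sub_smul, sub_eq_zero] at h0

lemma pr_zero {A B : Opens Z} (h : A ≤ B) : pr P h 0 = 0 := map_zero (P.obj.map (homOfLE h).op).hom

lemma pr_add {A B : Opens Z} (h : A ≤ B) (x y : P.obj.obj (op B)) :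
    pr P h (x + y) = pr P h x + pr P h y :=
  map_add (P.obj.map (homOfLE h).op).hom x y

lemma eh_zero (W : Opens X) : eh i G P e W 0 = 0 := map_zero (e.hom.hom.app (op W)).hom

lemma eh_add (W : Opens X) (s t : ((fg O_X).obj G).obj (op W)) :
    eh i G P e W (s + t) = eh i G P e W s + eh i G P e W t :=
  map_add (e.hom.hom.app (op W)).hom s t

lemma ei_zero (W : Opens X) : ei i G P e W 0 = 0 := map_zero (e.inv.hom.app (op W)).hom

lemma ei_add (W : Opens X) (x y : P.obj.obj (op ((Opens.map i).obj W))) :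
    ei i G P e W (x + y) = ei i G P e W x + ei i G P e W y :=
  map_add (e.inv.hom.app (op W)).hom x y

lemma act_one (W : Opens X) (x : P.obj.obj (op ((Opens.map i).obj W))) :
    act i G P e W 1 x = x :=
  (congrArg (eh i G P e W) (one_smul _ _)).trans (eh_ei i G P e W x)

lemma act_zero_left (W : Opens X) (x : P.obj.obj (op ((Opens.map i).obj W))) :
    act i G P e W 0 x = 0 :=
  (congrArg (eh i G P e W) (zero_smul _ _)).trans (eh_zero i G P e W)

lemma act_zero_right (W : Opens X) (a : O_X.obj.obj (op W)) : act i G P e W a 0 = 0 := by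
  refine Eq.trans ?_ (eh_zero i G P e W)
  refine congrArg (eh i G P e W) ?_
  rw [ei_zero, smul_zero]

lemma act_add_left (W : Opens X) (a b : O_X.obj.obj (op W)) (x : P.obj.obj (op ((Opens.map i).obj W))) :
    act i G P e W (a + b) x = act i G P e W a x + act i G P e W b x :=
  (congrArg (eh i G P e W) (add_smul _ _ _)).trans (eh_add i G P e W _ _)

lemma act_add_right (W : Opens X) (a : O_X.obj.obj (op W)) (x y : P.obj.obj (op ((Opens.map i).obj W))) :
    act i G P e W a (x + y) = act i G P e W a x + act i G P e W a y :=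
  ((congrArg (eh i G P e W) ((congrArg (a • ·) (ei_add i G P e W x y)).trans (smul_add _ _ _))).trans
    (eh_add i G P e W _ _))

lemma act_mul (W : Opens X) (a b : O_X.obj.obj (op W)) (x : P.obj.obj (op ((Opens.map i).obj W))) :
    act i G P e W (a * b) x = act i G P e W a (act i G P e W b x) :=
  congrArg (eh i G P e W) ((mul_smul _ _ _).trans (congrArg (a • ·) (ei_eh i G P e W _).symm))

/-- The defining property of the product of a function on the subspace and a section. -/
def IsProd (V : Opens Z) (r : O_Z.obj.obj (op V)) (x y : P.obj.obj (op V)) : Prop :=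
  ∀ (W : Opens X) (a : O_X.obj.obj (op W)) (h : (Opens.map i).obj W ≤ V),
    cc i c W a = (O_Z.obj.map (homOfLE h).op).hom r → pr P h y = act i G P e W a (pr P h x)

include hi in
theorem exists_isProd (hc : Sheaf.IsLocallySurjective c) (hG : Killed i c G) (V : Opens Z)
    (r : O_Z.obj.obj (op V)) (x : P.obj.obj (op V)) : ∃ y, IsProd i c G P e V r x y := by
  let ι : Type u := Σ W : Opens X, {a : O_X.obj.obj (op W) //
    ∃ h : (Opens.map i).obj W ≤ V, cc i c W a = (O_Z.obj.map (homOfLE h).op).hom r}
  let U : ι → Opens Z := fun j => (Opens.map i).obj j.1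
  let sf : ∀ j : ι, ToType (P.obj.obj (op (U j))) := fun j =>
    act i G P e j.1 j.2.1 (pr P j.2.2.choose x)
  have hcomp : TopCat.Presheaf.IsCompatible P.obj U sf := by
    intro j k
    change pr P ((Opens.map i).map (homOfLE (inf_le_left : j.1 ⊓ k.1 ≤ j.1))).le
        (act i G P e j.1 j.2.1 (pr P j.2.2.choose x)) =
      pr P ((Opens.map i).map (homOfLE (inf_le_right : j.1 ⊓ k.1 ≤ k.1))).le
        (act i G P e k.1 k.2.1 (pr P k.2.2.choose x))
    rw [act_res i G P e (inf_le_left : j.1 ⊓ k.1 ≤ j.1), act_res i G P e (inf_le_right : j.1 ⊓ k.1 ≤ k.1),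
      pr_pr, pr_pr]
    refine act_congr i c G P e hG _ ?_ _
    rw [cc_res, cc_res, j.2.2.choose_spec, k.2.2.choose_spec]
    exact (omap_trans _ _ (homOfLE (((Opens.map i).map (homOfLE inf_le_left)).le.trans j.2.2.choose)) r).trans
      (omap_trans _ _ _ r).symm
  obtain ⟨y, hy, -⟩ := TopCat.Sheaf.existsUnique_gluing' (F := (P : TopCat.Sheaf AddCommGrpCat.{u} Z))
    U V (fun j => homOfLE j.2.2.choose) (fun z hz => by
      obtain ⟨W, a, h, hzW, he⟩ := exists_lift i c hi hc r hz
      exact Opens.mem_iSup.2 ⟨⟨W, a, h, he⟩, hzW⟩) sf hcomp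
  exact ⟨y, fun W a h he => hy ⟨W, a, h, he⟩⟩

include hi in
/-- Sections agree if they agree over opens lifting given functions. -/
theorem eq_of_lifts (hc : Sheaf.IsLocallySurjective c) {V : Opens Z} (r r' : O_Z.obj.obj (op V))
    {y y' : P.obj.obj (op V)}
    (H : ∀ (W : Opens X) (a b : O_X.obj.obj (op W)) (h : (Opens.map i).obj W ≤ V),
      cc i c W a = (O_Z.obj.map (homOfLE h).op).hom r →
        cc i c W b = (O_Z.obj.map (homOfLE h).op).hom r' → pr P h y = pr P h y') : y = y' := by
  let ι : Type u := Σ W : Opens X, {ab : O_X.obj.obj (op W) × O_X.obj.obj (op W) //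
    ∃ h : (Opens.map i).obj W ≤ V, cc i c W ab.1 = (O_Z.obj.map (homOfLE h).op).hom r ∧
      cc i c W ab.2 = (O_Z.obj.map (homOfLE h).op).hom r'}
  refine TopCat.Sheaf.eq_of_locally_eq' (F := (P : TopCat.Sheaf AddCommGrpCat.{u} Z))
    (fun j : ι => (Opens.map i).obj j.1) V (fun j => homOfLE j.2.2.choose) (fun z hz => ?_) y y'
    (fun j => H j.1 j.2.1.1 j.2.1.2 j.2.2.choose j.2.2.choose_spec.1 j.2.2.choose_spec.2)
  obtain ⟨W, a, h, hzW, he⟩ := exists_lift i c hi hc r hz
  obtain ⟨W', b, h', hzW', he'⟩ := exists_lift i c hi hc r' hz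
  refine Opens.mem_iSup.2 ⟨⟨W ⊓ W', ((O_X.obj.map (homOfLE inf_le_left).op).hom a,
    (O_X.obj.map (homOfLE inf_le_right).op).hom b),
    ((Opens.map i).map (homOfLE (inf_le_left : W ⊓ W' ≤ W))).le.trans h, ?_, ?_⟩, hzW, hzW'⟩
  · rw [cc_res, he]; exact omap_trans _ _ _ r
  · rw [cc_res, he']; exact omap_trans _ _ _ r'

variable {hi} (hc : Sheaf.IsLocallySurjective c) (hG : Killed i c G)

/-- The product of a function on the subspace and a section. -/
def mulSec (hi : Topology.IsClosedEmbedding i) (hc : Sheaf.IsLocallySurjective c) (hG : Killed i c G)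
    (V : Opens Z) (r : O_Z.obj.obj (op V)) (x : P.obj.obj (op V)) : P.obj.obj (op V) :=
  (exists_isProd i c hi G P e hc hG V r x).choose

lemma mulSec_spec (V : Opens Z) (r : O_Z.obj.obj (op V)) (x : P.obj.obj (op V)) (W : Opens X)
    (a : O_X.obj.obj (op W)) (h : (Opens.map i).obj W ≤ V)
    (he : cc i c W a = (O_Z.obj.map (homOfLE h).op).hom r) :
    pr P h (mulSec i c G P e hi hc hG V r x) = act i G P e W a (pr P h x) :=
  (exists_isProd i c hi G P e hc hG V r x).choose_spec W a h he

/-- The module structure of the descended sheaf. -/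
@[instance_reducible]
def modStr (hi : Topology.IsClosedEmbedding i) (hc : Sheaf.IsLocallySurjective c) (hG : Killed i c G)
    (V : (Opens Z)ᵒᵖ) : Module ((ModSite.ringSh O_Z).obj.obj V) (P.obj.obj V) :=
  letI : SMul ((ModSite.ringSh O_Z).obj.obj V) (P.obj.obj V) :=
    ⟨fun r x => mulSec i c G P e hi hc hG V.unop r x⟩
  { one_smul := fun x => eq_of_lifts i c hi P hc 1 1 fun W a b h ha _ => by
      refine (mulSec_spec i c G P e hc hG V.unop 1 x W 1 h ?_).trans ?_
      · rw [cc, map_one, map_one]
      · exact act_one i G P e W _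
    mul_smul := fun r s x => eq_of_lifts i c hi P hc r s fun W a b h ha hb => by
      refine (mulSec_spec i c G P e hc hG V.unop (r * s) x W (a * b) h ?_).trans ?_
      · rw [cc, map_mul]; exact (congrArg₂ (· * ·) ha hb).trans (map_mul _ _ _).symm
      · refine Eq.trans ?_ (mulSec_spec i c G P e hc hG V.unop r _ W a h ha).symm
        exact (act_mul i G P e W a b _).trans
          (congrArg (act i G P e W a) (mulSec_spec i c G P e hc hG V.unop s x W b h hb).symm)
    smul_zero := fun r => eq_of_lifts i c hi P hc r r fun W a b h ha _ => by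
      refine (mulSec_spec i c G P e hc hG V.unop r 0 W a h ha).trans ?_
      exact (congrArg (act i G P e W a) (pr_zero P h)).trans ((act_zero_right i G P e W a).trans (pr_zero P h).symm)
    smul_add := fun r x y => eq_of_lifts i c hi P hc r r fun W a b h ha _ => by
      refine (mulSec_spec i c G P e hc hG V.unop r (x + y) W a h ha).trans ?_
      refine Eq.trans ?_ (map_add (P.obj.map (homOfLE h).op).hom _ _).symm
      refine Eq.trans ?_ (congrArg₂ (· + ·) (mulSec_spec i c G P e hc hG V.unop r x W a h ha).symm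
        (mulSec_spec i c G P e hc hG V.unop r y W a h ha).symm)
      exact (congrArg (act i G P e W a) (pr_add P h x y)).trans (act_add_right i G P e W a _ _)
    add_smul := fun r s x => eq_of_lifts i c hi P hc r s fun W a b h ha hb => by
      refine (mulSec_spec i c G P e hc hG V.unop (r + s) x W (a + b) h ?_).trans ?_
      · rw [cc, map_add]; exact (congrArg₂ (· + ·) ha hb).trans (map_add _ _ _).symm
      · refine Eq.trans ?_ (map_add (P.obj.map (homOfLE h).op).hom _ _).symm
        refine Eq.trans ?_ (congrArg₂ (· + ·) (mulSec_spec i c G P e hc hG V.unop r x W a h ha).symm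
          (mulSec_spec i c G P e hc hG V.unop s x W b h hb).symm)
        exact act_add_left i G P e W a b _
    zero_smul := fun x => eq_of_lifts i c hi P hc 0 0 fun W a b h ha _ => by
      refine (mulSec_spec i c G P e hc hG V.unop 0 x W 0 h ?_).trans ?_
      · rw [cc, map_zero, map_zero]
      · exact (act_zero_left i G P e W _).trans (pr_zero P h).symm }

include hi hc hG in
theorem essImage_of_killed : (pushF i c).essImage G := by
  haveI := ClosedEmb.push_full hi.isInducing
  obtain ⟨P, ⟨e₀⟩⟩ := (ClosedEmb.essImage_iff hi (ModSite.toAb G)).2 (isZero_stalk i c hi G hG)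
  let e := e₀.symm
  letI : ∀ V, Module ((ModSite.ringSh O_Z).obj.obj V) (P.obj.obj V) := modStr i c G P e hi hc hG
  let F : ModSite.Mod O_Z :=
    { val := PresheafOfModules.ofPresheaf (R := (ModSite.ringSh O_Z).obj) P.obj (fun A B f r x => by
        obtain ⟨A⟩ := A
        obtain ⟨B⟩ := B
        refine eq_of_lifts i c hi P hc ((O_Z.obj.map f).hom r) ((O_Z.obj.map f).hom r)
          fun W a b h ha _ => ?_
        refine Eq.trans ?_ (mulSec_spec i c G P e hc hG B ((O_Z.obj.map f).hom r) _ W a h ha).symm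
        rw [show f = (homOfLE f.unop.le).op from Subsingleton.elim _ _]
        refine (pr_pr P h f.unop.le _).trans ?_
        refine (mulSec_spec i c G P e hc hG A r x W a (h.trans f.unop.le) ?_).trans ?_
        · exact ha.trans (omap_trans _ f.unop _ r)
        · exact congrArg (act i G P e W a) (pr_pr P h f.unop.le x).symm)
      isSheaf := P.property }
  have hlin : ∀ (W : (Opens X)ᵒᵖ) (a : (ModSite.ringSh O_X).obj.obj W)
      (x : ((fg O_X).obj ((pushF i c).obj F)).obj W),
      (e.inv.hom.app W).hom (a • x) = a • (show ((fg O_X).obj G).obj W from (e.inv.hom.app W).hom x) := by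
    rintro ⟨W⟩ a x
    change ei i G P e W (mulSec i c G P e hi hc hG ((Opens.map i).obj W) (cc i c W a) x) =
      a • ei i G P e W x
    have := mulSec_spec (hi := hi) i c G P e hc hG ((Opens.map i).obj W) (cc i c W a) x W a
      le_rfl (by rw [show (homOfLE (le_refl ((Opens.map i).obj W))).op = 𝟙 _ from
        Subsingleton.elim _ _, O_Z.obj.map_id]; rfl)
    rw [pr_id, pr_id] at this
    exact (congrArg (ei i G P e W) this).trans (ei_eh i G P e W _)
  let f : (pushF i c).obj F ⟶ G := (SheafOfModules.fullyFaithfulForget (ModSite.ringSh O_X)).preimage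
    (PresheafOfModules.homMk e.inv.hom hlin)
  haveI := reflectsIsomorphisms_toSheaf O_X
  haveI : IsIso ((SheafOfModules.toSheaf (ModSite.ringSh O_X)).map f) :=
    inferInstanceAs (IsIso e.inv)
  haveI : IsIso f := isIso_of_reflects_iso f (SheafOfModules.toSheaf (ModSite.ringSh O_X))
  exact ⟨F, ⟨asIso f⟩⟩

end EssImage

end Groth.Agent.ClosedPushEq
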