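import Groth.Agent.SiteBase.PullSlice
import Groth.Prelude.Def_AlgSpPerf
import Mathlib.Algebra.Category.ModuleCat.Sheaf.LocallyFree

/-!
# Local properties of inverse images of modules along morphisms of ringed sites
-/

set_option autoImplicit false
set_option backward.isDefEq.respectTransparency false
set_option linter.style.haveILetI false
set_option linter.unusedSectionVars false

universe u

open CategoryTheory CategoryTheory.Limits Opposite
open Groth.Agent.ModTensor Groth.Agent.ModPull Groth.Agent.LHomLib Groth.Agent.SecGen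

noncomputable section

namespace Groth.Agent.PullQc

variable {C D : Type u} [SmallCategory C] [SmallCategory D] {J : GrothendieckTopology C}
  {K : GrothendieckTopology D} {O_C : Sheaf J CommRingCat.{u}} {O_D : Sheaf K CommRingCat.{u}}
  (f : ModSite.RMor O_C O_D)

/-- The images of a covering cover. -/
theorem coversTop_map {ι : Type*} {X : ι → D} (h : K.CoversTop X) :
    J.CoversTop (fun i => f.fn.obj (X i)) := fun W => by
  obtain ⟨S, hS, hSp⟩ : ModPull.Locally J W (fun W' _ => ∃ i, Nonempty (W' ⟶ f.fn.obj (X i))) := by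
    refine ModPull.Locally.bind (⟨_, someSieve_mem (K := K) f.fn W, fun W' g hg => hg⟩ :
      ModPull.Locally J W (fun W' g => someSieve f.fn W g)) fun W' g hg => ?_
    obtain ⟨V, ⟨k⟩⟩ := hg
    refine ⟨_, imgSieve_mem f.fn (h V) k, fun W'' g' ⟨V', a, k', ha, e⟩ => ?_⟩
    obtain ⟨i, ⟨b⟩⟩ := (Sieve.mem_ofObjects_iff ..).1 ha
    exact ⟨i, ⟨k' ≫ f.fn.map b⟩⟩
  exact J.superset_covering (fun V g hg => (Sieve.mem_ofObjects_iff ..).2 (hSp g hg)) hS

lemma rs_section_eq (N : ModSite.Mod O_C) (t : (f.push.obj N).sections) {W : C} {U₁ U₂ : D}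
    (h₁ : W ⟶ f.fn.obj U₁) (h₂ : W ⟶ f.fn.obj U₂) :
    rs ((fg O_C).obj N) h₁.op (t.val (op U₁)) = rs ((fg O_C).obj N) h₂.op (t.val (op U₂)) := by
  refine eq_of_locally' N ⟨_, pairSieve_mem (K := K) f.fn h₁ h₂, fun W' g ⟨V, a₁, a₂, h, e₁, e₂⟩ => ?_⟩
  refine (rs_op_comp g h₁ _).symm.trans (Eq.trans ?_ (rs_op_comp g h₂ _))
  rw [← e₁, ← e₂, rs_op_comp, rs_op_comp]
  exact congrArg (rs ((fg O_C).obj N) h.op) ((t.property a₁.op).trans (t.property a₂.op).symm)

theorem bijective_pushforwardSections (N : ModSite.Mod O_C) :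
    Function.Bijective (SheafOfModules.pushforwardSections f.sharpR (M := N)) := by
  refine ⟨fun s s' e => Subtype.ext (funext fun W => ?_), fun t => ?_⟩
  · refine eq_of_locally' (J := J) N (W := W.unop) ⟨_, someSieve_mem (K := K) f.fn W.unop, fun W' g ⟨U, ⟨h⟩⟩ => ?_⟩
    have e' := congrArg (fun q : (f.push.obj N).sections => rs ((fg O_C).obj N) h.op (q.val (op U))) e
    exact (s.property g.op).trans (((s.property h.op).symm.trans
      (e'.trans (s'.property h.op))).trans (s'.property g.op).symm)
  · have hex : ∀ W : C, ∃! z : ((fg O_C).obj N).obj (op W), ∀ ⦃W' : C⦄ (g : W' ⟶ W) (hg : someSieve f.fn W g),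
        rs ((fg O_C).obj N) g.op z = rs ((fg O_C).obj N) hg.choose_spec.some.op (t.val (op hg.choose)) :=
      fun W => existsUnique_amalgamation N _ (someSieve_mem (K := K) f.fn W) _ fun V' V k g hg =>
        (rs_section_eq f N t _ (k ≫ hg.choose_spec.some)).trans (rs_op_comp k hg.choose_spec.some _)
    choose z hz hu using hex
    have hz' : ∀ {W W' : C} (g : W' ⟶ W) {U : D} (h : W' ⟶ f.fn.obj U),
        rs ((fg O_C).obj N) g.op (z W) = rs ((fg O_C).obj N) h.op (t.val (op U)) := fun g U h =>
      (hz _ g ⟨U, ⟨h⟩⟩).trans (rs_section_eq f N t _ h)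
    refine ⟨⟨fun W => z W.unop, fun {W W'} a => ?_⟩, Subtype.ext (funext fun U => ?_)⟩
    · refine hu W'.unop _ fun W'' g hg => ?_
      exact (rs_op_comp g a.unop _).symm.trans ((hz' (g ≫ a.unop) hg.choose_spec.some))
    · show z (f.fn.obj U.unop) = t.val U
      have := hz' (𝟙 (f.fn.obj U.unop)) (U := U.unop) (𝟙 _)
      rw [op_id, rs_id, rs_id] at this
      exact this

theorem isIso_pullUnit : IsIso (SheafOfModules.pullbackObjUnitToUnit f.sharpR) := by
  rw [isIso_iff_coyoneda_map_bijective]
  intro M
  rw [← ((SheafOfModules.pullbackPushforwardAdjunction.{u} f.sharpR).homEquiv _ _).bijective.of_comp_iff',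
    ← (SheafOfModules.unitHomEquiv _).bijective.of_comp_iff']
  convert! (bijective_pushforwardSections f M).comp (SheafOfModules.unitHomEquiv _).bijective
  ext g : 1
  dsimp
  rw [SheafOfModules.pushforwardSections_unitHomEquiv, EmbeddingLike.apply_eq_iff_eq,
    Adjunction.homEquiv_naturality_right,
    SheafOfModules.pullbackPushforwardAdjunction_homEquiv_pullbackObjUnitToUnit]

/-- Inverse images of finite free modules. -/
def pullFree (I : Type u) :
    f.pull.obj (SheafOfModules.free (R := ModSite.ringSh O_D) I) ≅ SheafOfModules.free (R := ModSite.ringSh O_C) I :=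
  haveI : PreservesColimitsOfSize.{u, u} f.pull := f.adj.leftAdjoint_preservesColimits
  haveI := isIso_pullUnit f
  (SheafOfModules.mapFreeIso f.pull I (asIso (SheafOfModules.pullbackObjUnitToUnit f.sharpR)).symm).symm

theorem isFinFreeSummand_pull {M : ModSite.Mod O_D} (hM : DCoh.IsFinFreeSummandMod (ModSite.ringSh O_D) M) :
    DCoh.IsFinFreeSummandMod (ModSite.ringSh O_C) (f.pull.obj M) := by
  obtain ⟨n, i, p, e⟩ := hM
  refine ⟨n, f.pull.map i ≫ (pullFree f _).hom, (pullFree f _).inv ≫ f.pull.map p, ?_⟩
  rw [Category.assoc, Iso.hom_inv_id_assoc, ← Functor.map_comp, e, CategoryTheory.Functor.map_id]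

theorem nonempty_localGeneratorsData {F : ModSite.Mod O_D}
    (σ : SheafOfModules.LocalGeneratorsData.{u} (R := ModSite.ringSh O_D) F) :
    Nonempty (SheafOfModules.LocalGeneratorsData.{u} (R := ModSite.ringSh O_C) (f.pull.obj F)) :=
  ⟨{ I := σ.I, X := fun i => f.fn.obj (σ.X i), coversTop := coversTop_map f σ.coversTop,
     generators := fun i => PullSlice.generating f (σ.X i) (σ.generators i) }⟩

theorem isQuasicoherent_pull (F : ModSite.Mod O_D)
    [SheafOfModules.IsQuasicoherent (R := ModSite.ringSh O_D) F] :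
    SheafOfModules.IsQuasicoherent (R := ModSite.ringSh O_C) (f.pull.obj F) := by
  obtain ⟨q⟩ := SheafOfModules.IsQuasicoherent.nonempty_quasicoherentData (R := ModSite.ringSh O_D) (M := F)
  let q' : SheafOfModules.QuasicoherentData.{u} (R := ModSite.ringSh O_C) (f.pull.obj F) :=
    { I := q.I, X := fun i => f.fn.obj (q.X i), coversTop := coversTop_map f q.coversTop,
      presentation := fun i => PullSlice.presentation f (q.X i) (q.presentation i) }
  exact { nonempty_quasicoherentData := ⟨q'⟩ }

theorem isFiniteType_pull (F : ModSite.Mod O_D)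
    [SheafOfModules.IsFiniteType (R := ModSite.ringSh O_D) F] :
    SheafOfModules.IsFiniteType (R := ModSite.ringSh O_C) (f.pull.obj F) := by
  obtain ⟨σ, hσ⟩ := SheafOfModules.IsFiniteType.exists_localGeneratorsData (R := ModSite.ringSh O_D) F
  let σ' : SheafOfModules.LocalGeneratorsData.{u} (R := ModSite.ringSh O_C) (f.pull.obj F) :=
    { I := σ.I, X := fun i => f.fn.obj (σ.X i), coversTop := coversTop_map f σ.coversTop,
      generators := fun i => PullSlice.generating f (σ.X i) (σ.generators i) }
  have hσ' : σ'.IsFiniteType := by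
    apply @SheafOfModules.LocalGeneratorsData.IsFiniteType.mk
    intro i
    haveI := hσ.isFiniteType i
    exact ⟨inferInstanceAs (Finite (σ.generators i).I)⟩
  exact { exists_localGeneratorsData := ⟨σ', hσ'⟩ }

theorem isFinitePresentation_pull (F : ModSite.Mod O_D)
    [SheafOfModules.IsFinitePresentation (R := ModSite.ringSh O_D) F] :
    SheafOfModules.IsFinitePresentation (R := ModSite.ringSh O_C) (f.pull.obj F) := by
  obtain ⟨q, hq⟩ := SheafOfModules.IsFinitePresentation.exists_quasicoherentData F
  let q' : SheafOfModules.QuasicoherentData.{u} (R := ModSite.ringSh O_C) (f.pull.obj F) :=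
    { I := q.I, X := fun i => f.fn.obj (q.X i), coversTop := coversTop_map f q.coversTop,
      presentation := fun i => PullSlice.presentation f (q.X i) (q.presentation i) }
  have hq' : q'.IsFinitePresentation := by
    apply @SheafOfModules.QuasicoherentData.IsFinitePresentation.mk
    intro i
    haveI := hq.isFinite_presentation i
    exact ⟨⟨inferInstanceAs (Finite (q.presentation i).generators.I)⟩,
      ⟨inferInstanceAs (Finite (q.presentation i).relations.I)⟩⟩
  exact { exists_quasicoherentData := ⟨q', hq'⟩ }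

theorem isLocallyFree_pull (F : ModSite.Mod O_D)
    [SheafOfModules.IsLocallyFree (R := ModSite.ringSh O_D) F] :
    SheafOfModules.IsLocallyFree (R := ModSite.ringSh O_C) (f.pull.obj F) := by
  obtain ⟨σ, hσ⟩ := SheafOfModules.IsLocallyFree.exists_isLocallyFreeData (R := ModSite.ringSh O_D) (M := F)
  let σ' : SheafOfModules.LocalGeneratorsData.{u} (R := ModSite.ringSh O_C) (f.pull.obj F) :=
    { I := σ.I, X := fun i => f.fn.obj (σ.X i), coversTop := coversTop_map f σ.coversTop,
      generators := fun i => PullSlice.generating f (σ.X i) (σ.generators i) }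
  have hσ' : σ'.IsLocallyFreeData := by
    apply @SheafOfModules.LocalGeneratorsData.IsLocallyFreeData.mk
    intro i
    haveI := hσ.isIso i
    show IsIso (PullSlice.generating f (σ.X i) (σ.generators i)).π
    rw [PullSlice.generating, SheafOfModules.GeneratingSections.ofEpi_π]
    infer_instance
  exact { exists_isLocallyFreeData := ⟨σ', hσ'⟩ }

end Groth.Agent.PullQc
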