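import Groth.Agent.ModTensor.FreeOn
import Groth.Agent.ModPull.Sections
import Mathlib.CategoryTheory.Sites.Limits
import Mathlib.CategoryTheory.Sites.LocallyBijective
import Mathlib.CategoryTheory.Sites.EpiMono
import Mathlib.Algebra.Category.Grp.EpiMono
import Mathlib.Algebra.Category.Grp.FilteredColimits
import Mathlib.CategoryTheory.Limits.ConcreteCategory.Basic

/-!
# Sections of filtered colimits of modules, locally
-/

set_option autoImplicit false
set_option backward.isDefEq.respectTransparency false
set_option linter.style.haveILetI false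
set_option linter.unusedSectionVars false

universe u

open CategoryTheory CategoryTheory.Limits Opposite
open Groth.Agent.ModTensor Groth.Agent.ModPull

noncomputable section

namespace Groth.Agent.ColimSec

variable {C : Type u} [SmallCategory C] {J : GrothendieckTopology C} {O : Sheaf J CommRingCat.{u}}
  {Λ : Type u} [SmallCategory Λ] [IsFiltered Λ] {D : Λ ⥤ ModSite.Mod O} {c : Cocone D}

/-- The presheaf-level comparison map of a colimit of modules. -/
lemma exists_comparison (hc : IsColimit c) :
    ∃ κ : colimit ((D ⋙ SheafOfModules.toSheaf (ModSite.ringSh O)) ⋙ sheafToPresheaf J AddCommGrpCat.{u}) ⟶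
        ((SheafOfModules.toSheaf (ModSite.ringSh O)).obj c.pt).obj,
      (∀ l, colimit.ι ((D ⋙ SheafOfModules.toSheaf (ModSite.ringSh O)) ⋙ sheafToPresheaf J AddCommGrpCat.{u}) l ≫ κ =
        ((SheafOfModules.toSheaf (ModSite.ringSh O)).map (c.ι.app l)).hom) ∧
      Presheaf.IsLocallyInjective J κ ∧ Presheaf.IsLocallySurjective J κ := by
  let F := SheafOfModules.toSheaf (ModSite.ringSh O)
  haveI : PreservesColimitsOfSize.{u, u} F := ModTensor.preservesColimits_toSheaf O
  let E := colimit.cocone ((D ⋙ F) ⋙ sheafToPresheaf J AddCommGrpCat.{u})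
  let e := (Sheaf.isColimitSheafifyCocone E (colimit.isColimit _)).coconePointUniqueUpToIso (isColimitOfPreserves F hc)
  refine ⟨toSheafify J E.pt ≫ e.hom.hom, fun l => ?_, ?_, ?_⟩
  · have h := congrArg (fun t => t.hom) (IsColimit.comp_coconePointUniqueUpToIso_hom
      (Sheaf.isColimitSheafifyCocone E (colimit.isColimit _)) (isColimitOfPreserves F hc) l)
    simp only [ObjectProperty.FullSubcategory.comp_hom, Sheaf.sheafifyCocone_ι_app_val, Category.assoc] at h
    exact h
  · haveI : IsIso e.hom.hom := inferInstanceAs (IsIso ((sheafToPresheaf J AddCommGrpCat.{u}).map e.hom))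
    haveI : Presheaf.IsLocallyInjective J (toSheafify J E.pt) := (J.W_toSheafify (A := AddCommGrpCat.{u}) E.pt).isLocallyInjective
    exact Presheaf.isLocallyInjective_comp J _ _
  · haveI : IsIso e.hom.hom := inferInstanceAs (IsIso ((sheafToPresheaf J AddCommGrpCat.{u}).map e.hom))
    haveI : Presheaf.IsLocallySurjective J (toSheafify J E.pt) := (J.W_toSheafify (A := AddCommGrpCat.{u}) E.pt).isLocallySurjective
    exact Presheaf.isLocallySurjective_comp J _ _

/-- Sections of a filtered colimit come locally from a stage. -/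
theorem locally_exists_rep (hc : IsColimit c) {W : C} (z : ((fg O).obj c.pt).obj (op W)) :
    ModPull.Locally J W (fun V g => ∃ (l : Λ) (y : ((fg O).obj (D.obj l)).obj (op V)),
      ((fg O).map (c.ι.app l)).app (op V) y = rs ((fg O).obj c.pt) g.op z) := by
  obtain ⟨κ, hκ, -, hs⟩ := exists_comparison hc
  refine ⟨Presheaf.imageSieve κ (U := W) z, Presheaf.imageSieve_mem J κ (U := op W) z, fun V g hg => ?_⟩
  obtain ⟨p, hp⟩ := hg
  obtain ⟨l, y, hy⟩ := Concrete.isColimit_exists_rep _ (isColimitOfPreserves ((evaluation Cᵒᵖ AddCommGrpCat.{u}).obj (op V))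
    (colimit.isColimit ((D ⋙ SheafOfModules.toSheaf (ModSite.ringSh O)) ⋙ sheafToPresheaf J AddCommGrpCat.{u}))) p
  refine ⟨l, y, Eq.trans ?_ hp⟩
  rw [← hy]
  exact (ConcreteCategory.congr_hom (NatTrans.congr_app (hκ l) (op V)) y).symm

/-- A section dying in a filtered colimit dies locally at a stage. -/
theorem locally_exists_zero (hc : IsColimit c) {W : C} {l : Λ} (y : ((fg O).obj (D.obj l)).obj (op W))
    (hy : ((fg O).map (c.ι.app l)).app (op W) y = 0) :
    ModPull.Locally J W (fun V g => ∃ (l' : Λ) (t : l ⟶ l'),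
      ((fg O).map (D.map t)).app (op V) (rs ((fg O).obj (D.obj l)) g.op y) = 0) := by
  obtain ⟨κ, hκ, hi, -⟩ := exists_comparison hc
  let K := (D ⋙ SheafOfModules.toSheaf (ModSite.ringSh O)) ⋙ sheafToPresheaf J AddCommGrpCat.{u}
  let p : (colimit K).obj (op W) := ((colimit.ι K l).app (op W)).hom y
  have hp : (κ.app (op W)).hom p = (κ.app (op W)).hom 0 := by
    rw [map_zero]
    exact (ConcreteCategory.congr_hom (NatTrans.congr_app (hκ l) (op W)) y).trans hy
  refine ⟨Presheaf.equalizerSieve (F := colimit K) (X := op W) p 0, Presheaf.equalizerSieve_mem J κ (X := op W) p 0 hp,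
    fun V g hg => ?_⟩
  have hV : ((colimit K).map g.op).hom p = ((colimit K).map g.op).hom 0 := hg
  rw [map_zero] at hV
  let cV := ((evaluation Cᵒᵖ AddCommGrpCat.{u}).obj (op V)).mapCocone (colimit.cocone K)
  have e : cV.ι.app l (((K.obj l).map g.op).hom y) = cV.ι.app l 0 := by
    rw [map_zero]
    exact ((NatTrans.naturality_apply (colimit.ι K l) g.op y).trans hV)
  obtain ⟨l', t, t', h⟩ := Concrete.isColimit_exists_of_rep_eq _
    (isColimitOfPreserves ((evaluation Cᵒᵖ AddCommGrpCat.{u}).obj (op V)) (colimit.isColimit K)) _ _ e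
  exact ⟨l', t, h.trans (map_zero ((K.map t').app (op V)).hom)⟩

end Groth.Agent.ColimSec
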