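import Groth.Agent.SiteBase.Cartan
import Mathlib.CategoryTheory.Limits.Shapes.Pullback.IsPullback.Basic

/-!
# Cech complexes and functors preserving fibre products
-/

universe u

open CategoryTheory CategoryTheory.Limits Opposite

namespace Groth.Agent.SiteBase

section General

variable {D E : Type u} [SmallCategory D] [HasFiniteProducts D] [SmallCategory E] (Φ : D ⥤ E)
  {ι : Type u} (Y : ι → D) {U : E} (s : ∀ j, Φ.obj (Y j) ⟶ U)

/-- `Φ` turns products of the family into fibre products over `U`. -/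
structure FibreProd : Prop where
  comm : ∀ {n : ℕ} (i : Fin (n + 1) → ι) (k : Fin (n + 1)),
    Φ.map (Pi.π (fun k => Y (i k)) k) ≫ s (i k) = Φ.map (Pi.π (fun k => Y (i k)) 0) ≫ s (i 0)
  hom_ext : ∀ {n : ℕ} (i : Fin (n + 1) → ι) {T : E} (a b : T ⟶ Φ.obj (∏ᶜ fun k => Y (i k))),
    (∀ k, a ≫ Φ.map (Pi.π (fun k => Y (i k)) k) = b ≫ Φ.map (Pi.π (fun k => Y (i k)) k)) → a = b
  exists_lift : ∀ {n : ℕ} (i : Fin (n + 1) → ι) {T : E} (g : T ⟶ U)
    (a : ∀ k, T ⟶ Φ.obj (Y (i k))), (∀ k, a k ≫ s (i k) = g) →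
    ∃ h : T ⟶ Φ.obj (∏ᶜ fun k => Y (i k)), ∀ k, h ≫ Φ.map (Pi.π (fun k => Y (i k)) k) = a k

variable {Φ Y s} (h : FibreProd Φ Y s) (I : Eᵒᵖ ⥤ AddCommGrpCat.{u})

/-- The cofree presheaf on `E`. -/
@[simps]
def cofreeOn : Eᵒᵖ ⥤ AddCommGrpCat.{u} where
  obj T := AddCommGrpCat.of (∀ T0 : E, (T0 ⟶ T.unop) → I.obj (op T0))
  map f := AddCommGrpCat.ofHom
    { toFun := fun x T0 h => x T0 (h ≫ f.unop)
      map_zero' := rfl
      map_add' := fun _ _ => rfl }
  map_id T := AddCommGrpCat.hom_ext <| AddMonoidHom.ext fun x => funext₂ fun T0 h =>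
    congrArg (x T0) (Category.comp_id h)
  map_comp f g := AddCommGrpCat.hom_ext <| AddMonoidHom.ext fun x => funext₂ fun T0 h =>
    congrArg (x T0) (Category.assoc h _ _).symm

/-- The map into the cofree presheaf. -/
def toCofreeOn : I ⟶ cofreeOn I where
  app T := AddCommGrpCat.ofHom
    { toFun := fun s _ h => (I.map h.op).hom s
      map_zero' := by funext T0 h; simp
      map_add' := fun _ _ => by funext T0 h; simp }
  naturality S T f := by
    ext s; funext T0 h
    exact congrArg (fun t => t.hom s) (I.map_comp f h.op).symm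

lemma mono_toCofreeOn : Mono (toCofreeOn I) := by
  have : ∀ T, Mono ((toCofreeOn I).app T) := fun T => (AddCommGrpCat.mono_iff_injective _).2
    fun a b hab => by
      have h : (I.map (𝟙 T.unop).op).hom a = (I.map (𝟙 T.unop).op).hom b :=
        congrFun (congrFun hab T.unop) (𝟙 _)
      simpa using h
  exact NatTrans.mono_of_mono_app _

/-- Lifts of a morphism to the members of the family. -/
abbrev LiftsOver (Φ : D ⥤ E) (Y : ι → D) (s : ∀ j, Φ.obj (Y j) ⟶ U) {T : E} (g : T ⟶ U) : Type u :=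
  Σ j : ι, { a : T ⟶ Φ.obj (Y j) // a ≫ s j = g }

/-- The lift to the product. -/
noncomputable def FibreProd.lift {n : ℕ} {T : E} {g : T ⟶ U}
    (e : Fin (n + 1) → LiftsOver Φ Y s g) : T ⟶ Φ.obj (∏ᶜ fun k => Y (e k).1) :=
  (h.exists_lift (fun k => (e k).1) g (fun k => (e k).2.1) fun k => (e k).2.2).choose

lemma FibreProd.lift_π {n : ℕ} {T : E} {g : T ⟶ U} (e : Fin (n + 1) → LiftsOver Φ Y s g)
    (k : Fin (n + 1)) : h.lift e ≫ Φ.map (Pi.π (fun k => Y (e k).1) k) = (e k).2.1 :=
  (h.exists_lift (fun k => (e k).1) g (fun k => (e k).2.1) fun k => (e k).2.2).choose_spec k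

/-- The cofree Cech complex. -/
noncomputable abbrev cofreeCech : CochainComplex AddCommGrpCat.{u} ℕ :=
  (cechComplexFunctor Y).obj (Φ.op ⋙ cofreeOn I)

/-- A cofree cochain as a function on tuples of lifts. -/
noncomputable def FibreProd.toFn {n : ℕ} (x : (cofreeCech (Φ := Φ) (Y := Y) I).X n) (T : E) (g : T ⟶ U)
    (e : Fin (n + 1) → LiftsOver Φ Y s g) : I.obj (op T) :=
  cev Y (Φ.op ⋙ cofreeOn I) n (fun k => (e k).1) x T (h.lift e)

lemma FibreProd.toFn_d {n : ℕ} (x : (cofreeCech (Φ := Φ) (Y := Y) I).X n) (T : E) (g : T ⟶ U)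
    (e : Fin (n + 2) → LiftsOver Φ Y s g) :
    h.toFn I (((cofreeCech (Φ := Φ) (Y := Y) I).d n (n + 1)).hom x) T g e =
      QCoh.Ab.delta (h.toFn I x T g) e := by
  simp only [FibreProd.toFn, cev_d, QCoh.Ab.delta]
  erw [Finset.sum_apply, Finset.sum_apply]
  refine Finset.sum_congr rfl fun j _ => ?_
  show ((-1 : ℤ) ^ (j : ℕ)) • cev Y (Φ.op ⋙ cofreeOn I) n ((fun k => (e k).1) ∘ j.succAbove) x T
    (h.lift e ≫ Φ.map (tmap Y (fun k => (e k).1) j.succAbove)) = _
  have hl : h.lift e ≫ Φ.map (tmap Y (fun k => (e k).1) j.succAbove) =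
      h.lift (fun k => e (j.succAbove k)) := h.hom_ext _ _ _ fun k => by
    rw [Category.assoc, ← Φ.map_comp]
    refine Eq.trans ?_ (h.lift_π (fun k => e (j.succAbove k)) k).symm
    refine Eq.trans (congrArg (fun m => h.lift e ≫ Φ.map m) (Pi.lift_π _ k)) ?_
    exact h.lift_π e (j.succAbove k)
  exact congrArg (fun g => ((-1 : ℤ) ^ (j : ℕ)) •
    cev Y (Φ.op ⋙ cofreeOn I) n (fun k => (e (j.succAbove k)).1) x T g) hl

lemma FibreProd.toFn_injective {n : ℕ} {x y : (cofreeCech (Φ := Φ) (Y := Y) I).X n}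
    (hxy : ∀ T g e, h.toFn I x T g e = h.toFn I y T g e) : x = y := by
  refine cev_ext Y _ fun i => funext fun T => funext fun m => ?_
  let g : T ⟶ U := m ≫ Φ.map (Pi.π (fun k => Y (i k)) 0) ≫ s (i 0)
  let e : Fin (n + 1) → LiftsOver Φ Y s g := fun k =>
    ⟨i k, m ≫ Φ.map (Pi.π (fun k => Y (i k)) k), by rw [Category.assoc, h.comm i k]⟩
  have hm : h.lift e = m := h.hom_ext i _ _ fun k => h.lift_π e k
  have := hxy T g e
  simp only [FibreProd.toFn] at this
  rw [hm] at this
  exact this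

include h in
lemma FibreProd.toFn_surjective {n : ℕ}
    (F : ∀ (T : E) (g : T ⟶ U), (Fin (n + 1) → LiftsOver Φ Y s g) → I.obj (op T)) :
    ∃ x : (cofreeCech (Φ := Φ) (Y := Y) I).X n, ∀ T g e, h.toFn I x T g e = F T g e := by
  obtain ⟨x, hx⟩ := exists_cev Y (Φ.op ⋙ cofreeOn I) (n := n)
    (fun i T m => F T (m ≫ Φ.map (Pi.π (fun k => Y (i k)) 0) ≫ s (i 0))
      fun k => ⟨i k, m ≫ Φ.map (Pi.π (fun k => Y (i k)) k), by rw [Category.assoc, h.comm i k]⟩)
  refine ⟨x, fun T g e => ?_⟩
  simp only [FibreProd.toFn, hx]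
  have key : ∀ (g' : T ⟶ U) (a' : ∀ k, T ⟶ Φ.obj (Y (e k).1)) (ha' : ∀ k, a' k ≫ s (e k).1 = g'),
      g' = g → (∀ k, a' k = (e k).2.1) →
        F T g' (fun k => ⟨(e k).1, a' k, ha' k⟩) = F T g e := by
    intro g' a' ha' hg he
    subst hg
    exact congrArg (F T g') (funext fun k => Sigma.ext rfl (heq_of_eq (Subtype.ext (he k))))
  refine key _ _ _ ?_ fun k => h.lift_π e k
  rw [← Category.assoc, h.lift_π e 0]
  exact (e 0).2.2

include h in
theorem FibreProd.exactAt_cofree (n : ℕ) : (cofreeCech (Φ := Φ) (Y := Y) I).ExactAt (n + 1) := by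
  rw [HomologicalComplex.exactAt_iff' _ n (n + 1) (n + 2) (by simp) (by simp),
    ShortComplex.ab_exact_iff]
  intro (x : (cofreeCech (Φ := Φ) (Y := Y) I).X (n + 1))
    (hx : ((cofreeCech (Φ := Φ) (Y := Y) I).d (n + 1) (n + 2)).hom x = 0)
  classical
  obtain ⟨y, hy⟩ := h.toFn_surjective I (n := n) fun T g e =>
    if hne : Nonempty (LiftsOver Φ Y s g) then h.toFn I x T g (Fin.cons hne.some e) else 0
  refine ⟨y, h.toFn_injective I fun T g e => ?_⟩
  show h.toFn I (((cofreeCech (Φ := Φ) (Y := Y) I).d n (n + 1)).hom y) T g e = _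
  rw [h.toFn_d, show h.toFn I y T g = _ from funext (hy T g)]
  have hne : Nonempty (LiftsOver Φ Y s g) := ⟨e 0⟩
  simp only [dif_pos hne]
  have h0 : QCoh.Ab.delta (h.toFn I x T g) (Fin.cons hne.some e) = 0 := by
    rw [← h.toFn_d, hx]
    simp only [FibreProd.toFn, map_zero]
    rfl
  rw [QCoh.Ab.delta_cons, sub_eq_zero] at h0
  exact h0.symm

include h in
/-- Injective presheaves have no higher Cech cohomology for such families. -/
theorem FibreProd.exactAt_cech_injective [Injective I] (n : ℕ) :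
    ((cechComplexFunctor Y).obj (Φ.op ⋙ I)).ExactAt (n + 1) := by
  have := mono_toCofreeOn I
  let i : Φ.op ⋙ I ⟶ Φ.op ⋙ cofreeOn I := Functor.whiskerLeft Φ.op (toCofreeOn I)
  let r : Φ.op ⋙ cofreeOn I ⟶ Φ.op ⋙ I :=
    Functor.whiskerLeft Φ.op (Injective.factorThru (𝟙 I) (toCofreeOn I))
  have hir : i ≫ r = 𝟙 _ := by
    rw [← Functor.whiskerLeft_comp, Injective.comp_factorThru]
    rfl
  rw [HomologicalComplex.exactAt_iff_isZero_homology, IsZero.iff_id_eq_zero]
  have hz := (HomologicalComplex.exactAt_iff_isZero_homology _ _).1 (h.exactAt_cofree I n)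
  rw [← HomologicalComplex.homologyMap_id, ← (cechComplexFunctor Y).map_id, ← hir, Functor.map_comp,
    HomologicalComplex.homologyMap_comp, hz.eq_of_tgt (HomologicalComplex.homologyMap _ _) 0, zero_comp]

end General

section Over

variable {C D : Type u} [SmallCategory C] [SmallCategory D] [HasPullbacks C] (u : C ⥤ D)
  [PreservesLimitsOfShape WalkingCospan u] {U : C} {ι : Type u} (Y : ι → Over U)

/-- The tail projection. -/
noncomputable abbrev tailMap {n : ℕ} (i : Fin (n + 2) → ι) :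
    (∏ᶜ fun k => Y (i k)) ⟶ ∏ᶜ fun k : Fin (n + 1) => Y (i k.succ) :=
  Pi.lift fun k => Pi.π (fun k => Y (i k)) k.succ

lemma isPullback_prod {n : ℕ} (i : Fin (n + 2) → ι) :
    IsPullback (Pi.π (fun k => Y (i k)) 0).left (tailMap Y i).left (Y (i 0)).hom
      (∏ᶜ fun k : Fin (n + 1) => Y (i k.succ)).hom := by
  have w : (Pi.π (fun k => Y (i k)) 0).left ≫ (Y (i 0)).hom =
      (tailMap Y i).left ≫ (∏ᶜ fun k : Fin (n + 1) => Y (i k.succ)).hom :=
    (Over.w _).trans (Over.w _).symm
  let mkLift : ∀ s : PullbackCone (Y (i 0)).hom (∏ᶜ fun k : Fin (n + 1) => Y (i k.succ)).hom,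
      Over.mk (s.fst ≫ (Y (i 0)).hom) ⟶ ∏ᶜ fun k => Y (i k) := fun s =>
    Pi.lift (Fin.cases (Over.homMk s.fst rfl) fun k =>
      (Over.homMk s.snd s.condition.symm : Over.mk (s.fst ≫ (Y (i 0)).hom) ⟶
        ∏ᶜ fun k : Fin (n + 1) => Y (i k.succ)) ≫ Pi.π (fun k : Fin (n + 1) => Y (i k.succ)) k)
  refine ⟨⟨w⟩, ⟨PullbackCone.IsLimit.mk w (fun s => (mkLift s).left) (fun s => ?_) (fun s => ?_)
    (fun s m hm₁ hm₂ => ?_)⟩⟩
  · exact congrArg Over.Hom.left (Pi.lift_π _ 0)
  · have h : mkLift s ≫ tailMap Y i = Over.homMk s.snd s.condition.symm := by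
      refine Pi.hom_ext _ _ fun k => ?_
      rw [Category.assoc]
      refine (congrArg (mkLift s ≫ ·) (Pi.lift_π _ k)).trans ?_
      exact Pi.lift_π _ k.succ
    exact congrArg Over.Hom.left h
  · let m' : Over.mk (s.fst ≫ (Y (i 0)).hom) ⟶ ∏ᶜ fun k => Y (i k) := Over.homMk m (by
      show m ≫ (∏ᶜ fun k => Y (i k)).hom = s.fst ≫ (Y (i 0)).hom
      rw [← hm₁, Category.assoc, Over.w])
    have h : m' = mkLift s := by
      refine Pi.hom_ext _ _ fun k => Over.OverMorphism.ext ?_
      induction k using Fin.cases with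
      | zero =>
        exact hm₁.trans (congrArg Over.Hom.left (show mkLift s ≫ Pi.π (fun k => Y (i k)) 0 =
          Over.homMk s.fst rfl from Pi.lift_π _ 0)).symm
      | succ k =>
        refine Eq.trans ?_ (congrArg Over.Hom.left (show mkLift s ≫ Pi.π (fun k => Y (i k)) k.succ =
          (Over.homMk s.snd s.condition.symm : Over.mk (s.fst ≫ (Y (i 0)).hom) ⟶
            ∏ᶜ fun k : Fin (n + 1) => Y (i k.succ)) ≫ Pi.π (fun k : Fin (n + 1) => Y (i k.succ)) k
            from Pi.lift_π _ k.succ)).symm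
        show m ≫ (Pi.π (fun k => Y (i k)) k.succ).left =
          s.snd ≫ (Pi.π (fun k : Fin (n + 1) => Y (i k.succ)) k).left
        rw [← hm₂, Category.assoc, ← Over.comp_left]
        exact congrArg (fun t => m ≫ Over.Hom.left t)
          (Pi.lift_π (fun k : Fin (n + 1) => Pi.π (fun k => Y (i k)) k.succ) k).symm
    exact congrArg Over.Hom.left h

/-- Functors preserving fibre products give fibre products. -/
theorem fibreProd_over : FibreProd (Over.forget U ⋙ u) Y (fun j => u.map (Y j).hom) := by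
  have hcomm : ∀ {n : ℕ} (i : Fin (n + 1) → ι) (k : Fin (n + 1)),
      u.map (Pi.π (fun k => Y (i k)) k).left ≫ u.map (Y (i k)).hom =
        u.map (∏ᶜ fun k => Y (i k)).hom := fun i k => by rw [← u.map_comp, Over.w]
  refine ⟨fun i k => (hcomm i k).trans (hcomm i 0).symm, ?_, ?_⟩
  · intro n
    induction n with
    | zero =>
      intro i T a b hab
      have : IsIso (Pi.π (fun k : Fin 1 => Y (i k)) 0) := by
        refine ⟨Pi.lift fun k => eqToHom (by rw [Fin.fin_one_eq_zero k]), ?_, ?_⟩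
        · refine Pi.hom_ext _ _ fun k => ?_
          obtain rfl := Fin.fin_one_eq_zero k
          simp
        · simp
      exact (cancel_mono ((Over.forget U ⋙ u).map (Pi.π (fun k : Fin 1 => Y (i k)) 0))).1 (hab 0)
    | succ n ih =>
      intro i T a b hab
      refine ((isPullback_prod Y i).map u).hom_ext (hab 0) (ih _ _ _ fun k => ?_)
      show (a ≫ u.map (tailMap Y i).left) ≫ u.map _ = (b ≫ u.map (tailMap Y i).left) ≫ u.map _
      simp only [Category.assoc, ← u.map_comp, Over.forget_map]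
      have e : (tailMap Y i).left ≫ (Pi.π (fun k : Fin (n + 1) => Y (i k.succ)) k).left =
          (Pi.π (fun k => Y (i k)) k.succ).left :=
        congrArg Over.Hom.left (Pi.lift_π _ k)
      exact (congrArg (fun t => a ≫ u.map t) e).trans
        ((hab k.succ).trans (congrArg (fun t => b ≫ u.map t) e).symm)
  · intro n
    induction n with
    | zero =>
      intro i T g a ha
      refine ⟨a 0 ≫ (Over.forget U ⋙ u).map (Pi.lift fun k => eqToHom (by rw [Fin.fin_one_eq_zero k])),
        fun k => ?_⟩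
      obtain rfl := Fin.fin_one_eq_zero k
      rw [Category.assoc, ← Functor.map_comp, Pi.lift_π, eqToHom_refl, CategoryTheory.Functor.map_id,
        Category.comp_id]
    | succ n ih =>
      intro i T g a ha
      obtain ⟨b, hb⟩ := ih (fun k => i k.succ) g (fun k => a k.succ) fun k => ha k.succ
      have w : a 0 ≫ u.map (Y (i 0)).hom =
          b ≫ u.map (∏ᶜ fun k : Fin (n + 1) => Y (i k.succ)).hom := by
        refine Eq.trans ?_ (congrArg (b ≫ ·) (hcomm (fun k => i k.succ) 0))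
        refine Eq.trans ?_ (Category.assoc _ _ _)
        exact (ha 0).trans ((ha (Fin.succ 0)).symm.trans (congrArg (· ≫ _) (hb 0).symm))
      refine ⟨((isPullback_prod Y i).map u).lift (a 0) b w, fun k => ?_⟩
      induction k using Fin.cases with
      | zero => exact IsPullback.lift_fst _ _ _ _
      | succ k =>
        show _ ≫ u.map (Pi.π (fun k => Y (i k)) k.succ).left = _
        have e : (tailMap Y i).left ≫ (Pi.π (fun k : Fin (n + 1) => Y (i k.succ)) k).left =
            (Pi.π (fun k => Y (i k)) k.succ).left :=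
          congrArg Over.Hom.left (Pi.lift_π _ k)
        rw [← e, u.map_comp, IsPullback.lift_snd_assoc]
        exact hb k

end Over

section Push

variable {C D : Type u} [SmallCategory C] [SmallCategory D] (u : C ⥤ D) [HasPullbacks C]
  [PreservesLimitsOfShape WalkingCospan u] (J : GrothendieckTopology C) (K : GrothendieckTopology D)
  [u.IsContinuous J K]

/-- Direct images of injectives along functors preserving fibre products are acyclic. -/
theorem subsingleton_HU_push_injective (I : Sheaf K AddCommGrpCat.{u}) [Injective I] (U : C) (p : ℕ) :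
    Subsingleton (CohSite.HU ((CohSite.push K J u).obj I) (p + 1) U) := by
  refine subsingleton_HU_of_cartan (J := J) (fun _ => True)
    (K := Σ V : C, { T : Sieve V // T ∈ J V }) (fun k => Over k.1) (fun k => Over.forget k.1)
    (fun k => Σ W : C, { f : W ⟶ k.1 // k.2.1 f }) (fun k i => Over.mk i.2.1)
    (fun _ _ _ => trivial) (fun k => injAcyclic_over _) (fun V _ T hT => ?_) (fun k q => ?_) trivial p
  · refine ⟨⟨V, T, hT⟩, ctxOver _, ?_, fun i => i.2.2⟩
    rw [ctxOver_sieve]
    refine J.superset_covering ?_ hT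
    intro W f hf
    exact ⟨W, 𝟙 W, f, ⟨(⟨W, f, hf⟩ : Σ W : C, { f : W ⟶ V // T f })⟩, Category.id_comp _⟩
  · have := @injective_obj _ _ _ I ‹_›
    exact (fibreProd_over u _).exactAt_cech_injective I.obj q

end Push

end Groth.Agent.SiteBase
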