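import Groth.Agent.SiteBase.ExtCompare
import Groth.Agent.SiteBase.Sections
import Mathlib.CategoryTheory.Sites.CoverLifting

/-!
# Cohomology along continuous and cocontinuous functors
-/

universe u

open CategoryTheory CategoryTheory.Limits Opposite Abelian

namespace Groth.Agent.SiteBase

variable {C D : Type u} [SmallCategory C] [SmallCategory D] {J : GrothendieckTopology C}
  {K : GrothendieckTopology D} (u : D ⥤ C) [u.IsContinuous K J]

section

variable [u.IsCocontinuous K J]

lemma shortExact_push_cocontinuous {E : ShortComplex (Sheaf J AddCommGrpCat.{u})} (hE : E.ShortExact) :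
    (E.map (CohSite.push J K u)).ShortExact := by
  have := hE.mono_f
  have hloc' : Sheaf.IsLocallySurjective E.g := (Sheaf.isLocallySurjective_iff_epi' _ E.g).2 hE.epi_g
  have hloc : Sheaf.IsLocallySurjective ((CohSite.push J K u).map E.g) := ⟨fun {V} s => by
    refine K.superset_covering ?_ (u.cover_lift K J (hloc'.imageSieve_mem s))
    rintro W g ⟨t, ht⟩
    exact ⟨t, ht⟩⟩
  exact ShortComplex.ShortExact.mk' (hE.exact.map_of_mono_of_preservesKernel _ ‹_› inferInstance)
    ((CohSite.push J K u).map_mono E.f) ((Sheaf.isLocallySurjective_iff_epi' _ _).1 hloc)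

/-- `H^n(W, u^* F) ≃ H^n(u W, F)` once direct images of injectives are acyclic on `W`. -/
theorem nonempty_HU_push_addEquiv (W : D)
    (hI : ∀ I : Sheaf J AddCommGrpCat.{u}, Injective I → ∀ q : ℕ,
      Subsingleton (CohSite.HU ((CohSite.push J K u).obj I) (q + 1) W))
    (F : Sheaf J AddCommGrpCat.{u}) (n : ℕ) :
    Nonempty (CohSite.HU ((CohSite.push J K u).obj F) n W ≃+ CohSite.HU F n (u.obj W)) := by
  obtain ⟨e⟩ := nonempty_ext_addEquiv (CohSite.push J K u) (CohCx.freeSheaf J (u.obj W))
    (CohCx.freeSheaf K W) (fun E hE => shortExact_push_cocontinuous u hE)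
    (fun I h q => (subsingleton_HU_iff _ _ _).1 (hI I h q))
    (fun X => (secEquiv J (u.obj W) X).trans (secEquiv K W ((CohSite.push J K u).obj X)).symm)
    (fun X Y φ g => by
      apply (secEquiv K W ((CohSite.push J K u).obj Y)).injective
      refine ((secEquiv K W ((CohSite.push J K u).obj Y)).apply_symm_apply
        (secEquiv J (u.obj W) Y (φ ≫ g))).trans ?_
      refine (secEquiv_comp (u.obj W) φ g).trans ?_
      refine Eq.trans ?_ (secEquiv_comp W
        ((secEquiv K W ((CohSite.push J K u).obj X)).symm (secEquiv J (u.obj W) X φ))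
        ((CohSite.push J K u).map g)).symm
      exact congrArg (g.hom.app (op (u.obj W))).hom
        ((secEquiv K W ((CohSite.push J K u).obj X)).apply_symm_apply (secEquiv J (u.obj W) X φ)).symm) n F
  exact ⟨(huEquiv _ n W).trans (e.symm.trans (huEquiv F n (u.obj W)).symm)⟩

end

lemma nonempty_HU_congr {X Y : C} (i : X ≅ Y) (F : Sheaf J AddCommGrpCat.{u}) (n : ℕ) :
    Nonempty (CohSite.HU F n X ≃+ CohSite.HU F n Y) :=
  ⟨(((Sheaf.cohomologyPresheaf.{u} F n).mapIso i.op.symm).addCommGroupIsoToAddEquiv :)⟩

end Groth.Agent.SiteBase
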