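import Groth.Agent.SiteBase.LHom
import Groth.Agent.ModPull.TensorSec
import Mathlib.CategoryTheory.Adjunction.Unique

/-!
# The internal hom, by natural families
-/

set_option autoImplicit false
set_option backward.isDefEq.respectTransparency false
set_option linter.style.haveILetI false
set_option linter.unusedSectionVars false
set_option linter.unusedVariables false

universe u

open CategoryTheory CategoryTheory.Limits Opposite MonoidalCategory
open Groth.Agent.ModTensor Groth.Agent.ModPull Groth.Agent.SecGenOps Groth.Agent.LHomLib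

noncomputable section

namespace Groth.Agent.HHom

variable {C : Type u} [SmallCategory C] {J : GrothendieckTopology C} {O : Sheaf J CommRingCat.{u}}
variable {F M N : ModSite.Mod O} {U V : C}

instance : Zero (LHom F M U) := ⟨LHom.zero F M U⟩

instance : Add (LHom F M U) :=
  ⟨fun τ σ =>
    { app := fun _ f => τ.app f + σ.app f
      nat := fun W' W g f x => by
        show τ.app (g ≫ f) _ + σ.app (g ≫ f) _ = rs _ _ (τ.app f x + σ.app f x)
        rw [τ.nat, σ.nat, rs_add] }⟩

instance : Neg (LHom F M U) :=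
  ⟨fun τ =>
    { app := fun _ f => -τ.app f
      nat := fun W' W g f x => by
        show -τ.app (g ≫ f) _ = rs _ _ (-τ.app f x)
        rw [τ.nat]
        exact (map_neg (((fg O).obj M).map g.op).hom _).symm }⟩

instance : AddCommGroup (LHom F M U) where
  add_assoc a b c := LHom.hext fun W f x => add_assoc _ _ _
  zero_add a := LHom.hext fun W f x => zero_add _
  add_zero a := LHom.hext fun W f x => add_zero _
  neg_add_cancel a := LHom.hext fun W f x => neg_add_cancel _
  add_comm a b := LHom.hext fun W f x => add_comm _ _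
  nsmul := nsmulRec
  zsmul := zsmulRec

instance : SMul (O.obj.obj (op U)) (LHom F M U) :=
  ⟨fun r τ =>
    { app := fun _ f => (O.obj.map f.op).hom r • τ.app f
      nat := fun W' W g f x => by
        show (O.obj.map (g ≫ f).op).hom r • τ.app (g ≫ f) _ = rs _ _ ((O.obj.map f.op).hom r • τ.app f x)
        rw [rs_smul, τ.nat, op_comp, Functor.map_comp]
        rfl }⟩

lemma smul_app (r : O.obj.obj (op U)) (τ : LHom F M U) {W : C} (f : W ⟶ U) (x : ((fg O).obj F).obj (op W)) :
    (r • τ).app f x = (O.obj.map f.op).hom r • τ.app f x := rfl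

lemma add_app (σ τ : LHom F M U) {W : C} (f : W ⟶ U) (x : ((fg O).obj F).obj (op W)) :
    (σ + τ).app f x = σ.app f x + τ.app f x := rfl

instance : Module (O.obj.obj (op U)) (LHom F M U) where
  one_smul τ := LHom.hext fun W f x => by rw [smul_app, map_one]; exact one_smul _ _
  mul_smul r s τ := LHom.hext fun W f x => by rw [smul_app, map_mul, smul_app, smul_app]; exact mul_smul _ _ _
  smul_zero r := LHom.hext fun W f x => smul_zero _
  zero_smul τ := LHom.hext fun W f x => by rw [smul_app, map_zero]; exact zero_smul _ _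
  smul_add r σ τ := LHom.hext fun W f x => smul_add _ _ _
  add_smul r s τ := LHom.hext fun W f x => by
    rw [smul_app, map_add, add_app, smul_app, smul_app]; exact add_smul _ _ _

instance moduleOp (X : Cᵒᵖ) : Module (O.obj.obj X) (LHom F M X.unop) :=
  inferInstanceAs (Module (O.obj.obj (op X.unop)) (LHom F M X.unop))

instance moduleComp (X : Cᵒᵖ) : Module ((O.obj ⋙ forget₂ CommRingCat.{u} RingCat.{u}).obj X) (LHom F M X.unop) :=
  inferInstanceAs (Module (O.obj.obj X) (LHom F M X.unop))

lemma res_add (σ τ : LHom F M U) (a : V ⟶ U) : (σ + τ).res a = σ.res a + τ.res a := rfl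

lemma res_smul (r : O.obj.obj (op U)) (τ : LHom F M U) (a : V ⟶ U) :
    (r • τ).res a = (O.obj.map a.op).hom r • τ.res a :=
  LHom.hext fun W f x => by
    rw [LHom.res_app, smul_app, smul_app, LHom.res_app, op_comp, Functor.map_comp]
    rfl

/-- Restriction, as a linear map. -/
def resMap (F M : ModSite.Mod O) {X Y : Cᵒᵖ} (g : X ⟶ Y) :
    ModuleCat.of ((O.obj ⋙ forget₂ CommRingCat RingCat).obj X) (LHom F M X.unop) ⟶
      (ModuleCat.restrictScalars ((O.obj ⋙ forget₂ CommRingCat RingCat).map g).hom).obj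
        (ModuleCat.of ((O.obj ⋙ forget₂ CommRingCat RingCat).obj Y) (LHom F M Y.unop)) :=
  ModuleCat.ofHom
    (Y := (ModuleCat.restrictScalars ((O.obj ⋙ forget₂ CommRingCat RingCat).map g).hom).obj
      (ModuleCat.of ((O.obj ⋙ forget₂ CommRingCat RingCat).obj Y) (LHom F M Y.unop)))
    { toFun := fun τ => τ.res g.unop
      map_add' := fun σ τ => res_add σ τ g.unop
      map_smul' := fun r τ => res_smul r τ g.unop }

/-- The presheaf of natural families. -/
def hPre (F M : ModSite.Mod O) : P₀ O where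
  obj X := ModuleCat.of ((O.obj ⋙ forget₂ CommRingCat RingCat).obj X) (LHom F M X.unop)
  map g := resMap F M g
  map_id X := ModuleCat.hom_ext (LinearMap.ext fun τ => LHom.res_id τ)
  map_comp g h := ModuleCat.hom_ext (LinearMap.ext fun τ => (LHom.res_res τ g.unop h.unop).symm)

lemma isSheaf_hPre (F M : ModSite.Mod O) : Presheaf.IsSheaf J (hPre F M).presheaf := by
  rw [Presheaf.isSheaf_iff_isSheaf_forget J (hPre F M).presheaf (CategoryTheory.forget Ab.{u}),
    isSheaf_iff_isSheaf_of_type]
  intro X S hS x hx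
  obtain ⟨σ, hσ⟩ := exists_glue (F := F) (M := M) S hS (fun V g hg => x g hg) fun V' V k g hg =>
    (Presieve.compatible_iff_sieveCompatible x).1 hx g k hg
  refine ⟨σ, fun V g hg => hσ g hg, fun σ' hσ' => LHom.ext_locally ⟨S, hS, fun V g hg => ?_⟩⟩
  exact (hσ' g hg).trans (hσ g hg).symm

/-- The sheaf of natural families. -/
def hMod (F M : ModSite.Mod O) : ModSite.Mod O := ⟨hPre F M, isSheaf_hPre F M⟩

/-- Functoriality. -/
def hMap {F M N : ModSite.Mod O} (φ : M ⟶ N) : hMod F M ⟶ hMod F N :=
  (fg O).preimage (X := hMod F M) (Y := hMod F N)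
    { app := fun X => ModuleCat.ofHom (X := LHom F M X.unop) (Y := LHom F N X.unop)
        { toFun := fun τ => τ.post φ
          map_add' := fun σ τ => LHom.hext fun W f x => ap_add φ _ _
          map_smul' := fun r τ => LHom.hext fun W f x => map_smul (((fg O).map φ).app (op W)).hom _ _ }
      naturality := fun {X Y} g => ModuleCat.hom_ext (LinearMap.ext fun τ => rfl) }

lemma hMap_app {F M N : ModSite.Mod O} (φ : M ⟶ N) {U : C} (τ : LHom F M U) :
    ((fg O).map (hMap (F := F) φ)).app (op U) τ = τ.post φ := by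
  rw [hMap, Functor.map_preimage]
  rfl

/-- The internal hom functor. -/
def hFunctor (F : ModSite.Mod O) : ModSite.Mod O ⥤ ModSite.Mod O where
  obj M := hMod F M
  map φ := hMap φ
  map_id M := (fg O).map_injective (PresheafOfModules.hom_ext fun X => ModuleCat.hom_ext (LinearMap.ext fun τ => by
    refine (hMap_app (𝟙 M) (U := X.unop) τ).trans ?_
    refine LHom.hext fun W f x => ?_
    show ((fg O).map (𝟙 M)).app _ _ = _
    rw [CategoryTheory.Functor.map_id]
    rfl))
  map_comp {M N P} φ ψ := (fg O).map_injective (PresheafOfModules.hom_ext fun X => ModuleCat.hom_ext (LinearMap.ext fun τ => by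
    refine (hMap_app (φ ≫ ψ) (U := X.unop) τ).trans ?_
    show _ = ((fg O).map (hMap (F := F) φ ≫ hMap ψ)).app X τ
    rw [Functor.map_comp]
    show _ = ((fg O).map (hMap (F := F) ψ)).app (op X.unop) (((fg O).map (hMap (F := F) φ)).app (op X.unop) τ)
    rw [hMap_app, hMap_app, LHom.post_post]))

/-- Currying. -/
def curryH {G : ModSite.Mod O} (k : ten G F ⟶ M) {X : Cᵒᵖ} (z : ((fg O).obj G).obj X) : LHom F M X.unop where
  app W f :=
    { toFun := fun x => ((fg O).map k).app (op W) (shT G F (rs ((fg O).obj G) f.op z) x)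
      map_add' := fun x y => by rw [shT_add_right]; exact map_add (((fg O).map k).app (op W)).hom _ _
      map_smul' := fun r x => by rw [shT_smul_right]; exact map_smul (((fg O).map k).app (op W)).hom _ _ }
  nat W' W g f x := by
    show ((fg O).map k).app (op W') (shT G F (rs ((fg O).obj G) (g ≫ f).op z) (rs ((fg O).obj F) g.op x)) = _
    rw [op_comp, rs_comp, ← rs_shT, app_rs]
    rfl

lemma curryH_add {G : ModSite.Mod O} (k : ten G F ⟶ M) {X : Cᵒᵖ} (z z' : ((fg O).obj G).obj X) :
    curryH k (z + z') = curryH k z + curryH k z' :=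
  LHom.hext fun W f x => by
    show ((fg O).map k).app (op W) _ = ((fg O).map k).app (op W) _ + ((fg O).map k).app (op W) _
    rw [rs_add, shT_add_left]
    exact map_add (((fg O).map k).app (op W)).hom _ _

lemma curryH_smul {G : ModSite.Mod O} (k : ten G F ⟶ M) {X : Cᵒᵖ} (r : O.obj.obj X) (z : ((fg O).obj G).obj X) :
    curryH k (r • z) = (r • curryH k z : LHom F M X.unop) :=
  LHom.hext fun W f x => by
    rw [smul_app]
    show ((fg O).map k).app (op W) _ = _
    rw [rs_smul, shT_smul_left]
    exact map_smul (((fg O).map k).app (op W)).hom _ _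

lemma curryH_res {G : ModSite.Mod O} (k : ten G F ⟶ M) {X Y : Cᵒᵖ} (g : X ⟶ Y) (z : ((fg O).obj G).obj X) :
    curryH k (rs ((fg O).obj G) g z) = (curryH k z).res g.unop :=
  LHom.hext fun W f x => by
    show ((fg O).map k).app (op W) (shT G F (rs _ f.op (rs _ g z)) x) =
      ((fg O).map k).app (op W) (shT G F (rs _ (f ≫ g.unop).op z) x)
    rw [op_comp, rs_comp]
    rfl

/-- The transposed presheaf map. -/
def curryPre {G : ModSite.Mod O} (k : ten G F ⟶ M) : (fg O).obj G ⟶ (fg O).obj (hMod F M) where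
  app X := ModuleCat.ofHom (X := ((fg O).obj G).obj X) (Y := LHom F M X.unop)
    { toFun := fun z => curryH k z
      map_add' := curryH_add k
      map_smul' := curryH_smul k }
  naturality g := ModuleCat.hom_ext (LinearMap.ext fun z => curryH_res k g z)

/-- Evaluation of a map to the internal hom. -/
def uncurryBil {G : ModSite.Mod O} (ψ : (fg O).obj G ⟶ (fg O).obj (hMod F M)) (X : Cᵒᵖ) :
    ((fg O).obj G).obj X →ₗ[O.obj.obj X] ((fg O).obj F).obj X →ₗ[O.obj.obj X] ((fg O).obj M).obj X where
  toFun z := (show LHom F M X.unop from ψ.app X z).app (𝟙 X.unop)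
  map_add' z z' := by
    show (show LHom F M X.unop from (ψ.app X).hom (z + z')).app (𝟙 X.unop) = _
    rw [map_add]
    rfl
  map_smul' r z := LinearMap.ext fun x => by
    show (show LHom F M X.unop from (ψ.app X).hom (r • z)).app (𝟙 X.unop) x = _
    have e : (show LHom F M X.unop from (ψ.app X).hom (r • z)) =
        (r • (show LHom F M X.unop from ψ.app X z) : LHom F M X.unop) := map_smul (ψ.app X).hom r z
    rw [e, smul_app]
    refine congrArg (fun q : O.obj.obj X => q • _) ?_
    exact ConcreteCategory.congr_hom (O.obj.map_id X) r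

/-- The presheaf map of a map to the internal hom. -/
def uncurryPre {G : ModSite.Mod O} (ψ : (fg O).obj G ⟶ (fg O).obj (hMod F M)) :
    ((fg O).obj G ⊗ (fg O).obj F : P₀ O) ⟶ (fg O).obj M where
  app X := ModuleCat.ofHom (TensorProduct.lift (uncurryBil ψ X))
  naturality {X Y} g := ModuleCat.MonoidalCategory.tensor_ext fun z x => by
    show (uncurryBil ψ Y) (rs ((fg O).obj G) g z) (rs ((fg O).obj F) g x) = rs ((fg O).obj M) g (uncurryBil ψ X z x)
    have e : (show LHom F M Y.unop from ψ.app Y (rs ((fg O).obj G) g z)) = (show LHom F M X.unop from ψ.app X z).res g.unop :=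
      app_rs ψ g z
    show (show LHom F M Y.unop from ψ.app Y (rs ((fg O).obj G) g z)).app (𝟙 Y.unop) (rs ((fg O).obj F) g x) = _
    rw [e, LHom.res_app, Category.id_comp]
    have := (show LHom F M X.unop from ψ.app X z).nat g.unop (𝟙 X.unop) x
    rw [Category.comp_id] at this
    exact this

/-- The transpose of a map from the tensor product. -/
def toH {G : ModSite.Mod O} (k : ten G F ⟶ M) : G ⟶ hMod F M :=
  (fg O).preimage (X := G) (Y := hMod F M) (curryPre (G := G) k)

/-- The transpose of a map to the internal hom. -/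
def ofH {G : ModSite.Mod O} (ψ : G ⟶ hMod F M) : ten G F ⟶ M :=
  ((shAdj O).homEquiv ((fg O).obj G ⊗ (fg O).obj F : P₀ O) M).symm (uncurryPre ((fg O).map ψ))

/-- Values of a map to the internal hom. -/
def val {G : ModSite.Mod O} (ψ : G ⟶ hMod F M) {X : Cᵒᵖ} (z : ((fg O).obj G).obj X) : LHom F M X.unop :=
  ((fg O).map ψ).app X z

lemma curryH_app {G : ModSite.Mod O} (k : ten G F ⟶ M) {X : Cᵒᵖ} (z : ((fg O).obj G).obj X) {W : C}
    (f : W ⟶ X.unop) (x : ((fg O).obj F).obj (op W)) :
    (curryH k z).app f x = ((fg O).map k).app (op W) (shT G F (rs ((fg O).obj G) f.op z) x) := rfl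

lemma val_toH {G : ModSite.Mod O} (k : ten G F ⟶ M) {X : Cᵒᵖ} (z : ((fg O).obj G).obj X) :
    val (toH k) z = curryH k z := by
  rw [val, toH, Functor.map_preimage]
  rfl

lemma val_ext {G : ModSite.Mod O} {ψ ψ' : G ⟶ hMod F M}
    (h : ∀ (X : Cᵒᵖ) (z : ((fg O).obj G).obj X), val ψ z = val ψ' z) : ψ = ψ' :=
  (fg O).map_injective (PresheafOfModules.hom_ext fun X => ModuleCat.hom_ext (LinearMap.ext fun z => h X z))

lemma val_res {G : ModSite.Mod O} (ψ : G ⟶ hMod F M) {X Y : Cᵒᵖ} (g : X ⟶ Y) (z : ((fg O).obj G).obj X) :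
    val ψ (rs ((fg O).obj G) g z) = (val ψ z).res g.unop := app_rs ((fg O).map ψ) g z

lemma val_comp {G' G : ModSite.Mod O} (g : G' ⟶ G) (ψ : G ⟶ hMod F M) {X : Cᵒᵖ} (z : ((fg O).obj G').obj X) :
    val (g ≫ ψ) z = val ψ (((fg O).map g).app X z) := by
  rw [val, Functor.map_comp]
  rfl

lemma val_comp_hMap {G : ModSite.Mod O} (ψ : G ⟶ hMod F M) (φ : M ⟶ N) {X : Cᵒᵖ} (z : ((fg O).obj G).obj X) :
    val (ψ ≫ hMap φ) z = (val ψ z).post φ := by
  rw [val, Functor.map_comp]
  exact hMap_app φ (U := X.unop) (val ψ z)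

lemma ofH_shT {G : ModSite.Mod O} (ψ : G ⟶ hMod F M) {X : Cᵒᵖ} (z : ((fg O).obj G).obj X)
    (x : ((fg O).obj F).obj X) :
    ((fg O).map (ofH ψ)).app X (shT G F z x) = (val ψ z).app (𝟙 X.unop) x := by
  refine (shu_desc (ofH ψ) (tm (R := O.obj) z x)).trans ?_
  exact congrArg (fun t : ((fg O).obj G ⊗ (fg O).obj F : P₀ O) ⟶ (fg O).obj M => t.app X (tm (R := O.obj) z x))
    (((shAdj O).homEquiv ((fg O).obj G ⊗ (fg O).obj F : P₀ O) M).apply_symm_apply (uncurryPre ((fg O).map ψ)))

/-- The adjunction bijection. -/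
def hHomEquiv (F G M : ModSite.Mod O) : (ten G F ⟶ M) ≃ (G ⟶ hMod F M) where
  toFun := toH
  invFun := ofH
  left_inv k := by
    refine shT_hom_ext (M := G) (N := F) fun X z x => ?_
    rw [ofH_shT, val_toH, curryH_app, op_id, rs_id]
  right_inv ψ := by
    refine val_ext fun X z => LHom.hext fun W f x => ?_
    rw [val_toH, curryH_app, ofH_shT, val_res, LHom.res_app, Category.id_comp]
    rfl

/-- Tensoring on the right with a fixed module. -/
def tenR (F : ModSite.Mod O) : ModSite.Mod O ⥤ ModSite.Mod O where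
  obj G := ten G F
  map g := ((ModSite.tensorBi O).map g).app F
  map_id G := by rw [CategoryTheory.Functor.map_id]; rfl
  map_comp g g' := by rw [Functor.map_comp]; rfl

lemma ofH_comp {G' G : ModSite.Mod O} (g : G' ⟶ G) (ψ : G ⟶ hMod F M) :
    ofH (g ≫ ψ) = ((ModSite.tensorBi O).map g).app F ≫ ofH ψ := by
  apply shT_hom_ext (M := G') (N := F)
  intro X z x
  rw [ofH_shT, val_comp, Functor.map_comp]
  refine Eq.trans ?_ (congrArg (((fg O).map (ofH ψ)).app X).hom (shT_map_left g z x)).symm
  exact (ofH_shT ψ _ x).symm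

lemma toH_comp {G : ModSite.Mod O} (k : ten G F ⟶ M) (φ : M ⟶ N) : toH (k ≫ φ) = toH k ≫ hMap φ := by
  refine val_ext fun X z => ?_
  rw [val_toH, val_comp_hMap, val_toH]
  refine LHom.hext fun W f x => ?_
  rw [LHom.post_app, curryH_app, curryH_app, Functor.map_comp]
  rfl

seal ModSite.tensorBi

lemma hHomEquiv_apply {G : ModSite.Mod O} (k : ten G F ⟶ M) : hHomEquiv F G M k = toH k := rfl

lemma hHomEquiv_symm_apply {G : ModSite.Mod O} (ψ : G ⟶ hMod F M) : (hHomEquiv F G M).symm ψ = ofH ψ := rfl

lemma hFunctor_map (φ : M ⟶ N) : (hFunctor F).map φ = hMap φ := rfl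

seal hMap toH ofH hHomEquiv

/-- The adjunction. -/
def tenRAdj (F : ModSite.Mod O) : tenR F ⊣ hFunctor F :=
  Adjunction.mkOfHomEquiv
    { homEquiv := fun G M => hHomEquiv F G M
      homEquiv_naturality_left_symm := fun g ψ => (hHomEquiv_symm_apply _).trans ((ofH_comp g ψ).trans (congrArg (fun a => (tenR F).map g ≫ a) (hHomEquiv_symm_apply ψ).symm))
      homEquiv_naturality_right := fun k φ => (hHomEquiv_apply _).trans ((toH_comp k φ).trans (congrArg₂ (fun a b => a ≫ b) (hHomEquiv_apply k).symm (hFunctor_map φ).symm)) }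

/-- The adjunction with the tensor product of the prelude. -/
def hAdj (F : ModSite.Mod O) : (ModSite.tensorBi O).flip.obj F ⊣ hFunctor F :=
  (tenRAdj F).ofNatIsoLeft (NatIso.ofComponents (fun G => Iso.refl (ten G F))
    (fun g => (Category.comp_id _).trans (Category.id_comp _).symm))

/-- The internal hom is the functor of natural families. -/
def sheafHomIso (F : ModSite.Mod O) [ModSite.HasSheafHom F] : hFunctor F ≅ ModSite.sheafHom F :=
  (hAdj F).rightAdjointUniq (ModSite.sheafHomAdj F)

end Groth.Agent.HHom
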