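import Groth.Agent.SiteBase.HHom
import Groth.Agent.SiteBase.FreeOnPres
import Groth.Agent.ModPull.Tensor
import Groth.Agent.ModTensor.ExtZero
import Mathlib.Algebra.Category.ModuleCat.Sheaf.PullbackFree

/-!
# Inverse images and restrictions to the objects over an object

For a morphism of ringed sites with underlying functor `u` and an object `V`, the restriction of an
inverse image to the objects over `u V` is the inverse image of the restriction to the objects over
`V`.
-/

set_option autoImplicit false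
set_option backward.isDefEq.respectTransparency false
set_option linter.style.haveILetI false
set_option linter.unusedSectionVars false

universe u

open CategoryTheory CategoryTheory.Limits Opposite
open Groth.Agent.ModTensor Groth.Agent.ModPull Groth.Agent.SecGenOps Groth.Agent.LHomLib
open Groth.Agent.HHom

noncomputable section

namespace Groth.Agent.PullSlice

variable {C D : Type u} [SmallCategory C] [SmallCategory D] {J : GrothendieckTopology C}
  {K : GrothendieckTopology D} {O_C : Sheaf J CommRingCat.{u}} {O_D : Sheaf K CommRingCat.{u}}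
  (f : ModSite.RMor O_C O_D) (V : D)

/-- The functor between the slices. -/
abbrev sF : Over V ⥤ Over (f.fn.obj V) := Over.post f.fn

lemma coverPreserving_fn : CoverPreserving K J f.fn :=
  ⟨fun {U} S hS => by
    refine J.superset_covering ?_ (imgSieve_mem f.fn hS (𝟙 (f.fn.obj U)))
    rintro W t ⟨W', a, h, ha, e⟩
    exact ⟨W', a, h, ha, (Category.comp_id _).symm.trans e.symm⟩⟩

lemma coverPreserving_post : CoverPreserving (K.over V) (J.over (f.fn.obj V)) (sF f V) where
  cover_preserve {U} S hS := by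
    rw [GrothendieckTopology.mem_over_iff] at hS ⊢
    rw [Sieve.overEquiv_functorPushforward_post]
    exact (coverPreserving_fn f).cover_preserve hS

lemma compatiblePreserving_post : CompatiblePreserving.{u} (J.over (f.fn.obj V)) (sF f V) := by
  refine ⟨fun ℱ {Z T x} hx {Y₁ Y₂ X} f₁ f₂ g₁ g₂ hg₁ hg₂ e => ?_⟩
  have hl : ModPull.Locally J X.left (fun W' t => ∃ (W : D) (b₁ : W ⟶ Y₁.left) (b₂ : W ⟶ Y₂.left)
      (h : W' ⟶ f.fn.obj W), h ≫ f.fn.map b₁ = t ≫ f₁.left ∧ h ≫ f.fn.map b₂ = t ≫ f₂.left ∧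
        b₁ ≫ g₁.left = b₂ ≫ g₂.left) := by
    refine ModPull.Locally.bind (⟨_, pairSieve_mem (K := K) f.fn f₁.left f₂.left, fun W' t ht => ht⟩ :
      ModPull.Locally J X.left (fun W' t => pairSieve f.fn f₁.left f₂.left t)) fun W' t ht => ?_
    obtain ⟨W, a₁, a₂, h, e₁, e₂⟩ := ht
    have he : h ≫ f.fn.map (a₁ ≫ g₁.left) = h ≫ f.fn.map (a₂ ≫ g₂.left) := by
      rw [Functor.map_comp, Functor.map_comp, reassoc_of% e₁, reassoc_of% e₂]
      exact congrArg (fun k => t ≫ k.left) e
    refine ⟨_, eqSieve_mem (K := K) f.fn _ _ h he, fun W'' t' ⟨W₂, c, h', hc, e'⟩ => ?_⟩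
    refine ⟨W₂, c ≫ a₁, c ≫ a₂, h', ?_, ?_, by rw [Category.assoc, Category.assoc, hc]⟩
    · rw [Functor.map_comp, reassoc_of% e', e₁, Category.assoc]
    · rw [Functor.map_comp, reassoc_of% e', e₂, Category.assoc]
  obtain ⟨S, hS, hSp⟩ := hl
  refine (((isSheaf_iff_isSheaf_of_type _ _).1 ℱ.property).isSeparated _
    ((J.overEquiv_symm_mem_over X S hS))).ext fun X' k hk => ?_
  rw [Sieve.overEquiv_symm_iff] at hk
  obtain ⟨W, b₁, b₂, h, e₁, e₂, eg⟩ := hSp k.left hk
  let Y : Over V := Over.mk (b₁ ≫ Y₁.hom)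
  let c₁ : Y ⟶ Y₁ := Over.homMk b₁ rfl
  let c₂ : Y ⟶ Y₂ := Over.homMk b₂ (by
    show b₂ ≫ Y₂.hom = b₁ ≫ Y₁.hom
    rw [← Over.w g₁, ← Over.w g₂, ← Category.assoc, ← eg, Category.assoc])
  let l : X' ⟶ (sF f V).obj Y := Over.homMk h (by
    show h ≫ f.fn.map (b₁ ≫ Y₁.hom) = X'.hom
    rw [Functor.map_comp, reassoc_of% e₁]
    refine Eq.trans ?_ (Over.w k)
    exact congrArg (k.left ≫ ·) (Over.w f₁))
  have k₁ : k ≫ f₁ = l ≫ (sF f V).map c₁ := Over.OverMorphism.ext e₁.symm
  have k₂ : k ≫ f₂ = l ≫ (sF f V).map c₂ := Over.OverMorphism.ext e₂.symm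
  have hx' := hx c₁ c₂ hg₁ hg₂ (Over.OverMorphism.ext eg)
  change ℱ.obj.map k.op (ℱ.obj.map f₁.op (x g₁ hg₁)) = ℱ.obj.map k.op (ℱ.obj.map f₂.op (x g₂ hg₂))
  rw [← Functor.map_comp_apply, ← Functor.map_comp_apply, ← op_comp, ← op_comp, k₁, k₂, op_comp, op_comp,
    Functor.map_comp_apply, Functor.map_comp_apply]
  exact congrArg _ hx'

instance isContinuous_post : (sF f V).IsContinuous (K.over V) (J.over (f.fn.obj V)) :=
  Functor.isContinuous_of_coverPreserving (compatiblePreserving_post f V) (coverPreserving_post f V)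

instance final_post : (sF f V).Final := by
  have h₁ : (Functor.fromPUnit.{0} (Over.mk (𝟙 V))).Final :=
    Functor.final_fromPUnit_of_isTerminal Over.mkIdTerminal
  have h₂ : (Functor.fromPUnit.{0} (Over.mk (𝟙 (f.fn.obj V)))).Final :=
    Functor.final_fromPUnit_of_isTerminal Over.mkIdTerminal
  have : (Functor.fromPUnit.{0} (Over.mk (𝟙 V)) ⋙ sF f V).Final :=
    Functor.final_of_natIso (F := Functor.fromPUnit.{0} (Over.mk (𝟙 (f.fn.obj V))))
      (Discrete.natIso fun _ => Over.isoMk (Iso.refl _) ((Category.id_comp _).trans (f.fn.map_id V)))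
  exact Functor.final_of_final_comp (Functor.fromPUnit.{0} (Over.mk (𝟙 V))) (sF f V)

/-- The structure map on the slices. -/
def sSharp : (ModSite.ringSh O_D).over V ⟶
    ((sF f V).sheafPushforwardContinuous RingCat.{u} (K.over V) (J.over (f.fn.obj V))).obj
      ((ModSite.ringSh O_C).over (f.fn.obj V)) :=
  ⟨{ app := fun W => f.sharpR.hom.app (op W.unop.left)
     naturality := fun _ _ g => f.sharpR.hom.naturality g.unop.left.op }⟩

/-- Direct image on the slices. -/
abbrev sPush : ModSite.Mod (O_C.over (f.fn.obj V)) ⥤ ModSite.Mod (O_D.over V) :=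
  SheafOfModules.pushforward.{u} (sSharp f V)

set_option backward.isDefEq.respectTransparency.types false in
instance isRightAdjoint_sPush : (sPush f V).IsRightAdjoint := inferInstance

/-- Inverse image on the slices. -/
abbrev sPull : ModSite.Mod (O_D.over V) ⥤ ModSite.Mod (O_C.over (f.fn.obj V)) :=
  SheafOfModules.pullback.{u} (sSharp f V)

/-- The adjunction. -/
abbrev sAdj : sPull f V ⊣ sPush f V := SheafOfModules.pullbackPushforwardAdjunction.{u} (sSharp f V)

instance : PreservesColimitsOfSize.{u, u} (sPull f V) := (sAdj f V).leftAdjoint_preservesColimits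

/-- The unit module is preserved. -/
def unitIso : SheafOfModules.unit (ModSite.ringSh (O_C.over (f.fn.obj V))) ≅
    (sPull f V).obj (SheafOfModules.unit (ModSite.ringSh (O_D.over V))) :=
  (asIso (SheafOfModules.pullbackObjUnitToUnit (sSharp f V))).symm

/-- The restriction of the unit of the adjunction. -/
def unitRestr (F : ModSite.Mod O_D) :
    (ModSite.restr O_D V).obj F ⟶ (sPush f V).obj ((ModSite.restr O_C (f.fn.obj V)).obj (f.pull.obj F)) :=
  (fg (O_D.over V)).preimage
    { app := fun W => ModuleCat.ofHom (X := ((fg (O_D.over V)).obj ((ModSite.restr O_D V).obj F)).obj W)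
        (Y := ((fg (O_D.over V)).obj ((sPush f V).obj ((ModSite.restr O_C (f.fn.obj V)).obj (f.pull.obj F)))).obj W)
        { toFun := fun x => pu f F (U := op W.unop.left) x
          map_add' := fun x y => pu_add f F x y
          map_smul' := fun r x => pu_smul f F r x }
      naturality := fun {_ _} g => ModuleCat.hom_ext (LinearMap.ext fun x => pu_rs f F g.unop.left.op x) }

/-- The comparison map. -/
def cmp (F : ModSite.Mod O_D) :
    (sPull f V).obj ((ModSite.restr O_D V).obj F) ⟶ (ModSite.restr O_C (f.fn.obj V)).obj (f.pull.obj F) :=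
  ((sAdj f V).homEquiv _ _).symm (unitRestr f V F)

lemma homEquiv_cmp_comp {F : ModSite.Mod O_D} {N : ModSite.Mod (O_C.over (f.fn.obj V))}
    (k : (ModSite.restr O_C (f.fn.obj V)).obj (f.pull.obj F) ⟶ N) (W : Over V)
    (x : ((fg O_D).obj F).obj (op W.left)) :
    ((fg (O_D.over V)).map ((sAdj f V).homEquiv _ _ (cmp f V F ≫ k))).app (op W) x =
      ((fg (O_C.over (f.fn.obj V))).map k).app (op ((sF f V).obj W)) (pu f F (U := op W.left) x) := by
  rw [(sAdj f V).homEquiv_naturality_right, cmp, Equiv.apply_symm_apply, Functor.map_comp, unitRestr,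
    Functor.map_preimage]
  rfl

/-- Maps out of a restricted inverse image are determined by the pulled back sections. -/
theorem hom_ext {F : ModSite.Mod O_D} {N : ModSite.Mod (O_C.over (f.fn.obj V))}
    {k k' : (ModSite.restr O_C (f.fn.obj V)).obj (f.pull.obj F) ⟶ N}
    (h : ∀ (W : Over V) (x : ((fg O_D).obj F).obj (op W.left)),
      ((fg (O_C.over (f.fn.obj V))).map k).app (op ((sF f V).obj W)) (pu f F (U := op W.left) x) =
        ((fg (O_C.over (f.fn.obj V))).map k').app (op ((sF f V).obj W)) (pu f F (U := op W.left) x)) :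
    k = k' := by
  let U := f.fn.obj V
  let OU := O_C.over U
  refine (fg OU).map_injective (PresheafOfModules.hom_ext fun T => ModuleCat.hom_ext (LinearMap.ext fun z => ?_))
  refine eq_of_locally' N ?_
  have hl : ModPull.Locally J T.unop.left (fun W' g => ∃ (W : Over V) (h : W' ⟶ f.fn.obj W.left) (n : ℕ)
      (a : Fin n → O_C.obj.obj (op W')) (x : Fin n → ((fg O_D).obj F).obj (op W.left)),
      h ≫ f.fn.map W.hom = g ≫ T.unop.hom ∧ rs ((fg O_C).obj (f.pull.obj F)) g.op z =
        ∑ l, a l • rs ((fg O_C).obj (f.pull.obj F)) h.op (pu f F (U := op W.left) (x l))) := by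
    refine (locally_combination f F (W := T.unop.left) z).bind fun W' g hg => ?_
    obtain ⟨X, h, n, a, x, e⟩ := hg
    refine ⟨_, pairSieve_mem (K := K) f.fn h (g ≫ T.unop.hom), fun W'' g' ⟨W, a₁, a₂, h', e₁, e₂⟩ => ?_⟩
    refine ⟨Over.mk a₂, h', n, fun l => (O_C.obj.map g'.op).hom (a l),
      fun l => rs ((fg O_D).obj F) a₁.op (x l), ?_, ?_⟩
    · exact e₂.trans (Category.assoc _ _ _).symm
    · rw [SecGen.rs_op_comp, e, rs_sum]
      refine Finset.sum_congr rfl fun l _ => ?_
      rw [rs_smul, pu_rs, ← SecGen.rs_op_comp, ← SecGen.rs_op_comp]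
      exact congrArg (fun q => (O_C.obj.map g'.op).hom (a l) •
        rs ((fg O_C).obj (f.pull.obj F)) q.op (pu f F (U := op X) (x l))) e₁.symm
  obtain ⟨S, hS, hSp⟩ := hl
  refine ⟨(Sieve.overEquiv T.unop).symm S, (J.overEquiv_symm_mem_over T.unop S hS), fun W' g hg => ?_⟩
  rw [Sieve.overEquiv_symm_iff] at hg
  obtain ⟨W, l, n, a, x, eW, e⟩ := hSp g.left hg
  let l' : W' ⟶ (sF f V).obj W := Over.homMk l (eW.trans (Over.w g))
  rw [← app_rs, ← app_rs]
  have e' : rs ((fg OU).obj ((ModSite.restr O_C U).obj (f.pull.obj F))) g.op z =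
      ∑ i, (a i : OU.obj.obj (op W')) • rs ((fg OU).obj ((ModSite.restr O_C U).obj (f.pull.obj F))) l'.op
        (pu f F (U := op W.left) (x i)) := e
  rw [e', map_sum, map_sum]
  refine Finset.sum_congr rfl fun i _ => ?_
  rw [map_smul, map_smul, app_rs, app_rs, h W (x i)]

theorem epi_cmp (F : ModSite.Mod O_D) : Epi (cmp f V F) :=
  ⟨fun k k' e => hom_ext f V fun W x => by rw [← homEquiv_cmp_comp, ← homEquiv_cmp_comp, e]⟩

/-- A natural family is a map out of a tensor product with `j_! O`. -/
theorem exists_ten_hom {F N : ModSite.Mod O_D} {V : D} (τ : LHom F N V) :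
    ∃ (G : ModSite.Mod O_D) (z₀ : ((fg O_D).obj G).obj (op V)) (k : ten G F ⟶ N),
      ∀ (W : D) (a : W ⟶ V) (x : ((fg O_D).obj F).obj (op W)),
        ((fg O_D).map k).app (op W) (shT G F (rs ((fg O_D).obj G) a.op z₀) x) = τ.app a x := by
  let ψ : ModSite.freeOn O_D V ⟶ hMod F N := FreeOnPres.toHom (M := hMod F N) (U := V) τ
  refine ⟨ModSite.freeOn O_D V, FreeOnPres.sec (𝟙 _), ofH ψ, fun W a x => ?_⟩
  rw [ofH_shT, val_res]
  have e : val ψ (FreeOnPres.sec (𝟙 (ModSite.freeOn O_D V))) = τ := by
    refine (FreeOnPres.sec_comp (𝟙 (ModSite.freeOn O_D V)) ψ).symm.trans ?_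
    rw [Category.id_comp]
    exact FreeOnPres.sec_toHom (M := hMod F N) (U := V) τ
  rw [e, LHom.res_app, Category.id_comp]
  rfl

/-- Natural families pull back. -/
theorem exists_pullLHom {F : ModSite.Mod O_D} {Z : ModSite.Mod O_C} (τ : LHom F (f.push.obj Z) V) :
    ∃ σ : LHom (f.pull.obj F) Z (f.fn.obj V),
      ∀ (W : D) (a : W ⟶ V) (x : ((fg O_D).obj F).obj (op W)),
        σ.app (f.fn.map a) (pu f F (U := op W) x) = τ.app a x := by
  obtain ⟨G, z₀, k, hk⟩ := exists_ten_hom τ
  haveI := isIso_pullTensorHom f G F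
  let k' : f.pull.obj (ten G F) ⟶ Z := (f.adj.homEquiv (ten G F) Z).symm k
  let Φ : ten (f.pull.obj G) (f.pull.obj F) ⟶ Z := inv (pullTensorHom f G F) ≫ k'
  refine ⟨curryH Φ (X := op (f.fn.obj V)) (pu f G z₀), fun W a x => ?_⟩
  rw [curryH_app]
  have e1 : rs ((fg O_C).obj (f.pull.obj G)) (f.fn.map a).op (pu f G z₀) =
      pu f G (rs ((fg O_D).obj G) a.op z₀) := (pu_rs f G a.op z₀).symm
  rw [e1, ← pullTensorHom_pu]
  have e2 : pullTensorHom f G F ≫ Φ = k' := IsIso.hom_inv_id_assoc _ _
  refine (congrArg (fun q : f.pull.obj (ten G F) ⟶ Z => ((fg O_C).map q).app (op (f.fn.obj W))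
    (pu f (ten G F) (U := op W) (shT G F (rs ((fg O_D).obj G) a.op z₀) x))) e2).trans ?_
  refine (adj_homEquiv_app f k' (U := op W) (shT G F (rs ((fg O_D).obj G) a.op z₀) x)).symm.trans ?_
  rw [Equiv.apply_symm_apply]
  exact hk W a x

/-- Extension of maps of restrictions. -/
theorem exists_extend (F : ModSite.Mod O_D) (Z : ModSite.Mod O_C)
    (h : (ModSite.restr O_D V).obj F ⟶ (sPush f V).obj ((ModSite.restr O_C (f.fn.obj V)).obj Z)) :
    ∃ k : (ModSite.restr O_C (f.fn.obj V)).obj (f.pull.obj F) ⟶ (ModSite.restr O_C (f.fn.obj V)).obj Z,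
      ∀ (W : Over V) (x : ((fg O_D).obj F).obj (op W.left)),
        ((fg (O_C.over (f.fn.obj V))).map k).app (op ((sF f V).obj W)) (pu f F (U := op W.left) x) =
          ((fg (O_D.over V)).map h).app (op W) x := by
  let OV := O_D.over V
  let OU := O_C.over (f.fn.obj V)
  let τ : LHom F (f.push.obj Z) V :=
    { app := fun W a =>
        { toFun := fun x => ((fg OV).map h).app (op (Over.mk a)) x
          map_add' := fun x y => map_add (((fg OV).map h).app (op (Over.mk a))).hom x y
          map_smul' := fun r x => map_smul (((fg OV).map h).app (op (Over.mk a))).hom r x }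
      nat := fun W' W g a x => app_rs ((fg OV).map h) (Over.homMk g rfl : Over.mk (g ≫ a) ⟶ Over.mk a).op x }
  obtain ⟨σ, hσ⟩ := exists_pullLHom f V τ
  let k : (ModSite.restr O_C (f.fn.obj V)).obj (f.pull.obj F) ⟶ (ModSite.restr O_C (f.fn.obj V)).obj Z :=
    (fg OU).preimage
      { app := fun T => ModuleCat.ofHom (X := ((fg OU).obj ((ModSite.restr O_C _).obj (f.pull.obj F))).obj T)
          (Y := ((fg OU).obj ((ModSite.restr O_C _).obj Z)).obj T)
          { toFun := fun x => σ.app T.unop.hom x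
            map_add' := fun x y => map_add (σ.app T.unop.hom) x y
            map_smul' := fun r x => map_smul (σ.app T.unop.hom) r x }
        naturality := fun {_ _} g => ModuleCat.hom_ext (LinearMap.ext fun x => by
          refine Eq.trans ?_ (σ.nat g.unop.left _ x)
          exact congrArg (fun q => σ.app q _) (Over.w g.unop).symm) }
  refine ⟨k, fun W x => ?_⟩
  rw [Functor.map_preimage]
  exact hσ W.left W.hom x

lemma mono_extZero_unit {U : C} (N : ModSite.Mod (O_C.over U)) :
    Mono ((ModSite.extZeroAdj O_C U).unit.app N) := by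
  let η := (ModSite.extZeroAdj O_C U).unit.app N
  haveI := additive_extZero O_C U
  haveI : Mono ((ModSite.extZero O_C U).map (kernel.ι η)) := mono_extZero_map _ _ (kernel.ι η)
  refine Preadditive.mono_of_isZero_kernel η (isZero_of_isZero_extZero _ ?_)
  rw [IsZero.iff_id_eq_zero, ← cancel_mono ((ModSite.extZero O_C U).map (kernel.ι η)), zero_comp,
    Category.id_comp]
  have : Mono ((ModSite.extZero O_C U).map η) :=
    (SplitMono.mk _ ((ModSite.extZeroAdj O_C U).left_triangle_components N)).mono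
  rw [← cancel_mono ((ModSite.extZero O_C U).map η), zero_comp, ← Functor.map_comp, kernel.condition,
    Functor.map_zero]

theorem mono_cmp (F : ModSite.Mod O_D) : Mono (cmp f V F) := by
  let P := (sPull f V).obj ((ModSite.restr O_D V).obj F)
  let η := (ModSite.extZeroAdj O_C (f.fn.obj V)).unit.app P
  haveI : Mono η := mono_extZero_unit P
  obtain ⟨k, hk⟩ := exists_extend f V F ((ModSite.extZero O_C (f.fn.obj V)).obj P)
    ((sAdj f V).homEquiv _ _ η)
  have e : cmp f V F ≫ k = η := ((sAdj f V).homEquiv _ _).injective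
    ((fg (O_D.over V)).map_injective (PresheafOfModules.hom_ext fun W =>
      ModuleCat.hom_ext (LinearMap.ext fun x => (homEquiv_cmp_comp f V k W.unop x).trans (hk W.unop x))))
  exact mono_of_mono_fac e

theorem isIso_cmp (F : ModSite.Mod O_D) : IsIso (cmp f V F) := by
  haveI := mono_cmp f V F
  haveI := epi_cmp f V F
  exact isIso_of_mono_of_epi _

/-- Restriction commutes with inverse image. -/
def cmpIso (F : ModSite.Mod O_D) :
    (sPull f V).obj ((ModSite.restr O_D V).obj F) ≅ (ModSite.restr O_C (f.fn.obj V)).obj (f.pull.obj F) :=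
  haveI := isIso_cmp f V F
  asIso (cmp f V F)

/-- Presentations pull back. -/
def presentation {F : ModSite.Mod O_D} (P : (SheafOfModules.over F V).Presentation) :
    (SheafOfModules.over (f.pull.obj F) (f.fn.obj V)).Presentation :=
  SheafOfModules.Presentation.ofIsIso (cmpIso f V F).hom (P.map (sPull f V) (unitIso f V))

/-- Generating sections pull back. -/
def generating {F : ModSite.Mod O_D} (σ : (SheafOfModules.over F V).GeneratingSections) :
    (SheafOfModules.over (f.pull.obj F) (f.fn.obj V)).GeneratingSections :=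
  (σ.map (sPull f V) (unitIso f V)).ofEpi (cmpIso f V F).hom

end Groth.Agent.PullSlice
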