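import Groth.Agent.SiteBase.CechInst

/-!
# Cartan's criterion
-/

universe v w u

open CategoryTheory CategoryTheory.Limits Opposite

namespace Groth.Agent.SiteBase

variable {C : Type u} [SmallCategory C] {J : GrothendieckTopology C}

lemma imageSieve_mem_of_shortExact {E : ShortComplex (Sheaf J AddCommGrpCat.{u})} (hE : E.ShortExact)
    {U : C} (s : E.X₃.obj.obj (op U)) : Presheaf.imageSieve E.g.hom s ∈ J U :=
  ((Sheaf.isLocallySurjective_iff_epi' _ E.g).2 hE.epi_g).imageSieve_mem s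

/-- A section lifts if arbitrarily fine covers have no first Cech cohomology in the kernel. -/
theorem sections_surjective_of_covers {E : ShortComplex (Sheaf J AddCommGrpCat.{u})} (hE : E.ShortExact)
    (U : C)
    (h : ∀ T ∈ J U, ∃ (D : Type u) (_ : SmallCategory D) (_ : HasFiniteProducts D) (Φ : D ⥤ C)
      (ι : Type u) (Y : ι → D) (c : CechCtx Φ U Y),
      c.sieve ∈ J U ∧ (∀ i, T.arrows (c.s i)) ∧ (cechCx Φ Y E.X₁).ExactAt 1) :
    Function.Surjective (E.g.hom.app (op U)).hom := by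
  intro s
  obtain ⟨D, _, _, Φ, ι, Y, c, hc, hT, h1⟩ := h _ (imageSieve_mem_of_shortExact hE s)
  exact exists_lift_of_local_lifts c hE hc h1 s hT

/-- Cartan's criterion: vanishing of Cech cohomology for enough covers gives vanishing of cohomology. -/
theorem subsingleton_HU_of_cartan (B : C → Prop) {K : Type v} (D : K → Type u)
    [∀ k, SmallCategory (D k)] [∀ k, HasFiniteProducts (D k)] (Φ : ∀ k, D k ⥤ C)
    (ι : K → Type u) (Y : ∀ k, ι k → D k)
    (hprod : ∀ k (n : ℕ) (a : Fin (n + 1) → ι k), B ((Φ k).obj (∏ᶜ fun j => Y k (a j))))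
    (hinj : ∀ k, InjAcyclic J (Φ k) (Y k))
    (href : ∀ U, B U → ∀ T ∈ J U, ∃ k, ∃ c : CechCtx (Φ k) U (Y k),
      c.sieve ∈ J U ∧ ∀ i, T.arrows (c.s i))
    {F : Sheaf J AddCommGrpCat.{u}} (hF : ∀ k p, (cechCx (Φ k) (Y k) F).ExactAt (p + 1))
    {U : C} (hU : B U) (n : ℕ) : Subsingleton (CohSite.HU F (n + 1) U) := by
  let P : Sheaf J AddCommGrpCat.{u} → Prop := fun G => ∀ k p, (cechCx (Φ k) (Y k) G).ExactAt (p + 1)
  have hsurj : ∀ E : ShortComplex (Sheaf J AddCommGrpCat.{u}), E.ShortExact → P E.X₁ →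
      ∀ W, B W → Function.Surjective (E.g.hom.app (op W)).hom := fun E hE h1 W hW =>
    sections_surjective_of_covers hE W fun T hT => by
      obtain ⟨k, c, hc, hTc⟩ := href W hW T hT
      exact ⟨D k, inferInstance, inferInstance, Φ k, ι k, Y k, c, hc, hTc, h1 k 0⟩
  exact subsingleton_HU_of_class P B
    (fun E hE h1 hI k p => exactAt_X₃
      (cechSES_shortExact (Φ k) (Y k) hE fun n a => hsurj E hE h1 _ (hprod k n a)) p
      (h1 k (p + 1)) (hinj k E.X₂ hI p))
    (fun E hE h1 _ W hW => hsurj E hE h1 W hW) hF hU n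

lemma exactAt_cech_of_isZero_cechH [HasPullbacks C] {U : C} {ι : Type u} (Y : ι → Over U)
    (F : Sheaf J AddCommGrpCat.{u}) (p : ℕ) (h : IsZero (CohCx.cechH F.obj Y p)) :
    (cechCx (Over.forget U) Y F).ExactAt p :=
  (HomologicalComplex.exactAt_iff_isZero_homology _ _).2 h

end Groth.Agent.SiteBase
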