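import Groth.Agent.ToposFinLib.ExtColim
import Groth.Agent.EtFound.FilteredSectionsGen
import Groth.Agent.SiteBase.Cartan
import Groth.Agent.SiteBase.Sections

/-!
# Cohomology and filtered colimits on a collection of objects with finite coverings
-/

set_option autoImplicit false
set_option backward.isDefEq.respectTransparency false
set_option linter.unusedVariables false

universe u

open CategoryTheory CategoryTheory.Limits Opposite Abelian Groth.Agent.SiteBase

noncomputable section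

namespace Groth.Agent.ColimCollection

open Groth.Agent.ToposFinLib (Comm cofreeInj toCofreeInj stageSES colimSES stageToColim stageMap shortExact_stageSES
  shortExact_colimSES conn_natural injective_cofreeInj)

variable {C : Type u} [SmallCategory C] {J : GrothendieckTopology C} {Λ : Type u} [SmallCategory Λ] [IsFiltered Λ]

/-- The inductive step. -/
theorem comm_succ (P : Sheaf J AddCommGrpCat.{u}) (q : ℕ) (ih : ∀ D : Λ ⥤ Sheaf J AddCommGrpCat.{u}, Comm P q D)
    (D : Λ ⥤ Sheaf J AddCommGrpCat.{u})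
    (hI : Subsingleton (Ext P (colimit (cofreeInj D)) (q + 1))) : Comm P (q + 1) D := by
  have hSc := shortExact_colimSES D
  refine ⟨fun x => ?_, fun i y hy => ?_⟩
  · obtain ⟨z, hz⟩ := Ext.covariant_sequence_exact₁ P hSc x (hI.elim _ _) (rfl : q + 1 = q + 1)
    obtain ⟨i, w, hw⟩ := (ih (cokernel (toCofreeInj D))).surj z
    refine ⟨i, w.comp (shortExact_stageSES D i).extClass rfl, ?_⟩
    refine (conn_natural (shortExact_stageSES D i) hSc (stageToColim D i) w).trans ?_
    exact (congrArg (fun t => Ext.comp t hSc.extClass rfl) hw).trans hz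
  · have : Injective (stageSES D i).X₂ := injective_cofreeInj D i
    obtain ⟨z, hz⟩ := Ext.covariant_sequence_exact₁ P (shortExact_stageSES D i) y
      (haveI := Ext.subsingleton_of_injective P (stageSES D i).X₂ q; Subsingleton.elim _ _)
      (rfl : q + 1 = q + 1)
    subst hz
    have h0 : (z.comp (Ext.mk₀ (stageToColim D i).τ₃) (add_zero q)).comp hSc.extClass rfl = 0 :=
      (conn_natural (shortExact_stageSES D i) hSc (stageToColim D i) z).symm.trans hy
    obtain ⟨a, ha⟩ := Ext.covariant_sequence_exact₃ P hSc _ rfl h0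
    obtain ⟨j, b, hb⟩ := (ih (cofreeInj D)).surj a
    obtain ⟨k, f, g, -⟩ : ∃ (k : Λ) (f : i ⟶ k) (g : j ⟶ k), True :=
      ⟨IsFiltered.max i j, IsFiltered.leftToMax i j, IsFiltered.rightToMax i j, trivial⟩
    let r := (b.comp (Ext.mk₀ ((cofreeInj D).map g)) (add_zero q)).comp (Ext.mk₀ (stageSES D k).g) (add_zero q)
    let s := z.comp (Ext.mk₀ (stageMap D f).τ₃) (add_zero q)
    have hrs : (s - r).comp (Ext.mk₀ (colimit.ι (cokernel (toCofreeInj D)) k)) (add_zero q) = 0 := by
      rw [sub_eq_add_neg, Ext.add_comp, Ext.neg_comp, ← sub_eq_add_neg, sub_eq_zero]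
      simp only [r, s, Ext.comp_assoc_of_third_deg_zero, Ext.mk₀_comp_mk₀]
      refine Eq.trans (congrArg (fun t => z.comp (Ext.mk₀ t) (add_zero q))
        (colimit.w (cokernel (toCofreeInj D)) f)) (ha.symm.trans ?_)
      rw [← hb, Ext.comp_assoc_of_third_deg_zero, Ext.mk₀_comp_mk₀]
      refine congrArg (fun t => b.comp (Ext.mk₀ t) (add_zero q)) ?_
      exact ((congrArg (· ≫ (colimSES D).g) (colimit.w (cofreeInj D) g).symm).trans (Category.assoc _ _ _)).trans
        (congrArg ((cofreeInj D).map g ≫ ·) (stageToColim D k).comm₂₃)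
    obtain ⟨l, t, ht⟩ := (ih (cokernel (toCofreeInj D))).inj k (s - r) hrs
    refine ⟨l, f ≫ t, ?_⟩
    have h1 := conn_natural (shortExact_stageSES D i) (shortExact_stageSES D l) (stageMap D (f ≫ t)) z
    refine h1.trans ?_
    have h2 : z.comp (Ext.mk₀ (stageMap D (f ≫ t)).τ₃) (add_zero q) =
        ((b.comp (Ext.mk₀ ((cofreeInj D).map (g ≫ t))) (add_zero q)).comp (Ext.mk₀ (stageSES D l).g) (add_zero q)) := by
      rw [sub_eq_add_neg, Ext.add_comp, Ext.neg_comp, ← sub_eq_add_neg, sub_eq_zero] at ht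
      simp only [r, s, Ext.comp_assoc_of_third_deg_zero, Ext.mk₀_comp_mk₀] at ht
      rw [Ext.comp_assoc_of_third_deg_zero, Ext.mk₀_comp_mk₀]
      refine Eq.trans (congrArg (fun w => z.comp (Ext.mk₀ w) (add_zero q))
        ((cokernel (toCofreeInj D)).map_comp f t)) (ht.trans ?_)
      refine congrArg (fun w => b.comp (Ext.mk₀ w) (add_zero q)) ?_
      rw [Functor.map_comp, Category.assoc, Category.assoc]
      exact congrArg ((cofreeInj D).map g ≫ ·) (stageMap D t).comm₂₃.symm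
    rw [h2, Ext.comp_assoc_of_second_deg_zero, (shortExact_stageSES D l).comp_extClass, Ext.comp_zero]

section Cov

variable [HasPullbacks C] (B : Set C) (Cov : ∀ (U : C) (ι : Type u), (ι → Over U) → Prop)
  (h1 : ∀ (U : C) (ι : Type u) (Y : ι → Over U), Cov U ι Y → Finite ι ∧ U ∈ B ∧
    Sieve.ofArrows (fun i => (Y i).left) (fun i => (Y i).hom) ∈ J U ∧
    ∀ (p : ℕ) (a : Fin (p + 1) → ι), (∏ᶜ fun k => Y (a k)).left ∈ B)
  (h2 : ∀ U ∈ B, ∀ T ∈ J U, ∃ (ι : Type u) (Y : ι → Over U), Cov U ι Y ∧ ∀ i, T.arrows (Y i).hom)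

/-- The collection, closed under isomorphisms. -/
def B' : C → Prop := fun X => ∃ b ∈ B, Nonempty (X ≅ b)

omit [HasPullbacks C] in
lemma B'_of_mem {U : C} (h : U ∈ B) : B' B U := ⟨U, h, ⟨Iso.refl U⟩⟩

lemma nonempty_single_iso {U : C} {ι : Type u} (Y : ι → Over U) (i : ι) :
    Nonempty ((Y i).left ≅ (∏ᶜ fun _ : Fin 1 => Y i).left) :=
  ⟨(Over.forget U).mapIso
    { hom := Pi.lift fun _ => 𝟙 _
      inv := Pi.π (fun _ : Fin 1 => Y i) 0
      hom_inv_id := Pi.lift_π _ _
      inv_hom_id := Pi.hom_ext _ _ fun k => by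
        obtain rfl : k = 0 := Subsingleton.elim _ _
        simp }⟩

lemma nonempty_pair_iso {U V : C} (e : U ≅ V) {ι : Type u} (Y : ι → Over V) (a : Fin 2 → ι) :
    Nonempty (pullback ((Y (a 0)).hom ≫ e.inv) ((Y (a 1)).hom ≫ e.inv) ≅ (∏ᶜ fun k => Y (a k)).left) := by
  let g₀ := (Y (a 0)).hom ≫ e.inv
  let g₁ := (Y (a 1)).hom ≫ e.inv
  have hw : pullback.fst g₀ g₁ ≫ (Y (a 0)).hom = pullback.snd g₀ g₁ ≫ (Y (a 1)).hom := by
    have := pullback.condition (f := g₀) (g := g₁)
    simp only [g₀, g₁] at this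
    rw [← Category.assoc, ← Category.assoc] at this
    exact (cancel_mono e.inv).1 this
  obtain ⟨k, hk0, hk1⟩ := (ctxOver Y).fact a (pullback.fst g₀ g₁) (pullback.snd g₀ g₁) hw
  let r : (∏ᶜ fun k => Y (a k)).left ⟶ pullback g₀ g₁ :=
    pullback.lift ((Pi.π (fun k => Y (a k)) 0).left) ((Pi.π (fun k => Y (a k)) 1).left) (by
      simp only [g₀, g₁, Over.w_assoc])
  refine ⟨⟨k, r, pullback.hom_ext ?_ ?_, ?_⟩⟩
  · rw [Category.assoc, pullback.lift_fst, Category.id_comp]; exact hk0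
  · rw [Category.assoc, pullback.lift_snd, Category.id_comp]; exact hk1
  · have hπ : ∀ j, (r ≫ k) ≫ (Pi.π (fun k => Y (a k)) j).left = (Pi.π (fun k => Y (a k)) j).left := fun j => by
      fin_cases j
      · exact (Category.assoc _ _ _).trans ((congrArg (r ≫ ·) hk0).trans (pullback.lift_fst _ _ _))
      · exact (Category.assoc _ _ _).trans ((congrArg (r ≫ ·) hk1).trans (pullback.lift_snd _ _ _))
    have hw' : (r ≫ k) ≫ (∏ᶜ fun k => Y (a k)).hom = (∏ᶜ fun k => Y (a k)).hom := by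
      rw [← Over.w (Pi.π (fun k => Y (a k)) 0), ← Category.assoc, hπ]
    exact congrArg CommaMorphism.left
      (Pi.hom_ext (Over.homMk (r ≫ k) hw' : (∏ᶜ fun k => Y (a k)) ⟶ _) (𝟙 _) fun j =>
        Over.OverMorphism.ext ((hπ j).trans (by simp)))

include h1 h2 in
theorem hasFiniteRefinements : EtFound.FilteredSectionsGen.HasFiniteRefinements J (B' B) := by
  intro U hU S hS
  obtain ⟨b, hb, ⟨e⟩⟩ := hU
  obtain ⟨ι, Y, hY, hYS⟩ := h2 b hb (S.pullback e.inv) (J.pullback_stable e.inv hS)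
  obtain ⟨hfin, -, hcov, hprod⟩ := h1 b ι Y hY
  obtain ⟨n, ⟨ε⟩⟩ := Finite.exists_equiv_fin ι
  refine ⟨n, fun k => (Y (ε.symm k)).left, fun k => (Y (ε.symm k)).hom ≫ e.inv, fun k => hYS (ε.symm k), ?_,
    fun k => ⟨_, hprod 0 (fun _ => ε.symm k), nonempty_single_iso Y (ε.symm k)⟩, fun k l => ?_⟩
  · refine J.superset_covering ?_ (J.pullback_stable e.hom hcov)
    intro W f hf
    obtain ⟨i, g, hg⟩ := (Sieve.mem_ofArrows_iff _ _ _).1 hf
    obtain ⟨k, rfl⟩ : ∃ k, i = ε.symm k := ⟨ε i, (ε.symm_apply_apply i).symm⟩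
    refine (Sieve.mem_ofArrows_iff _ _ _).2 ⟨k, g, ?_⟩
    rw [← Category.assoc, ← hg, Category.assoc, e.hom_inv_id, Category.comp_id]
  · let a : Fin 2 → ι := Fin.cases (ε.symm k) fun _ => ε.symm l
    exact ⟨_, hprod 1 a, nonempty_pair_iso e Y a⟩

include h1 h2 in
theorem preservesColimitsOfShape_sections {U : C} (hU : B' B U) :
    PreservesColimitsOfShape Λ
      (sheafToPresheaf J AddCommGrpCat.{u} ⋙ (evaluation Cᵒᵖ AddCommGrpCat.{u}).obj (op U)) :=
  EtFound.FilteredSectionsGen.preservesColimitsOfShape_sections_ab (hasFiniteRefinements B Cov h1 h2) hU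

include h1 h2 in
theorem exists_rep {U : C} (hU : B' B U) (D : Λ ⥤ Sheaf J AddCommGrpCat.{u})
    (x : (colimit D).obj.obj (op U)) :
    ∃ (i : Λ) (y : (D.obj i).obj.obj (op U)), ((colimit.ι D i).hom.app (op U)).hom y = x :=
  haveI := preservesColimitsOfShape_sections (Λ := Λ) B Cov h1 h2 hU
  Types.jointly_surjective _ (isColimitOfPreserves (CategoryTheory.forget AddCommGrpCat.{u}) (isColimitOfPreserves
    (sheafToPresheaf J AddCommGrpCat.{u} ⋙ (evaluation Cᵒᵖ AddCommGrpCat.{u}).obj (op U)) (colimit.isColimit D))) x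

include h1 h2 in
theorem exists_eq {U : C} (hU : B' B U) (D : Λ ⥤ Sheaf J AddCommGrpCat.{u}) (i : Λ)
    (y : (D.obj i).obj.obj (op U)) (hy : ((colimit.ι D i).hom.app (op U)).hom y = 0) :
    ∃ (j : Λ) (f : i ⟶ j), ((D.map f).hom.app (op U)).hom y = 0 := by
  haveI := preservesColimitsOfShape_sections (Λ := Λ) B Cov h1 h2 hU
  let G := sheafToPresheaf J AddCommGrpCat.{u} ⋙ (evaluation Cᵒᵖ AddCommGrpCat.{u}).obj (op U)
  haveI : PreservesColimitsOfShape Λ (CategoryTheory.forget AddCommGrpCat.{u}) := inferInstance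
  obtain ⟨j, f, g, h⟩ := (Types.FilteredColimit.isColimit_eq_iff _
    (isColimitOfPreserves (CategoryTheory.forget AddCommGrpCat.{u}) (isColimitOfPreserves G (colimit.isColimit D)))
    (i := i) (j := i) (xi := y) (xj := (0 : (D.obj i).obj.obj (op U)))).1
    (hy.trans (map_zero ((colimit.ι D i).hom.app (op U)).hom).symm)
  exact ⟨j, f, h.trans (map_zero ((D.map g).hom.app (op U)).hom)⟩

include h1 h2 in
/-- Degree zero. -/
theorem comm_zero {U : C} (hU : U ∈ B) (D : Λ ⥤ Sheaf J AddCommGrpCat.{u}) :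
    Comm (CohCx.freeSheaf J U) 0 D where
  surj x := by
    obtain ⟨φ, rfl⟩ := (Ext.mk₀_bijective _ _).2 x
    obtain ⟨i, y, hy⟩ := exists_rep B Cov h1 h2 (B'_of_mem B hU) D (secEquiv J U _ φ)
    refine ⟨i, Ext.mk₀ ((secEquiv J U _).symm y), ?_⟩
    rw [Ext.mk₀_comp_mk₀, secEquiv_symm_comp, hy, AddEquiv.symm_apply_apply]
  inj i y hy := by
    obtain ⟨φ, rfl⟩ := (Ext.mk₀_bijective _ _).2 y
    rw [Ext.mk₀_comp_mk₀, ← Ext.mk₀_zero] at hy
    obtain ⟨j, f, hf⟩ := exists_eq B Cov h1 h2 (B'_of_mem B hU) D i (secEquiv J U _ φ) (by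
      rw [← secEquiv_comp, (Ext.mk₀_bijective _ _).1 hy, map_zero])
    refine ⟨j, f, ?_⟩
    rw [Ext.mk₀_comp_mk₀, ← (secEquiv J U _).symm_apply_apply φ, secEquiv_symm_comp, hf, map_zero, Ext.mk₀_zero]

include h1 h2 in
/-- Cech exactness passes to filtered colimits on the coverings. -/
theorem exactAt_cech_colimit (D : Λ ⥤ Sheaf J AddCommGrpCat.{u}) (hD : ∀ i, Injective (D.obj i))
    {V : C} {ι : Type u} (Y : ι → Over V) (hY : Cov V ι Y) (p : ℕ) :
    (cechCx (Over.forget V) Y (colimit D)).ExactAt (p + 1) := by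
  obtain ⟨hfin, -, -, hprod⟩ := h1 V ι Y hY
  have hB : ∀ n (a : Fin (n + 1) → ι), B' B ((Over.forget V).obj (∏ᶜ fun k => Y (a k))) :=
    fun n a => B'_of_mem B (hprod n a)
  let F : Λ → (Over V)ᵒᵖ ⥤ AddCommGrpCat.{u} := fun i => (Over.forget V).op ⋙ (D.obj i).obj
  let K : (Over V)ᵒᵖ ⥤ AddCommGrpCat.{u} := (Over.forget V).op ⋙ (colimit D).obj
  let inj : ∀ i, F i ⟶ K := fun i => Functor.whiskerLeft (Over.forget V).op (colimit.ι D i).hom
  let tr : ∀ {i j : Λ} (f : i ⟶ j), F i ⟶ F j := fun f => Functor.whiskerLeft (Over.forget V).op (D.map f).hom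
  have trinj : ∀ {i j : Λ} (f : i ⟶ j), tr f ≫ inj j = inj i := fun {i j} f =>
    NatTrans.ext (funext fun T => congrArg (fun q => q.hom.app ((Over.forget V).op.obj T)) (colimit.w D f))
  have rep : ∀ (n : ℕ) (x : ((cechComplexFunctor Y).obj K).X n),
      ∃ (i : Λ) (y : ((cechComplexFunctor Y).obj (F i)).X n),
        (((cechComplexFunctor Y).map (inj i)).f n).hom y = x := fun n x => by
    classical
    haveI := Fintype.ofFinite ι
    choose ia ya hya using fun a => exists_rep B Cov h1 h2 (hB n a) D (cev Y K n a x)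
    obtain ⟨i, hi⟩ := IsFiltered.sup_objs_exists (Finset.univ.image ia)
    choose fa _ using fun a => (⟨(hi (Finset.mem_image_of_mem ia (Finset.mem_univ a))).some, trivial⟩ :
      ∃ _ : ia a ⟶ i, True)
    obtain ⟨y, hy⟩ := exists_cev Y (F i) (n := n) fun a => ((D.map (fa a)).hom.app _).hom (ya a)
    refine ⟨i, y, cev_ext Y K fun a => ?_⟩
    rw [cev_map, hy]
    exact (ConcreteCategory.congr_hom (congrArg (fun q => q.hom.app _) (colimit.w D (fa a))) (ya a)).trans (hya a)
  have kill : ∀ (n : ℕ) (i : Λ) (y : ((cechComplexFunctor Y).obj (F i)).X n),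
      (((cechComplexFunctor Y).map (inj i)).f n).hom y = 0 →
      ∃ (j : Λ) (f : i ⟶ j), (((cechComplexFunctor Y).map (tr f)).f n).hom y = 0 := fun n i y hy => by
    classical
    haveI := Fintype.ofFinite ι
    choose ja fa ha using fun a => exists_eq B Cov h1 h2 (hB n a) D i (cev Y (F i) n a y) (by
      refine (cev_map Y (F i) (inj i) n a y).symm.trans ?_
      rw [hy, map_zero])
    let H : Finset ((X : Λ) ×' (Z : Λ) ×' (_ : X ∈ insert i (Finset.univ.image ja)) ×'
        (_ : Z ∈ insert i (Finset.univ.image ja)) ×' (X ⟶ Z)) :=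
      Finset.univ.image fun a => ⟨i, ja a, Finset.mem_insert_self _ _,
        Finset.mem_insert_of_mem (Finset.mem_image_of_mem ja (Finset.mem_univ a)), fa a⟩
    obtain ⟨j, T, hT⟩ := IsFiltered.sup_exists (insert i (Finset.univ.image ja)) H
    refine ⟨j, T (Finset.mem_insert_self i _), cev_ext Y (F j) fun a => ?_⟩
    rw [cev_map, map_zero, ← hT (Finset.mem_insert_self i _)
      (Finset.mem_insert_of_mem (Finset.mem_image_of_mem ja (Finset.mem_univ a))) (f := fa a)
      (Finset.mem_image_of_mem _ (Finset.mem_univ a))]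
    refine (ConcreteCategory.congr_hom (congrArg (fun q : D.obj i ⟶ D.obj j => q.hom.app (op ((Over.forget V).obj (∏ᶜ fun k => Y (a k))))) (D.map_comp (fa a) _)) _).trans ?_
    refine (congrArg ((D.map (T (Finset.mem_insert_of_mem (Finset.mem_image_of_mem ja (Finset.mem_univ a))))).hom.app
      (op ((Over.forget V).obj (∏ᶜ fun k => Y (a k))))).hom (ha a)).trans ?_
    exact map_zero ((D.map (T (Finset.mem_insert_of_mem (Finset.mem_image_of_mem ja (Finset.mem_univ a))))).hom.app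
      (op ((Over.forget V).obj (∏ᶜ fun k => Y (a k))))).hom
  show ((cechComplexFunctor Y).obj K).ExactAt (p + 1)
  rw [((cechComplexFunctor Y).obj K).exactAt_iff' p (p + 1) (p + 1 + 1) (by simp) (by simp), ShortComplex.ab_exact_iff]
  intro (x : ((cechComplexFunctor Y).obj K).X (p + 1)) hx
  obtain ⟨i, x₀, rfl⟩ := rep (p + 1) x
  let d := fun i n => (((cechComplexFunctor Y).obj (F i)).d n (n + 1)).hom
  have h0 : (((cechComplexFunctor Y).map (inj i)).f (p + 1 + 1)).hom (d i (p + 1) x₀) = 0 :=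
    (ConcreteCategory.congr_hom (((cechComplexFunctor Y).map (inj i)).comm (p + 1) (p + 1 + 1)).symm x₀).trans hx
  obtain ⟨j, f, hf⟩ := kill (p + 1 + 1) i _ h0
  have hI := injAcyclic_over (J := J) Y (D.obj j) (hD j) p
  change ((cechComplexFunctor Y).obj (F j)).ExactAt (p + 1) at hI
  rw [((cechComplexFunctor Y).obj (F j)).exactAt_iff' p (p + 1) (p + 1 + 1) (by simp) (by simp),
    ShortComplex.ab_exact_iff] at hI
  obtain ⟨z, hz⟩ := hI ((((cechComplexFunctor Y).map (tr f)).f (p + 1)).hom x₀)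
    ((ConcreteCategory.congr_hom (((cechComplexFunctor Y).map (tr f)).comm (p + 1) (p + 1 + 1)) x₀).trans hf)
  refine ⟨(((cechComplexFunctor Y).map (inj j)).f p).hom z, ?_⟩
  refine (ConcreteCategory.congr_hom (((cechComplexFunctor Y).map (inj j)).comm p (p + 1)) z).trans ?_
  refine (congrArg (((cechComplexFunctor Y).map (inj j)).f (p + 1)).hom hz).trans ?_
  refine (ConcreteCategory.comp_apply _ _ x₀).symm.trans ?_
  rw [← HomologicalComplex.comp_f, ← Functor.map_comp, trinj]

include h1 h2 in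
/-- Colimits of injective sheaves are acyclic on the collection. -/
theorem subsingleton_HU_colimit (D : Λ ⥤ Sheaf J AddCommGrpCat.{u}) (hD : ∀ i, Injective (D.obj i))
    {U : C} (hU : U ∈ B) (n : ℕ) : Subsingleton (CohSite.HU (colimit D) (n + 1) U) :=
  let K : Type (u + 1) := {k : Σ (V : C) (ι : Type u), ι → Over V // Cov k.1 k.2.1 k.2.2}
  subsingleton_HU_of_cartan (K := K) (fun V => V ∈ B) (fun k => Over k.1.1) (fun k => Over.forget k.1.1)
    (fun k => k.1.2.1) (fun k => k.1.2.2) (fun k n a => (h1 _ _ _ k.2).2.2.2 n a)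
    (fun k => injAcyclic_over k.1.2.2)
    (fun V hV T hT => by
      obtain ⟨ι, Y, hY, hYT⟩ := h2 V hV T hT
      exact ⟨⟨⟨V, ι, Y⟩, hY⟩, ctxOver Y, (h1 _ _ _ hY).2.2.1, hYT⟩)
    (fun k p => exactAt_cech_colimit B Cov h1 h2 D hD k.1.2.2 k.2 p) hU n

include h1 h2 in
theorem comm_all {U : C} (hU : U ∈ B) : ∀ (q : ℕ) (D : Λ ⥤ Sheaf J AddCommGrpCat.{u}),
    Comm (CohCx.freeSheaf J U) q D
  | 0, D => comm_zero B Cov h1 h2 hU D
  | q + 1, D => comm_succ _ q (comm_all hU q) D
      (subsingleton_HU_colimit B Cov h1 h2 (cofreeInj D) (fun i => injective_cofreeInj D i) hU q)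

end Cov

/-- From elementwise commutation to preservation. -/
theorem preservesColimit_cohomology {U : C} (q : ℕ) (F : Λ ⥤ Sheaf J AddCommGrpCat.{u})
    (h : Comm (CohCx.freeSheaf J U) q F) :
    PreservesColimit F ((Sheaf.cohomologyPresheafFunctor J q).flip.obj (op U)) := by
  haveI := h.preservesColimit
  exact preservesColimit_of_natIso F (NatIso.ofComponents (fun F => Iso.refl _) (fun {F G} g => by
    ext x
    rfl) : (Abelian.extFunctor.{u} q).obj (op (CohCx.freeSheaf J U)) ≅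
      (Sheaf.cohomologyPresheafFunctor J q).flip.obj (op U))

end Groth.Agent.ColimCollection
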