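import Groth.Agent.SiteBase.SecGenOps
import Groth.Agent.SiteBase.ColimSec
import Mathlib.CategoryTheory.Limits.Types.Filtered

/-!
# Homomorphisms on the objects over an object, and their behaviour in filtered colimits
-/

set_option autoImplicit false
set_option backward.isDefEq.respectTransparency false
set_option linter.style.haveILetI false
set_option linter.unusedSectionVars false
set_option linter.unusedVariables false

universe u

open CategoryTheory CategoryTheory.Limits Opposite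
open Groth.Agent.ModTensor Groth.Agent.ModPull Groth.Agent.LocalFactor Groth.Agent.SecGen Groth.Agent.SecGenOps

noncomputable section

namespace Groth.Agent.LHomLib

variable {C : Type u} [SmallCategory C] {J : GrothendieckTopology C} {O : Sheaf J CommRingCat.{u}}

attribute [local instance] Pres.fκ Pres.fρ

/-- A linear natural family of maps of sections on the objects over `U`. -/
structure LHom (F M : ModSite.Mod O) (U : C) : Type u where
  app : ∀ ⦃W : C⦄, (W ⟶ U) → (((fg O).obj F).obj (op W) →ₗ[O.obj.obj (op W)] ((fg O).obj M).obj (op W))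
  nat : ∀ ⦃W' W : C⦄ (g : W' ⟶ W) (f : W ⟶ U) (x : ((fg O).obj F).obj (op W)),
    app (g ≫ f) (rs ((fg O).obj F) g.op x) = rs ((fg O).obj M) g.op (app f x)

variable {F M N : ModSite.Mod O} {U V : C}

lemma LHom.hext {τ σ : LHom F M U}
    (h : ∀ ⦃W : C⦄ (f : W ⟶ U) (x : ((fg O).obj F).obj (op W)), τ.app f x = σ.app f x) : τ = σ := by
  obtain ⟨a, ha⟩ := τ
  obtain ⟨b, hb⟩ := σ
  have e : a = b := funext fun W => funext fun f => LinearMap.ext (h f)
  subst e
  rfl

/-- Restriction. -/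
def LHom.res (τ : LHom F M U) (a : V ⟶ U) : LHom F M V where
  app _ f := τ.app (f ≫ a)
  nat _ _ g f x := by rw [Category.assoc]; exact τ.nat g (f ≫ a) x

lemma LHom.res_app (τ : LHom F M U) (a : V ⟶ U) {W : C} (f : W ⟶ V) (x : ((fg O).obj F).obj (op W)) :
    (τ.res a).app f x = τ.app (f ≫ a) x := rfl

lemma LHom.res_id (τ : LHom F M U) : τ.res (𝟙 U) = τ :=
  LHom.hext fun W f x => by rw [LHom.res_app, Category.comp_id]

lemma LHom.res_res (τ : LHom F M U) (a : V ⟶ U) {W : C} (b : W ⟶ V) : (τ.res a).res b = τ.res (b ≫ a) :=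
  LHom.hext fun W f x => by rw [LHom.res_app, LHom.res_app, LHom.res_app, Category.assoc]

/-- Composition with a morphism. -/
def LHom.post (τ : LHom F M U) (φ : M ⟶ N) : LHom F N U where
  app _ f := (((fg O).map φ).app _).hom.comp (τ.app f)
  nat W' W g f x := (congrArg (ap φ) (τ.nat g f x)).trans (ap_rs φ g (τ.app f x))

lemma LHom.post_app (τ : LHom F M U) (φ : M ⟶ N) {W : C} (f : W ⟶ U) (x : ((fg O).obj F).obj (op W)) :
    (τ.post φ).app f x = ap φ (τ.app f x) := rfl

lemma LHom.post_res (τ : LHom F M U) (φ : M ⟶ N) (a : V ⟶ U) : (τ.post φ).res a = (τ.res a).post φ := rfl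

lemma LHom.post_post {P : ModSite.Mod O} (τ : LHom F M U) (φ : M ⟶ N) (ψ : N ⟶ P) :
    (τ.post φ).post ψ = τ.post (φ ≫ ψ) :=
  LHom.hext fun W f x => by
    rw [LHom.post_app, LHom.post_app, LHom.post_app]
    show ((fg O).map ψ).app _ (((fg O).map φ).app _ _) = ((fg O).map (φ ≫ ψ)).app _ _
    rw [Functor.map_comp]
    rfl

/-- Difference. -/
def LHom.sub (τ σ : LHom F M U) : LHom F M U where
  app _ f := τ.app f - σ.app f
  nat W' W g f x := by
    show τ.app (g ≫ f) _ - σ.app (g ≫ f) _ = rs _ _ (τ.app f x - σ.app f x)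
    rw [τ.nat, σ.nat]
    exact (map_sub (((fg O).obj M).map g.op).hom _ _).symm

/-- The zero family. -/
def LHom.zero (F M : ModSite.Mod O) (U : C) : LHom F M U where
  app _ _ := 0
  nat W' W g f x := (map_zero (((fg O).obj M).map g.op).hom).symm

lemma LHom.sub_eq_zero {τ σ : LHom F M U} (h : τ.sub σ = LHom.zero F M U) : τ = σ :=
  LHom.hext fun W f x => _root_.sub_eq_zero.1 (congrArg (fun t : LHom F M U => t.app f x) h)

lemma LHom.sub_self (τ : LHom F M U) : τ.sub τ = LHom.zero F M U :=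
  LHom.hext fun W f x => _root_.sub_self _

lemma LHom.sub_post (τ σ : LHom F M U) (φ : M ⟶ N) : (τ.sub σ).post φ = (τ.post φ).sub (σ.post φ) :=
  LHom.hext fun W f x => map_sub (((fg O).map φ).app _).hom _ _

lemma LHom.zero_post (φ : M ⟶ N) : (LHom.zero F M U).post φ = LHom.zero F N U :=
  LHom.hext fun W f x => map_zero (((fg O).map φ).app _).hom

/-- The family of a morphism. -/
def LHom.ofHom (φ : F ⟶ M) (U : C) : LHom F M U where
  app W _ := (((fg O).map φ).app (op W)).hom
  nat _ _ g _ x := ap_rs φ g x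

lemma LHom.ofHom_res (φ : F ⟶ M) (a : V ⟶ U) : (LHom.ofHom φ U).res a = LHom.ofHom φ V := rfl

lemma LHom.ofHom_post (φ : F ⟶ M) (ψ : M ⟶ N) (U : C) : (LHom.ofHom φ U).post ψ = LHom.ofHom (φ ≫ ψ) U :=
  LHom.hext fun W f x => by
    show ((fg O).map ψ).app _ (((fg O).map φ).app _ _) = ((fg O).map (φ ≫ ψ)).app _ _
    rw [Functor.map_comp]
    rfl

lemma hom_ext_ofHom {φ ψ : F ⟶ M} (h : ∀ U, LHom.ofHom φ U = LHom.ofHom ψ U) : φ = ψ :=
  (fg O).map_injective (PresheafOfModules.hom_ext fun X => ModuleCat.hom_ext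
    (congrArg (fun t : LHom F M X.unop => t.app (𝟙 X.unop)) (h X.unop)))

/-- A compatible system of families is a morphism. -/
lemma exists_hom (τ : ∀ U, LHom F M U) (h : ∀ ⦃V U : C⦄ (a : V ⟶ U), (τ U).res a = τ V) :
    ∃ φ : F ⟶ M, ∀ U, LHom.ofHom φ U = τ U := by
  let ψ : (fg O).obj F ⟶ (fg O).obj M :=
    { app := fun X => ModuleCat.ofHom ((τ X.unop).app (𝟙 X.unop))
      naturality := fun {X Y} g => ModuleCat.hom_ext (LinearMap.ext fun x => by
        show (τ Y.unop).app (𝟙 Y.unop) (rs ((fg O).obj F) g x) = rs ((fg O).obj M) g ((τ X.unop).app (𝟙 X.unop) x)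
        rw [← h g.unop, LHom.res_app, Category.id_comp]
        conv_lhs => rw [← Category.comp_id g.unop]
        exact (τ X.unop).nat g.unop (𝟙 X.unop) x) }
  obtain ⟨φ, hφ⟩ := (fg O).map_surjective ψ
  refine ⟨φ, fun U => LHom.hext fun W f x => ?_⟩
  show ((fg O).map φ).app (op W) x = _
  rw [hφ]
  show (τ W).app (𝟙 W) x = _
  rw [← h f, LHom.res_app, Category.id_comp]

/-- Families are determined locally. -/
lemma LHom.ext_locally {τ σ : LHom F M U} (h : ModPull.Locally J U (fun V g => τ.res g = σ.res g)) : τ = σ := by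
  obtain ⟨S, hS, hSp⟩ := h
  refine LHom.hext fun W f x => eq_of_locally' M ⟨S.pullback f, J.pullback_stable f hS, fun V g hg => ?_⟩
  show rs ((fg O).obj M) g.op _ = rs ((fg O).obj M) g.op _
  rw [← τ.nat, ← σ.nat]
  have := congrArg (fun t : LHom F M V => t.app (𝟙 V) (rs ((fg O).obj F) g.op x)) (hSp (g ≫ f) hg)
  simpa only [LHom.res_app, Category.id_comp] using this

/-- Gluing of sections. -/
lemma existsUnique_amalgamation (M : ModSite.Mod O) {W : C} (S : Sieve W) (hS : S ∈ J W)
    (m : ∀ ⦃V : C⦄ (g : V ⟶ W), S g → ((fg O).obj M).obj (op V))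
    (hm : ∀ ⦃V' V : C⦄ (k : V' ⟶ V) (g : V ⟶ W) (hg : S g),
      m (k ≫ g) (S.downward_closed hg k) = rs ((fg O).obj M) k.op (m g hg)) :
    ∃! z : ((fg O).obj M).obj (op W), ∀ ⦃V : C⦄ (g : V ⟶ W) (hg : S g), rs ((fg O).obj M) g.op z = m g hg :=
  (((isSheaf_iff_isSheaf_of_type _ _).1
    ((Presheaf.isSheaf_iff_isSheaf_forget J ((fg O).obj M).presheaf (CategoryTheory.forget Ab.{u})).1 M.isSheaf)) S hS)
    (fun V g hg => m g hg) (Presieve.compatible_iff_sieveCompatible _ |>.2 fun V V' g k hg => hm k g hg)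

/-- Gluing of families. -/
lemma exists_glue (S : Sieve U) (hS : S ∈ J U) (τ : ∀ ⦃V : C⦄ (g : V ⟶ U), S g → LHom F M V)
    (hτ : ∀ ⦃V' V : C⦄ (k : V' ⟶ V) (g : V ⟶ U) (hg : S g),
      τ (k ≫ g) (S.downward_closed hg k) = (τ g hg).res k) :
    ∃ σ : LHom F M U, ∀ ⦃V : C⦄ (g : V ⟶ U) (hg : S g), σ.res g = τ g hg := by
  have h : ∀ (W : C) (f : W ⟶ U) (x : ((fg O).obj F).obj (op W)),
      ∃! z : ((fg O).obj M).obj (op W), ∀ ⦃V : C⦄ (g : V ⟶ W) (hg : (S.pullback f) g),
        rs ((fg O).obj M) g.op z = (τ (g ≫ f) hg).app (𝟙 V) (rs ((fg O).obj F) g.op x) := fun W f x => by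
    refine existsUnique_amalgamation M _ (J.pullback_stable f hS) _ fun V' V k g hg => ?_
    have e := hτ k (g ≫ f) hg
    rw [rs_op_comp]
    conv_rhs => rw [← (τ (g ≫ f) hg).nat k (𝟙 V)]
    have := congrArg (fun t : LHom F M V' => t.app (𝟙 V') (rs ((fg O).obj F) k.op (rs ((fg O).obj F) g.op x))) e
    simpa only [LHom.res_app, Category.id_comp, Category.comp_id, Category.assoc] using this
  choose z hz hu using h
  let σ : LHom F M U :=
    { app := fun W f =>
        { toFun := z W f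
          map_add' := fun x y => (hu W f (x + y) (z W f x + z W f y) fun V g hg => by
            rw [rs_add, rs_add, map_add, hz W f x g hg, hz W f y g hg]).symm
          map_smul' := fun r x => (hu W f (r • x) (r • z W f x) fun V g hg => by
            rw [rs_smul, rs_smul, LinearMap.map_smul, hz W f x g hg]).symm }
      nat := fun W' W a f x => (hu W' (a ≫ f) (rs ((fg O).obj F) a.op x) (rs ((fg O).obj M) a.op (z W f x))
        fun V g hg => by
          have hg' : (S.pullback f) (g ≫ a) := by simpa using hg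
          rw [← rs_op_comp, hz W f x (g ≫ a) hg', ← rs_op_comp]
          congr 3
          simp only [Category.assoc]).symm }
  refine ⟨σ, fun V g hg => LHom.hext fun W f x => ?_⟩
  rw [LHom.res_app]
  show z W (f ≫ g) x = _
  refine (hu W (f ≫ g) x _ fun V' k hk => ?_).symm
  have e := hτ (k ≫ f) g hg
  rw [← (τ g hg).nat k f]
  have := congrArg (fun t : LHom F M V' => t.app (𝟙 V') (rs ((fg O).obj F) k.op x)) e
  simp only [LHom.res_app, Category.id_comp] at this
  rw [← this]
  congr 3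
  simp only [Category.assoc]

lemma app_eq_of_gens {τ σ : LHom F M U} {κ : Type} [Fintype κ] {s : κ → ((fg O).obj F).obj (op U)} (hs : Gens F s)
    (h : ∀ i, τ.app (𝟙 U) (s i) = σ.app (𝟙 U) (s i)) : τ = σ := by
  refine LHom.hext fun W f x => eq_of_locally' M ((hs f x).mono fun V g hg => ?_)
  obtain ⟨c, hc⟩ := hg
  rw [← τ.nat, ← σ.nat, hc, map_sum, map_sum]
  refine Finset.sum_congr rfl fun i _ => ?_
  rw [map_smul, map_smul]
  refine congrArg (fun q => c i • q) ?_
  have e : ∀ ρ : LHom F M U,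
      ρ.app (g ≫ f) (rs ((fg O).obj F) (g ≫ f).op (s i)) = rs ((fg O).obj M) (g ≫ f).op (ρ.app (𝟙 U) (s i)) := by
    intro ρ
    have := ρ.nat (g ≫ f) (𝟙 U) (s i)
    rwa [Category.comp_id] at this
  rw [e τ, e σ, h i]

/-- Extension from presentation data. -/
theorem exists_lhom_of_pres (P : Pres O F U) (y : P.κ → ((fg O).obj M).obj (op U))
    (hy : ∀ j, ∑ i, P.A j i • y i = 0) : ∃ τ : LHom F M U, ∀ i, τ.app (𝟙 U) (P.s i) = y i := by
  classical
  have wd : ∀ {V : C} (a : V ⟶ U) (c c' : P.κ → O.obj.obj (op V)),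
      ∑ i, c i • rs ((fg O).obj F) a.op (P.s i) = ∑ i, c' i • rs ((fg O).obj F) a.op (P.s i) →
      ∑ i, c i • rs ((fg O).obj M) a.op (y i) = ∑ i, c' i • rs ((fg O).obj M) a.op (y i) := by
    intro V a c c' h
    refine _root_.sub_eq_zero.1 ?_
    rw [← Finset.sum_sub_distrib]
    simp only [← sub_smul]
    refine eq_of_locally' M ((P.exact a (fun i => c i - c' i) ?_).mono fun V' k hk => ?_)
    · simp only [sub_smul, Finset.sum_sub_distrib, h, _root_.sub_self]
    · obtain ⟨d, hd⟩ := hk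
      rw [show rs ((fg O).obj M) k.op (0 : ((fg O).obj M).obj (op V)) = 0 from map_zero _, rs_sum']
      simp only [hd, Finset.sum_smul, ← smul_smul]
      rw [Finset.sum_comm]
      refine Finset.sum_eq_zero fun j _ => ?_
      rw [← Finset.smul_sum]
      have e : ∑ i, (O.obj.map (k ≫ a).op).hom (P.A j i) • rs ((fg O).obj M) k.op (rs ((fg O).obj M) a.op (y i)) = 0 := by
        simp only [← rs_op_comp]
        rw [← rs_sum' (M := M) (k ≫ a), hy]
        exact map_zero _
      rw [e, smul_zero]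
  have h : ∀ (W : C) (f : W ⟶ U) (x : ((fg O).obj F).obj (op W)), ∃! z : ((fg O).obj M).obj (op W),
      ModPull.Locally J W (fun V g => ∃ c : P.κ → O.obj.obj (op V),
        rs ((fg O).obj F) g.op x = ∑ i, c i • rs ((fg O).obj F) (g ≫ f).op (P.s i) ∧
        rs ((fg O).obj M) g.op z = ∑ i, c i • rs ((fg O).obj M) (g ≫ f).op (y i)) := by
    intro W f x
    obtain ⟨S, hS, hSp⟩ := P.gen f x
    choose c hc using fun (V : C) (g : V ⟶ W) (hg : S g) => hSp g hg
    obtain ⟨z, hz, -⟩ := existsUnique_amalgamation M S hS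
      (fun V g hg => ∑ i, c V g hg i • rs ((fg O).obj M) (g ≫ f).op (y i)) (fun V' V k g hg => by
        rw [rs_sum']
        simp only [← rs_op_comp, ← Category.assoc]
        refine wd _ _ _ ?_
        rw [← hc V' (k ≫ g) (S.downward_closed hg k), rs_op_comp, hc V g hg, rs_sum']
        simp only [← rs_op_comp, ← Category.assoc])
    refine ⟨z, ⟨S, hS, fun V g hg => ⟨c V g hg, hc V g hg, hz g hg⟩⟩, fun z' hz' => ?_⟩
    refine eq_of_locally' M ((hz'.and ⟨S, hS, fun V g hg => hg⟩).mono fun V g hg => ?_)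
    obtain ⟨⟨c', h1, h2⟩, hgS⟩ := hg
    rw [h2, hz g hgS]
    exact wd _ _ _ (h1.symm.trans (hc V g hgS))
  choose z hz hu using h
  let τ : LHom F M U :=
    { app := fun W f =>
        { toFun := z W f
          map_add' := fun x x' => (hu W f (x + x') (z W f x + z W f x') (((hz W f x).and (hz W f x')).mono fun V g hg => by
            obtain ⟨⟨c, h1, h2⟩, ⟨c', h1', h2'⟩⟩ := hg
            exact ⟨fun i => c i + c' i, by simp only [add_smul, Finset.sum_add_distrib, rs_add, h1, h1'],
              by simp only [add_smul, Finset.sum_add_distrib, rs_add, h2, h2']⟩)).symm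
          map_smul' := fun r x => (hu W f (r • x) (r • z W f x) ((hz W f x).mono fun V g hg => by
            obtain ⟨c, h1, h2⟩ := hg
            exact ⟨fun i => (O.obj.map g.op).hom r * c i,
              by simp only [rs_smul, h1, Finset.smul_sum, smul_smul],
              by simp only [rs_smul, h2, Finset.smul_sum, smul_smul]⟩)).symm }
      nat := fun W' W a f x => (hu W' (a ≫ f) (rs ((fg O).obj F) a.op x) (rs ((fg O).obj M) a.op (z W f x)) (by
        obtain ⟨S, hS, hSp⟩ := hz W f x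
        refine ⟨S.pullback a, J.pullback_stable a hS, fun V g hg => ?_⟩
        obtain ⟨c, h1, h2⟩ := hSp (g ≫ a) hg
        refine ⟨c, ?_, ?_⟩
        · rw [← rs_op_comp, h1, Category.assoc]
        · rw [← rs_op_comp, h2, Category.assoc])).symm }
  refine ⟨τ, fun i => (hu U (𝟙 U) (P.s i) (y i) (ModPull.Locally.of_id fun V g =>
    ⟨fun k => if k = i then 1 else 0, ?_, ?_⟩)).symm⟩ <;>
  · rw [Finset.sum_eq_single i (fun b _ hb => by simp [hb]) (fun hb => absurd (Finset.mem_univ i) hb)]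
    simp [Category.comp_id]

section Colim

variable {Λ : Type u} [SmallCategory Λ] [IsFiltered Λ] {D : Λ ⥤ ModSite.Mod O} {c : Cocone D}

lemma exists_common_stage {ι : Type*} (s : Finset ι) {l : Λ} (P : ι → ∀ (l' : Λ), (l ⟶ l') → Prop)
    (hP : ∀ i ⦃a b : Λ⦄ (t : l ⟶ a) (r : a ⟶ b), P i a t → P i b (t ≫ r))
    (h : ∀ i ∈ s, ∃ (l' : Λ) (t : l ⟶ l'), P i l' t) : ∃ (l' : Λ) (t : l ⟶ l'), ∀ i ∈ s, P i l' t := by
  classical
  induction s using Finset.induction_on with
  | empty => exact ⟨l, 𝟙 l, fun i hi => absurd hi (Finset.notMem_empty i)⟩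
  | insert a s ha ih =>
    obtain ⟨l₁, t₁, h₁⟩ := h a (Finset.mem_insert_self a s)
    obtain ⟨l₂, t₂, h₂⟩ := ih fun i hi => h i (Finset.mem_insert_of_mem hi)
    obtain ⟨l₃, r₁, r₂, e⟩ := IsFiltered.span t₁ t₂
    refine ⟨l₃, t₁ ≫ r₁, fun i hi => ?_⟩
    rcases Finset.mem_insert.1 hi with rfl | hi
    · exact hP _ t₁ r₁ h₁
    · rw [e]
      exact hP i t₂ r₂ (h₂ i hi)

lemma ap_zero {M N : ModSite.Mod O} (φ : M ⟶ N) {W : C} : ap φ (0 : ((fg O).obj M).obj (op W)) = 0 :=
  map_zero (((fg O).map φ).app (op W)).hom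

lemma ap_comp {M N P : ModSite.Mod O} (φ : M ⟶ N) (ψ : N ⟶ P) {W : C} (x : ((fg O).obj M).obj (op W)) :
    ap ψ (ap φ x) = ap (φ ≫ ψ) x := by
  show ((fg O).map ψ).app _ (((fg O).map φ).app _ x) = ((fg O).map (φ ≫ ψ)).app _ x
  rw [Functor.map_comp]
  rfl

/-- Finitely many sections dying in the colimit die locally at a common stage. -/
lemma locally_exists_zero_stage (hc : IsColimit c) {ι : Type} [Fintype ι] {l : Λ}
    (y : ι → ((fg O).obj (D.obj l)).obj (op U)) (hy : ∀ i, ap (c.ι.app l) (y i) = 0) :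
    ModPull.Locally J U (fun V g => ∃ (l' : Λ) (t : l ⟶ l'),
      ∀ i, ap (D.map t) (rs ((fg O).obj (D.obj l)) g.op (y i)) = 0) := by
  refine (ModPull.Locally.forall_fintype fun i => ColimSec.locally_exists_zero hc (y i) (hy i)).mono fun V g hg => ?_
  obtain ⟨l', t, ht⟩ := exists_common_stage Finset.univ
    (fun i l' t => ap (D.map t) (rs ((fg O).obj (D.obj l)) g.op (y i)) = 0)
    (fun i a b t r h => by rw [Functor.map_comp, ← ap_comp, h, ap_zero]) (fun i _ => hg i)
  exact ⟨l', t, fun i => ht i (Finset.mem_univ i)⟩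

/-- A family killed in the colimit is locally killed at a stage. -/
theorem locally_zero (hc : IsColimit c) {κ : Type} [Fintype κ] {s : κ → ((fg O).obj F).obj (op U)} (hs : Gens F s)
    {l : Λ} (δ : LHom F (D.obj l) U) (hδ : δ.post (c.ι.app l) = LHom.zero F c.pt U) :
    ModPull.Locally J U (fun V g => ∃ (l' : Λ) (t : l ⟶ l'),
      (δ.res g).post (D.map t) = LHom.zero F (D.obj l') V) := by
  refine (locally_exists_zero_stage hc (fun i => δ.app (𝟙 U) (s i))
    fun i => congrArg (fun τ : LHom F c.pt U => τ.app (𝟙 U) (s i)) hδ).mono fun V g hg => ?_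
  obtain ⟨l', t, ht⟩ := hg
  refine ⟨l', t, app_eq_of_gens (hs.pull g) fun i => ?_⟩
  rw [LHom.post_app, LHom.res_app, Category.id_comp]
  have e := δ.nat g (𝟙 U) (s i)
  rw [Category.comp_id] at e
  rw [e]
  exact ht i

/-- A family to the colimit comes locally from a stage. -/
theorem locally_lift (hc : IsColimit c) (P : Pres O F U) (φ : LHom F c.pt U) :
    ModPull.Locally J U (fun V g => ∃ (l : Λ) (ψ : LHom F (D.obj l) V), ψ.post (c.ι.app l) = φ.res g) := by
  classical
  refine (ModPull.Locally.forall_fintype fun i => ColimSec.locally_exists_rep hc (φ.app (𝟙 U) (P.s i))).bind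
    fun V g hg => ?_
  choose l y hy using hg
  let l₀ : Λ := IsFiltered.nonempty.some
  obtain ⟨m, hm⟩ := IsFiltered.sup_objs_exists (insert l₀ (Finset.univ.image l))
  let r : ∀ i, l i ⟶ m := fun i =>
    (hm (Finset.mem_insert_of_mem (Finset.mem_image_of_mem l (Finset.mem_univ i)))).some
  let y' : P.κ → ((fg O).obj (D.obj m)).obj (op V) := fun i => ap (D.map (r i)) (y i)
  have hy' : ∀ i, ap (c.ι.app m) (y' i) = rs ((fg O).obj c.pt) g.op (φ.app (𝟙 U) (P.s i)) := fun i => by
    rw [ap_comp, c.w]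
    exact hy i
  have hφ : ∀ i, φ.app g (rs ((fg O).obj F) g.op (P.s i)) = rs ((fg O).obj c.pt) g.op (φ.app (𝟙 U) (P.s i)) := fun i => by
    have := φ.nat g (𝟙 U) (P.s i)
    rwa [Category.comp_id] at this
  let Q := presPull P g
  refine (locally_exists_zero_stage hc (fun j => ∑ i, Q.A j i • y' i) fun j => ?_).mono fun V' k hk => ?_
  · rw [ap_sum]
    simp only [hy', ← hφ]
    refine Eq.trans ?_ ((congrArg (φ.app g) (Q.rel j)).trans (map_zero _))
    rw [map_sum]
    exact Finset.sum_congr rfl fun i _ => (map_smul (φ.app g) _ _).symm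
  · obtain ⟨l', t, ht⟩ := hk
    let R := presPull Q k
    obtain ⟨ψ, hψ⟩ := exists_lhom_of_pres R (fun i => ap (D.map t) (rs ((fg O).obj (D.obj m)) k.op (y' i))) fun j => by
      have := ht j
      rwa [rs_sum', ap_sum] at this
    refine ⟨l', ψ, app_eq_of_gens (s := R.s) R.gen fun i => ?_⟩
    rw [LHom.post_app, hψ, ap_comp, c.w, ap_rs, hy', LHom.res_app, Category.id_comp]
    show _ = φ.app (k ≫ g) (rs ((fg O).obj F) k.op (rs ((fg O).obj F) g.op (P.s i)))
    rw [φ.nat, hφ]
    rfl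

end Colim

end Groth.Agent.LHomLib
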