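import Groth.Agent.SiteBase.NerveCech

/-!
# Totally acyclic sheaves: extension along monomorphisms of sheaves of sets
-/

universe u

open CategoryTheory CategoryTheory.Limits Opposite Abelian

namespace Groth.Agent.SiteBase

variable {C : Type u} [SmallCategory C] {J : GrothendieckTopology C}

lemma mono_free_map {Y X : Sheaf J (Type u)} (ι : Y ⟶ X) [Mono ι] :
    Mono ((Sheaf.composeAndSheafify J AddCommGrpCat.free.{u}).map ι) := by
  have h1 : Mono ((sheafToPresheaf J (Type u)).map ι) := inferInstance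
  have h2 : ∀ T, Mono ((Functor.whiskerRight ι.hom AddCommGrpCat.free.{u}).app T) := fun T => by
    have : Mono (ι.hom.app T) := (NatTrans.mono_iff_mono_app _).1 h1 T
    exact AddCommGrpCat.free.{u}.map_mono _
  have : Mono (Functor.whiskerRight ι.hom AddCommGrpCat.free.{u}) := NatTrans.mono_of_mono_app _
  exact (presheafToSheaf J AddCommGrpCat.{u}).map_mono _

/-- Maps out of the free sheaf on a subsheaf of sets extend, into a totally acyclic sheaf. -/
theorem exists_extend_of_isTotallyAcyclic {F : Sheaf J AddCommGrpCat.{u}}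
    (hF : CohCx.IsTotallyAcyclic F) {Y X : Sheaf J (Type u)} (ι : Y ⟶ X) [Mono ι]
    (φ : freeSh Y ⟶ F) :
    ∃ ψ : freeSh X ⟶ F, (Sheaf.composeAndSheafify J AddCommGrpCat.free.{u}).map ι ≫ ψ = φ := by
  let Φ := Sheaf.composeAndSheafify J AddCommGrpCat.free.{u}
  have := mono_free_map ι
  let S := ShortComplex.mk (Φ.map ι) (cokernel.π (Φ.map ι)) (cokernel.condition _)
  have hS : S.ShortExact :=
    { exact := ShortComplex.exact_of_g_is_cokernel _ (cokernelIsCokernel _)
      mono_f := inferInstanceAs (Mono (Φ.map ι))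
      epi_g := inferInstanceAs (Epi (cokernel.π (Φ.map ι))) }
  have : Φ.IsLeftAdjoint := (Sheaf.adjunction J AddCommGrpCat.adj).isLeftAdjoint
  have hP := (IsPushout.of_hasPushout ι ι).map Φ
  let r : freeSh (pushout ι ι) ⟶ cokernel (Φ.map ι) :=
    hP.desc (cokernel.π (Φ.map ι)) 0 (by rw [cokernel.condition, comp_zero])
  let i : cokernel (Φ.map ι) ⟶ freeSh (pushout ι ι) :=
    cokernel.desc (Φ.map ι) (Φ.map (pushout.inl ι ι) - Φ.map (pushout.inr ι ι))
      (by rw [Preadditive.comp_sub, hP.w, sub_self])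
  have hir : i ≫ r = 𝟙 _ := by
    rw [← cancel_epi (cokernel.π (Φ.map ι)), cokernel.π_desc_assoc, Preadditive.sub_comp,
      hP.inl_desc, hP.inr_desc, sub_zero, Category.comp_id]
  have h1 : Subsingleton (Ext S.X₃ F 1) := by
    refine subsingleton_of_forall_eq 0 fun x => ?_
    have h : (Ext.mk₀ r).comp x (zero_add 1) = 0 := (hF (pushout ι ι) 0).elim _ _
    have := congrArg (fun e => (Ext.mk₀ i).comp e (zero_add 1)) h
    rw [Ext.mk₀_comp_mk₀_assoc, hir, Ext.mk₀_id_comp, Ext.comp_zero] at this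
    exact this
  obtain ⟨y, hy⟩ := Ext.contravariant_sequence_exact₁ hS F (Ext.mk₀ φ) (n₁ := 1) rfl (h1.elim _ _)
  obtain ⟨ψ, rfl⟩ := (Ext.mk₀_bijective S.X₂ F).2 y
  rw [Ext.mk₀_comp_mk₀] at hy
  exact ⟨ψ, (Ext.mk₀_bijective _ _).1 hy⟩

/-- Sections over a monomorphism extend. -/
theorem sections_surjective_of_mono_acyclic {F : Sheaf J AddCommGrpCat.{u}} (hF : CohCx.IsTotallyAcyclic F)
    {U U' : C} (a : U' ⟶ U) [Mono a] : Function.Surjective (F.obj.map a.op).hom := by
  intro s
  let Φ := sheafCompose J (CategoryTheory.forget AddCommGrpCat.{u})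
  let ι : hSheaf J U' ⟶ hSheaf J U := (presheafToSheaf J (Type u)).map (yoneda.map a)
  have : Mono ι := (presheafToSheaf J (Type u)).map_mono _
  obtain ⟨ψ, hψ⟩ := exists_extend_of_isTotallyAcyclic hF ι
    ((freeShEquiv (hSheaf J U') F).symm ((secT U' (Φ.obj F)).symm s))
  have h : ι ≫ freeShEquiv (hSheaf J U) F ψ = (secT U' (Φ.obj F)).symm s :=
    (freeShEquiv_precomp ι ψ).symm.trans ((congrArg _ hψ).trans (Equiv.apply_symm_apply _ _))
  refine ⟨secT U (Φ.obj F) (freeShEquiv (hSheaf J U) F ψ), ?_⟩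
  refine Eq.trans ?_ ((congrArg (secT U' (Φ.obj F)) h).trans (Equiv.apply_symm_apply _ _))
  refine Eq.trans ?_ (congrArg yonedaEquiv ((sheafificationAdjunction J (Type u)).homEquiv_naturality_left
    (yoneda.map a) (freeShEquiv (hSheaf J U) F ψ))).symm
  exact yonedaEquiv_naturality (F := (Φ.obj F).obj)
    ((sheafificationAdjunction J (Type u)).homEquiv (yoneda.obj U) (Φ.obj F) (freeShEquiv (hSheaf J U) F ψ)) a

end Groth.Agent.SiteBase
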