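import Groth.Agent.SiteBase.FlatMor
import Mathlib.Topology.Sheaves.Stalks
import Mathlib.RingTheory.Flat.EquationalCriterion
import Mathlib.Algebra.Category.Ring.FilteredColimits
import Mathlib.RingTheory.RingHom.Flat

/-!
# Flat maps of stalks lift relations
-/

universe u

open CategoryTheory CategoryTheory.Limits Opposite TopologicalSpace
open Groth.Agent.ModTensor Groth.Agent.ModPull

namespace Groth.Agent.SiteBase

/-- Finitely many germs are defined on a common open. -/
lemma exists_common_open {X : TopCat.{u}} (F : TopCat.Presheaf CommRingCat.{u} X) (x : X) {ι : Type} [Finite ι]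
    (s : ι → F.stalk x) :
    ∃ (U : Opens X) (hx : x ∈ U) (t : ι → F.obj (op U)), ∀ i, F.germ U x hx (t i) = s i := by
  classical
  have := Fintype.ofFinite ι
  choose U hU t ht using fun i => F.exists_germ_eq (s i)
  let V : Opens X := Finset.univ.inf U
  have hV : x ∈ V := by
    show x ∈ ((Finset.univ.inf U : Opens X) : Set X)
    rw [Opens.coe_finset_inf]
    simp only [Finset.inf_set_eq_iInter, Function.comp_apply, Set.mem_iInter, SetLike.mem_coe]
    exact fun i _ => hU i
  refine ⟨V, hV, fun i => F.map (homOfLE (Finset.inf_le (Finset.mem_univ i) : V ≤ U i)).op (t i), fun i => ?_⟩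
  exact (F.germ_res_apply (homOfLE _) x hV (t i)).trans (ht i)

/-- Finitely many equalities of germs hold on a common open. -/
lemma exists_common_open_eq {X : TopCat.{u}} (F : TopCat.Presheaf CommRingCat.{u} X) {U : Opens X} (x : X) (hx : x ∈ U)
    {ι : Type} [Finite ι] (s t : ι → F.obj (op U)) (h : ∀ i, F.germ U x hx (s i) = F.germ U x hx (t i)) :
    ∃ (V : Opens X) (g : V ⟶ U), x ∈ V ∧ ∀ i, F.map g.op (s i) = F.map g.op (t i) := by
  classical
  have := Fintype.ofFinite ι
  choose W hW iU iV hW' using fun i => F.germ_eq x hx hx (s i) (t i) (h i)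
  let V : Opens X := U ⊓ Finset.univ.inf W
  refine ⟨V, homOfLE inf_le_left, ⟨hx, ?_⟩, fun i => ?_⟩
  · show x ∈ ((Finset.univ.inf W : Opens X) : Set X)
    rw [Opens.coe_finset_inf]
    simp only [Finset.inf_set_eq_iInter, Function.comp_apply, Set.mem_iInter, SetLike.mem_coe]
    exact fun i _ => hW i
  · have hle : V ≤ W i := inf_le_right.trans (Finset.inf_le (Finset.mem_univ i))
    have key := congrArg (F.map (homOfLE hle).op) (hW' i)
    rw [← ConcreteCategory.comp_apply, ← ConcreteCategory.comp_apply, ← F.map_comp, ← F.map_comp] at key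
    exact key

theorem relLift_of_flat_stalks {X Y : TopCat.{u}} (f : X ⟶ Y) (O_X : TopCat.Sheaf CommRingCat.{u} X)
    (O_Y : TopCat.Sheaf CommRingCat.{u} Y)
    (c : O_Y ⟶ ((Opens.map f).sheafPushforwardContinuous CommRingCat.{u}
      (Opens.grothendieckTopology Y) (Opens.grothendieckTopology X)).obj O_X)
    (hflat : ∀ x : X, ((TopCat.Presheaf.stalkFunctor CommRingCat.{u} (f x)).map
        (show O_Y.presheaf ⟶ (TopCat.Presheaf.pushforward CommRingCat.{u} f).obj O_X.presheaf from c.hom) ≫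
      TopCat.Presheaf.stalkPushforward CommRingCat.{u} f O_X.presheaf x).hom.Flat) :
    RelLift (ModSite.RMor.ofFlat (Opens.map f) c) (ModSite.unit O_X) := by
  classical
  intro W V h σ Y' _ _ cc a hrel
  let a₀ : σ → O_X.obj.obj (op W) := a
  have hrel' : ∀ y, ∑ l, (O_X.obj.map h.op).hom ((c.hom.app (op V)).hom (cc l y)) * a₀ l = 0 := hrel
  let Good : ∀ ⦃W' : Opens X⦄, (W' ⟶ W) → Prop := fun W' g =>
    ∃ (V' : Opens Y) (d : V' ⟶ V) (h' : W' ⟶ (Opens.map f).obj V') (n : ℕ)
      (N : σ → Fin n → O_Y.obj.obj (op V')) (b : Fin n → O_X.obj.obj (op W')),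
      h' ≫ (Opens.map f).map d = g ≫ h ∧
      (∀ l, (O_X.obj.map g.op).hom (a₀ l) = ∑ j, (O_X.obj.map h'.op).hom ((c.hom.app (op V')).hom (N l j)) * b j) ∧
      ∀ j y, ∑ l, N l j * (O_Y.obj.map d.op).hom (cc l y) = 0
  have key : ∀ x ∈ W, ∃ (W' : Opens X) (g : W' ⟶ W), x ∈ W' ∧ Good g := by
    intro x hx
    have hxV : f x ∈ V := leOfHom h hx
    let φ := ((TopCat.Presheaf.stalkFunctor CommRingCat.{u} (f x)).map
        (show O_Y.presheaf ⟶ (TopCat.Presheaf.pushforward CommRingCat.{u} f).obj O_X.presheaf from c.hom) ≫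
      TopCat.Presheaf.stalkPushforward CommRingCat.{u} f O_X.presheaf x)
    have hφ : ∀ (V' : Opens Y) (hV' : f x ∈ V') (r : O_Y.obj.obj (op V')),
        φ.hom (O_Y.presheaf.germ V' (f x) hV' r) =
          O_X.presheaf.germ ((Opens.map f).obj V') x hV' ((c.hom.app (op V')).hom r) := by
      intro V' hV' r
      refine (congrArg (fun z => (TopCat.Presheaf.stalkPushforward CommRingCat.{u} f O_X.presheaf x).hom z)
        (TopCat.Presheaf.stalkFunctor_map_germ_apply V' (f x) hV'
          (show O_Y.presheaf ⟶ (TopCat.Presheaf.pushforward CommRingCat.{u} f).obj O_X.presheaf from c.hom) r)).trans ?_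
      exact TopCat.Presheaf.stalkPushforward_germ_apply CommRingCat.{u} f O_X.presheaf V' x hV' _
    letI : Algebra (O_Y.presheaf.stalk (f x)) (O_X.presheaf.stalk x) := φ.hom.toAlgebra
    have : Module.Flat (O_Y.presheaf.stalk (f x)) (O_X.presheaf.stalk x) := hflat x
    let C₀ : (Y' → O_Y.presheaf.stalk (f x)) →ₗ[O_Y.presheaf.stalk (f x)] (σ → O_Y.presheaf.stalk (f x)) :=
      LinearMap.pi fun l => ∑ y, (O_Y.presheaf.germ V (f x) hxV (cc l y)) • LinearMap.proj y
    let ξ : (σ → O_Y.presheaf.stalk (f x)) →ₗ[O_Y.presheaf.stalk (f x)] O_X.presheaf.stalk x :=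
      ∑ l, (LinearMap.proj l).smulRight (O_X.presheaf.germ W x hx (a₀ l))
    have h0 : ξ ∘ₗ C₀ = 0 := by
      refine LinearMap.ext fun v => ?_
      simp only [ξ, C₀, LinearMap.comp_apply, LinearMap.zero_apply, LinearMap.sum_apply, LinearMap.smulRight_apply,
        LinearMap.proj_apply, LinearMap.pi_apply, LinearMap.smul_apply, smul_eq_mul, Algebra.smul_def, map_sum,
        map_mul, Finset.sum_mul]
      rw [Finset.sum_comm]
      refine Finset.sum_eq_zero fun y _ => ?_
      have := congrArg (O_X.presheaf.germ W x hx) (hrel' y)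
      rw [map_sum, map_zero] at this
      refine Eq.trans ?_ ((congrArg (φ.hom (v y) * ·) this).trans (mul_zero _))
      rw [Finset.mul_sum]
      refine Finset.sum_congr rfl fun l _ => ?_
      have e : O_X.presheaf.germ W x hx ((O_X.obj.map h.op).hom ((c.hom.app (op V)).hom (cc l y))) =
          φ.hom (O_Y.presheaf.germ V (f x) hxV (cc l y)) :=
        (O_X.presheaf.germ_res_apply h x hx _).trans (hφ V hxV _).symm
      rw [map_mul, e]
      show φ.hom _ * φ.hom _ * _ = _
      ring
    obtain ⟨n, α, β, hαβ, hαC⟩ := Module.Flat.exists_factorization_of_comp_eq_zero_of_free h0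
    let N₀ : σ → Fin n → O_Y.presheaf.stalk (f x) := fun l j => α (Pi.single l 1) j
    let b₀ : Fin n → O_X.presheaf.stalk x := fun j => β (Finsupp.single j 1)
    have hb₀ : ∀ l, O_X.presheaf.germ W x hx (a₀ l) = ∑ j, φ.hom (N₀ l j) * b₀ j := by
      intro l
      have := LinearMap.congr_fun hαβ (Pi.single l 1)
      simp only [ξ, LinearMap.sum_apply, LinearMap.smulRight_apply, LinearMap.proj_apply, Pi.single_apply,
        ite_smul, one_smul, zero_smul, Finset.sum_ite_eq', Finset.mem_univ, if_true, LinearMap.comp_apply] at this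
      rw [this]
      conv_lhs => rw [← Finsupp.univ_sum_single (α (Pi.single l 1))]
      rw [map_sum]
      refine Finset.sum_congr rfl fun j _ => ?_
      rw [← Finsupp.smul_single_one, map_smul, Algebra.smul_def]
      rfl
    have hN₀ : ∀ j y, ∑ l, N₀ l j * O_Y.presheaf.germ V (f x) hxV (cc l y) = 0 := by
      intro j y
      have := congrArg (fun t : Fin n →₀ _ => t j) (LinearMap.congr_fun hαC (Pi.single y 1))
      simp only [LinearMap.comp_apply, LinearMap.zero_apply, Finsupp.coe_zero, Pi.zero_apply] at this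
      refine Eq.trans ?_ this
      conv_rhs => rw [← Finset.univ_sum_single (C₀ (Pi.single y 1)), map_sum, Finsupp.finsetSum_apply]
      refine Finset.sum_congr rfl fun l _ => ?_
      have e : C₀ (Pi.single y 1) l = O_Y.presheaf.germ V (f x) hxV (cc l y) := by
        simp [C₀, LinearMap.sum_apply, Pi.single_apply]
      rw [show (Pi.single l (C₀ (Pi.single y 1) l) : σ → O_Y.presheaf.stalk (f x)) =
        C₀ (Pi.single y 1) l • Pi.single l 1 from by rw [← Pi.single_smul', smul_eq_mul, mul_one],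
        map_smul, Finsupp.smul_apply, smul_eq_mul, e, mul_comm]
    obtain ⟨V₁, hV₁, N₁, hN₁⟩ := exists_common_open O_Y.presheaf (f x) (fun p : σ × Fin n => N₀ p.1 p.2)
    obtain ⟨W₁, hW₁, b₁, hb₁⟩ := exists_common_open O_X.presheaf x b₀
    let V₂ := V₁ ⊓ V
    have hV₂ : f x ∈ V₂ := ⟨hV₁, hxV⟩
    let N₂ : σ → Fin n → O_Y.obj.obj (op V₂) := fun l j =>
      (O_Y.obj.map (homOfLE inf_le_left : V₂ ⟶ V₁).op).hom (N₁ (l, j))
    have hN₂ : ∀ l j, O_Y.presheaf.germ V₂ (f x) hV₂ (N₂ l j) = N₀ l j := fun l j =>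
      (O_Y.presheaf.germ_res_apply _ (f x) hV₂ _).trans (hN₁ (l, j))
    obtain ⟨V₃, d₃, hV₃, hd₃⟩ := exists_common_open_eq O_Y.presheaf (f x) hV₂
      (fun p : Fin n × Y' => ∑ l, N₂ l p.1 * (O_Y.obj.map (homOfLE inf_le_right : V₂ ⟶ V).op).hom (cc l p.2))
      (fun _ => 0) (fun p => by
        rw [map_sum, map_zero]
        refine Eq.trans (Finset.sum_congr rfl fun l _ => ?_) (hN₀ p.1 p.2)
        rw [map_mul, hN₂]
        exact congrArg _ (O_Y.presheaf.germ_res_apply _ (f x) hV₂ _))
    let W₂ : Opens X := W ⊓ W₁ ⊓ (Opens.map f).obj V₃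
    have hW₂ : x ∈ W₂ := ⟨⟨hx, hW₁⟩, hV₃⟩
    let h₂ : W₂ ⟶ (Opens.map f).obj V₃ := homOfLE inf_le_right
    let N₃ : σ → Fin n → O_Y.obj.obj (op V₃) := fun l j => (O_Y.obj.map d₃.op).hom (N₂ l j)
    let b₂ : Fin n → O_X.obj.obj (op W₂) := fun j =>
      (O_X.obj.map (homOfLE (inf_le_left.trans inf_le_right) : W₂ ⟶ W₁).op).hom (b₁ j)
    obtain ⟨W₃, g₃, hW₃, hg₃⟩ := exists_common_open_eq O_X.presheaf x hW₂
      (fun l => (O_X.obj.map (homOfLE (inf_le_left.trans inf_le_left) : W₂ ⟶ W).op).hom (a₀ l))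
      (fun l => ∑ j, (O_X.obj.map h₂.op).hom ((c.hom.app (op V₃)).hom (N₃ l j)) * b₂ j) (fun l => by
        refine (O_X.presheaf.germ_res_apply _ x hW₂ _).trans ((hb₀ l).trans ?_)
        rw [map_sum]
        refine Finset.sum_congr rfl fun j _ => ?_
        rw [map_mul]
        refine congrArg₂ (· * ·) ?_ (((O_X.presheaf.germ_res_apply _ x hW₂ _).trans (hb₁ j)).symm)
        refine Eq.trans ?_ ((O_X.presheaf.germ_res_apply h₂ x hW₂ _).trans (hφ V₃ hV₃ _).symm).symm
        exact congrArg φ.hom ((O_Y.presheaf.germ_res_apply d₃ (f x) hV₃ _).trans (hN₂ l j)).symm)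
    refine ⟨W₃, g₃ ≫ homOfLE (inf_le_left.trans inf_le_left), hW₃, V₃, d₃ ≫ homOfLE inf_le_right, g₃ ≫ h₂, n, N₃,
      fun j => (O_X.obj.map g₃.op).hom (b₂ j), Subsingleton.elim _ _, fun l => ?_, fun j y => ?_⟩
    · rw [op_comp, O_X.obj.map_comp]
      refine (hg₃ l).trans ?_
      rw [map_sum]
      refine Finset.sum_congr rfl fun j _ => ?_
      rw [map_mul]
      refine congrArg (· * _) ?_
      rw [op_comp, O_X.obj.map_comp]
      rfl
    · have := hd₃ (j, y)
      rw [map_sum, map_zero] at this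
      refine Eq.trans (Finset.sum_congr rfl fun l _ => ?_) this
      rw [map_mul, op_comp, O_Y.obj.map_comp]
      rfl
  let T : Sieve W :=
    { arrows := fun W' g => Good g
      downward_closed := by
        rintro W' W'' g ⟨V', d, h', n, N, b, e, hb, hN⟩ k
        refine ⟨V', d, k ≫ h', n, N, fun j => (O_X.obj.map k.op).hom (b j), Subsingleton.elim _ _, fun l => ?_, hN⟩
        rw [op_comp, O_X.obj.map_comp]
        refine (congrArg (O_X.obj.map k.op).hom (hb l)).trans ?_
        rw [map_sum]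
        refine Finset.sum_congr rfl fun j _ => ?_
        rw [map_mul]
        refine congrArg (· * _) ?_
        rw [op_comp, O_X.obj.map_comp]
        rfl }
  refine ⟨T, fun x hx => ?_, fun W' g hg => hg⟩
  obtain ⟨W', g, hxW', hg⟩ := key x hx
  exact ⟨W', g, hg, hxW'⟩

end Groth.Agent.SiteBase
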