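import Groth.Agent.SiteBase.ExtByZero
import Groth.Agent.SiteBase.Sections
import Groth.Agent.H9Misc.SerreDerived
import Mathlib.CategoryTheory.Localization.Adjunction
import Mathlib.CategoryTheory.Adjunction.Additive
import Groth.Prelude.Def_CohCx

/-!
Hypercohomology on an open subspace.
-/

set_option autoImplicit false

universe w w' v v' u u'

open CategoryTheory CategoryTheory.Limits TopologicalSpace Opposite

noncomputable section

namespace Groth.Agent.HDURestr

lemma iso_of_natural_equiv {C : Type u} [Category.{v} C] {P Q : C}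
    (α : ∀ G : C, (P ⟶ G) ≃ (Q ⟶ G))
    (hα : ∀ {G G' : C} (φ : P ⟶ G) (g : G ⟶ G'), α G' (φ ≫ g) = α G φ ≫ g) : Nonempty (P ≅ Q) := by
  have hsymm : ∀ {G G' : C} (ψ : Q ⟶ G) (g : G ⟶ G'), (α G').symm (ψ ≫ g) = (α G).symm ψ ≫ g := by
    intro G G' ψ g
    rw [Equiv.symm_apply_eq, hα, Equiv.apply_symm_apply]
  exact ⟨{ hom := (α Q).symm (𝟙 Q)
           inv := α P (𝟙 P)
           hom_inv_id := by rw [← hsymm, Category.id_comp, Equiv.symm_apply_apply]
           inv_hom_id := by rw [← hα, Category.id_comp, Equiv.apply_symm_apply] }⟩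

section Derived

variable {A : Type u} [Category.{v} A] [Abelian A] [HasDerivedCategory.{w} A]
  {B : Type u'} [Category.{v'} B] [Abelian B] [HasDerivedCategory.{w'} B]
  {L : A ⥤ B} {R : B ⥤ A} (adj : L ⊣ R) [L.Additive] [R.Additive]
  [PreservesFiniteLimits L] [PreservesFiniteColimits L]
  [PreservesFiniteLimits R] [PreservesFiniteColimits R]

/-- An adjunction between exact functors induces an adjunction of derived categories. -/
def derivedAdj : L.mapDerivedCategory ⊣ R.mapDerivedCategory :=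
  letI : CatCommSq (L.mapHomotopyCategory (ComplexShape.up ℤ)) DerivedCategory.Qh DerivedCategory.Qh
      L.mapDerivedCategory := ⟨L.mapDerivedCategoryFactorsh.symm⟩
  letI : CatCommSq (R.mapHomotopyCategory (ComplexShape.up ℤ)) DerivedCategory.Qh DerivedCategory.Qh
      R.mapDerivedCategory := ⟨R.mapDerivedCategoryFactorsh.symm⟩
  (H9Misc.SerreDerived.adjHtpy (ComplexShape.up ℤ) adj).localization
    DerivedCategory.Qh (HomotopyCategory.quasiIso A (ComplexShape.up ℤ))
    DerivedCategory.Qh (HomotopyCategory.quasiIso B (ComplexShape.up ℤ))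
    L.mapDerivedCategory R.mapDerivedCategory

include adj in
theorem nonempty_hom_addEquiv (P : A) (Q : B) (e : L.obj P ≅ Q) (K : DerivedCategory B) (p : ℤ) :
    Nonempty (((DerivedCategory.singleFunctor B 0).obj Q ⟶ K⟦p⟧) ≃+
      ((DerivedCategory.singleFunctor A 0).obj P ⟶ (R.mapDerivedCategory.obj K)⟦p⟧)) := by
  let e' : L.mapDerivedCategory.obj ((DerivedCategory.singleFunctor A 0).obj P) ≅
      (DerivedCategory.singleFunctor B 0).obj Q :=
    (L.mapDerivedCategorySingleFunctor 0).app P ≪≫ (DerivedCategory.singleFunctor B 0).mapIso e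
  let c : R.mapDerivedCategory.obj (K⟦p⟧) ≅ (R.mapDerivedCategory.obj K)⟦p⟧ :=
    (R.mapDerivedCategory.commShiftIso p).app K
  let E := ((derivedAdj adj).homEquiv ((DerivedCategory.singleFunctor A 0).obj P) (K⟦p⟧))
  refine ⟨AddEquiv.mk' ((e'.symm.homCongr (Iso.refl _)).trans (E.trans ((Iso.refl _).homCongr c)))
    fun x y => ?_⟩
  show 𝟙 _ ≫ E (e'.symm.inv ≫ (x + y) ≫ 𝟙 _) ≫ c.hom =
    𝟙 _ ≫ E (e'.symm.inv ≫ x ≫ 𝟙 _) ≫ c.hom + 𝟙 _ ≫ E (e'.symm.inv ≫ y ≫ 𝟙 _) ≫ c.hom
  simp only [E, Adjunction.homEquiv_unit, Preadditive.add_comp, Preadditive.comp_add,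
    Functor.map_add]

end Derived

open Groth.Agent.SiteBase in
theorem main {X : TopCat.{u}} (U : Opens X)
    [HasDerivedCategory.{u} (CohTop.Ab X)] [HasDerivedCategory.{u} (CohTop.Ab (TopCat.of U))]
    [PreservesFiniteLimits (CohTop.restrFunctor U)] [PreservesFiniteColimits (CohTop.restrFunctor U)]
    (K : DerivedCategory (CohTop.Ab X)) (p : ℤ) :
    Nonempty (CohCx.HDU K p U ≃+ CohCx.HDU ((CohTop.restrFunctor U).mapDerivedCategory.obj K) p ⊤) := by
  have := ExtByZero.preservesFiniteLimits_ext0 U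
  have hU : ExtByZero.img U ⊤ = U := Opens.ext (by
    show Subtype.val '' (Set.univ : Set U) = (U : Set X)
    simp)
  let J := Opens.grothendieckTopology X
  let JU := Opens.grothendieckTopology (TopCat.of U)
  let P := CohCx.freeSheaf JU (⊤ : Opens (TopCat.of U))
  let tr : ∀ G : CohTop.Ab X, G.obj.obj (op (ExtByZero.img U ⊤)) ≅ G.obj.obj (op U) :=
    fun G => G.obj.mapIso (eqToIso hU).op.symm
  obtain ⟨e⟩ := iso_of_natural_equiv (P := (ExtByZero.ext0 U).obj P) (Q := CohCx.freeSheaf J U)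
    (fun G => (((ExtByZero.adj U).homEquiv P G).trans (secEquiv JU ⊤ _).toEquiv).trans
      ((tr G).addCommGroupIsoToAddEquiv.toEquiv.trans (secEquiv J U G).toEquiv.symm))
    (fun {G G'} φ g => by
      show (secEquiv J U G').symm ((tr G').hom (secEquiv JU ⊤ _ ((ExtByZero.adj U).homEquiv P G' (φ ≫ g)))) =
        (secEquiv J U G).symm ((tr G).hom (secEquiv JU ⊤ _ ((ExtByZero.adj U).homEquiv P G φ))) ≫ g
      rw [secEquiv_symm_comp, Adjunction.homEquiv_naturality_right, secEquiv_comp]
      exact congrArg _ (ConcreteCategory.congr_hom (g.hom.naturality (eqToIso hU).op.inv) _).symm)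
  exact nonempty_hom_addEquiv (ExtByZero.adj U) P (CohCx.freeSheaf J U) e K p

end Groth.Agent.HDURestr

end
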