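import Groth.Agent.SiteBase.Sections
import Groth.Agent.SiteBase.DerivedExt
import Mathlib.Algebra.Homology.DerivedCategory.KInjective
import Mathlib.Algebra.Homology.HomotopyCategory.HomComplexSingle
import Mathlib.Algebra.Homology.HomotopyCategory.HomComplexCohomology

/-!
# Hypercohomology presheaves of K-injective complexes

For a K-injective complex of abelian sheaves `I`, the presheaf `U ↦ H^q(U, I)` is the `q`-th
cohomology of `I` as a complex of presheaves.
-/

set_option autoImplicit false

universe u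

open CategoryTheory CategoryTheory.Limits Opposite CochainComplex.HomComplex

namespace Groth.Agent.KInjSections

open Groth.Agent.SiteBase

variable {C : Type u} [SmallCategory C] {J : GrothendieckTopology C}

section General

variable {A : Type*} [Category.{u} A] [Abelian A] [HasDerivedCategory.{u} A]
  (I : CochainComplex A ℤ) [I.IsKInjective]

/-- Cocycles as morphisms in the derived category. -/
noncomputable def classMap (K : CochainComplex A ℤ) (q : ℤ) :
    Cocycle K I q →+ (DerivedCategory.Q.obj K ⟶ (DerivedCategory.Q.obj I)⟦q⟧) :=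
  AddMonoidHom.mk' (fun z => DerivedCategory.Q.map (Cocycle.equivHomShift.symm z) ≫
      (DerivedCategory.Q.commShiftIso q).hom.app I) (fun a b => by simp)

lemma classMap_eq (K : CochainComplex A ℤ) (q : ℤ) (z : Cocycle K I q) :
    classMap I K q z = (DerivedCategory.quotientCompQhIso _).inv.app K ≫
      DerivedCategory.Qh.map (CohomologyClass.toHom (.mk z)) ≫
        (DerivedCategory.quotientCompQhIso _).hom.app (I⟦q⟧) ≫
          (DerivedCategory.Q.commShiftIso q).hom.app I := by
  simp only [classMap, AddMonoidHom.mk'_apply, CohomologyClass.toHom_mk]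
  have h := (DerivedCategory.quotientCompQhIso A).hom.naturality (Cocycle.equivHomShift.symm z)
  dsimp at h
  rw [reassoc_of% h, Iso.inv_hom_id_app_assoc]

lemma classMap_surjective (K : CochainComplex A ℤ) (q : ℤ) :
    Function.Surjective (classMap I K q) := by
  intro φ
  obtain ⟨g, hg⟩ := (CochainComplex.IsKInjective.Qh_map_bijective
    ((HomotopyCategory.quotient _ _).obj K) (I⟦q⟧)).2
      ((DerivedCategory.quotientCompQhIso _).hom.app K ≫ φ ≫
        (DerivedCategory.Q.commShiftIso q).inv.app I ≫
          (DerivedCategory.quotientCompQhIso _).inv.app (I⟦q⟧))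
  obtain ⟨c, rfl⟩ := (CohomologyClass.toHom_bijective K I q).2 g
  obtain ⟨z, rfl⟩ := c.mk_surjective
  refine ⟨z, ?_⟩
  rw [classMap_eq, hg]
  simp

lemma classMap_eq_zero_iff (K : CochainComplex A ℤ) (q : ℤ)
    (z : Cocycle K I q) : classMap I K q z = 0 ↔ z ∈ coboundaries K I q := by
  rw [← CohomologyClass.toHom_mk_eq_zero_iff]
  constructor
  · intro h
    refine (CochainComplex.IsKInjective.Qh_map_bijective _ (I⟦q⟧)).1 ?_
    rw [Functor.map_zero]
    rw [classMap_eq, Preadditive.IsIso.comp_left_eq_zero, Preadditive.IsIso.comp_right_eq_zero] at h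
    exact h
  · intro h
    rw [classMap_eq, h, Functor.map_zero, zero_comp, comp_zero]

lemma classMap_precomp {K K' : CochainComplex A ℤ} (g : K' ⟶ K) (q : ℤ)
    (z : Cocycle K I q) :
    classMap I K' q (z.precomp g) = DerivedCategory.Q.map g ≫ classMap I K q z := by
  simp [classMap, Cocycle.equivHomShift_symm_precomp]

variable (q : ℤ)

/-- The class of a morphism into a term killed by the differential. -/
noncomputable def singleCls {P : A} (f : P ⟶ I.X q) (hf : f ≫ I.d q (q + 1) = 0) :
    DerivedCategory.Q.obj ((CochainComplex.singleFunctor A 0).obj P) ⟶ (DerivedCategory.Q.obj I)⟦q⟧ :=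
  classMap I _ q (Cocycle.fromSingleMk f (zero_add q) (q + 1) rfl hf)

lemma singleCls_congr {P : A} {f g : P ⟶ I.X q} (e : f = g) (hf : f ≫ I.d q (q + 1) = 0)
    (hg : g ≫ I.d q (q + 1) = 0) : singleCls I q f hf = singleCls I q g hg := by
  subst e; rfl

lemma singleCls_add {P : A} {f g k : P ⟶ I.X q} (e : k = f + g) (hk : k ≫ I.d q (q + 1) = 0)
    (hf : f ≫ I.d q (q + 1) = 0) (hg : g ≫ I.d q (q + 1) = 0) :
    singleCls I q k hk = singleCls I q f hf + singleCls I q g hg := by
  subst e
  rw [singleCls, singleCls, singleCls, ← map_add, ← Cocycle.fromSingleMk_add]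

lemma singleCls_precomp {P P' : A} (g : P' ⟶ P) {f : P ⟶ I.X q} {f' : P' ⟶ I.X q} (e : f' = g ≫ f)
    (hf : f ≫ I.d q (q + 1) = 0) (hf' : f' ≫ I.d q (q + 1) = 0) :
    singleCls I q f' hf' =
      DerivedCategory.Q.map ((CochainComplex.singleFunctor A 0).map g) ≫ singleCls I q f hf := by
  subst e
  rw [singleCls, singleCls, ← classMap_precomp, ← Cocycle.fromSingleMk_precomp]

lemma exists_singleCls {P : A}
    (φ : DerivedCategory.Q.obj ((CochainComplex.singleFunctor A 0).obj P) ⟶
      (DerivedCategory.Q.obj I)⟦q⟧) :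
    ∃ (f : P ⟶ I.X q) (hf : f ≫ I.d q (q + 1) = 0), singleCls I q f hf = φ := by
  obtain ⟨z, rfl⟩ := classMap_surjective I ((CochainComplex.singleFunctor A 0).obj P) q φ
  obtain ⟨f, hf, rfl⟩ := Cocycle.fromSingleMk_surjective z q (zero_add q) (q + 1) rfl
  exact ⟨f, hf, rfl⟩

lemma singleCls_eq_zero_iff {P : A} (f : P ⟶ I.X q) (hf : f ≫ I.d q (q + 1) = 0) :
    singleCls I q f hf = 0 ↔ ∃ g : P ⟶ I.X (q - 1), g ≫ I.d (q - 1) q = f :=
  (classMap_eq_zero_iff I _ q _).trans
    (Cocycle.fromSingleMk_mem_coboundaries_iff _ (zero_add q) (q + 1) rfl _ (q - 1) (by simp))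

end General

/-- A complex of sheaves as a complex of presheaves. -/
noncomputable abbrev preCx (I : CochainComplex (Sheaf J AddCommGrpCat.{u}) ℤ) :
    CochainComplex (Cᵒᵖ ⥤ AddCommGrpCat.{u}) ℤ :=
  ((sheafToPresheaf J AddCommGrpCat.{u}).mapHomologicalComplex (ComplexShape.up ℤ)).obj I

lemma homFromCycle_d (I : CochainComplex (Sheaf J AddCommGrpCat.{u}) ℤ) (q : ℤ) (U : C)
    (x : ((preCx I).cycles q).obj (op U)) :
    (secEquiv J U (I.X q)).symm ((((preCx I).iCycles q).app (op U)).hom x) ≫ I.d q (q + 1) = 0 := by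
  rw [secEquiv_symm_comp]
  refine (congrArg (secEquiv J U _).symm ?_).trans (map_zero _)
  exact congrArg (fun t => (t.app (op U)).hom x) ((preCx I).iCycles_d q (q + 1))

variable [HasDerivedCategory.{u} (Sheaf J AddCommGrpCat.{u})]
  (I : CochainComplex (Sheaf J AddCommGrpCat.{u}) ℤ) [I.IsKInjective]

/-- The morphism of a section killed by the differential. -/
noncomputable abbrev cycleHom (q : ℤ) (U : C) (x : ((preCx I).cycles q).obj (op U)) :
    CohCx.freeSheaf J U ⟶ I.X q :=
  (secEquiv J U (I.X q)).symm ((((preCx I).iCycles q).app (op U)).hom x)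

lemma cycleHom_add (q : ℤ) (U : C) (a b : ((preCx I).cycles q).obj (op U)) :
    cycleHom I q U (a + b) = cycleHom I q U a + cycleHom I q U b :=
  (congrArg (secEquiv J U (I.X q)).symm (map_add _ a b)).trans (map_add _ _ _)

lemma cycleHom_map (q : ℤ) {U V : Cᵒᵖ} (f : U ⟶ V) (x : ((preCx I).cycles q).obj U) :
    cycleHom I q V.unop (((preCx I).cycles q).map f x) =
      CohCx.freeSheafMap J f.unop ≫ cycleHom I q U.unop x := by
  apply (secEquiv J V.unop (I.X q)).injective
  rw [AddEquiv.apply_symm_apply, secEquiv_freeSheafMap, AddEquiv.apply_symm_apply]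
  exact congrArg (fun t => t.hom x) (((preCx I).iCycles q).naturality f)

/-- The class of a section killed by the differential. -/
noncomputable def cycleMap (q : ℤ) :
    (preCx I).cycles q ⟶ CohCx.HDUPresheaf (DerivedCategory.Q.obj I) q where
  app U := AddCommGrpCat.ofHom (AddMonoidHom.mk'
    (fun x => singleCls I q (cycleHom I q U.unop x) (homFromCycle_d I q U.unop x))
    (fun a b => singleCls_add I q (cycleHom_add I q U.unop a b) _ _ _))
  naturality U V f := by
    ext x
    exact singleCls_precomp I q (CohCx.freeSheafMap J f.unop) (cycleHom_map I q f x) _ _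

lemma exists_cycle (q : ℤ) (U : C) (z : (I.X q).obj.obj (op U))
    (hz : ((I.d q (q + 1)).hom.app (op U)).hom z = 0) :
    ∃ x : ((preCx I).cycles q).obj (op U), (((preCx I).iCycles q).app (op U)).hom x = z := by
  have h : (ShortComplex.mk ((preCx I).iCycles q) ((preCx I).d q (q + 1))
      ((preCx I).iCycles_d q (q + 1))).Exact :=
    ShortComplex.exact_of_f_is_kernel _ ((preCx I).cyclesIsKernel q (q + 1) (by simp))
  exact (ShortComplex.ab_exact_iff _).1 (h.map ((evaluation Cᵒᵖ AddCommGrpCat.{u}).obj (op U))) z hz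

lemma cycleMap_surjective (q : ℤ) (U : C) :
    Function.Surjective ((cycleMap I q).app (op U)).hom := by
  intro φ
  obtain ⟨f, hf, rfl⟩ := exists_singleCls I q (P := CohCx.freeSheaf J U) φ
  obtain ⟨x, hx⟩ := exists_cycle I q U (secEquiv J U (I.X q) f) (by
    rw [← secEquiv_comp, hf, map_zero])
  exact ⟨x, singleCls_congr I q
    ((congrArg (secEquiv J U (I.X q)).symm hx).trans (AddEquiv.symm_apply_apply _ _)) _ hf⟩

lemma cycleMap_eq_zero_iff (q : ℤ) (U : C) (x : ((preCx I).cycles q).obj (op U)) :
    ((cycleMap I q).app (op U)).hom x = 0 ↔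
      ∃ y, ((I.d (q - 1) q).hom.app (op U)).hom y = (((preCx I).iCycles q).app (op U)).hom x := by
  refine (singleCls_eq_zero_iff I q (cycleHom I q U x) (homFromCycle_d I q U x)).trans ?_
  constructor
  · rintro ⟨g, hg⟩
    refine ⟨secEquiv J U _ g, ?_⟩
    rw [← secEquiv_comp, hg, AddEquiv.apply_symm_apply]
  · rintro ⟨y, hy⟩
    exact ⟨(secEquiv J U _).symm y, by rw [secEquiv_symm_comp, hy]⟩

lemma toCycles_cycleMap (q : ℤ) : (preCx I).toCycles (q - 1) q ≫ cycleMap I q = 0 := by
  ext U y
  exact (cycleMap_eq_zero_iff I q U.unop _).2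
    ⟨y, (congrArg (fun t => (t.app U).hom y) ((preCx I).toCycles_i (q - 1) q)).symm⟩

/-- The hypercohomology presheaf of a K-injective complex. -/
noncomputable def iso (q : ℤ) :
    (preCx I).homology q ≅ CohCx.HDUPresheaf (DerivedCategory.Q.obj I) q :=
  have hS : (ShortComplex.mk _ _ (toCycles_cycleMap I q)).Exact :=
    exact_of_evaluation _ fun U => (ShortComplex.ab_exact_iff _).2 fun x hx => by
      obtain ⟨y, hy⟩ := (cycleMap_eq_zero_iff I q U.unop x).1 hx
      have : Mono (((preCx I).iCycles q).app U) := inferInstance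
      exact ⟨y, (AddCommGrpCat.mono_iff_injective (((preCx I).iCycles q).app U)).1 this
        ((congrArg (fun t => (t.app U).hom y) ((preCx I).toCycles_i (q - 1) q)).trans hy)⟩
  have : Epi (cycleMap I q) := by
    have : ∀ U, Epi ((cycleMap I q).app U) := fun U =>
      (AddCommGrpCat.epi_iff_surjective _).2 (cycleMap_surjective I q U.unop)
    exact NatTrans.epi_of_epi_app _
  ((preCx I).homologyIsCokernel (q - 1) q (by simp)).coconePointUniqueUpToIso hS.gIsCokernel

end Groth.Agent.KInjSections
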