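import Mathlib.CategoryTheory.Sites.Abelian
import Mathlib.CategoryTheory.Sites.ConstantSheaf
import Mathlib.CategoryTheory.Sites.PreservesSheafification
import Mathlib.CategoryTheory.Sites.EpiMono
import Mathlib.Algebra.Category.Grp.Abelian
import Mathlib.Algebra.Category.Grp.EpiMono
import Mathlib.Algebra.Category.Grp.Colimits
import Mathlib.Algebra.Category.Grp.Limits
import Mathlib.Algebra.Category.Grp.FilteredColimits
import Mathlib.Algebra.Homology.ShortComplex.ExactFunctor

/-!
# Sections of constant sheaves are exact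
-/

universe u

open CategoryTheory CategoryTheory.Limits Opposite

namespace Groth.Agent.SiteBase

variable {C : Type u} [SmallCategory C] (J : GrothendieckTopology C)

/-- The constant presheaf on a group. -/
abbrev constP (A : AddCommGrpCat.{u}) : Cᵒᵖ ⥤ AddCommGrpCat.{u} := (Functor.const Cᵒᵖ).obj A

/-- A set theoretic section of a surjection of groups gives natural lifts of sections of constant sheaves. -/
theorem exists_natural_section {A B : AddCommGrpCat.{u}} (g : A ⟶ B) (hg : Function.Surjective g) :
    ∃ τ : ((constantSheaf J AddCommGrpCat.{u}).obj B).obj ⋙ forget AddCommGrpCat.{u} ⟶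
        ((constantSheaf J AddCommGrpCat.{u}).obj A).obj ⋙ forget AddCommGrpCat.{u},
      τ ≫ Functor.whiskerRight ((constantSheaf J AddCommGrpCat.{u}).map g).hom (forget AddCommGrpCat.{u}) = 𝟙 _ := by
  let G := forget AddCommGrpCat.{u}
  let σ : constP (C := C) B ⋙ G ⟶ constP A ⋙ G :=
    { app := fun _ => TypeCat.ofHom (Function.surjInv hg)
      naturality := fun X Y f => rfl }
  have hA : Presheaf.IsSheaf J (sheafify J (constP A) ⋙ G) :=
    GrothendieckTopology.HasSheafCompose.isSheaf _ ((presheafToSheaf J AddCommGrpCat.{u}).obj (constP A)).property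
  have hB : Presheaf.IsSheaf J (sheafify J (constP B) ⋙ G) :=
    GrothendieckTopology.HasSheafCompose.isSheaf _ ((presheafToSheaf J AddCommGrpCat.{u}).obj (constP B)).property
  refine ⟨(sheafifyComposeIso J G (constP B)).inv ≫ sheafifyLift J (σ ≫ Functor.whiskerRight (toSheafify J (constP A)) G) hA, ?_⟩
  refine (Category.assoc _ _ _).trans ((Iso.inv_comp_eq _).2 (Eq.trans ?_ (Category.comp_id _).symm))
  refine sheafify_hom_ext J _ _ hB ?_
  refine (Category.assoc _ _ _).symm.trans (Eq.trans ?_ (sheafComposeIso_hom_fac J G (constP B)).symm)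
  refine (congrArg (fun t => t ≫ Functor.whiskerRight (sheafifyMap J ((Functor.const Cᵒᵖ).map g)) G)
    (toSheafify_sheafifyLift J _ hA)).trans ((Category.assoc _ _ _).trans ?_)
  refine Eq.trans (congrArg (fun t => σ ≫ t) ((Functor.whiskerRight_comp _ _ G).symm.trans
    ((congrArg (fun t => Functor.whiskerRight t G) (toSheafify_naturality J ((Functor.const Cᵒᵖ).map g)).symm).trans
      (Functor.whiskerRight_comp _ _ G)))) ?_
  rw [← Category.assoc]
  refine (congrArg (fun t => t ≫ Functor.whiskerRight (toSheafify J (constP B)) G) ?_).trans (Category.id_comp _)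
  ext X x
  exact Function.surjInv_eq hg x

theorem sections_surjective_constantSheaf {A B : AddCommGrpCat.{u}} (g : A ⟶ B) (hg : Function.Surjective g) (U : C) :
    Function.Surjective (((constantSheaf J AddCommGrpCat.{u}).map g).hom.app (op U)) := by
  obtain ⟨τ, hτ⟩ := exists_natural_section J g hg
  exact fun y => ⟨τ.app (op U) y, ConcreteCategory.congr_hom (NatTrans.congr_app hτ (op U)) y⟩

theorem shortExact_constantSheaf {S : ShortComplex AddCommGrpCat.{u}} (hS : S.ShortExact)
    [(constantSheaf J AddCommGrpCat.{u}).PreservesZeroMorphisms] : (S.map (constantSheaf J AddCommGrpCat.{u})).ShortExact := by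
  have : PreservesFiniteLimits (constantSheaf J AddCommGrpCat.{u}) := comp_preservesFiniteLimits _ _
  have : PreservesColimitsOfSize.{0, 0} (presheafToSheaf J AddCommGrpCat.{u}) :=
    (sheafificationAdjunction J AddCommGrpCat.{u}).leftAdjoint_preservesColimits
  have : PreservesFiniteColimits (presheafToSheaf J AddCommGrpCat.{u}) := ⟨fun _ => inferInstance⟩
  have : PreservesFiniteColimits (constantSheaf J AddCommGrpCat.{u}) := comp_preservesFiniteColimits _ _
  exact hS.map_of_exact _

/-- Global sections of constant sheaves lift along surjections. -/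
theorem exists_lift_hom_constantSheaf {A B : AddCommGrpCat.{u}} (g : A ⟶ B) (hg : Function.Surjective g)
    (φ : (constantSheaf J AddCommGrpCat.{u}).obj (AddCommGrpCat.of (ULift.{u} ℤ)) ⟶
      (constantSheaf J AddCommGrpCat.{u}).obj B) :
    ∃ ψ : (constantSheaf J AddCommGrpCat.{u}).obj (AddCommGrpCat.of (ULift.{u} ℤ)) ⟶
      (constantSheaf J AddCommGrpCat.{u}).obj A, ψ ≫ (constantSheaf J AddCommGrpCat.{u}).map g = φ := by
  obtain ⟨τ, hτ⟩ := exists_natural_section J g hg
  let one : (AddCommGrpCat.of (ULift.{u} ℤ)) := ULift.up 1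
  let adj := sheafificationAdjunction J AddCommGrpCat.{u}
  let P : Cᵒᵖ ⥤ AddCommGrpCat.{u} := constP (AddCommGrpCat.of (ULift.{u} ℤ))
  let F := fun A => (constantSheaf J AddCommGrpCat.{u}).obj A
  let φ₀ : P ⟶ (F B).obj := adj.homEquiv _ _ φ
  let s := fun X : Cᵒᵖ => τ.app X (φ₀.app X one)
  have hs : ∀ {X Y : Cᵒᵖ} (f : X ⟶ Y), (F A).obj.map f (s X) = s Y := fun {X Y} f =>
    ((ConcreteCategory.congr_hom (τ.naturality f) (φ₀.app X one)).symm.trans
      (congrArg (fun z => τ.app Y z) (ConcreteCategory.congr_hom (φ₀.naturality f) one).symm))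
  let ψ₀ : P ⟶ (F A).obj :=
    { app := fun X => AddCommGrpCat.ofHom ((zmultiplesHom _ (s X)).comp AddEquiv.ulift.toAddMonoidHom)
      naturality := fun X Y f => by
        ext n
        exact ((map_zsmul ((F A).obj.map f).hom n.down (s X)).trans (congrArg (fun z => n.down • z) (hs f))).symm }
  refine ⟨(adj.homEquiv _ _).symm ψ₀, (adj.homEquiv P (F B)).injective ?_⟩
  refine (Adjunction.homEquiv_naturality_right adj _ _).trans ?_
  refine (congrArg (fun t : P ⟶ (F A).obj => t ≫ ((constantSheaf J AddCommGrpCat.{u}).map g).hom)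
    (Equiv.apply_symm_apply _ ψ₀)).trans ?_
  refine NatTrans.ext (funext fun X => ?_)
  ext n
  show ((constantSheaf J AddCommGrpCat.{u}).map g).hom.app X (n.down • s X) = φ₀.app X n
  refine (map_zsmul (((constantSheaf J AddCommGrpCat.{u}).map g).hom.app X).hom n.down (s X)).trans ?_
  refine (congrArg (fun z => n.down • z) (ConcreteCategory.congr_hom (NatTrans.congr_app hτ X) (φ₀.app X one))).trans ?_
  refine (map_zsmul (φ₀.app X).hom _ _).symm.trans (congrArg (fun z => φ₀.app X z) ?_)
  show (n : ULift.{u} ℤ).down • (ULift.up 1 : ULift.{u} ℤ) = n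
  exact ULift.ext _ _ (by simp)

end Groth.Agent.SiteBase
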