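import Groth.Agent.SiteBase.Cohom

/-!
# Objects covered by the empty sieve
-/

universe u

open CategoryTheory CategoryTheory.Limits Opposite Abelian

namespace Groth.Agent.SiteBase

variable {C : Type u} [SmallCategory C] {J : GrothendieckTopology C} {U : C}

lemma subsingleton_sections_of_bot_mem (hU : (⊥ : Sieve U) ∈ J U) (F : Sheaf J AddCommGrpCat.{u}) :
    Subsingleton (F.obj.obj (op U)) :=
  ⟨fun a b => Presheaf.IsSheaf.isSeparated F.property U ⊥ hU a b fun _ _ h => h.elim⟩

lemma isZero_freeSheaf_of_bot_mem (hU : (⊥ : Sieve U) ∈ J U) : IsZero (CohCx.freeSheaf J U) := by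
  rw [IsZero.iff_id_eq_zero]
  haveI := subsingleton_sections_of_bot_mem hU (CohCx.freeSheaf J U)
  exact freeSheaf_hom_ext (Subsingleton.elim _ _)

lemma subsingleton_HU_of_bot_mem (hU : (⊥ : Sieve U) ∈ J U) (F : Sheaf J AddCommGrpCat.{u}) (n : ℕ) :
    Subsingleton (CohSite.HU F n U) :=
  subsingleton_of_forall_eq 0 fun (x : Ext (CohCx.freeSheaf J U) F n) => by
    rw [← Ext.mk₀_id_comp x, (IsZero.iff_id_eq_zero _).1 (isZero_freeSheaf_of_bot_mem hU), Ext.mk₀_zero,
      Ext.zero_comp]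
    rfl

end Groth.Agent.SiteBase
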