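import Groth.Prelude.Def_CohTop
import Mathlib.Topology.Sheaves.SheafCondition.UniqueGluing
import Mathlib.CategoryTheory.Sites.LocallyBijective
import Mathlib.CategoryTheory.Sites.EpiMono
import Mathlib.Topology.Irreducible
import Mathlib.Algebra.Category.Grp.FilteredColimits
import Mathlib.Algebra.Category.Grp.Limits
import Mathlib.Algebra.Category.Grp.EpiMono
import Mathlib.CategoryTheory.Subobject.Limits
import Mathlib.Topology.Sheaves.Flasque
import Mathlib.RingTheory.Int.Basic
import Mathlib.GroupTheory.SpecificGroups.Cyclic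

/-!
# Constant sheaves on irreducible spaces
-/

universe u

open CategoryTheory CategoryTheory.Limits Opposite TopologicalSpace

namespace Groth.Agent.SiteBase

variable (X : TopCat.{u}) (A : Type u) [AddCommGroup A]

/-- `U ↦ A` on nonempty opens, zero on the empty open. -/
def irrP : (Opens X)ᵒᵖ ⥤ AddCommGrpCat.{u} where
  obj U := AddCommGrpCat.of (PLift (U.unop : Set X).Nonempty → A)
  map i := AddCommGrpCat.ofHom (AddMonoidHom.mk' (fun g h => g ⟨h.down.mono (leOfHom i.unop)⟩) fun _ _ => rfl)
  map_id _ := rfl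
  map_comp _ _ := rfl

lemma irrP_eq_of_const {U : Opens X} (g : (irrP X A).obj (op U)) (h h' : PLift (U : Set X).Nonempty) :
    g h = g h' := congrArg g (Subsingleton.elim h h')

theorem isSheaf_irrP [PreirreducibleSpace X] : TopCat.Presheaf.IsSheaf (irrP X A) := by
  rw [TopCat.Presheaf.isSheaf_iff_isSheafUniqueGluing]
  intro ι U sf hsf
  classical
  have heq : ∀ (i j : ι) (hi : PLift (U i : Set X).Nonempty) (hj : PLift (U j : Set X).Nonempty),
      sf i hi = sf j hj := fun i j hi hj => by
    have h := nonempty_preirreducible_inter (U i).isOpen (U j).isOpen hi.down hj.down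
    exact congrFun (hsf i j) ⟨h⟩
  have hex : ∀ h : PLift ((iSup U : Opens X) : Set X).Nonempty, ∃ i, (U i : Set X).Nonempty := fun h => by
    obtain ⟨x, hx⟩ := h.down
    obtain ⟨i, hi⟩ := Opens.mem_iSup.1 hx
    exact ⟨i, x, hi⟩
  refine ⟨fun h => sf (hex h).choose ⟨(hex h).choose_spec⟩, fun i => funext fun hi => heq _ _ _ _, fun g hg => funext fun h => ?_⟩
  exact (irrP_eq_of_const X A g _ _).trans (congrFun (hg (hex h).choose) ⟨(hex h).choose_spec⟩)

/-- The comparison from the constant presheaf. -/
def toIrrP : (Functor.const (Opens X)ᵒᵖ).obj (AddCommGrpCat.of A) ⟶ irrP X A where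
  app _ := AddCommGrpCat.ofHom (AddMonoidHom.mk' (fun a _ => a) fun _ _ => rfl)
  naturality _ _ _ := rfl

instance : Presheaf.IsLocallyInjective (Opens.grothendieckTopology X) (toIrrP X A) where
  equalizerSieve_mem := fun {_} a b h x hx => by
    have hab : a = b := congrFun h ⟨⟨x, hx⟩⟩
    subst hab
    exact ⟨_, 𝟙 _, rfl, hx⟩

instance : Presheaf.IsLocallySurjective (Opens.grothendieckTopology X) (toIrrP X A) where
  imageSieve_mem {U} g := fun x hx =>
    ⟨_, 𝟙 _, ⟨g ⟨⟨x, hx⟩⟩, funext fun h => irrP_eq_of_const X A g _ _⟩, hx⟩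

/-- The constant sheaf on an irreducible space. -/
noncomputable def constIsoIrr [PreirreducibleSpace X] :
    CohTop.const X A ≅ (⟨irrP X A, isSheaf_irrP X A⟩ : CohTop.Ab X) :=
  (@asIso _ _ _ _ ((presheafToSheaf (Opens.grothendieckTopology X) AddCommGrpCat.{u}).map (toIrrP X A))
    (((Opens.grothendieckTopology X).W_iff _).1
      (GrothendieckTopology.W_of_isLocallyBijective (J := Opens.grothendieckTopology X) (toIrrP X A)))) ≪≫
    (sheafificationIso (⟨irrP X A, isSheaf_irrP X A⟩ : CohTop.Ab X)).symm

variable [PreirreducibleSpace X]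

/-- The value of a section of a constant sheaf. -/
noncomputable def constVal (V : Opens X) (h : (V : Set X).Nonempty) : (CohTop.const X A).obj.obj (op V) →+ A :=
  AddMonoidHom.mk' (fun s => (constIsoIrr X A).hom.hom.app (op V) s ⟨h⟩) fun s t => by rw [map_add]; rfl

lemma constVal_map {V W : Opens X} (i : V ⟶ W) (hV : (V : Set X).Nonempty)
    (s : (CohTop.const X A).obj.obj (op W)) :
    constVal X A V hV ((CohTop.const X A).obj.map i.op s) = constVal X A W (hV.mono (leOfHom i)) s :=
  congrFun (NatTrans.naturality_apply (constIsoIrr X A).hom.hom i.op s) ⟨hV⟩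

lemma constApp_bijective (V : Opens X) :
    Function.Bijective ((constIsoIrr X A).hom.hom.app (op V)) :=
  ConcreteCategory.bijective_of_isIso (((sheafToPresheaf _ _).mapIso (constIsoIrr X A)).hom.app (op V))

lemma constVal_bijective (V : Opens X) (h : (V : Set X).Nonempty) : Function.Bijective (constVal X A V h) := by
  refine ⟨fun s t e => (constApp_bijective X A V).1 (funext fun h' => ?_), fun a => ?_⟩
  · exact (irrP_eq_of_const X A _ _ _).trans (e.trans (irrP_eq_of_const X A _ _ _))
  · obtain ⟨s, hs⟩ := (constApp_bijective X A V).2 (fun _ => a)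
    exact ⟨s, congrFun hs ⟨h⟩⟩

lemma const_subsingleton_of_empty {V : Opens X} (h : ¬ (V : Set X).Nonempty) :
    Subsingleton ((CohTop.const X A).obj.obj (op V)) :=
  ⟨fun _ _ => (constApp_bijective X A V).1 (funext fun h' => absurd h'.down h)⟩

theorem isFlasque_const : TopCat.Sheaf.IsFlasque (CohTop.const X A) where
  epi {U V} i := by
    refine (AddCommGrpCat.epi_iff_surjective _).2 fun s => ?_
    by_cases hV : (V.unop : Set X).Nonempty
    · obtain ⟨t, ht⟩ := (constVal_bijective X A U.unop (hV.mono (leOfHom i.unop))).2 (constVal X A V.unop hV s)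
      exact ⟨t, (constVal_bijective X A V.unop hV).1 ((constVal_map X A i.unop hV t).trans ht)⟩
    · exact ⟨0, (const_subsingleton_of_empty X A hV).elim _ _⟩

end Groth.Agent.SiteBase
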