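import Groth.Agent.SiteBase.ClosedEmb
import Mathlib.Topology.Category.TopCat.Adjunctions
import Mathlib.Topology.Sheaves.SheafCondition.UniqueGluing
import Mathlib.Topology.Sheaves.Flasque

/-!
The first step of the Godement resolution.
-/

set_option autoImplicit false

universe u

open CategoryTheory CategoryTheory.Limits TopologicalSpace Opposite TopCat Topology

noncomputable section

namespace Groth.Agent.GodementStep

variable {X : TopCat.{u}}

lemma isFlasque_of_discrete {Z : TopCat.{u}} [DiscreteTopology Z] (F : CohTop.Ab Z) :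
    TopCat.Sheaf.IsFlasque F where
  epi {U V} i := by
    rw [AddCommGrpCat.epi_iff_surjective]
    intro s
    let W : Opens Z := ⟨(U.unop : Set Z) \ (V.unop : Set Z), isOpen_discrete _⟩
    let Us : ULift.{u} Bool → Opens Z := fun b => if b.down then V.unop else W
    have hUs : ∀ b, Us b ≤ U.unop := fun ⟨b⟩ => by
      cases b
      · exact fun x hx => hx.1
      · exact i.unop.le
    let sf : ∀ b : ULift.{u} Bool, ToType (F.1.obj (op (Us b))) := fun ⟨b⟩ => match b with
      | true => s
      | false => 0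
    have hcov : U.unop ≤ iSup Us := fun x hx => by
      by_cases hxV : x ∈ V.unop
      · exact Opens.mem_iSup.2 ⟨⟨true⟩, hxV⟩
      · exact Opens.mem_iSup.2 ⟨⟨false⟩, hx, hxV⟩
    have hbot : ∀ A : Opens Z, A ≤ W → A ≤ V.unop → ∀ a b : ToType (F.1.obj (op A)), a = b :=
      fun A h₁ h₂ a b => (AddCommGrpCat.subsingleton_of_isZero (TopCat.Sheaf.isTerminalOfEqEmpty F
        (eq_bot_iff.2 fun x (hx : x ∈ A) => absurd (h₂ hx) (h₁ hx).2)).isZero).elim a b
    obtain ⟨t, ht, -⟩ := TopCat.Sheaf.existsUnique_gluing' F Us U.unop (fun b => homOfLE (hUs b))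
      hcov sf (by
        rintro ⟨a⟩ ⟨b⟩
        cases a <;> cases b
        · rfl
        · exact hbot _ inf_le_left inf_le_right _ _
        · exact hbot _ inf_le_right inf_le_left _ _
        · rfl)
    refine ⟨t, ?_⟩
    exact (congrArg (fun k => F.1.map k t) (Subsingleton.elim _ _)).trans (ht ⟨true⟩)

lemma mono_map_of_iso {A B : Type*} [Category A] [Category B] {G H : A ⥤ B} (e : G ≅ H) {P Q : A}
    (m : P ⟶ Q) (h : Mono (G.map m)) : Mono (H.map m) := by
  have : H.map m = e.inv.app P ≫ G.map m ≫ e.hom.app Q := by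
    rw [e.hom.naturality, Iso.inv_hom_id_app_assoc]
  rw [this]
  infer_instance

theorem mono_unit {Z : TopCat.{u}} (f : Z ⟶ X) (hf : Function.Surjective f) (F : CohTop.Ab X) :
    Mono ((TopCat.Sheaf.pullbackPushforwardAdjunction AddCommGrpCat.{u} f).unit.app F) := by
  let adj := TopCat.Sheaf.pullbackPushforwardAdjunction AddCommGrpCat.{u} f
  have : ∀ x : X, Mono ((TopCat.Presheaf.stalkFunctor AddCommGrpCat.{u} x).map (adj.unit.app F).1) := by
    intro x
    obtain ⟨z, rfl⟩ := hf x
    let e := ClosedEmb.pullStalkIso f z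
    have h2 : IsSplitMono ((CohTop.pull f ⋙ ClosedEmb.stalkF z).map (adj.unit.app F)) :=
      IsSplitMono.mk' ⟨(ClosedEmb.stalkF z).map (adj.counit.app _), by
        refine ((ClosedEmb.stalkF z).map_comp _ _).symm.trans ?_
        exact (congrArg (ClosedEmb.stalkF z).map (adj.left_triangle_components F)).trans
          ((ClosedEmb.stalkF z).map_id _)⟩
    have h3 := @IsSplitMono.mono _ _ _ _ _ h2
    exact mono_map_of_iso e (adj.unit.app F) h3
  exact (TopCat.Presheaf.mono_iff_stalk_mono (adj.unit.app F)).2 this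

lemma flasque_push {Z : TopCat.{u}} (f : Z ⟶ X) (G : CohTop.Ab Z) (h : TopCat.Sheaf.IsFlasque G) :
    TopCat.Sheaf.IsFlasque ((CohTop.push f).obj G) :=
  ⟨fun i => h.epi ((Opens.map f).op.map i)⟩

theorem main (F : CohTop.Ab X) :
    Mono ((TopCat.Sheaf.pullbackPushforwardAdjunction AddCommGrpCat.{u}
      (TopCat.adj₁.counit.app X)).unit.app F) ∧
    TopCat.Sheaf.IsFlasque ((CohTop.push (TopCat.adj₁.counit.app X)).obj
      ((CohTop.pull (TopCat.adj₁.counit.app X)).obj F)) := by
  have hs : Function.Surjective (TopCat.adj₁.counit.app X) := by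
    intro x
    exact ⟨x, rfl⟩
  refine ⟨mono_unit (TopCat.adj₁.counit.app X) hs F, ?_⟩
  have h : DiscreteTopology ((CategoryTheory.forget TopCat.{u} ⋙ TopCat.discrete).obj X) := ⟨rfl⟩
  exact flasque_push (TopCat.adj₁.counit.app X) _
    (@isFlasque_of_discrete _ h ((CohTop.pull (TopCat.adj₁.counit.app X)).obj F))

end Groth.Agent.GodementStep

end
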