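import Groth.Agent.SiteBase.SplitRes
import Groth.Agent.SiteBase.ClosedEmb
import Groth.Agent.QCoh.Ab.Godement
import Groth.Prelude.Def_CohCx
import Mathlib.CategoryTheory.Abelian.Exact
import Mathlib.Algebra.Homology.ShortComplex.ExactFunctor
import Mathlib.Algebra.Homology.HomotopyCategory.Shift
import Mathlib.Topology.Sheaves.Flasque

/-!
# Godement resolutions of bounded below complexes
-/

universe u

open CategoryTheory CategoryTheory.Limits TopologicalSpace Opposite

namespace Groth.Agent.SiteBase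

variable {X : TopCat.{u}}

/-- The stalk functor of abelian sheaves. -/
noncomputable abbrev stalkF' (x : X) : CohTop.Ab X ⥤ AddCommGrpCat.{u} :=
  sheafToPresheaf (Opens.grothendieckTopology X) AddCommGrpCat.{u} ⋙
    TopCat.Presheaf.stalkFunctor AddCommGrpCat.{u} x

instance (x : X) : (stalkF' x).Additive :=
  inferInstanceAs (ClosedEmb.stalkF x).Additive

theorem preservesHomology_stalk (x : X) : (stalkF' x).PreservesHomology :=
  (stalkF' x).preservesHomology_of_map_exact fun S hS =>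
    (TopCat.Sheaf.exact_iff_stalkFunctor_map_exact S).1 hS x

theorem preservesFiniteColimits_stalk (x : X) : PreservesFiniteColimits (stalkF' x) :=
  have := preservesHomology_stalk x
  (stalkF' x).preservesFiniteColimits_of_preservesHomology

/-- The retraction of a stalk of the Godement sheaf. -/
noncomputable def godRetr (F : CohTop.Ab X) (x : X) :
    (stalkF' x).obj (QCoh.Ab.godement F) ⟶ (stalkF' x).obj F :=
  colimit.desc ((OpenNhds.inclusion x).op ⋙ (QCoh.Ab.godement F).obj)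
    { pt := TopCat.Presheaf.stalk (C := AddCommGrpCat.{u}) (X := X) F.obj x
      ι :=
        { app := fun U => AddCommGrpCat.ofHom
            (AddMonoidHom.mk' (fun (s : ∀ y : (U.unop.1 : Opens X), TopCat.Presheaf.stalk (C := AddCommGrpCat.{u}) (X := X) F.obj y.1) =>
              s ⟨x, U.unop.2⟩) fun _ _ => rfl)
          naturality := fun _ _ _ => rfl } }

lemma germ_godRetr (F : CohTop.Ab X) (x : X) (U : Opens X) (hx : x ∈ U) :
    TopCat.Presheaf.germ (C := AddCommGrpCat.{u}) (X := X) (QCoh.Ab.godement F).obj U x hx ≫ godRetr F x =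
      AddCommGrpCat.ofHom (AddMonoidHom.mk'
        (fun (s : ∀ y : U, TopCat.Presheaf.stalk (C := AddCommGrpCat.{u}) (X := X) F.obj y.1) => s ⟨x, hx⟩)
        fun _ _ => rfl) :=
  colimit.ι_desc (F := (OpenNhds.inclusion x).op ⋙ (QCoh.Ab.godement F).obj) _ (op (⟨U, hx⟩ : OpenNhds x))

lemma toGodement_retr (F : CohTop.Ab X) (x : X) :
    (stalkF' x).map (QCoh.Ab.toGodement F) ≫ godRetr F x = 𝟙 _ := by
  refine TopCat.Presheaf.stalk_hom_ext _ fun U hx => ?_
  refine ((Category.assoc _ _ _).symm.trans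
    ((congrArg (· ≫ godRetr F x)
      (TopCat.Presheaf.stalkFunctor_map_germ U x hx (QCoh.Ab.toGodement F).hom)).trans ?_))
  refine (Category.assoc _ _ _).trans ?_
  refine (congrArg ((QCoh.Ab.toGodement F).hom.app (op U) ≫ ·) (germ_godRetr F x U hx)).trans ?_
  exact (Category.comp_id _).symm

theorem isFlasque_godement (F : CohTop.Ab X) : TopCat.Sheaf.IsFlasque (QCoh.Ab.godement F) where
  epi {U V} i := by
    classical
    refine (AddCommGrpCat.epi_iff_surjective _).2 fun s => ?_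
    exact ⟨fun x => if hx : x.1 ∈ V.unop then s ⟨x.1, hx⟩ else 0, funext fun x => dif_pos x.2⟩

theorem isFlasque_of_isZero (F : CohTop.Ab X) (h : IsZero F) : TopCat.Sheaf.IsFlasque F where
  epi {U V} i := by
    have : IsZero (F.obj.obj V) :=
      (sheafToPresheaf (Opens.grothendieckTopology X) AddCommGrpCat.{u} ⋙ (evaluation _ _).obj V).map_isZero h
    exact ⟨fun g h _ => this.eq_of_src g h⟩

theorem quasiIso_of_stalks {E G : CochainComplex (CohTop.Ab X) ℤ} (φ : E ⟶ G)
    (h : ∀ x : X, QuasiIso ((CohCx.stalkCx x).map φ)) : QuasiIso φ := by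
  refine ⟨fun i => ?_⟩
  rw [quasiIsoAt_iff_isIso_homologyMap]
  let f := HomologicalComplex.homologyMap φ i
  have : ∀ x : X, IsIso ((TopCat.Presheaf.stalkFunctor AddCommGrpCat.{u} x).map f.hom) := fun x => by
    have := preservesHomology_stalk x
    have h' : IsIso (HomologicalComplex.homologyMap ((CohCx.stalkCx x).map φ) i) :=
      (quasiIsoAt_iff_isIso_homologyMap _ _).1 ((h x).quasiIsoAt i)
    exact (NatIso.isIso_map_iff (ShortComplex.homologyFunctorIso (stalkF' x))
      ((HomologicalComplex.shortComplexFunctor _ _ i).map φ)).1 h'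
  exact TopCat.Presheaf.isIso_of_stalkFunctor_map_iso f

/-- A shifted homotopy equivalence. -/
noncomputable def shiftHE {C : Type*} [Category C] [Preadditive C] {K L : CochainComplex C ℤ}
    (e : HomotopyEquiv K L) (n : ℤ) : HomotopyEquiv (K⟦n⟧) (L⟦n⟧) where
  hom := e.hom⟦n⟧'
  inv := e.inv⟦n⟧'
  homotopyHomInvId := (Homotopy.ofEq ((CategoryTheory.shiftFunctor (CochainComplex C ℤ) n).map_comp _ _).symm).trans
    ((e.homotopyHomInvId.shift n).trans (Homotopy.ofEq ((CategoryTheory.shiftFunctor (CochainComplex C ℤ) n).map_id _)))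
  homotopyInvHomId := (Homotopy.ofEq ((CategoryTheory.shiftFunctor (CochainComplex C ℤ) n).map_comp _ _).symm).trans
    ((e.homotopyInvHomId.shift n).trans (Homotopy.ofEq ((CategoryTheory.shiftFunctor (CochainComplex C ℤ) n).map_id _)))

theorem exists_flasque_resolution_zero (E : CochainComplex (CohTop.Ab X) ℤ) [hE : E.IsStrictlyGE 0] :
    ∃ (G : CochainComplex (CohTop.Ab X) ℤ) (φ : E ⟶ G), G.IsStrictlyGE 0 ∧
      (∀ n : ℤ, TopCat.Sheaf.IsFlasque (G.X n)) ∧
      ∀ x : X, ∃ e : HomotopyEquiv ((CohCx.stalkCx x).obj E) ((CohCx.stalkCx x).obj G),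
        e.hom = (CohCx.stalkCx x).map φ := by
  refine ⟨@SplitRes.cx _ _ _ QCoh.Ab.godement QCoh.Ab.toGodement E, @SplitRes.ι _ _ _ QCoh.Ab.godement QCoh.Ab.toGodement E hE,
    inferInstance, fun n => ?_, fun x => ?_⟩
  · cases n with
    | ofNat k => exact isFlasque_godement _
    | negSucc k => exact isFlasque_of_isZero _ (SplitRes.isZero_obj QCoh.Ab.godement QCoh.Ab.toGodement E k)
  · have := preservesFiniteColimits_stalk x
    have hadd : (stalkF' x).Additive := inferInstance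
    exact ⟨@SplitRes.homotopyEquiv _ _ _ QCoh.Ab.godement QCoh.Ab.toGodement E hE AddCommGrpCat.{u} _ _ (stalkF' x) hadd this
      (fun C => godRetr C x) (fun C => toGodement_retr C x), rfl⟩

theorem map_shift_equiv {C D : Type*} [Category C] [Category D] [Preadditive C] [Preadditive D]
    (S : C ⥤ D) [S.Additive] {F E G : CochainComplex C ℤ} (b : ℤ) (i₀ : F ≅ E⟦b⟧) (φ : E ⟶ G)
    (e₀ : HomotopyEquiv ((S.mapHomologicalComplex (ComplexShape.up ℤ)).obj E)
      ((S.mapHomologicalComplex (ComplexShape.up ℤ)).obj G))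
    (he₀ : e₀.hom = (S.mapHomologicalComplex (ComplexShape.up ℤ)).map φ) :
    ∃ e : HomotopyEquiv ((S.mapHomologicalComplex (ComplexShape.up ℤ)).obj F)
        ((S.mapHomologicalComplex (ComplexShape.up ℤ)).obj (G⟦b⟧)),
      e.hom = (S.mapHomologicalComplex (ComplexShape.up ℤ)).map (i₀.hom ≫ φ⟦b⟧') := by
  let L := S.mapHomologicalComplex (ComplexShape.up ℤ)
  refine ⟨(HomotopyEquiv.ofIso (L.mapIso i₀)).trans (((HomotopyEquiv.ofIso ((L.commShiftIso b).app E)).trans
    (shiftHE e₀ b)).trans (HomotopyEquiv.ofIso ((L.commShiftIso b).app G).symm)), ?_⟩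
  show L.map i₀.hom ≫ ((L.commShiftIso b).hom.app E ≫ e₀.hom⟦b⟧') ≫ (L.commShiftIso b).inv.app G = _
  rw [he₀, ← Functor.commShiftIso_hom_naturality, Category.assoc, Iso.hom_inv_id_app]
  exact (congrArg (L.map i₀.hom ≫ ·) (Category.comp_id _)).trans (L.map_comp _ _).symm

theorem exists_flasque_resolution (F : CochainComplex (CohTop.Ab X) ℤ) (a : ℤ) (hF : F.IsStrictlyGE a) :
    ∃ (G : CochainComplex (CohTop.Ab X) ℤ) (φ : F ⟶ G), G.IsStrictlyGE a ∧ QuasiIso φ ∧
      (∀ n : ℤ, TopCat.Sheaf.IsFlasque (G.X n)) ∧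
      ∀ x : X, ∃ e : HomotopyEquiv ((CohCx.stalkCx x).obj F) ((CohCx.stalkCx x).obj G),
        e.hom = (CohCx.stalkCx x).map φ := by
  have : (F⟦a⟧).IsStrictlyGE 0 := F.isStrictlyGE_shift a a 0 (add_zero a)
  obtain ⟨G, φ, hG, hfl, hhe⟩ := exists_flasque_resolution_zero (F⟦a⟧)
  let i₀ : F ≅ (F⟦a⟧)⟦-a⟧ :=
    (shiftFunctorCompIsoId (CochainComplex (CohTop.Ab X) ℤ) a (-a) (add_neg_cancel a)).symm.app F
  have hhe' : ∀ x : X, ∃ e : HomotopyEquiv ((CohCx.stalkCx x).obj F) ((CohCx.stalkCx x).obj (G⟦-a⟧)),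
      e.hom = (CohCx.stalkCx x).map (i₀.hom ≫ φ⟦-a⟧') := fun x => by
    obtain ⟨e₀, he₀⟩ := hhe x
    exact map_shift_equiv (stalkF' x) (-a) i₀ φ e₀ he₀
  refine ⟨G⟦-a⟧, _, G.isStrictlyGE_shift 0 (-a) a (by omega), quasiIso_of_stalks _ fun x => ?_,
    fun n => hfl _, hhe'⟩
  obtain ⟨e, he⟩ := hhe' x
  rw [← he]
  infer_instance

end Groth.Agent.SiteBase
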