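import Groth.Agent.SiteBase.CompactDevissage
import Groth.Agent.SiteBase.QcSum
import Groth.Prelude.Def_CohSite
import Mathlib.CategoryTheory.Abelian.GrothendieckCategory.HasExt

/-!
# Compactness of free sheaves
-/

set_option autoImplicit false
set_option backward.isDefEq.respectTransparency false
set_option linter.style.haveILetI false

universe u

open CategoryTheory CategoryTheory.Limits Opposite CategoryTheory.Abelian

noncomputable section

namespace Groth.Agent.FreeCompact

variable {C : Type u} [SmallCategory C] {J : GrothendieckTopology C}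

theorem sumGen_freeSheaf (U : C) (ι : Type u)
    (h : ∀ p : ℕ, PreservesColimitsOfShape (Discrete ι)
      ((Sheaf.cohomologyPresheafFunctor J p).flip.obj (op U))) :
    CompactDevissage.SumGen ι (CohCx.freeSheaf J U) := by
  intro n H x
  haveI := h n
  obtain ⟨s, y, hy⟩ := QcSum.exists_finsum
    (isColimitOfPreserves ((Sheaf.cohomologyPresheafFunctor J n).flip.obj (op U)) (coproductIsCoproduct H)) x
  exact ⟨s, y, hy⟩

theorem sumGen_freeOn (O : Sheaf J CommRingCat.{u}) [HasExt.{u} (ModSite.Mod O)] (U : C)
    (hqc : CohCx.IsQcObject ((presheafToSheaf J (Type u)).obj (yoneda.obj U)))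
    (hP : Projective (ModSite.freeOn O U)) (ι : Type u) :
    CompactDevissage.SumGen ι (ModSite.freeOn O U) := by
  intro n H x
  cases n with
  | zero =>
    obtain ⟨φ, rfl⟩ : ∃ φ, Ext.mk₀ φ = x := (Ext.mk₀_bijective _ _).2 x
    obtain ⟨s, a, hs⟩ := QcSum.exists_finset_hom O H U hqc φ
    refine ⟨s, fun i => Ext.mk₀ (a i), ?_⟩
    simp only [Ext.mk₀_comp_mk₀]
    rw [hs]
    exact map_sum (Ext.addEquiv₀ (X := ModSite.freeOn O U) (Y := ∐ H)).symm _ _
  | succ n =>
    exact ⟨∅, fun _ => 0, by rw [Finset.sum_empty]; exact Ext.eq_zero_of_projective x⟩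

end Groth.Agent.FreeCompact
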