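import Groth.Prelude.Def_CohCx
import Groth.Agent.QCoh.Ab.Godement
import Mathlib.Algebra.Homology.HomologicalComplexAbelian
import Mathlib.Algebra.Homology.HomologySequence
import Mathlib.Algebra.Homology.ShortComplex.Ab

/-! Relative Mayer–Vietoris: the degreewise short exact sequence of complexes. -/

set_option autoImplicit false
universe v' u' v u

open CategoryTheory Limits Opposite TopologicalSpace

namespace Groth.Agent.SiteBase.RelMV

section Generic

attribute [local instance] preservesBinaryBiproducts_of_preservesBiproducts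

variable {C : Type u'} [Category.{v'} C] [Preadditive C] [HasBinaryBiproducts C]
  {D : Type u} [Category.{v} D] [Preadditive D] [HasBinaryBiproducts D]
  (E : C ⥤ D) [E.Additive] {A B₁ B₂ T : C} (a : A ⟶ B₁) (b : A ⟶ B₂) (c : B₁ ⟶ T) (d : B₂ ⟶ T)

theorem map_lift_comp :
    E.map (biprod.lift a b) ≫ (E.mapBiprod B₁ B₂).hom = biprod.lift (E.map a) (E.map b) := by
  rw [Functor.mapBiprod_hom]
  ext
  · rw [Category.assoc, biprod.lift_fst, biprod.lift_fst, ← E.map_comp, biprod.lift_fst]
  · rw [Category.assoc, biprod.lift_snd, biprod.lift_snd, ← E.map_comp, biprod.lift_snd]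

theorem comp_desc_map :
    (E.mapBiprod B₁ B₂).hom ≫ biprod.desc (E.map c) (E.map d) = E.map (biprod.desc c d) := by
  rw [Functor.mapBiprod_hom, biprod.lift_desc, ← E.map_comp, ← E.map_comp, ← E.map_add,
    ← biprod.desc_eq]

/-- Applying an additive functor to a lift-desc short complex. -/
noncomputable def mapLiftDescIso (w : biprod.lift a b ≫ biprod.desc c d = 0)
    (w' : biprod.lift (E.map a) (E.map b) ≫ biprod.desc (E.map c) (E.map d) = 0) :
    (ShortComplex.mk (biprod.lift a b) (biprod.desc c d) w).map E ≅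
      ShortComplex.mk (biprod.lift (E.map a) (E.map b)) (biprod.desc (E.map c) (E.map d)) w' :=
  ShortComplex.isoMk (Iso.refl _) (E.mapBiprod B₁ B₂) (Iso.refl _)
    ((Category.id_comp _).trans (map_lift_comp E a b).symm)
    ((comp_desc_map E c d).trans (Category.comp_id _).symm)

end Generic

/-- Element criterion for short exactness of a lift-desc short complex after an additive functor. -/
theorem shortExact_map_of_elements {C : Type u'} [Category.{v'} C] [Preadditive C]
    [HasBinaryBiproducts C] (E : C ⥤ AddCommGrpCat.{u}) [E.Additive] {A B₁ B₂ T : C}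
    (a : A ⟶ B₁) (b : A ⟶ B₂) (c : B₁ ⟶ T) (d : B₂ ⟶ T)
    (w : biprod.lift a b ≫ biprod.desc c (-d) = 0)
    (h1 : ∀ x, E.map a x = 0 → E.map b x = 0 → x = 0)
    (h2 : ∀ y z, E.map c y = E.map d z → ∃ x, E.map a x = y ∧ E.map b x = z)
    (h3 : ∀ v, ∃ y, E.map c y = v) :
    ((ShortComplex.mk (biprod.lift a b) (biprod.desc c (-d)) w).map E).ShortExact := by
  have happ : ∀ {P Q R : C} (f : P ⟶ Q) (g : Q ⟶ R) (x : E.obj P),
      E.map g (E.map f x) = E.map (f ≫ g) x := fun f g x => by
    rw [E.map_comp]; rfl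
  have hp : ∀ p : E.obj (B₁ ⊞ B₂),
      E.map biprod.inl (E.map biprod.fst p) + E.map biprod.inr (E.map biprod.snd p) = p := fun p => by
    rw [happ, happ]
    have := congrArg (fun k => k p) ((E.map_add (f := (biprod.fst : B₁ ⊞ B₂ ⟶ B₁) ≫ biprod.inl)
      (g := (biprod.snd : B₁ ⊞ B₂ ⟶ B₂) ≫ biprod.inr)).symm)
    refine this.trans ?_
    rw [biprod.total, E.map_id]
    rfl
  refine ShortComplex.ShortExact.mk' ?_ ?_ ?_
  · rw [ShortComplex.ab_exact_iff]
    intro p hq
    change E.map (biprod.desc c (-d)) p = 0 at hq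
    rw [← hp p, map_add, happ biprod.inl (biprod.desc c (-d)), happ biprod.inr (biprod.desc c (-d)),
      biprod.inl_desc, biprod.inr_desc, E.map_neg] at hq
    have hq' : E.map c (E.map biprod.fst p) = E.map d (E.map biprod.snd p) :=
      add_neg_eq_zero.1 hq
    obtain ⟨x, hxa, hxb⟩ := h2 _ _ hq'
    refine ⟨x, ?_⟩
    change E.map (biprod.lift a b) x = p
    rw [← hp p, ← hxa, ← hxb, ← hp (E.map (biprod.lift a b) x), happ (biprod.lift a b) biprod.fst,
      happ (biprod.lift a b) biprod.snd, biprod.lift_fst, biprod.lift_snd]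
  · refine (AddCommGrpCat.mono_iff_injective _).2 ((injective_iff_map_eq_zero _).2 ?_)
    intro x hx
    change E.map (biprod.lift a b) x = 0 at hx
    refine h1 x ?_ ?_
    · rw [← biprod.lift_fst a b, ← happ, hx, map_zero]
    · rw [← biprod.lift_snd a b, ← happ, hx, map_zero]
  · refine (AddCommGrpCat.epi_iff_surjective _).2 ?_
    intro v
    obtain ⟨y, hy⟩ := h3 v
    refine ⟨E.map biprod.inl y, ?_⟩
    change E.map (biprod.desc c (-d)) (E.map biprod.inl y) = v
    rw [happ, biprod.inl_desc]
    exact hy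

variable {X Y : TopCat.{u}}

/-- A sequence of sheaves which is short exact on every open is short exact. -/
theorem shortExact_of_sections (S : ShortComplex (CohTop.Ab Y))
    (h : ∀ W, (S.map (sheafToPresheaf (Opens.grothendieckTopology Y) AddCommGrpCat.{u} ⋙
      (evaluation _ _).obj W)).ShortExact) : S.ShortExact := by
  let G := sheafToPresheaf (Opens.grothendieckTopology Y) AddCommGrpCat.{u}
  have hP : (S.map G).ShortExact := by
    refine ShortComplex.ShortExact.mk' ?_ ?_ ?_
    · rw [ShortComplex.exact_iff_isZero_homology, Functor.isZero_iff]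
      intro W
      refine IsZero.of_iso ?_ ((S.map G).mapHomologyIso ((evaluation _ _).obj W)).symm
      exact (ShortComplex.exact_iff_isZero_homology _).1 (h W).exact
    · haveI : ∀ W, Mono ((S.map G).f.app W) := fun W => (h W).mono_f
      exact NatTrans.mono_of_mono_app _
    · haveI : ∀ W, Epi ((S.map G).g.app W) := fun W => (h W).epi_g
      exact NatTrans.epi_of_epi_app _
  refine ShortComplex.shortExact_of_iso ?_
    (hP.map_of_exact (presheafToSheaf (Opens.grothendieckTopology Y) AddCommGrpCat.{u}))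
  exact S.mapNatIso (asIso (sheafificationAdjunction (Opens.grothendieckTopology Y)
    AddCommGrpCat.{u}).counit)

theorem glue_two (F : CohTop.Ab X) {O A B C : Opens X} (hA : A ≤ O) (hB : B ≤ O)
    (hCA : C ≤ A) (hCB : C ≤ B) (hcov : O ≤ A ⊔ B) (hC : A ⊓ B ≤ C)
    (y : F.obj.obj (op A)) (z : F.obj.obj (op B))
    (e : F.obj.map (homOfLE hCA).op y = F.obj.map (homOfLE hCB).op z) :
    ∃ x : F.obj.obj (op O), F.obj.map (homOfLE hA).op x = y ∧ F.obj.map (homOfLE hB).op x = z := by
  let Uf : Bool → Opens X := fun i => match i with | true => A | false => B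
  let sf : ∀ i, ToType (F.1.obj (op (Uf i))) := fun i => match i with | true => y | false => z
  have key : F.obj.map (Opens.infLELeft A B).op y = F.obj.map (Opens.infLERight A B).op z := by
    have := congrArg (F.obj.map (homOfLE hC).op) e
    rw [← ConcreteCategory.comp_apply, ← ConcreteCategory.comp_apply, ← F.obj.map_comp,
      ← F.obj.map_comp] at this
    exact this
  have key' : F.obj.map (Opens.infLELeft B A).op z = F.obj.map (Opens.infLERight B A).op y := by
    have := congrArg (F.obj.map (homOfLE (inf_comm B A).le).op) key.symm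
    rw [← ConcreteCategory.comp_apply, ← ConcreteCategory.comp_apply, ← F.obj.map_comp,
      ← F.obj.map_comp] at this
    exact this
  have hc : TopCat.Presheaf.IsCompatible F.1 Uf sf := by
    intro i j
    match i, j with
    | true, true => rfl
    | true, false => exact key
    | false, true => exact key'
    | false, false => rfl
  obtain ⟨x, hx, -⟩ := TopCat.Sheaf.existsUnique_gluing' (F := (F : TopCat.Sheaf AddCommGrpCat X))
    Uf O (fun i => match i with | true => homOfLE hA | false => homOfLE hB)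
    (hcov.trans (sup_le (le_iSup Uf true) (le_iSup Uf false))) sf hc
  exact ⟨x, hx true, hx false⟩

variable (f : X ⟶ Y) (U V : Opens X)

theorem push_comp {U V : Opens X} (h : V ≤ U) :
    CohCx.pushToRestrPush f U ≫ CohCx.restrPushToRestrPush f h = CohCx.pushToRestrPush f V := by
  ext F : 2
  ext W : 3
  change F.obj.map _ ≫ F.obj.map _ = F.obj.map _
  rw [← F.obj.map_comp]
  rfl

/-- The Mayer–Vietoris short complex of one sheaf. -/
noncomputable def mvShort (I : CohTop.Ab X) : ShortComplex (CohTop.Ab Y) :=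
  ShortComplex.mk (biprod.lift ((CohCx.pushToRestrPush f U).app I)
      ((CohCx.pushToRestrPush f V).app I))
    (biprod.desc ((CohCx.restrPushToRestrPush f (inf_le_left : U ⊓ V ≤ U)).app I)
      (-((CohCx.restrPushToRestrPush f (inf_le_right : U ⊓ V ≤ V)).app I)))
    (by
      rw [biprod.lift_desc, Preadditive.comp_neg, ← NatTrans.comp_app, ← NatTrans.comp_app,
        push_comp, push_comp, add_neg_cancel])

theorem mem_iff {U : Opens X} {W : Opens Y} {x : X} :
    x ∈ (U.isOpenEmbedding.functor.obj ((Opens.map (CohCx.incl U ≫ f)).obj W)) ↔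
      x ∈ U ∧ f x ∈ W := by
  constructor
  · rintro ⟨y, hy, rfl⟩
    exact ⟨y.2, hy⟩
  · rintro ⟨hx, hw⟩
    exact ⟨⟨x, hx⟩, hw, rfl⟩

theorem mvShort_shortExact (hUV : U ⊔ V = ⊤) (I : CohTop.Ab X) [Injective I] :
    (mvShort f U V I).ShortExact := by
  refine shortExact_of_sections _ fun W => ?_
  have hcov : (Opens.map f).obj W.unop ≤
      U.isOpenEmbedding.functor.obj ((Opens.map (CohCx.incl U ≫ f)).obj W.unop) ⊔
      V.isOpenEmbedding.functor.obj ((Opens.map (CohCx.incl V ≫ f)).obj W.unop) := by
    intro x hx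
    have : x ∈ U ⊔ V := hUV ▸ trivial
    rcases this with h | h
    · exact Or.inl ((mem_iff f).2 ⟨h, hx⟩)
    · exact Or.inr ((mem_iff f).2 ⟨h, hx⟩)
  have hA : ∀ (U : Opens X),
      U.isOpenEmbedding.functor.obj ((Opens.map (CohCx.incl U ≫ f)).obj W.unop) ≤
        (Opens.map f).obj W.unop := fun U x hx => ((mem_iff f).1 hx).2
  have hCl : ∀ {U U' : Opens X}, U' ≤ U →
      U'.isOpenEmbedding.functor.obj ((Opens.map (CohCx.incl U' ≫ f)).obj W.unop) ≤
      U.isOpenEmbedding.functor.obj ((Opens.map (CohCx.incl U ≫ f)).obj W.unop) :=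
    fun h x hx => (mem_iff f).2 ⟨h ((mem_iff f).1 hx).1, ((mem_iff f).1 hx).2⟩
  apply shortExact_map_of_elements
  · intro x ha hb
    exact TopCat.Sheaf.eq_of_locally_eq₂ (F := (I : TopCat.Sheaf AddCommGrpCat X))
      (homOfLE (hA U)) (homOfLE (hA V)) hcov x 0 (ha.trans (map_zero _).symm)
      (hb.trans (map_zero _).symm)
  · intro y z e
    exact glue_two I (hA U) (hA V) (hCl inf_le_left) (hCl inf_le_right) hcov
      (fun x hx => (mem_iff f).2 ⟨⟨((mem_iff f).1 hx.1).1, ((mem_iff f).1 hx.2).1⟩,
        ((mem_iff f).1 hx.1).2⟩) y z e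
  · intro v
    exact @QCoh.Ab.restrict_surjective_of_injective X I ‹Injective I› _ _
      (homOfLE (hCl inf_le_left)) v

variable {F : CohTop.Ab X} (P : InjectiveResolution F)

/-- `α` applied to an injective resolution. -/
noncomputable abbrev cxMap {G H : CohTop.Ab X ⥤ CohTop.Ab Y} [G.Additive] [H.Additive] (α : G ⟶ H) :=
  (NatTrans.mapHomologicalComplex α (ComplexShape.up ℕ)).app P.cocomplex

/-- The Mayer–Vietoris short complex of complexes of an injective resolution. -/
noncomputable def cxShort : ShortComplex (CochainComplex (CohTop.Ab Y) ℕ) :=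
  ShortComplex.mk (biprod.lift (cxMap P (CohCx.pushToRestrPush f U))
      (cxMap P (CohCx.pushToRestrPush f V)))
    (biprod.desc (cxMap P (CohCx.restrPushToRestrPush f (inf_le_left : U ⊓ V ≤ U)))
      (-(cxMap P (CohCx.restrPushToRestrPush f (inf_le_right : U ⊓ V ≤ V)))))
    (by
      rw [biprod.lift_desc, Preadditive.comp_neg, add_neg_eq_zero]
      apply HomologicalComplex.hom_ext
      intro i
      change (CohCx.pushToRestrPush f U ≫ CohCx.restrPushToRestrPush f inf_le_left).app _ =
        (CohCx.pushToRestrPush f V ≫ CohCx.restrPushToRestrPush f inf_le_right).app _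
      rw [push_comp, push_comp])

theorem cxShort_shortExact (hUV : U ⊔ V = ⊤) : (cxShort f U V P).ShortExact := by
  haveI : HasBinaryBiproducts (CochainComplex (CohTop.Ab Y) ℕ) :=
    HasBinaryBiproducts.of_hasBinaryProducts
  refine HomologicalComplex.shortExact_of_degreewise_shortExact _ fun i => ?_
  haveI : Injective (P.cocomplex.X i) := P.injective i
  refine ShortComplex.shortExact_of_iso ?_ (mvShort_shortExact f U V hUV (P.cocomplex.X i))
  exact (mapLiftDescIso (HomologicalComplex.eval (CohTop.Ab Y) (ComplexShape.up ℕ) i)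
    (cxMap P (CohCx.pushToRestrPush f U)) (cxMap P (CohCx.pushToRestrPush f V))
    (cxMap P (CohCx.restrPushToRestrPush f (inf_le_left : U ⊓ V ≤ U)))
    (-(cxMap P (CohCx.restrPushToRestrPush f (inf_le_right : U ⊓ V ≤ V)))) (cxShort f U V P).zero
    (mvShort f U V (P.cocomplex.X i)).zero).symm

end Groth.Agent.SiteBase.RelMV

namespace Groth.Agent.SiteBase.RelMV

/-- Exactness of a two-step sequence isomorphic to an exact short complex. -/
theorem mk₂_exact_of_iso {A : Type u'} [Category.{v'} A] [Abelian A] {S : ShortComplex A}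
    (hS : S.Exact) {A₁ A₂ A₃ : A} (f : A₁ ⟶ A₂) (g : A₂ ⟶ A₃)
    (e₁ : A₁ ≅ S.X₁) (e₂ : A₂ ≅ S.X₂) (e₃ : A₃ ≅ S.X₃)
    (c₁ : f ≫ e₂.hom = e₁.hom ≫ S.f) (c₂ : g ≫ e₃.hom = e₂.hom ≫ S.g) :
    (ComposableArrows.mk₂ f g).Exact :=
  ComposableArrows.exact_of_iso (ComposableArrows.isoMk₂ e₁ e₂ e₃ c₁ c₂).symm hS.exact_toComposableArrows

variable {X Y : TopCat.{u}} {F : CohTop.Ab X} (P : InjectiveResolution F)

theorem rightDerived_app_hom {G H : CohTop.Ab X ⥤ CohTop.Ab Y} [G.Additive] [H.Additive]
    (α : G ⟶ H) (n : ℕ) :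
    (NatTrans.rightDerived α n).app F ≫ (P.isoRightDerivedObj H n).hom =
      (P.isoRightDerivedObj G n).hom ≫ HomologicalComplex.homologyMap (cxMap P α) n := by
  rw [InjectiveResolution.rightDerived_app_eq α P n, Category.assoc, Category.assoc,
    Iso.inv_hom_id, Category.comp_id]
  rfl

end Groth.Agent.SiteBase.RelMV
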