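import Groth.Prelude.Def_CohCx
import Mathlib.CategoryTheory.Sites.MayerVietorisSquare
import Mathlib.Algebra.Homology.DerivedCategory.SingleTriangle
import Mathlib.Algebra.Homology.ShortComplex.Ab

/-!
The Mayer-Vietoris long exact sequence for hypercohomology.
-/

set_option autoImplicit false

universe w v v' u u'

open CategoryTheory CategoryTheory.Limits Opposite Pretriangulated

noncomputable section

namespace Groth.Agent.MVDerived

lemma exact_mk₂ {A B C : AddCommGrpCat.{w}} (f : A ⟶ B) (g : B ⟶ C) (h0 : ∀ a, g (f a) = 0)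
    (h : ∀ b, g b = 0 → ∃ a, f a = b) : (ComposableArrows.mk₂ f g).Exact := by
  have w' : f ≫ g = 0 := AddCommGrpCat.ext h0
  have e : (ShortComplex.mk f g w').Exact := (ShortComplex.ab_exact_iff _).2 h
  exact e.exact_toComposableArrows

section Tri

variable {A : Type u} [Category.{v} A] [Abelian A] {D : Type u'} [Category.{v'} D] [Preadditive D]
  [HasZeroObject D] [HasShift D ℤ] [∀ n : ℤ, (shiftFunctor D n).Additive] [Pretriangulated D]
  (F : A ⥤ D) [F.Additive] {A₁ A₂ A₃ A₄ : A} (a : A₁ ⟶ A₂) (b : A₁ ⟶ A₃) (c : A₂ ⟶ A₄) (d : A₃ ⟶ A₄)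
  (δ₀ : F.obj A₄ ⟶ (F.obj A₁)⟦(1 : ℤ)⟧)
  (hT : Triangle.mk (F.map (biprod.lift a (-b))) (F.map (biprod.desc c d)) δ₀ ∈ distTriang D)
  (K : D)

def join {X : D} (x₂ : F.obj A₂ ⟶ X) (x₃ : F.obj A₃ ⟶ X) : F.obj (A₂ ⊞ A₃) ⟶ X :=
  F.map biprod.fst ≫ x₂ + F.map biprod.snd ≫ x₃

lemma lift_join {X : D} (x₂ : F.obj A₂ ⟶ X) (x₃ : F.obj A₃ ⟶ X) :
    F.map (biprod.lift a (-b)) ≫ join F x₂ x₃ = F.map a ≫ x₂ + -(F.map b ≫ x₃) := by
  rw [join, Preadditive.comp_add, ← F.map_comp_assoc, ← F.map_comp_assoc, biprod.lift_fst,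
    biprod.lift_snd, F.map_neg, Preadditive.neg_comp]

lemma inl_join {X : D} (x₂ : F.obj A₂ ⟶ X) (x₃ : F.obj A₃ ⟶ X) :
    F.map biprod.inl ≫ join F x₂ x₃ = x₂ := by
  rw [join, Preadditive.comp_add, ← F.map_comp_assoc, ← F.map_comp_assoc, biprod.inl_fst,
    biprod.inl_snd, F.map_id, F.map_zero, zero_comp, add_zero, Category.id_comp]

lemma inr_join {X : D} (x₂ : F.obj A₂ ⟶ X) (x₃ : F.obj A₃ ⟶ X) :
    F.map biprod.inr ≫ join F x₂ x₃ = x₃ := by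
  rw [join, Preadditive.comp_add, ← F.map_comp_assoc, ← F.map_comp_assoc, biprod.inr_fst,
    biprod.inr_snd, F.map_id, F.map_zero, zero_comp, zero_add, Category.id_comp]

lemma eq_join {X : D} (φ : F.obj (A₂ ⊞ A₃) ⟶ X) :
    φ = join F (F.map biprod.inl ≫ φ) (F.map biprod.inr ≫ φ) := by
  rw [join, ← F.map_comp_assoc, ← F.map_comp_assoc, ← Preadditive.add_comp, ← F.map_add,
    biprod.total, F.map_id, Category.id_comp]

def mvδ (n : ℤ) : (F.obj A₁ ⟶ K⟦n⟧) →+ (F.obj A₄ ⟶ K⟦n + 1⟧) :=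
  AddMonoidHom.mk' (fun x => δ₀ ≫ x⟦(1 : ℤ)⟧' ≫ (shiftFunctorAdd' D n 1 (n + 1) rfl).inv.app K)
    fun x y => by simp [Functor.map_add]

include hT in
theorem exact (n : ℤ) :
    (ComposableArrows.mk₂
      (AddCommGrpCat.ofHom ((Preadditive.leftComp (K⟦n⟧) (F.map c)).prod (Preadditive.leftComp (K⟦n⟧) (F.map d))))
      (AddCommGrpCat.ofHom ((Preadditive.leftComp (K⟦n⟧) (F.map a)).coprod
        (-(Preadditive.leftComp (K⟦n⟧) (F.map b)))))).Exact ∧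
    (ComposableArrows.mk₂
      (AddCommGrpCat.ofHom ((Preadditive.leftComp (K⟦n⟧) (F.map a)).coprod
        (-(Preadditive.leftComp (K⟦n⟧) (F.map b)))))
      (AddCommGrpCat.ofHom (mvδ F δ₀ K n))).Exact ∧
    (ComposableArrows.mk₂ (AddCommGrpCat.ofHom (mvδ F δ₀ K n))
      (AddCommGrpCat.ofHom ((Preadditive.leftComp (K⟦n + 1⟧) (F.map c)).prod
        (Preadditive.leftComp (K⟦n + 1⟧) (F.map d))))).Exact := by
  let T := Triangle.mk (F.map (biprod.lift a (-b))) (F.map (biprod.desc c d)) δ₀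
  have h12 : F.map (biprod.lift a (-b)) ≫ F.map (biprod.desc c d) = 0 := comp_distTriang_mor_zero₁₂ T hT
  have h23 : F.map (biprod.desc c d) ≫ δ₀ = 0 := comp_distTriang_mor_zero₂₃ T hT
  have h31 : δ₀ ≫ (F.map (biprod.lift a (-b)))⟦(1 : ℤ)⟧' = 0 := comp_distTriang_mor_zero₃₁ T hT
  have hc : F.map biprod.inl ≫ F.map (biprod.desc c d) = F.map c := by
    rw [← F.map_comp, biprod.inl_desc]
  have hd : F.map biprod.inr ≫ F.map (biprod.desc c d) = F.map d := by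
    rw [← F.map_comp, biprod.inr_desc]
  have hjoin : ∀ {X : D} (y : F.obj A₄ ⟶ X),
      join F (F.map c ≫ y) (F.map d ≫ y) = F.map (biprod.desc c d) ≫ y := fun y => by
    rw [← hc, ← hd, Category.assoc, Category.assoc, ← eq_join]
  refine ⟨exact_mk₂ _ _ ?_ ?_, exact_mk₂ _ _ ?_ ?_, exact_mk₂ _ _ ?_ ?_⟩
  · intro y
    show F.map a ≫ (F.map c ≫ y) + -(F.map b ≫ (F.map d ≫ y)) = 0
    rw [← lift_join, hjoin, reassoc_of% h12, zero_comp]
  · rintro ⟨x₂, x₃⟩ hx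
    change F.map a ≫ x₂ + -(F.map b ≫ x₃) = 0 at hx
    rw [← lift_join] at hx
    obtain ⟨g, hg⟩ : ∃ g : F.obj A₄ ⟶ K⟦n⟧, join F x₂ x₃ = F.map (biprod.desc c d) ≫ g :=
      T.yoneda_exact₂ hT (join F x₂ x₃) hx
    refine ⟨g, Prod.ext ?_ ?_⟩
    · show F.map c ≫ g = x₂
      rw [← hc, Category.assoc, ← hg, inl_join]
    · show F.map d ≫ g = x₃
      rw [← hd, Category.assoc, ← hg, inr_join]
  · rintro ⟨x₂, x₃⟩
    show δ₀ ≫ (F.map a ≫ x₂ + -(F.map b ≫ x₃))⟦(1 : ℤ)⟧' ≫ _ = 0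
    rw [← lift_join, Functor.map_comp, Category.assoc, reassoc_of% h31, zero_comp]
  · intro x hx
    change δ₀ ≫ x⟦(1 : ℤ)⟧' ≫ (shiftFunctorAdd' D n 1 (n + 1) rfl).inv.app K = 0 at hx
    rw [← Category.assoc, ← cancel_mono ((shiftFunctorAdd' D n 1 (n + 1) rfl).hom.app K),
      Category.assoc, Iso.inv_hom_id_app, zero_comp] at hx
    obtain ⟨g, hg⟩ : ∃ g : (F.obj (A₂ ⊞ A₃))⟦(1 : ℤ)⟧ ⟶ (K⟦n⟧)⟦(1 : ℤ)⟧,
        x⟦(1 : ℤ)⟧' = (-(F.map (biprod.lift a (-b)))⟦(1 : ℤ)⟧') ≫ g :=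
      T.rotate.yoneda_exact₃ (rot_of_distTriang _ hT) (x⟦(1 : ℤ)⟧')
        ((Category.comp_id _).symm.trans hx)
    obtain ⟨h, rfl⟩ := (shiftFunctor D (1 : ℤ)).map_surjective g
    refine ⟨(-(F.map biprod.inl ≫ h), -(F.map biprod.inr ≫ h)), ?_⟩
    show F.map a ≫ (-(F.map biprod.inl ≫ h)) + -(F.map b ≫ (-(F.map biprod.inr ≫ h))) = x
    have hj : join F (-(F.map biprod.inl ≫ h)) (-(F.map biprod.inr ≫ h)) = -h := by
      rw [eq_join F (-h), Preadditive.comp_neg, Preadditive.comp_neg]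
    rw [← lift_join, hj]
    apply (shiftFunctor D (1 : ℤ)).map_injective
    rw [hg, Preadditive.comp_neg, Functor.map_neg, Functor.map_comp]
    exact (Preadditive.neg_comp _ _).symm
  · intro x
    refine Prod.ext ?_ ?_
    · show F.map c ≫ δ₀ ≫ _ = 0
      rw [← hc, Category.assoc, reassoc_of% h23, zero_comp, comp_zero]
    · show F.map d ≫ δ₀ ≫ _ = 0
      rw [← hd, Category.assoc, reassoc_of% h23, zero_comp, comp_zero]
  · intro y hy
    have h₂ : F.map c ≫ y = 0 := congrArg Prod.fst hy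
    have h₃ : F.map d ≫ y = 0 := congrArg Prod.snd hy
    have hy' : F.map (biprod.desc c d) ≫ y = 0 := by
      rw [← hjoin, h₂, h₃, join, comp_zero, comp_zero, add_zero]
    obtain ⟨g, hg⟩ : ∃ g : (F.obj A₁)⟦(1 : ℤ)⟧ ⟶ K⟦n + 1⟧, y = δ₀ ≫ g := T.yoneda_exact₃ hT y hy'
    obtain ⟨x, hx⟩ := (shiftFunctor D (1 : ℤ)).map_surjective
      (g ≫ (shiftFunctorAdd' D n 1 (n + 1) rfl).hom.app K)
    refine ⟨x, ?_⟩
    show δ₀ ≫ x⟦(1 : ℤ)⟧' ≫ _ = y
    rw [hx]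
    refine Eq.trans ?_ hg.symm
    refine (congrArg (fun k => δ₀ ≫ k) ((Category.assoc _ _ _).trans
      (congrArg (fun k => g ≫ k) (Iso.hom_inv_id_app _ K)))).trans ?_
    exact congrArg (fun k => δ₀ ≫ k) (Category.comp_id g)

end Tri

theorem mayer_vietoris {C : Type u} [SmallCategory C] {J : GrothendieckTopology C}
    [HasWeakSheafify J (Type u)] [HasDerivedCategory.{u} (Sheaf J AddCommGrpCat.{u})]
    (S : J.MayerVietorisSquare) (K : DerivedCategory (Sheaf J AddCommGrpCat.{u})) :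
    ∃ δ : ∀ n : ℤ, CohCx.HDU K n S.X₁ →+ CohCx.HDU K (n + 1) S.X₄,
      ∀ n : ℤ,
        (ComposableArrows.mk₂
          (AddCommGrpCat.ofHom ((CohCx.HDUres K n S.f₂₄).prod (CohCx.HDUres K n S.f₃₄)))
          (AddCommGrpCat.ofHom ((CohCx.HDUres K n S.f₁₂).coprod (-(CohCx.HDUres K n S.f₁₃))))).Exact ∧
        (ComposableArrows.mk₂
          (AddCommGrpCat.ofHom ((CohCx.HDUres K n S.f₁₂).coprod (-(CohCx.HDUres K n S.f₁₃))))
          (AddCommGrpCat.ofHom (δ n))).Exact ∧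
        (ComposableArrows.mk₂ (AddCommGrpCat.ofHom (δ n))
          (AddCommGrpCat.ofHom ((CohCx.HDUres K (n + 1) S.f₂₄).prod (CohCx.HDUres K (n + 1) S.f₃₄)))).Exact := by
  have hS : S.shortComplex.ShortExact :=
    { exact := ShortComplex.exact_of_g_is_cokernel _ S.isPushoutAddCommGrpFreeSheaf.isColimitCokernelCofork }
  exact ⟨fun n => mvδ (DerivedCategory.singleFunctor (Sheaf J AddCommGrpCat.{u}) 0) hS.singleδ K n,
    fun n => exact (DerivedCategory.singleFunctor (Sheaf J AddCommGrpCat.{u}) 0)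
      (CohCx.freeSheafMap J S.f₁₂) (CohCx.freeSheafMap J S.f₁₃) (CohCx.freeSheafMap J S.f₂₄)
      (CohCx.freeSheafMap J S.f₃₄) hS.singleδ hS.singleTriangle_distinguished K n⟩

end Groth.Agent.MVDerived

end
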