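import Groth.Agent.SiteBase.KInjSections
import Groth.Agent.SiteBase.KInjAdj
import Groth.Agent.SiteBase.LanExact
import Groth.Agent.TriCat.KInjRes
import Mathlib.Algebra.Homology.Factorizations.CM5a
import Mathlib.CategoryTheory.Sites.Continuous
import Mathlib.CategoryTheory.Limits.Preserves.Shapes.Kernels

/-!
# Hypercohomology presheaves of direct images
-/

set_option autoImplicit false

universe w v u u'

open CategoryTheory CategoryTheory.Limits Opposite ZeroObject

namespace Groth.Agent.PushHyper

lemma isIso_homologyMap_of_quasiIso_kInjective {A : Type u'} [Category.{v} A] [Abelian A]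
    {B : Type*} [Category B] [Abelian B] (F : A ⥤ B) [F.Additive] {S I : CochainComplex A ℤ}
    (f : S ⟶ I) [QuasiIso f] [S.IsKInjective] [I.IsKInjective] (n : ℤ) :
    IsIso (HomologicalComplex.homologyMap ((F.mapHomologicalComplex _).map f) n) := by
  let := HasDerivedCategory.standard A
  have h1 : IsIso (DerivedCategory.Qh.map ((HomotopyCategory.quotient A _).map f)) :=
    (NatIso.isIso_map_iff (DerivedCategory.quotientCompQhIso A) f).2 inferInstance
  have h2 : IsIso ((HomotopyCategory.quotient A _).map f) := isIso_of_yoneda_map_bijective _ fun X => by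
    refine (Function.Bijective.of_comp_iff' (CochainComplex.IsKInjective.Qh_map_bijective X I) _).1 ?_
    have e : (DerivedCategory.Qh.map : (X ⟶ (HomotopyCategory.quotient A _).obj I) → _) ∘
        (fun x => x ≫ (HomotopyCategory.quotient A _).map f) =
        (fun y => y ≫ DerivedCategory.Qh.map ((HomotopyCategory.quotient A _).map f)) ∘
          DerivedCategory.Qh.map := funext fun x => Functor.map_comp _ _ _
    exact e ▸ (asIso (DerivedCategory.Qh.map ((HomotopyCategory.quotient A _).map f))).homToEquiv.bijective.comp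
      (CochainComplex.IsKInjective.Qh_map_bijective X S)
  have : IsIso ((HomotopyCategory.quotient B _).map ((F.mapHomologicalComplex _).map f)) :=
    (NatIso.isIso_map_iff (F.mapHomotopyCategoryFactors (ComplexShape.up ℤ)) f).1
      (show IsIso ((F.mapHomotopyCategory (ComplexShape.up ℤ)).map ((HomotopyCategory.quotient A _).map f)) from
        (F.mapHomotopyCategory (ComplexShape.up ℤ)).map_isIso _)
  exact (NatIso.isIso_map_iff (HomotopyCategory.homologyFunctorFactors B (ComplexShape.up ℤ) n)
    ((F.mapHomologicalComplex _).map f)).1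
    ((HomotopyCategory.homologyFunctor B (ComplexShape.up ℤ) n).map_isIso _)

variable {C : Type u} [SmallCategory C] {J : GrothendieckTopology C}

lemma exactAt_of_presheaf (S : CochainComplex (Sheaf J AddCommGrpCat.{u}) ℤ) (i : ℤ) (B : Set C)
    (hB : ∀ U : C, ∃ (ι : Type u) (Y : ι → C) (f : ∀ k, Y k ⟶ U),
      Sieve.ofArrows Y f ∈ J U ∧ ∀ k, Y k ∈ B)
    (h : ∀ V ∈ B, Subsingleton (((KInjSections.preCx S).homology i).obj (op V))) : S.ExactAt i := by
  let P := (KInjSections.preCx S).homology i
  let φ : P ⟶ (0 : Cᵒᵖ ⥤ AddCommGrpCat.{u}) := 0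
  have hz : ∀ U : Cᵒᵖ, Subsingleton ((0 : Cᵒᵖ ⥤ AddCommGrpCat.{u}).obj U) := fun U =>
    AddCommGrpCat.subsingleton_of_isZero ((isZero_zero (Cᵒᵖ ⥤ AddCommGrpCat.{u})).obj U)
  have : Presheaf.IsLocallyInjective J φ := ⟨fun {U} x y _ => by
    obtain ⟨ι, Y, f, hf, hY⟩ := hB U.unop
    refine J.superset_covering ?_ hf
    rintro Z g ⟨Z', b, c, ⟨k⟩, rfl⟩
    exact (Presheaf.equalizerSieve x y).downward_closed (@Subsingleton.elim _ (h _ (hY k)) _ _) b⟩
  have : Presheaf.IsLocallySurjective J φ := ⟨fun {U} s => by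
    refine J.superset_covering (fun V g _ => ⟨0, @Subsingleton.elim _ (hz _) _ _⟩) (J.top_mem U)⟩
  have hφ : IsIso ((presheafToSheaf J AddCommGrpCat.{u}).map φ) :=
    (J.W_iff _).1 (J.W_of_isLocallyBijective φ)
  rw [HomologicalComplex.exactAt_iff_isZero_homology]
  let e : S ≅ ((presheafToSheaf J AddCommGrpCat.{u}).mapHomologicalComplex _).obj (KInjSections.preCx S) :=
    HomologicalComplex.Hom.isoOfComponents
      (fun n => ((asIso (sheafificationAdjunction J AddCommGrpCat.{u}).counit).symm.app (S.X n)))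
      (fun a b _ => ((asIso (sheafificationAdjunction J AddCommGrpCat.{u}).counit).symm.hom.naturality
        (S.d a b)).symm)
  refine IsZero.of_iso ?_ ((HomologicalComplex.homologyFunctor _ _ i).mapIso e ≪≫
    ((KInjSections.preCx S).sc i).mapHomologyIso (presheafToSheaf J AddCommGrpCat.{u}))
  exact ((presheafToSheaf J AddCommGrpCat.{u}).map_isZero (isZero_zero _)).of_iso
    (@asIso _ _ _ _ _ hφ)

/-- Sections of a K-injective complex of sheaves exact in negative degrees. -/
theorem negative_and_sheaf (S : CochainComplex (Sheaf J AddCommGrpCat.{u}) ℤ) [S.IsKInjective]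
    (h : ∀ i < 0, S.ExactAt i) :
    (∀ i < 0, IsZero ((KInjSections.preCx S).homology i)) ∧
      Presheaf.IsSheaf J ((KInjSections.preCx S).homology 0) := by
  let := HasDerivedCategory.standard (Sheaf J AddCommGrpCat.{u})
  have : S.IsGE 0 := (S.isGE_iff 0).2 h
  have : QuasiIso (S.πTruncGE 0) := (S.quasiIso_πTruncGE_iff 0).2 inferInstance
  obtain ⟨I, j, hj, hI, hI0⟩ :=
    CochainComplex.Plus.modelCategoryQuillen.exists_quasiIso_injective (K := S.truncGE 0) 0
  have : I.IsKInjective := CochainComplex.isKInjective_of_injective I 0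
  let f := S.πTruncGE 0 ≫ j
  let F := sheafToPresheaf J AddCommGrpCat.{u}
  have e : ∀ n, (KInjSections.preCx S).homology n ≅ (KInjSections.preCx I).homology n := fun n =>
    @asIso _ _ _ _ _ (isIso_homologyMap_of_quasiIso_kInjective F f n)
  refine ⟨fun i hi => IsZero.of_iso ?_ (e i), ?_⟩
  · rw [← HomologicalComplex.exactAt_iff_isZero_homology]
    exact ShortComplex.exact_of_isZero_X₂ _ (F.map_isZero (I.isZero_of_isStrictlyGE 0 i hi))
  · have hzero : (KInjSections.preCx I).d (-1) 0 = 0 :=
      (F.map_isZero (I.isZero_of_isStrictlyGE 0 (-1) (by omega))).eq_of_src _ _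
    have := ((KInjSections.preCx I).isIso_homologyπ (-1) 0 (by simp) hzero)
    have : PreservesFiniteLimits F := inferInstance
    let k : (KInjSections.preCx I).cycles 0 ≅ F.obj (kernel (I.d 0 1)) :=
      ((KInjSections.preCx I).cyclesIsKernel 0 1 (by simp)).conePointUniqueUpToIso
        (kernelIsKernel (F.map (I.d 0 1))) ≪≫ (PreservesKernel.iso F (I.d 0 1)).symm
    exact Presheaf.isSheaf_of_iso_iff ((e 0) ≪≫ (asIso ((KInjSections.preCx I).homologyπ 0)).symm ≪≫ k) |>.2
      (kernel (I.d 0 1)).2

variable {D : Type u} [SmallCategory D] {K : GrothendieckTopology D}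

/-- Negative hypercohomology and the sheaf property of `V ↦ H^0(u V, -)`. -/
theorem negative_and_sheaf_push [HasDerivedCategory.{u} (Sheaf J AddCommGrpCat.{u})] (u' : D ⥤ C)
    [u'.IsContinuous K J] [PreservesFiniteLimits (u'.sheafPullback AddCommGrpCat.{u} K J)]
    (B : Set D) (hB : ∀ U : D, ∃ (ι : Type u) (Y : ι → D) (f : ∀ k, Y k ⟶ U),
      Sieve.ofArrows Y f ∈ K U ∧ ∀ k, Y k ∈ B)
    (M : DerivedCategory (Sheaf J AddCommGrpCat.{u}))
    (h : ∀ V ∈ B, ∀ i : ℤ, i < 0 → Subsingleton (CohCx.HDU M i (u'.obj V))) :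
    (∀ (V : D) (i : ℤ), i < 0 → Subsingleton (CohCx.HDU M i (u'.obj V))) ∧
      Presheaf.IsSheaf K (u'.op ⋙ CohCx.HDUPresheaf M 0) := by
  have := Localization.essSurj (DerivedCategory.Q (C := Sheaf J AddCommGrpCat.{u}))
    (HomologicalComplex.quasiIso _ (ComplexShape.up ℤ))
  obtain ⟨I, f, hI, hf, -, -⟩ := TriCat.exists_kInjective_resolution' (DerivedCategory.Q.objPreimage M)
  let i : DerivedCategory.Q.obj I ≅ M :=
    (asIso (DerivedCategory.Q.map f)).symm ≪≫ DerivedCategory.Q.objObjPreimageIso M
  let adj := u'.sheafAdjunctionContinuous AddCommGrpCat.{u} K J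
  let G := u'.sheafPushforwardContinuous AddCommGrpCat.{u} K J
  have hadd : (u'.sheafPullback AddCommGrpCat.{u} K J).Additive := adj.left_adjoint_additive
  have : G.Additive := adj.right_adjoint_additive
  have : PreservesColimitsOfSize.{0, 0} (u'.sheafPullback AddCommGrpCat.{u} K J) :=
    adj.leftAdjoint_preservesColimits
  let S := (G.mapHomologicalComplex (ComplexShape.up ℤ)).obj I
  have : PreservesFiniteColimits (u'.sheafPullback AddCommGrpCat.{u} K J) := ⟨fun _ => inferInstance⟩
  have : CochainComplex.IsKInjective S :=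
    @SiteBase.isKInjective_map _ _ _ _ _ _ _ _ adj hadd (by assumption) (by assumption) (by assumption) I hI
  let R := (Functor.whiskeringLeft Dᵒᵖ Cᵒᵖ AddCommGrpCat.{u}).obj u'.op
  have e : ∀ q : ℤ, (KInjSections.preCx S).homology q ≅ u'.op ⋙ CohCx.HDUPresheaf M q := fun q =>
    HomologicalComplex.homologyMapIso
      (HomologicalComplex.Hom.isoOfComponents (fun n => Iso.refl _)
        (fun a b _ => (Category.id_comp _).trans (Category.comp_id _).symm) :
        KInjSections.preCx S ≅ (R.mapHomologicalComplex _).obj (KInjSections.preCx I)) q ≪≫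
    ((KInjSections.preCx I).sc q).mapHomologyIso R ≪≫ R.mapIso (KInjSections.iso I q) ≪≫
    NatIso.ofComponents (fun V =>
      AddEquiv.toAddCommGrpIso
        { toFun := fun x => x ≫ i.hom⟦q⟧'
          invFun := fun x => x ≫ i.inv⟦q⟧'
          left_inv := fun x => (Category.assoc _ _ _).trans
            ((congrArg (x ≫ ·) ((shiftFunctor _ q).mapIso i).hom_inv_id).trans (Category.comp_id x))
          right_inv := fun x => (Category.assoc _ _ _).trans
            ((congrArg (x ≫ ·) ((shiftFunctor _ q).mapIso i).inv_hom_id).trans (Category.comp_id x))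
          map_add' := fun x y => Preadditive.add_comp _ _ _ _ _ _ })
      (fun g => by ext x; exact Category.assoc _ _ _)
  have hS : ∀ q < 0, S.ExactAt q := fun q hq => exactAt_of_presheaf S q B hB fun V hV =>
    @Equiv.subsingleton _ _ ((e q).app (op V)).addCommGroupIsoToAddEquiv.toEquiv (h V hV q hq)
  obtain ⟨h1, h2⟩ := negative_and_sheaf S hS
  refine ⟨fun V q hq => ?_, (Presheaf.isSheaf_of_iso_iff (e 0)).1 h2⟩
  exact AddCommGrpCat.subsingleton_of_isZero (((h1 q hq).of_iso (e q).symm).obj (op V))

end Groth.Agent.PushHyper
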