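import Groth.Agent.QCoh.Ab.CechBridge
import Groth.Prelude.Def_CohTop
import Mathlib.Topology.Sheaves.SheafCondition.UniqueGluing
import Mathlib.SetTheory.Cardinal.Order

/-!
# Vanishing of Cech cohomology when restrictions to unions of intersections are surjective
-/

universe u

open CategoryTheory TopologicalSpace Opposite
open Groth.Agent.QCoh.Ab

namespace Groth.Agent.SiteBase.CechSurj

variable {X : TopCat.{u}} (F : TopCat.Sheaf AddCommGrpCat.{u} X) {ι : Type u} (U : ι → Opens X)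

/-- Restriction of sections. -/
noncomputable abbrev res {A B : Opens X} (h : B ≤ A) : F.obj.obj (op A) →+ F.obj.obj (op B) :=
  (F.obj.map (homOfLE h).op).hom

lemma res_res {A B D : Opens X} (h : B ≤ A) (k : D ≤ B) (x : F.obj.obj (op A)) :
    res F k (res F h x) = res F (k.trans h) x :=
  map_map'' F.obj (homOfLE h) (homOfLE k) (homOfLE (k.trans h)) x

lemma res_self {A : Opens X} (h : A ≤ A) (x : F.obj.obj (op A)) : res F h x = x :=
  map_self F.obj (homOfLE h) x

lemma sep {A : Opens X} {κ : Type u} (V : κ → Opens X) (hV : A ≤ iSup V) {s t : F.obj.obj (op A)}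
    (h : ∀ k, ∀ W : Opens X, ∀ (hA : W ≤ A), W ≤ V k → res F hA s = res F hA t) : s = t :=
  F.eq_of_locally_eq' (fun k => A ⊓ V k) A (fun _ => homOfLE inf_le_left)
    (fun x hx => by
      obtain ⟨k, hk⟩ := Opens.mem_iSup.1 (hV hx)
      exact Opens.mem_iSup.2 ⟨k, hx, hk⟩) s t fun k => h k _ inf_le_left inf_le_right

lemma glue {A : Opens X} {κ : Type u} (V : κ → Opens X) (hV : A ≤ iSup V)
    (s : ∀ k, F.obj.obj (op (A ⊓ V k)))
    (h : ∀ k l, ∀ W : Opens X, ∀ (hk : W ≤ A ⊓ V k) (hl : W ≤ A ⊓ V l), res F hk (s k) = res F hl (s l)) :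
    ∃ t : F.obj.obj (op A), ∀ k, res F (inf_le_left : A ⊓ V k ≤ A) t = s k := by
  obtain ⟨t, ht, -⟩ := F.existsUnique_gluing' (fun k => A ⊓ V k) A (fun _ => homOfLE inf_le_left)
    (fun x hx => by
      obtain ⟨k, hk⟩ := Opens.mem_iSup.1 (hV hx)
      exact Opens.mem_iSup.2 ⟨k, hx, hk⟩) s fun k l => h k l _ inf_le_left inf_le_right
  exact ⟨t, ht⟩

/-- The intersection of the members of a tuple. -/
abbrev I {n : ℕ} (σ : Fin n → ι) : Opens X := ⨅ a, U (σ a)

lemma le_I_iff {n : ℕ} {σ : Fin n → ι} {W : Opens X} : W ≤ I U σ ↔ ∀ a, W ≤ U (σ a) := le_iInf_iff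

lemma le_I_cons {n : ℕ} {σ : Fin n → ι} {i : ι} {W : Opens X} :
    W ≤ I U (Fin.cons i σ : Fin (n + 1) → ι) ↔ W ≤ U i ∧ W ≤ I U σ := by
  simp [Fin.forall_fin_succ]

lemma le_I_face {n : ℕ} {σ : Fin (n + 1) → ι} {W : Opens X} (h : W ≤ I U σ) (a : Fin (n + 1)) :
    W ≤ I U (fun b => σ (a.succAbove b)) := le_iInf fun _ => h.trans (iInf_le _ _)

/-- The values on a fixed open of a family of sections. -/
noncomputable def on {α : Type*} {D : α → Opens X} (s : ∀ a, F.obj.obj (op (D a))) (W : Opens X) (a : α) :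
    F.obj.obj (op W) :=
  open Classical in if h : W ≤ D a then res F h (s a) else 0

lemma on_eq {α : Type*} {D : α → Opens X} (s : ∀ a, F.obj.obj (op (D a))) {W : Opens X} {a : α} (h : W ≤ D a) :
    on F s W a = res F h (s a) := dif_pos h

lemma res_delta {n : ℕ} {α : Type*} {W W' : Opens X} (h : W' ≤ W) (g : (Fin n → α) → F.obj.obj (op W))
    (g' : (Fin n → α) → F.obj.obj (op W')) (σ : Fin (n + 1) → α)
    (hg : ∀ a : Fin (n + 1), res F h (g fun b => σ (a.succAbove b)) = g' fun b => σ (a.succAbove b)) :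
    res F h (delta g σ) = delta g' σ := by
  simp only [delta, map_sum, map_zsmul, hg]

lemma res_on {α : Type*} {D : α → Opens X} (s : ∀ a, F.obj.obj (op (D a))) {W W' : Opens X} (h : W' ≤ W) {a : α}
    (ha : W ≤ D a) : res F h (on F s W a) = on F s W' a := by
  rw [on_eq F s ha, on_eq F s (h.trans ha), res_res]

lemma delta_congr {n : ℕ} {α A : Type*} [AddCommGroup A] {g g' : (Fin n → α) → A} (σ : Fin (n + 1) → α)
    (h : ∀ a : Fin (n + 1), g (fun b => σ (a.succAbove b)) = g' fun b => σ (a.succAbove b)) :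
    delta g σ = delta g' σ := by
  simp only [delta, h]

variable {p : ℕ} (c : Cochain F.obj U (p + 2))

/-- A solution over one member of the family. -/
def Good (i : ι) (s : ∀ σ : Fin (p + 1) → ι, F.obj.obj (op (U i ⊓ I U σ))) : Prop :=
  ∀ (τ : Fin (p + 2) → ι) (W : Opens X), W ≤ U i → ∀ (h : W ≤ I U τ),
    delta (on F s W) τ = c τ ⟨W, le_I_iff U |>.1 h⟩

/-- Agreement of two partial solutions. -/
def Agree (i j : ι) (s : ∀ σ : Fin (p + 1) → ι, F.obj.obj (op (U i ⊓ I U σ)))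
    (t : ∀ σ : Fin (p + 1) → ι, F.obj.obj (op (U j ⊓ I U σ))) : Prop :=
  ∀ (σ : Fin (p + 1) → ι) (W : Opens X), W ≤ U i → W ≤ U j → W ≤ I U σ → on F s W σ = on F t W σ

variable {c}

/-- Surjectivity of restrictions to unions of intersections. -/
def Surj : Prop :=
  ∀ (κ : Type u) (n : ℕ) (a : κ → Fin (n + 1) → ι) (A : Opens X), A ≤ iSup U → ∀ (h : (⨆ k, I U (a k)) ≤ A),
    Function.Surjective (res F h)

theorem exists_extension (hc : IsNatural c) (hd : d c = 0) (hsurj : Surj F U) (S : Set ι)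
    (f : ∀ j : S, ∀ σ : Fin (p + 1) → ι, F.obj.obj (op (U j.1 ⊓ I U σ)))
    (hf : ∀ j, Good F U c j.1 (f j)) (hag : ∀ j k : S, Agree F U j.1 k.1 (f j) (f k)) (i : ι) :
    ∃ s, Good F U c i s ∧ ∀ j : S, Agree F U i j.1 s (f j) := by
  classical
  let s0 : ∀ σ : Fin (p + 1) → ι, F.obj.obj (op (U i ⊓ I U σ)) := fun σ =>
    c (Fin.cons i σ) ⟨U i ⊓ I U σ, Fin.cases inf_le_left fun a => inf_le_right.trans (iInf_le _ a)⟩
  have h0 : Good F U c i s0 := fun τ W hi hτ => by
    have hτ' := (le_I_iff U).1 hτ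
    have hz : d c (Fin.cons i τ) ⟨W, Fin.cases hi hτ'⟩ = 0 := by rw [hd]; rfl
    rw [d_cons c i τ W hi hτ', sub_eq_zero] at hz
    rw [hz]
    refine Finset.sum_congr rfl fun a _ => congrArg _ ?_
    rw [on_eq F s0 (le_inf hi (le_I_face U hτ a))]
    exact hc _ _ _ _ _ _
  let κ := fun (τ' : Fin p → ι) (j : S) => (Fin.cons j.1 (Fin.cons i τ' : Fin (p + 1) → ι) : Fin (p + 2) → ι)
  have hκ : ∀ τ', (⨆ j, I U (κ τ' j)) ≤ U i ⊓ I U τ' := fun τ' => iSup_le fun j =>
    le_inf ((le_I_cons U).1 ((le_I_cons U).1 le_rfl).2).1 ((le_I_cons U).1 ((le_I_cons U).1 le_rfl).2).2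
  have hpieces : ∀ τ', ∃ g : F.obj.obj (op (⨆ j, I U (κ τ' j))), ∀ (j : S) (W : Opens X) (hA : W ≤ ⨆ j, I U (κ τ' j)),
      W ≤ I U (κ τ' j) → res F hA g = on F (f j) W (Fin.cons i τ') - on F s0 W (Fin.cons i τ') := fun τ' => by
    obtain ⟨g, hg⟩ := glue F (A := ⨆ j, I U (κ τ' j)) (fun j => I U (κ τ' j)) le_rfl
      (fun j => on F (f j) _ (Fin.cons i τ') - on F s0 _ (Fin.cons i τ')) fun j k W hj hk => by
        have hj' := (le_I_cons U).1 (hj.trans inf_le_right)
        have hk' := (le_I_cons U).1 (hk.trans inf_le_right)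
        have hjj := (le_I_cons U).1 (inf_le_right : (⨆ j', I U (κ τ' j')) ⊓ I U (κ τ' j) ≤ I U (κ τ' j))
        have hkk := (le_I_cons U).1 (inf_le_right : (⨆ j', I U (κ τ' j')) ⊓ I U (κ τ' k) ≤ I U (κ τ' k))
        rw [map_sub, map_sub, res_on F (f j) hj (le_inf hjj.1 hjj.2), res_on F (f k) hk (le_inf hkk.1 hkk.2),
          res_on F s0 hj (le_inf ((le_I_cons U).1 hjj.2).1 hjj.2),
          res_on F s0 hk (le_inf ((le_I_cons U).1 hkk.2).1 hkk.2), hag j k _ W hj'.1 hk'.1 hj'.2]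
    refine ⟨g, fun j W hA hW => ?_⟩
    have hjj := (le_I_cons U).1 (inf_le_right : (⨆ j', I U (κ τ' j')) ⊓ I U (κ τ' j) ≤ I U (κ τ' j))
    have e := congrArg (res F (le_inf hA hW)) (hg j)
    rw [res_res, map_sub, res_on F (f j) _ (le_inf hjj.1 hjj.2),
      res_on F s0 _ (le_inf ((le_I_cons U).1 hjj.2).1 hjj.2)] at e
    exact e
  choose g hg using hpieces
  choose g' hg' using fun τ' => hsurj S (p + 1) (κ τ') (U i ⊓ I U τ')
    (inf_le_left.trans (le_iSup U i)) (hκ τ') (g τ')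
  let s : ∀ σ : Fin (p + 1) → ι, F.obj.obj (op (U i ⊓ I U σ)) := fun σ =>
    s0 σ + delta (on F g' (U i ⊓ I U σ)) σ
  have hs : ∀ (σ : Fin (p + 1) → ι) (W : Opens X), W ≤ U i → W ≤ I U σ →
      on F s W σ = on F s0 W σ + delta (on F g' W) σ := fun σ W hi hσ => by
    rw [on_eq F s (le_inf hi hσ), map_add, on_eq F s0 (le_inf hi hσ)]
    congr 1
    exact res_delta F _ _ _ _ fun a => res_on F g' _ (le_inf inf_le_left (le_I_face U inf_le_right a))
  refine ⟨s, fun τ W hi hτ => ?_, fun j σ W hi hj hσ => ?_⟩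
  · rw [delta_congr (g' := fun ρ => on F s0 W ρ + delta (on F g' W) ρ) τ fun a => hs _ W hi (le_I_face U hτ a),
      ← h0 τ W hi hτ]
    have := delta_delta (on F g' W) τ
    simp only [delta, smul_add, Finset.sum_add_distrib] at this ⊢
    rw [this, add_zero]
  · rw [hs σ W hi hσ]
    let diff : (Fin (p + 1) → ι) → F.obj.obj (op W) := fun ρ => on F (f j) W ρ - on F s0 W ρ
    have hfaces : ∀ a : Fin (p + 1), W ≤ I U (fun b => σ (a.succAbove b)) := le_I_face U hσ
    have e1 : delta (on F g' W) σ = delta (fun ρ => diff (Fin.cons i ρ)) σ := delta_congr σ fun a => by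
      have hA : W ≤ I U (κ (fun b => σ (a.succAbove b)) j) :=
        (le_I_cons U).2 ⟨hj, (le_I_cons U).2 ⟨hi, hfaces a⟩⟩
      have hA' := hA.trans (le_iSup (fun j => I U (κ (fun b => σ (a.succAbove b)) j)) j)
      rw [on_eq F g' (le_inf hi (hfaces a)), ← res_res F (hκ _) hA', hg']
      exact hg _ j W hA' hA
    have e2 : delta diff (Fin.cons i σ) = 0 := by
      have hc' := (le_I_cons U).2 ⟨hi, hσ⟩
      rw [show delta diff (Fin.cons i σ) = delta (on F (f j) W) (Fin.cons i σ) - delta (on F s0 W) (Fin.cons i σ) from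
        congrFun (delta_sub _ _) _, hf j _ W hj hc', h0 _ W hi hc', sub_self]
    rw [delta_cons, sub_eq_zero] at e2
    rw [e1, ← e2]
    exact add_sub_cancel _ _

/-- The well-founded recursion. -/
noncomputable def sol (hc : IsNatural c) (hd : d c = 0) (hsurj : Surj F U) (r : ι → ι → Prop)
    (hr : WellFounded r) : ∀ i, ∀ σ : Fin (p + 1) → ι, F.obj.obj (op (U i ⊓ I U σ)) :=
  hr.fix fun i ih =>
    open Classical in
    if h : (∀ j : {j // r j i}, Good F U c j.1 (ih j.1 j.2)) ∧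
        ∀ j k : {j // r j i}, Agree F U j.1 k.1 (ih j.1 j.2) (ih k.1 k.2) then
      (exists_extension F U hc hd hsurj {j | r j i} (fun j => ih j.1 j.2) h.1 h.2 i).choose
    else 0

theorem acyclic_of_surj (hsurj : Surj F U) : Acyclic F.obj U := by
  intro p c hc hd
  let r : ι → ι → Prop := WellOrderingRel
  have hr : WellFounded r := WellOrderingRel.isWellOrder.wf
  let t := sol F U hc hd hsurj r hr
  have hsym : ∀ {i j} {a : ∀ σ : Fin (p + 1) → ι, F.obj.obj (op (U i ⊓ I U σ))}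
      {b : ∀ σ : Fin (p + 1) → ι, F.obj.obj (op (U j ⊓ I U σ))}, Agree F U i j a b → Agree F U j i b a :=
    fun h σ W hi hj hσ => (h σ W hj hi hσ).symm
  have key : ∀ i, Good F U c i (t i) ∧ ∀ j, r j i → Agree F U i j (t i) (t j) := fun i => by
    induction i using hr.induction with
    | _ i ih =>
      have h : (∀ j : {j // r j i}, Good F U c j.1 (t j.1)) ∧
          ∀ j k : {j // r j i}, Agree F U j.1 k.1 (t j.1) (t k.1) := by
        refine ⟨fun j => (ih j.1 j.2).1, fun j k => ?_⟩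
        rcases trichotomous_of r j.1 k.1 with h | h | h
        · exact hsym ((ih k.1 k.2).2 j.1 h)
        · obtain rfl : j = k := Subtype.ext h
          exact fun σ W _ _ _ => rfl
        · exact (ih j.1 j.2).2 k.1 h
      have e : t i = (exists_extension F U hc hd hsurj {j | r j i} (fun j => t j.1) h.1 h.2 i).choose :=
        (hr.fix_eq _ i).trans (dif_pos h)
      have hspec := (exists_extension F U hc hd hsurj {j | r j i} (fun j => t j.1) h.1 h.2 i).choose_spec
      rw [e]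
      exact ⟨hspec.1, fun j hj => hspec.2 ⟨j, hj⟩⟩
  have hagree : ∀ i j, Agree F U i j (t i) (t j) := fun i j => by
    rcases trichotomous_of r i j with h | h | h
    · exact hsym ((key j).2 i h)
    · subst h; exact fun σ W _ _ _ => rfl
    · exact (key i).2 j h
  have hex : ∀ (σ : Fin (p + 1) → ι) (W : {W : Opens X // Le U σ W}), ∃ s : F.obj.obj (op W.1),
      ∀ i, res F (inf_le_left : W.1 ⊓ U i ≤ W.1) s = on F (t i) (W.1 ⊓ U i) σ := fun σ W =>
    glue F (A := W.1) U ((W.2 0).trans (le_iSup U (σ 0))) (fun i => on F (t i) (W.1 ⊓ U i) σ) fun i j V hi hj => by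
      have hI : W.1 ≤ I U σ := (le_I_iff U).2 W.2
      rw [res_on F (t i) hi (le_inf inf_le_right (inf_le_left.trans hI)),
        res_on F (t j) hj (le_inf inf_le_right (inf_le_left.trans hI))]
      exact hagree i j σ V (hi.trans inf_le_right) (hj.trans inf_le_right) (hi.trans (inf_le_left.trans hI))
  choose h hh using hex
  have hh' : ∀ (σ : Fin (p + 1) → ι) (W : {W : Opens X // Le U σ W}) (i : ι) (V : Opens X) (hV : V ≤ W.1),
      V ≤ U i → res F hV (h σ W) = on F (t i) V σ := fun σ W i V hV hi => by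
    have := congrArg (res F (le_inf hV hi)) (hh σ W i)
    rwa [res_res, res_on F (t i) _ (le_inf inf_le_right (inf_le_left.trans ((le_I_iff U).2 W.2)))] at this
  refine ⟨h, fun σ W W' hW hW' f => ?_, funext fun τ => funext fun W => ?_⟩
  · refine sep F (A := W') U ((hW' 0).trans (le_iSup U (σ 0))) fun i V hV hi => ?_
    rw [show F.obj.map f.op (h σ ⟨W, hW⟩) = res F f.le (h σ ⟨W, hW⟩) from rfl, res_res,
      hh' σ ⟨W', hW'⟩ i V hV hi, hh' σ ⟨W, hW⟩ i V _ hi]
  · refine sep F (A := W.1) U ((W.2 0).trans (le_iSup U (τ 0))) fun i V hV hi => ?_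
    show res F hV (∑ a : Fin (p + 2), (-1 : ℤ) ^ (a : ℕ) •
      h (fun b => τ (a.succAbove b)) ⟨W.1, fun b => W.2 (a.succAbove b)⟩) = _
    rw [map_sum]
    refine Eq.trans ?_ (((key i).1 τ V hi (hV.trans ((le_I_iff U).2 W.2))).trans
      (hc τ W.1 V W.2 _ (homOfLE hV)).symm)
    exact Finset.sum_congr rfl fun a _ => (map_zsmul _ _ _).trans (congrArg _
      (hh' (fun b => τ (a.succAbove b)) ⟨W.1, fun b => W.2 (a.succAbove b)⟩ i V hV hi))

end Groth.Agent.SiteBase.CechSurj
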