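import Groth.Agent.QCoh.Ab.CechBridge
import Groth.Prelude.Def_CohTop
import Mathlib.Algebra.Homology.Homotopy

/-!
Contraction of the Cech complex of a covering with a member equal to the union.
-/

set_option autoImplicit false

universe u

open CategoryTheory CategoryTheory.Limits TopologicalSpace Opposite

noncomputable section

namespace Groth.Agent.CechContract

open Groth.Agent.QCoh.Ab

variable {X : TopCat.{u}} (P : TopCat.Presheaf AddCommGrpCat.{u} X) {ι : Type u} (U : ι → Opens X)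
  (i : ι) (hi : U i = iSup U)

include hi in
lemma le_i {p : ℕ} {σ : Fin (p + 1) → ι} {W : Opens X} (h : Le U σ W) : W ≤ U i :=
  (h 0).trans ((le_iSup U (σ 0)).trans hi.ge)

def hMap (p : ℕ) : AddCommGrpCat.of (natCochains P U (p + 2)) ⟶
    AddCommGrpCat.of (natCochains P U (p + 1)) :=
  AddCommGrpCat.ofHom (AddMonoidHom.mk'
    (fun c => ⟨fun τ W => c.1 (Fin.cons i τ) ⟨W.1, Fin.cases (le_i U i hi W.2) W.2⟩,
      fun _ W W' _ _ j => c.2 _ W W' _ _ j⟩)
    fun _ _ => rfl)

def eta : P.obj (op (iSup U)) ⟶ AddCommGrpCat.of (natCochains P U 1) :=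
  AddCommGrpCat.ofHom (AddMonoidHom.mk'
    (fun s => ⟨fun σ W => P.map (homOfLE ((W.2 0).trans (le_iSup U (σ 0)))).op s,
      fun _ _ _ _ _ j => map_map'' P _ j _ s⟩)
    fun _ _ => Subtype.ext (funext fun _ => funext fun _ => map_add _ _ _))

def eps : AddCommGrpCat.of (natCochains P U 1) ⟶ P.obj (op (iSup U)) :=
  AddCommGrpCat.ofHom (AddMonoidHom.mk'
    (fun c => c.1 (fun _ => i) ⟨iSup U, fun _ => hi.ge⟩) fun _ _ => rfl)

lemma eta_eps : eta P U ≫ eps P U i hi = 𝟙 _ :=
  AddCommGrpCat.ext fun s => map_self P _ s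

lemma eta_d : eta P U ≫ natD P U 0 = 0 := by
  ext s σ W
  show d ((eta P U) s).1 σ W = 0
  refine (Fin.sum_univ_two _).trans ?_
  simp only [Fin.val_zero, pow_zero, one_smul, Fin.val_one, pow_one, neg_smul]
  exact add_neg_eq_zero.2 (congrArg (fun k => P.map k s) (Subsingleton.elim _ _))

lemma d_h (p : ℕ) : natD P U (p + 1) ≫ hMap P U i hi (p + 1) + hMap P U i hi p ≫ natD P U p =
    𝟙 _ := by
  ext c σ W
  show d c.1 (Fin.cons i σ) ⟨W.1, _⟩ + d ((hMap P U i hi p) c).1 σ W = c.1 σ W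
  rw [d_cons c.1 i σ W.1 (le_i U i hi W.2) W.2]
  exact sub_add_cancel _ _

lemma d_h_zero : natD P U 0 ≫ hMap P U i hi 0 + eps P U i hi ≫ eta P U = 𝟙 _ := by
  ext c σ W
  show d c.1 (Fin.cons i σ) ⟨W.1, _⟩ + P.map (homOfLE _).op (c.1 (fun _ => i) ⟨iSup U, _⟩) = c.1 σ W
  rw [d_cons c.1 i σ W.1 (le_i U i hi W.2) W.2]
  refine (congrArg (fun t => _ + t) (c.2 (fun _ => i) (iSup U) W.1 _
    (fun _ => le_i U i hi W.2) _)).trans ?_
  have e : (Fin.cons i fun b => σ ((0 : Fin 1).succAbove b) : Fin 1 → ι) = fun _ => i :=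
    funext fun b => Fin.cases rfl (fun b => b.elim0) b
  have key : ∀ (τ : Fin 1 → ι), τ = (fun _ => i) → ∀ (h : Le U τ W.1) (h' : Le U (fun _ => i) W.1),
      c.1 τ ⟨W.1, h⟩ = c.1 (fun _ => i) ⟨W.1, h'⟩ := by
    rintro _ rfl h h'
    rfl
  refine (congrArg (fun t => c.1 σ ⟨W.1, W.2⟩ - t + c.1 (fun _ => i) ⟨W.1, fun _ => le_i U i hi W.2⟩)
    ((Fin.sum_univ_one _).trans ((one_smul ℤ _).trans
      (key _ e _ (fun _ => le_i U i hi W.2))))).trans ?_
  exact sub_add_cancel _ _

def fromSingle : (CochainComplex.single₀ AddCommGrpCat.{u}).obj (P.obj (op (iSup U))) ⟶ natCx P U :=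
  (CochainComplex.fromSingle₀Equiv _ _).symm
    ⟨eta P U, by rw [natCx_d]; exact eta_d P U⟩

def toSingle : natCx P U ⟶ (CochainComplex.single₀ AddCommGrpCat.{u}).obj (P.obj (op (iSup U))) :=
  (CochainComplex.toSingle₀Equiv _ _).symm (eps P U i hi)

def hom' : ∀ p q : ℕ, (natCx P U).X p ⟶ (natCx P U).X q := fun p q =>
  if h : q + 1 = p then eqToHom (by subst h; rfl) ≫ hMap P U i hi q else 0

lemma hom'_succ (p : ℕ) : hom' P U i hi (p + 1) p = hMap P U i hi p := by
  rw [hom', dif_pos rfl]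
  exact Category.id_comp _

def contraction : Homotopy (𝟙 (natCx P U)) (toSingle P U i hi ≫ fromSingle P U) where
  hom := hom' P U i hi
  zero p q h := dif_neg h
  comm p := by
    cases p with
    | zero =>
      rw [Homotopy.dNext_cochainComplex, Homotopy.prevD_zero_cochainComplex, add_zero,
        hom'_succ, natCx_d, HomologicalComplex.comp_f, HomologicalComplex.id_f]
      exact (d_h_zero P U i hi).symm
    | succ p =>
      rw [Homotopy.dNext_cochainComplex, Homotopy.prevD_succ_cochainComplex,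
        hom'_succ, hom'_succ, natCx_d, natCx_d, HomologicalComplex.comp_f, HomologicalComplex.id_f]
      have : (toSingle P U i hi).f (p + 1) = 0 := IsZero.eq_of_tgt
        (HomologicalComplex.isZero_single_obj_X _ _ _ _ (Nat.succ_ne_zero p)) _ _
      rw [this, zero_comp, add_zero]
      exact (d_h P U i hi p).symm

def equiv : HomotopyEquiv ((CochainComplex.single₀ AddCommGrpCat.{u}).obj (P.obj (op (iSup U))))
    ((cechComplexFunctor U).obj P) :=
  (HomotopyEquiv.mk (fromSingle P U) (toSingle P U i hi) (Homotopy.ofEq (by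
      apply HomologicalComplex.from_single_hom_ext
      show eta P U ≫ eps P U i hi = _
      rw [eta_eps]
      rfl))
    (contraction P U i hi).symm).trans (HomotopyEquiv.ofIso (cechIso P U))

end Groth.Agent.CechContract

end
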