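import Groth.Agent.SiteBase.NerveCech

/-!
# The Cech complex attached to a morphism of sheaves of sets
-/

universe u

open CategoryTheory CategoryTheory.Limits Opposite Simplicial AlgebraicTopology

namespace Groth.Agent.SiteBase

variable {C : Type u} [SmallCategory C] {J : GrothendieckTopology C}
variable {K' K : Sheaf J (Type u)} (f : K' ⟶ K) (G : Sheaf J AddCommGrpCat.{u})

lemma hom_sum_apply' {α : Type*} {A B : AddCommGrpCat.{u}} (s : Finset α) (g : α → (A ⟶ B))
    (x : A) : (∑ i ∈ s, g i).hom x = ∑ i ∈ s, (g i).hom x :=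
  map_sum (AddMonoidHom.mk' (fun g : A ⟶ B => g.hom x) fun _ _ => rfl) g s

/-- Cochains are morphisms out of the free nerve. -/
noncomputable abbrev cochain (n : ℕ) (x : (freeShChain (nerve f)).X n ⟶ G) :
    (CohCx.cechNerveCx G f).X n := x

lemma cechNerveCx_d (n : ℕ) (x : (freeShChain (nerve f)).X n ⟶ G) :
    ((CohCx.cechNerveCx G f).d n (n + 1)).hom (cochain f G n x) =
      cochain f G (n + 1) ((freeShChain (nerve f)).d (n + 1) n ≫ x) := by
  have e : (CohCx.cechNerveCx G f).d n (n + 1) = AlternatingCofaceMapComplex.objD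
      ((Arrow.mk f).cechNerve.rightOp ⋙ CohCx.HK0Functor J G) n := by
    simp [CohCx.cechNerveCx, alternatingCofaceMapComplex, AlternatingCofaceMapComplex.obj]
  rw [e, AlternatingCofaceMapComplex.objD]
  refine (hom_sum_apply' _ _ _).trans ?_
  show _ = (freeShChain (nerve f)).d (n + 1) n ≫ x
  rw [AlternatingFaceMapComplex.obj_d_eq]
  refine Eq.trans ?_ (Preadditive.sum_comp (C := Sheaf J AddCommGrpCat.{u}) _ _ x).symm
  refine Finset.sum_congr rfl fun i _ => ?_
  exact (Preadditive.zsmul_comp (C := Sheaf J AddCommGrpCat.{u}) _ _ _).symm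

theorem isZero_homology_of_cechKill (h : CechKill G (nerve f)) (q : ℕ) :
    IsZero ((CohCx.cechNerveCx G f).homology (q + 1)) := by
  rw [← HomologicalComplex.exactAt_iff_isZero_homology,
    HomologicalComplex.exactAt_iff' _ q (q + 1) (q + 2) (by simp) (by simp), ShortComplex.ab_exact_iff]
  intro x hx
  have hx' := (cechNerveCx_d f G (q + 1) x).symm.trans hx
  obtain ⟨b, hb⟩ := h q x hx'
  exact ⟨cochain f G q b, (cechNerveCx_d f G q b).trans hb⟩

theorem cechKill_of_isZero_homology (h : ∀ q : ℕ, IsZero ((CohCx.cechNerveCx G f).homology (q + 1))) :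
    CechKill G (nerve f) := by
  intro n w hw
  have h' := h n
  rw [← HomologicalComplex.exactAt_iff_isZero_homology,
    HomologicalComplex.exactAt_iff' _ n (n + 1) (n + 2) (by simp) (by simp),
    ShortComplex.ab_exact_iff] at h'
  obtain ⟨b, hb⟩ := h' (cochain f G (n + 1) w) ((cechNerveCx_d f G (n + 1) w).trans hw)
  exact ⟨b, (cechNerveCx_d f G n b).symm.trans hb⟩

theorem cechKill_pi {T : Type u} (F : T → Sheaf J AddCommGrpCat.{u})
    {X : SimplicialObject.Augmented (Sheaf J (Type u))} (h : ∀ t, CechKill (F t) X) :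
    CechKill (∏ᶜ F) X := fun n w hw => by
  choose b hb using fun t => h t n (w ≫ Pi.π F t) (by rw [← Category.assoc, hw, zero_comp])
  exact ⟨Pi.lift b, Pi.hom_ext _ _ fun t => by rw [Category.assoc, Pi.lift_π, hb]⟩

end Groth.Agent.SiteBase
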