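import Groth.Agent.SiteBase.Sections
import Mathlib.Algebra.Homology.DerivedCategory.Fractions
import Mathlib.Algebra.Homology.SingleHomology
import Mathlib.CategoryTheory.Abelian.Refinements
import Mathlib.CategoryTheory.Sites.EpiMono
import Mathlib.CategoryTheory.Sites.LocallyBijective
import Mathlib.CategoryTheory.Adjunction.FullyFaithful

/-!
# The cohomology sheaves as sheafified hypercohomology presheaves

`U ↦ H^0(U, M)` maps to the zeroth cohomology sheaf of `M` by a locally bijective morphism.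
-/

set_option autoImplicit false

universe u

open CategoryTheory CategoryTheory.Limits Opposite

namespace Groth.Agent.HDUSheafify

open Groth.Agent.SiteBase

variable {C : Type u} [SmallCategory C] {J : GrothendieckTopology C}

lemma exists_lift {A' B : Sheaf J AddCommGrpCat.{u}} (p : A' ⟶ B) [Epi p] {U : C}
    (s : CohCx.freeSheaf J U ⟶ B) :
    ∃ R ∈ J U, ∀ (V : C) (f : V ⟶ U), R f →
      ∃ a : CohCx.freeSheaf J V ⟶ A', a ≫ p = CohCx.freeSheafMap J f ≫ s := by
  have : Sheaf.IsLocallySurjective p := (Sheaf.isLocallySurjective_iff_epi' _ p).2 inferInstance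
  refine ⟨_, Presheaf.imageSieve_mem J p.hom (U := op U) (secEquiv J U B s), fun V f hf => ?_⟩
  obtain ⟨t, ht⟩ := hf
  refine ⟨(secEquiv J V A').symm t, (secEquiv J V B).injective ?_⟩
  rw [secEquiv_comp, AddEquiv.apply_symm_apply, secEquiv_freeSheafMap]
  exact ht

/-- The single complex in degree zero. -/
noncomputable abbrev sgl (F : Sheaf J AddCommGrpCat.{u}) :
    CochainComplex (Sheaf J AddCommGrpCat.{u}) ℤ :=
  (HomologicalComplex.single _ (ComplexShape.up ℤ) 0).obj F

lemma selfIso_inv_homologyMap {F : Sheaf J AddCommGrpCat.{u}}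
    {L : CochainComplex (Sheaf J AddCommGrpCat.{u}) ℤ} (g : sgl F ⟶ L)
    (z : F ⟶ L.cycles 0)
    (hz : z ≫ L.iCycles 0 =
      (HomologicalComplex.singleObjXSelf (ComplexShape.up ℤ) 0 F).inv ≫ g.f 0) :
    (HomologicalComplex.singleObjHomologySelfIso (ComplexShape.up ℤ) 0 F).inv ≫
      HomologicalComplex.homologyMap g 0 = z ≫ L.homologyπ 0 := by
  rw [← HomologicalComplex.singleObjCyclesSelfIso_inv_homologyπ, Category.assoc,
    HomologicalComplex.homologyπ_naturality, ← Category.assoc]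
  congr 1
  rw [← cancel_mono (L.iCycles 0), Category.assoc, HomologicalComplex.cyclesMap_i,
    HomologicalComplex.singleObjCyclesSelfIso_inv_iCycles_assoc, hz]

lemma exists_cycle {F : Sheaf J AddCommGrpCat.{u}}
    {L : CochainComplex (Sheaf J AddCommGrpCat.{u}) ℤ} (g : sgl F ⟶ L) :
    ∃ z : F ⟶ L.cycles 0, z ≫ L.iCycles 0 =
      (HomologicalComplex.singleObjXSelf (ComplexShape.up ℤ) 0 F).inv ≫ g.f 0 := by
  refine ⟨L.liftCycles _ 1 (by simp) ?_, L.liftCycles_i _ 1 (by simp) _⟩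
  rw [Category.assoc, g.comm]
  simp

variable [HasDerivedCategory.{u} (Sheaf J AddCommGrpCat.{u})]

/-- `F ≅ H^0(F[0])`. -/
noncomputable def unitIso : 𝟭 (Sheaf J AddCommGrpCat.{u}) ≅
    DerivedCategory.singleFunctor (Sheaf J AddCommGrpCat.{u}) 0 ⋙
      DerivedCategory.homologyFunctor (Sheaf J AddCommGrpCat.{u}) 0 :=
  (HomologicalComplex.homologyFunctorSingleIso _ (ComplexShape.up ℤ) 0).symm ≪≫
    Functor.isoWhiskerLeft (HomologicalComplex.single _ (ComplexShape.up ℤ) 0)
      (DerivedCategory.homologyFunctorFactors (Sheaf J AddCommGrpCat.{u}) 0).symm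

lemma unitIso_hom_app (F : Sheaf J AddCommGrpCat.{u}) :
    unitIso.hom.app F =
      (HomologicalComplex.singleObjHomologySelfIso (ComplexShape.up ℤ) 0 F).inv ≫
        (DerivedCategory.homologyFunctorFactors (Sheaf J AddCommGrpCat.{u}) 0).inv.app (sgl F) :=
  rfl

/-- The morphism of `F` to `H^0(M)` attached to a morphism `F[0] ⟶ M`. -/
noncomputable def h0 {F : Sheaf J AddCommGrpCat.{u}}
    {M : DerivedCategory (Sheaf J AddCommGrpCat.{u})}
    (φ : (DerivedCategory.singleFunctor (Sheaf J AddCommGrpCat.{u}) 0).obj F ⟶ M) :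
    F ⟶ (DerivedCategory.homologyFunctor (Sheaf J AddCommGrpCat.{u}) 0).obj M :=
  unitIso.hom.app F ≫ (DerivedCategory.homologyFunctor (Sheaf J AddCommGrpCat.{u}) 0).map φ

lemma h0_add {F : Sheaf J AddCommGrpCat.{u}} {M : DerivedCategory (Sheaf J AddCommGrpCat.{u})}
    (φ ψ : (DerivedCategory.singleFunctor (Sheaf J AddCommGrpCat.{u}) 0).obj F ⟶ M) :
    h0 (φ + ψ) = h0 φ + h0 ψ := by
  simp [h0]

lemma h0_comp {F : Sheaf J AddCommGrpCat.{u}} {M N : DerivedCategory (Sheaf J AddCommGrpCat.{u})}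
    (φ : (DerivedCategory.singleFunctor (Sheaf J AddCommGrpCat.{u}) 0).obj F ⟶ M) (g : M ⟶ N) :
    h0 (φ ≫ g) = h0 φ ≫ (DerivedCategory.homologyFunctor (Sheaf J AddCommGrpCat.{u}) 0).map g := by
  simp [h0]

lemma h0_precomp {F G : Sheaf J AddCommGrpCat.{u}}
    {M : DerivedCategory (Sheaf J AddCommGrpCat.{u})} (a : G ⟶ F)
    (φ : (DerivedCategory.singleFunctor (Sheaf J AddCommGrpCat.{u}) 0).obj F ⟶ M) :
    h0 ((DerivedCategory.singleFunctor (Sheaf J AddCommGrpCat.{u}) 0).map a ≫ φ) = a ≫ h0 φ := by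
  have h := unitIso.hom.naturality (F := 𝟭 (Sheaf J AddCommGrpCat.{u})) a
  simp only [Functor.id_map, Functor.comp_map] at h
  simp only [h0, Functor.map_comp]
  exact ((Category.assoc _ _ _).symm.trans
    (congrArg (· ≫ _) h.symm)).trans (Category.assoc _ _ _)

lemma h0_Q_map {F : Sheaf J AddCommGrpCat.{u}}
    {L : CochainComplex (Sheaf J AddCommGrpCat.{u}) ℤ} (g : sgl F ⟶ L)
    (z : F ⟶ L.cycles 0)
    (hz : z ≫ L.iCycles 0 =
      (HomologicalComplex.singleObjXSelf (ComplexShape.up ℤ) 0 F).inv ≫ g.f 0) :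
    h0 (F := F) (DerivedCategory.Q.map g) = z ≫ L.homologyπ 0 ≫
      (DerivedCategory.homologyFunctorFactors (Sheaf J AddCommGrpCat.{u}) 0).inv.app L := by
  rw [← Category.assoc, ← selfIso_inv_homologyMap g z hz, Category.assoc]
  refine (congrArg (· ≫ _) (unitIso_hom_app F)).trans ?_
  exact (Category.assoc _ _ _).trans (congrArg (_ ≫ ·)
    ((DerivedCategory.homologyFunctorFactors (Sheaf J AddCommGrpCat.{u}) 0).inv.naturality g).symm)

/-- Locally injective. -/
lemma exists_cover_eq_zero {U : C} {M : DerivedCategory (Sheaf J AddCommGrpCat.{u})}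
    (φ : (DerivedCategory.singleFunctor _ 0).obj (CohCx.freeSheaf J U) ⟶ M) (hφ : h0 φ = 0) :
    ∃ R ∈ J U, ∀ (V : C) (f : V ⟶ U), R f →
      (DerivedCategory.singleFunctor _ 0).map (CohCx.freeSheafMap J f) ≫ φ = 0 := by
  obtain ⟨i⟩ : Nonempty (DerivedCategory.Q.obj (DerivedCategory.Q.objPreimage M) ≅ M) :=
    ⟨DerivedCategory.Q.objObjPreimageIso M⟩
  obtain ⟨L, g, s, hs, hg⟩ := DerivedCategory.left_fac
    (X := sgl (CohCx.freeSheaf J U)) (φ ≫ i.inv)
  obtain ⟨z, hz⟩ := exists_cycle g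
  have h1 : h0 (F := CohCx.freeSheaf J U) (DerivedCategory.Q.map g) = 0 := by
    have h2 : DerivedCategory.Q.map g = φ ≫ (i.inv ≫ DerivedCategory.Q.map s) := by
      refine Eq.trans ?_ (Category.assoc φ i.inv (DerivedCategory.Q.map s))
      refine (Eq.trans ?_ (congrArg (· ≫ DerivedCategory.Q.map s) hg.symm))
      simp
    refine (congrArg (fun t => h0 (F := CohCx.freeSheaf J U) t) h2).trans ((h0_comp φ _).trans ?_)
    rw [hφ, zero_comp]
  have hzπ : z ≫ L.homologyπ 0 = 0 := by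
    rw [h0_Q_map g z hz, ← Category.assoc] at h1
    exact (cancel_mono ((DerivedCategory.homologyFunctorFactors
      (Sheaf J AddCommGrpCat.{u}) 0).inv.app L)).1 (h1.trans zero_comp.symm)
  have hex : (ShortComplex.mk (L.toCycles (-1) 0) (L.homologyπ 0) (by simp)).Exact :=
    ShortComplex.exact_of_g_is_cokernel _ (L.homologyIsCokernel (-1) 0 (by simp))
  obtain ⟨A', p, hp, x₁, hx⟩ := hex.exact_up_to_refinements z hzπ
  obtain ⟨R, hR, hlift⟩ := exists_lift p (𝟙 (CohCx.freeSheaf J U))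
  refine ⟨R, hR, fun V f hf => ?_⟩
  obtain ⟨a, ha⟩ := hlift V f hf
  rw [Category.comp_id] at ha
  have hw : (CohCx.freeSheafMap J f) ≫
      (HomologicalComplex.singleObjXSelf (ComplexShape.up ℤ) 0 (CohCx.freeSheaf J U)).inv ≫
        g.f 0 = (a ≫ x₁) ≫ L.d (-1) 0 := by
    rw [← hz, ← ha, ← L.toCycles_i (-1) 0]
    simp only [Category.assoc]
    rw [reassoc_of% hx]
  let w := a ≫ x₁
  let g' : sgl (CohCx.freeSheaf J V) ⟶ L :=
    (HomologicalComplex.single _ (ComplexShape.up ℤ) 0).map (CohCx.freeSheafMap J f) ≫ g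
  let h : ∀ k l : ℤ, (ComplexShape.up ℤ).Rel l k →
      ((sgl (CohCx.freeSheaf J V)).X k ⟶ L.X l) := fun k l r =>
    if hk : k = 0 then
      (HomologicalComplex.singleObjXIsoOfEq (ComplexShape.up ℤ) 0 _ k hk).hom ≫ w ≫
        (L.XIsoOfEq (show (-1 : ℤ) = l by simp at r; omega)).hom
    else 0
  have e : g' = Homotopy.nullHomotopicMap' h := by
    apply HomologicalComplex.from_single_hom_ext
    rw [Homotopy.nullHomotopicMap'_f (k₂ := -1) (k₁ := 0) (k₀ := 1) (by simp) (by simp)]
    have : (sgl (CohCx.freeSheaf J V)).d 0 1 = 0 := HomologicalComplex.single_obj_d ..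
    rw [this, zero_comp, zero_add]
    simp only [h, g', HomologicalComplex.comp_f, HomologicalComplex.single_map_f_self,
      Category.assoc, w] at hw ⊢
    rw [dif_pos trivial, hw]
    simp [HomologicalComplex.singleObjXSelf]
  have hg' : DerivedCategory.Q.map g' = 0 := by
    exact (congrArg DerivedCategory.Q.map e).trans
      ((DerivedCategory.Q_map_eq_of_homotopy _ (Homotopy.nullHomotopy' h)).trans (Functor.map_zero _ _ _))
  refine (cancel_mono i.inv).1 ?_
  rw [zero_comp, Category.assoc]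
  refine (congrArg ((DerivedCategory.singleFunctor _ 0).map (CohCx.freeSheafMap J f) ≫ ·) hg).trans ?_
  refine ((Category.assoc _ _ _).symm.trans (congrArg (· ≫ inv (DerivedCategory.Q.map s))
    ((DerivedCategory.Q.map_comp _ _).symm.trans hg'))).trans ?_
  exact zero_comp

/-- Locally surjective. -/
lemma exists_cover_lift {U : C} {M : DerivedCategory (Sheaf J AddCommGrpCat.{u})}
    (s : CohCx.freeSheaf J U ⟶ (DerivedCategory.homologyFunctor _ 0).obj M) :
    ∃ R ∈ J U, ∀ (V : C) (f : V ⟶ U), R f →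
      ∃ φ : (DerivedCategory.singleFunctor _ 0).obj (CohCx.freeSheaf J V) ⟶ M,
        h0 φ = CohCx.freeSheafMap J f ≫ s := by
  obtain ⟨L, ⟨i⟩⟩ : ∃ L, Nonempty (DerivedCategory.Q.obj L ≅ M) :=
    ⟨_, ⟨DerivedCategory.Q.objObjPreimageIso M⟩⟩
  let H := DerivedCategory.homologyFunctor (Sheaf J AddCommGrpCat.{u}) 0
  let ei : L.homology 0 ≅ H.obj M :=
    ((DerivedCategory.homologyFunctorFactors (Sheaf J AddCommGrpCat.{u}) 0).app L).symm ≪≫ H.mapIso i
  let q := L.homologyπ 0 ≫ ei.hom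
  have : Epi q := epi_comp _ _
  obtain ⟨R, hR, hlift⟩ := exists_lift q s
  refine ⟨R, hR, fun V f hf => ?_⟩
  obtain ⟨a, ha⟩ := hlift V f hf
  let g : sgl (CohCx.freeSheaf J V) ⟶ L :=
    HomologicalComplex.mkHomFromSingle (a ≫ L.iCycles 0) (fun k _ => by simp)
  refine ⟨DerivedCategory.Q.map g ≫ i.hom, ?_⟩
  refine ((h0_comp (F := CohCx.freeSheaf J V) (DerivedCategory.Q.map g) i.hom).trans
    (congrArg (· ≫ H.map i.hom) (h0_Q_map g a (by simp [g])))).trans ?_
  rw [← ha]
  simp [q, H, ei]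

variable (J) in
/-- The presheaf `U ↦ Hom(ℤ_U[0], M)`. -/
noncomputable abbrev homPresheaf (M : DerivedCategory (Sheaf J AddCommGrpCat.{u})) :
    Cᵒᵖ ⥤ AddCommGrpCat.{u} :=
  (yoneda ⋙ (Functor.whiskeringRight _ _ _).obj AddCommGrpCat.free.{u} ⋙
      presheafToSheaf J AddCommGrpCat.{u} ⋙
      DerivedCategory.singleFunctor (Sheaf J AddCommGrpCat.{u}) 0).op ⋙
    preadditiveYoneda.obj M

/-- The comparison map to the zeroth cohomology sheaf. -/
noncomputable def toH0 (M : DerivedCategory (Sheaf J AddCommGrpCat.{u})) :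
    homPresheaf J M ⟶ ((DerivedCategory.homologyFunctor (Sheaf J AddCommGrpCat.{u}) 0).obj M).obj where
  app U := AddCommGrpCat.ofHom
    ((secEquiv J U.unop _).toAddMonoidHom.comp (AddMonoidHom.mk' h0 h0_add))
  naturality U V f := by
    ext φ
    show secEquiv J V.unop _ (h0 ((DerivedCategory.singleFunctor _ 0).map
      (CohCx.freeSheafMap J f.unop) ≫ φ)) = _
    rw [h0_precomp, secEquiv_freeSheafMap]
    rfl

instance isLocallyInjective_toH0 (M : DerivedCategory (Sheaf J AddCommGrpCat.{u})) :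
    Presheaf.IsLocallyInjective J (toH0 M) where
  equalizerSieve_mem {X} x y h := by
    let x' : (DerivedCategory.singleFunctor _ 0).obj (CohCx.freeSheaf J X.unop) ⟶ M := x
    let y' : (DerivedCategory.singleFunctor _ 0).obj (CohCx.freeSheaf J X.unop) ⟶ M := y
    have h' : h0 x' = h0 y' := (secEquiv J X.unop _).injective h
    obtain ⟨R, hR, hz⟩ := exists_cover_eq_zero (x' - y') (by
      have e := h0_add (x' - y') y'
      rw [sub_add_cancel, h'] at e
      exact left_eq_add.1 (e.trans (add_comm _ _)))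
    refine J.superset_covering (fun V f hf => ?_) hR
    show (DerivedCategory.singleFunctor _ 0).map (CohCx.freeSheafMap J f) ≫ x' =
      (DerivedCategory.singleFunctor _ 0).map (CohCx.freeSheafMap J f) ≫ y'
    rw [← sub_eq_zero, ← Preadditive.comp_sub]
    exact hz V f hf

instance isLocallySurjective_toH0 (M : DerivedCategory (Sheaf J AddCommGrpCat.{u})) :
    Presheaf.IsLocallySurjective J (toH0 M) where
  imageSieve_mem {U} s := by
    obtain ⟨R, hR, hl⟩ := exists_cover_lift ((secEquiv J U _).symm s)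
    refine J.superset_covering (fun V f hf => ?_) hR
    obtain ⟨φ, hφ⟩ := hl V f hf
    refine ⟨φ, ?_⟩
    show secEquiv J V _ (h0 φ) = _
    rw [hφ, secEquiv_freeSheafMap, AddEquiv.apply_symm_apply]

/-- The sheafification of `U ↦ Hom(ℤ_U[0], M)` is the zeroth cohomology sheaf of `M`. -/
theorem nonempty_iso_h0 (M : DerivedCategory (Sheaf J AddCommGrpCat.{u})) :
    Nonempty ((presheafToSheaf J AddCommGrpCat.{u}).obj (homPresheaf J M) ≅
      (DerivedCategory.homologyFunctor (Sheaf J AddCommGrpCat.{u}) 0).obj M) := by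
  have : IsIso ((presheafToSheaf J AddCommGrpCat.{u}).map (toH0 M)) :=
    (J.W_iff _).1 (J.W_of_isLocallyBijective _)
  exact ⟨asIso ((presheafToSheaf J AddCommGrpCat.{u}).map (toH0 M)) ≪≫
    asIso ((sheafificationAdjunction J AddCommGrpCat.{u}).counit.app _)⟩

/-- The sheafification of the hypercohomology presheaves are the cohomology sheaves. -/
theorem nonempty_iso (K : DerivedCategory (Sheaf J AddCommGrpCat.{u})) (q : ℤ) :
    Nonempty ((presheafToSheaf J AddCommGrpCat.{u}).obj (CohCx.HDUPresheaf K q) ≅ CohCx.HD K q) := by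
  obtain ⟨e⟩ := nonempty_iso_h0 ((shiftFunctor (DerivedCategory (Sheaf J AddCommGrpCat.{u})) q).obj K)
  exact ⟨e ≪≫ ((DerivedCategory.homologyFunctor (Sheaf J AddCommGrpCat.{u}) 0).shiftIso q 0 q
    (by simp)).app K⟩

end Groth.Agent.HDUSheafify
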