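import Groth.Agent.TriCat.ResolveOp
import Groth.Agent.TriCat.ColimQuasiIso
import Mathlib.Algebra.Homology.HomotopyCategory.MappingCone
import Mathlib.Algebra.Homology.HomotopyCategory.Shift
import Mathlib.Algebra.Homology.Embedding.CochainComplex
import Mathlib.Algebra.Homology.DerivedCategory.Basic
import Mathlib.Algebra.Homology.DerivedCategory.ShortExact
import Mathlib.Algebra.Homology.DerivedCategory.HomologySequence
import Mathlib.CategoryTheory.Functor.OfSequence
import Mathlib.CategoryTheory.Limits.Constructions.EventuallyConstant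

/-!
# Systems of resolutions of canonical truncations, termwise split
-/

set_option autoImplicit false
set_option backward.isDefEq.respectTransparency false
set_option linter.style.haveILetI false

universe v u

open CategoryTheory CategoryTheory.Category CategoryTheory.Limits CochainComplex ZeroObject
open CochainComplex.HomComplex

noncomputable section

namespace Groth.Agent.SplitResolution

variable {A : Type u} [Category.{v} A] [Abelian A]

/-- Kernel criterion for termwise epimorphic quasi-isomorphisms. -/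
lemma exact_kernel_iff {K L : CochainComplex A ℤ} (φ : K ⟶ L) (j i k : ℤ)
    (hj : j + 1 = i) (hk : i + 1 = k) :
    (kernel φ).ExactAt i ↔
      ∀ ⦃T : A⦄ (x : T ⟶ K.X i), x ≫ K.d i k = 0 → x ≫ φ.f i = 0 →
        ∃ (T' : A) (e : T' ⟶ T) (_ : Epi e) (y : T' ⟶ K.X j), y ≫ φ.f j = 0 ∧ y ≫ K.d j i = e ≫ x := by
  let ι := kernel.ι φ
  have hev : ∀ n, ∀ {T : A} (x : T ⟶ K.X n), x ≫ φ.f n = 0 → ∃ x' : T ⟶ (kernel φ).X n, x' ≫ ι.f n = x := by
    intro n T x hx
    let S := ShortComplex.mk (kernel.ι φ) φ (kernel.condition φ)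
    have hS : S.Exact := ShortComplex.exact_of_f_is_kernel _ (kernelIsKernel φ)
    have hSn : (S.map (HomologicalComplex.eval A (ComplexShape.up ℤ) n)).Exact := hS.map _
    haveI : Mono (S.map (HomologicalComplex.eval A (ComplexShape.up ℤ) n)).f :=
      inferInstanceAs (Mono ((HomologicalComplex.eval A (ComplexShape.up ℤ) n).map (kernel.ι φ)))
    exact ⟨hSn.lift x hx, hSn.lift_f x hx⟩
  have hm : ∀ n, Mono (ι.f n) := fun n =>
    inferInstanceAs (Mono ((HomologicalComplex.eval A (ComplexShape.up ℤ) n).map (kernel.ι φ)))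
  rw [HomologicalComplex.exactAt_iff' _ j i k (by simp; omega) (by simp; omega),
    ShortComplex.exact_iff_exact_up_to_refinements]
  constructor
  · intro h T x hx hxφ
    obtain ⟨x', hx'⟩ := hev i x hxφ
    obtain ⟨T', e, he, y, hy⟩ := h x' (by
      show x' ≫ (kernel φ).d i k = 0
      have := hm k
      rw [← cancel_mono (ι.f k), assoc, ← ι.comm, reassoc_of% hx', hx, zero_comp])
    refine ⟨T', e, he, y ≫ ι.f j, ?_, ?_⟩
    · rw [assoc, ← HomologicalComplex.comp_f, kernel.condition, HomologicalComplex.zero_f, comp_zero]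
    · rw [assoc, ι.comm, ← assoc]
      exact ((congrArg (· ≫ ι.f i) hy).symm.trans (assoc _ _ _)).trans (congrArg (e ≫ ·) hx')
  · intro h T x hx
    change T ⟶ (kernel φ).X i at x
    have hx' : x ≫ (kernel φ).d i k = 0 := hx
    obtain ⟨T', e, he, y, hyφ, hy⟩ := h (x ≫ ι.f i) (by rw [assoc, ι.comm, reassoc_of% hx', zero_comp])
      (by rw [assoc, ← HomologicalComplex.comp_f, kernel.condition, HomologicalComplex.zero_f, comp_zero])
    obtain ⟨y', hy'⟩ := hev j y hyφ
    refine ⟨T', e, he, y', ?_⟩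
    show e ≫ x = y' ≫ (kernel φ).d j i
    have := hm i
    rw [← cancel_mono (ι.f i), assoc, assoc, ← ι.comm, reassoc_of% hy', hy]

lemma quasiIso_iff_acyclic_kernel {K L : CochainComplex A ℤ} (φ : K ⟶ L) (hφ : ∀ i, Epi (φ.f i)) :
    QuasiIso φ ↔ ∀ i, (kernel φ).ExactAt i := by
  letI := HasDerivedCategory.standard A
  haveI : Epi φ := HomologicalComplex.epi_of_epi_f φ hφ
  let S := ShortComplex.mk (kernel.ι φ) φ (kernel.condition φ)
  have hS : S.ShortExact := { exact := ShortComplex.exact_of_f_is_kernel _ (kernelIsKernel φ) }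
  rw [← DerivedCategory.isIso_Q_map_iff_quasiIso]
  refine (Pretriangulated.Triangle.isZero₁_iff_isIso₂ _ (DerivedCategory.triangleOfSES_distinguished hS)).symm.trans ?_
  show IsZero (DerivedCategory.Q.obj (kernel φ)) ↔ _
  constructor
  · intro h i
    rw [HomologicalComplex.exactAt_iff_isZero_homology]
    exact ((DerivedCategory.homologyFunctor A i).map_isZero h).of_iso
      ((DerivedCategory.homologyFunctorFactors A i).app _).symm
  · intro h
    have hq : QuasiIso (0 : kernel φ ⟶ 0) := ⟨fun i => by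
      rw [quasiIsoAt_iff_exactAt _ _ (h i)]
      exact HomologicalComplex.ExactAt.of_isZero ((HomologicalComplex.eval A _ i).map_isZero (isZero_zero _))⟩
    haveI : IsIso (DerivedCategory.Q.map (0 : kernel φ ⟶ 0)) :=
      (DerivedCategory.isIso_Q_map_iff_quasiIso _ _).2 hq
    exact (DerivedCategory.Q.map_isZero (isZero_zero _)).of_iso (asIso (DerivedCategory.Q.map (0 : kernel φ ⟶ 0)))

section Cone

variable {P₀ M R : CochainComplex A ℤ} (f : P₀ ⟶ M) (q : R ⟶ mappingCone f)

omit q in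
lemma d_fst_gen (a k i j : ℤ) (hk : k = i) (ha : a + 1 = i) (hj : i + 1 = j) :
    (mappingCone f).d a k ≫ (mappingCone.fst f).1.v k j (by omega) =
      -((mappingCone.fst f).1.v a i ha ≫ P₀.d i j) := by
  subst k
  exact (mappingCone.d_fst_v f a i j ha hj).trans (by simp)

omit q in
lemma d_snd_gen (a k p : ℤ) (hk : k = p) (ha : a + 1 = p) :
    (mappingCone f).d a k ≫ (mappingCone.snd f).v k p (by omega) =
      (mappingCone.fst f).1.v a p ha ≫ f.f p + (mappingCone.snd f).v a a (add_zero a) ≫ M.d a p := by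
  subst k
  exact mappingCone.d_snd_v f a p ha

/-- The gluing map. -/
def glue : R⟦(-1 : ℤ)⟧ ⟶ P₀ where
  f i := q.f (i + -1) ≫ (mappingCone.fst f).1.v (i + -1) i (by omega)
  comm' i j (hij : i + 1 = j) := by
    rw [assoc, CochainComplex.shiftFunctor_obj_d']
    simp only [Int.negOnePow_neg, Int.negOnePow_one, Units.neg_smul, one_smul, Preadditive.neg_comp]
    subst hij
    rw [← assoc (R.d (i + -1) (i + 1 + -1)), ← q.comm, assoc,
      d_fst_gen f (i + -1) (i + 1 + -1) i (i + 1) (by omega) (by omega) rfl, Preadditive.comp_neg, neg_neg]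

/-- The component on `R` of the extended resolution. -/
def αPart : Cochain (R⟦(-1 : ℤ)⟧) M (-1) :=
  Cochain.mk fun p p' hpp => -(q.f (p + -1) ≫ (mappingCone.snd f).v (p + -1) p' (by omega))

lemma αPart_v (p p' : ℤ) (hpp : p + (-1) = p') :
    (αPart f q).v p p' hpp = -(q.f (p + -1) ≫ (mappingCone.snd f).v (p + -1) p' (by omega)) := rfl

lemma δ_αPart : δ (-1) 0 (αPart f q) = Cochain.ofHom (glue f q ≫ f) := by
  ext p
  rw [δ_v (-1) 0 (by omega) _ p p (add_zero p) (p + -1) (p + 1) (by omega) rfl]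
  simp only [αPart_v, Int.negOnePow_zero, one_smul, Cochain.ofHom_v, HomologicalComplex.comp_f, glue]
  rw [CochainComplex.shiftFunctor_obj_d']
  simp only [Int.negOnePow_neg, Int.negOnePow_one, Units.neg_smul, one_smul, Preadditive.neg_comp,
    Preadditive.comp_neg, neg_neg]
  rw [assoc, assoc, ← assoc (R.d _ _), ← q.comm, assoc,
    d_snd_gen f (p + -1) (p + 1 + -1) p (by omega) (by omega)]
  simp only [Preadditive.comp_add]
  abel

/-- The extended complex. -/
abbrev ext₁ : CochainComplex A ℤ := mappingCone (glue f q)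

/-- Its map to `M`. -/
def toM : ext₁ f q ⟶ M := mappingCone.desc (glue f q) (αPart f q) f (δ_αPart f q)

lemma inr_toM : mappingCone.inr (glue f q) ≫ toM f q = f := mappingCone.inr_desc _ _ _ _

lemma epi_toM (hq : ∀ i, Epi (q.f i)) (i : ℤ) : Epi ((toM f q).f i) := by
  have hk : i + 1 + -1 = i := by omega
  have h : (mappingCone.inl (glue f q)).v (i + 1) i (by omega) ≫ (toM f q).f i =
      -(q.f (i + 1 + -1) ≫ (mappingCone.snd f).v (i + 1 + -1) i (by omega)) :=
    mappingCone.inl_v_desc_f _ _ _ _ (i + 1) i _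
  have hs : ∀ (k : ℤ) (hk : k = i), Epi ((mappingCone.snd f).v k i (by omega)) := fun k hk => by
    subst hk
    exact (SplitEpi.mk _ (mappingCone.inr_f_snd_v f k)).epi
  haveI := hs _ hk
  haveI := hq (i + 1 + -1)
  have : Epi ((mappingCone.inl (glue f q)).v (i + 1) i (by omega) ≫ (toM f q).f i) := by
    rw [h]
    infer_instance
  exact epi_of_epi ((mappingCone.inl (glue f q)).v (i + 1) i _) _

lemma core (hq : ∀ i, Epi (q.f i)) (hqis : QuasiIso q) {T : A} (n m k : ℤ) (hnm : n + 1 = m)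
    (hk : k = n) (r : T ⟶ R.X k) (p : T ⟶ P₀.X n) (hd : r ≫ R.d k (k + 1) = 0)
    (h2 : r ≫ q.f k ≫ (mappingCone.fst f).1.v k m (by omega) + p ≫ P₀.d n m = 0)
    (h3 : p ≫ f.f n = r ≫ q.f k ≫ (mappingCone.snd f).v k n (by omega)) :
    ∃ (T' : A) (e : T' ⟶ T) (_ : Epi e) (r₁ : T' ⟶ R.X (n + -1)),
      r₁ ≫ R.d (n + -1) k = e ≫ r ∧
        r₁ ≫ q.f (n + -1) = e ≫ p ≫ (mappingCone.inl f).v n (n + -1) (by omega) := by
  subst k
  let w := p ≫ (mappingCone.inl f).v n (n + -1) (by omega)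
  have hw : w ≫ (mappingCone f).d (n + -1) n = r ≫ q.f n := by
    refine mappingCone.ext_to f n m hnm ?_ ?_
    · rw [assoc, assoc, mappingCone.inl_v_d_assoc f n (n + -1) m rfl (by omega)]
      simp only [Preadditive.sub_comp, assoc, mappingCone.inr_f_fst_v, comp_zero, zero_sub,
        mappingCone.inl_v_fst_v, comp_id, Preadditive.comp_neg]
      exact (eq_neg_of_add_eq_zero_left h2).symm
    · rw [assoc, assoc, mappingCone.inl_v_d_assoc f n (n + -1) m rfl (by omega)]
      simp only [Preadditive.sub_comp, assoc, mappingCone.inl_v_snd_v, comp_zero, sub_zero,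
        mappingCone.inr_f_snd_v, comp_id]
      exact h3
  haveI := hq (n + -1)
  obtain ⟨T₀, e₀, he₀, r₀, hr₀⟩ := (epi_iff_surjective_up_to_refinements (q.f (n + -1))).1 inferInstance w
  let r' := e₀ ≫ r - r₀ ≫ R.d (n + -1) n
  have hr'q : r' ≫ q.f n = 0 := by
    simp only [r', Preadditive.sub_comp, assoc, ← q.comm, ← reassoc_of% hr₀, hw, sub_self]
  have hr'd : r' ≫ R.d n (n + 1) = 0 := by
    simp only [r', Preadditive.sub_comp, assoc, hd, comp_zero, HomologicalComplex.d_comp_d, sub_self]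
  obtain ⟨T', e₁, he₁, y, hyq, hyd⟩ := (exact_kernel_iff q (n + -1) n (n + 1) (by omega) rfl).1
    ((quasiIso_iff_acyclic_kernel q hq).1 hqis n) r' hr'd hr'q
  refine ⟨T', e₁ ≫ e₀, inferInstance, y + e₁ ≫ r₀, ?_, ?_⟩
  · simp only [Preadditive.add_comp, assoc, hyd, r', Preadditive.comp_sub]
    abel
  · simp only [Preadditive.add_comp, assoc, hyq, zero_add, ← hr₀]
    rfl

omit q in
lemma shift_d (a b : ℤ) : (R⟦(-1 : ℤ)⟧).d a b = -R.d (a + -1) (b + -1) := by
  rw [CochainComplex.shiftFunctor_obj_d']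
  simp

omit f q in
lemma comp_d_cast {T : A} {k : ℤ} (r : T ⟶ R.X k) (l l' : ℤ) (h : l = l') (h0 : r ≫ R.d k l = 0) :
    r ≫ R.d k l' = 0 := by
  subst h
  exact h0

theorem quasiIso_toM (hq : ∀ i, Epi (q.f i)) (hqis : QuasiIso q) : QuasiIso (toM f q) := by
  rw [quasiIso_iff_acyclic_kernel _ (epi_toM f q hq)]
  intro n
  rw [exact_kernel_iff (toM f q) (n + -1) n (n + 1) (by omega) rfl]
  intro T x hxd hxφ
  let r : T ⟶ R.X (n + 1 + -1) := x ≫ (mappingCone.fst (glue f q)).1.v n (n + 1) rfl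
  let p : T ⟶ P₀.X n := x ≫ (mappingCone.snd (glue f q)).v n n (add_zero n)
  have h1 : r ≫ R.d (n + 1 + -1) (n + 1 + 1 + -1) = 0 := by
    have e1 : x ≫ ((mappingCone (glue f q)).d n (n + 1) ≫
        (mappingCone.fst (glue f q)).1.v (n + 1) (n + 1 + 1) rfl) = 0 := by
      rw [← assoc]
      exact (congrArg (fun z => z ≫ (mappingCone.fst (glue f q)).1.v (n + 1) (n + 1 + 1) rfl) hxd).trans zero_comp
    rw [mappingCone.d_fst_v (glue f q) n (n + 1) (n + 1 + 1) rfl rfl, shift_d] at e1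
    simp only [Preadditive.comp_neg, neg_neg] at e1
    exact (assoc _ _ _).trans e1
  have hd : r ≫ R.d (n + 1 + -1) (n + 1 + -1 + 1) = 0 := comp_d_cast r _ _ (by omega) h1
  have h2 : r ≫ q.f (n + 1 + -1) ≫ (mappingCone.fst f).1.v (n + 1 + -1) (n + 1) (by omega) +
      p ≫ P₀.d n (n + 1) = 0 := by
    have e2 : x ≫ ((mappingCone (glue f q)).d n (n + 1) ≫
        (mappingCone.snd (glue f q)).v (n + 1) (n + 1) (add_zero _)) = 0 := by
      rw [← assoc]
      exact (congrArg (fun z => z ≫ (mappingCone.snd (glue f q)).v (n + 1) (n + 1) (add_zero _)) hxd).trans zero_comp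
    rw [mappingCone.d_snd_v (glue f q) n (n + 1) rfl, Preadditive.comp_add, ← assoc, ← assoc] at e2
    exact e2
  have h3 : p ≫ f.f n = r ≫ q.f (n + 1 + -1) ≫ (mappingCone.snd f).v (n + 1 + -1) n (by omega) := by
    have := hxφ
    rw [toM, mappingCone.desc_f _ _ _ _ n (n + 1) rfl, αPart_v, Preadditive.comp_add, Preadditive.comp_neg,
      Preadditive.comp_neg, ← assoc, ← assoc] at this
    exact ((assoc _ _ _).trans (neg_add_eq_zero.1 this).symm).trans (assoc _ _ _)
  obtain ⟨T', e, he, r₁, hr₁, hr₁q⟩ := core f q hq hqis n (n + 1) (n + 1 + -1) rfl (by omega) r p hd h2 h3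
  refine ⟨T', e, he, r₁ ≫ (mappingCone.inl (glue f q)).v n (n + -1) (by omega), ?_, ?_⟩
  · rw [assoc, toM, mappingCone.inl_v_desc_f, αPart_v, Preadditive.comp_neg, reassoc_of% hr₁q]
    simp
  · have e3 : r₁ ≫ (glue f q).f n = e ≫ p := by
      show r₁ ≫ q.f (n + -1) ≫ (mappingCone.fst f).1.v (n + -1) n (by omega) = _
      rw [reassoc_of% hr₁q, mappingCone.inl_v_fst_v, comp_id]
    have e4 : r₁ ≫ (R⟦(-1 : ℤ)⟧).d n (n + 1) = -(e ≫ r) := by
      rw [shift_d, Preadditive.comp_neg]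
      exact congrArg Neg.neg hr₁
    rw [assoc, mappingCone.inl_v_d (glue f q) n (n + -1) (n + 1) rfl (by omega), Preadditive.comp_sub,
      ← assoc, ← assoc, e3, e4, Preadditive.neg_comp, sub_neg_eq_add, assoc, assoc]
    refine Eq.trans ?_ (congrArg (e ≫ ·) (comp_id x))
    refine Eq.trans (congrArg₂ (· + ·) rfl ((assoc _ _ _).trans (congrArg (e ≫ ·) (assoc x _ _)))) ?_
    rw [← Preadditive.comp_add]
    refine congrArg (e ≫ ·) ?_
    rw [← Preadditive.comp_add, add_comm]
    exact congrArg (x ≫ ·) (mappingCone.id_X (glue f q) n (n + 1) rfl)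

end Cone

section Class

variable (P : A → Prop)

/-- A class of objects with enough epimorphisms, stable under isomorphisms and biproducts. -/
structure GoodClass : Prop where
  of_iso : ∀ {X Y : A}, (X ≅ Y) → P X → P Y
  zero : ∀ {X : A}, IsZero X → P X
  biprod : ∀ {X Y : A}, P X → P Y → P (X ⊞ Y)
  enough : ∀ X : A, ∃ (Y : A) (π : Y ⟶ X), P Y ∧ Epi π

variable {P}

lemma isStrictlyLE_mappingCone {K L : CochainComplex A ℤ} (φ : K ⟶ L) (a b c : ℤ) [K.IsStrictlyLE a]
    [L.IsStrictlyLE b] (ha : a ≤ c + 1) (hb : b ≤ c) : (mappingCone φ).IsStrictlyLE c :=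
  (CochainComplex.isStrictlyLE_iff _ c).2 fun i hi =>
    (mappingCone.isZero_X_iff φ i).2 ⟨K.isZero_of_isStrictlyLE a (i + 1) (by omega),
      L.isZero_of_isStrictlyLE b i (by omega)⟩

/-- The extension step. -/
theorem exists_extend (hP : GoodClass P) {P₀ M : CochainComplex A ℤ} (f : P₀ ⟶ M) (b m : ℤ)
    [P₀.IsStrictlyLE b] [M.IsStrictlyLE m] (h₀ : ∀ i, P (P₀.X i)) :
    ∃ (P₁ : CochainComplex A ℤ) (j : P₀ ⟶ P₁) (π : P₁ ⟶ M) (b' : ℤ), P₁.IsStrictlyLE b' ∧
      (∀ i, P (P₁.X i)) ∧ j ≫ π = f ∧ QuasiIso π ∧ (∀ i, Epi (π.f i)) ∧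
      ∀ i, ∃ r : P₁.X i ⟶ P₀.X i, j.f i ≫ r = 𝟙 _ ∧ P (cokernel (j.f i)) := by
  haveI : (mappingCone f).IsStrictlyLE (max b m) :=
    isStrictlyLE_mappingCone f b m _ (by omega) (le_max_right _ _)
  obtain ⟨R, q, hR, hRP, hqe, hq⟩ := TriCat.exists_quasiIso_left_resolution P
    ⟨_, isZero_zero A, hP.zero (isZero_zero A)⟩ hP.enough (mappingCone f) (max b m)
  haveI : (R⟦(-1 : ℤ)⟧).IsStrictlyLE (max b m + 1) := (CochainComplex.isStrictlyLE_iff _ _).2 fun i hi =>
    R.isZero_of_isStrictlyLE (max b m) (i + -1) (by omega)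
  refine ⟨ext₁ f q, mappingCone.inr (glue f q), toM f q, max b m + 1,
    isStrictlyLE_mappingCone (glue f q) (max b m + 1) b _ (by omega) (by omega), fun i => ?_, inr_toM f q,
    quasiIso_toM f q hqe hq, epi_toM f q hqe, fun i => ⟨(mappingCone.snd (glue f q)).v i i (add_zero i),
      mappingCone.inr_f_snd_v _ i, ?_⟩⟩
  · exact hP.of_iso (HomologicalComplex.homotopyCofiber.XIsoBiprod (glue f q) i (i + 1) rfl).symm
      (hP.biprod (hRP (i + 1 + -1)) (h₀ i))
  · let F := (mappingCone.fst (glue f q)).1.v i (i + 1) rfl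
    let hc : IsColimit (CokernelCofork.ofπ F (mappingCone.inr_f_fst_v _ i (i + 1) rfl)) :=
      CokernelCofork.IsColimit.ofπ _ _ (fun {Z} h _ => (mappingCone.inl (glue f q)).v (i + 1) i (by omega) ≫ h)
        (fun {Z} h hh => mappingCone.ext_from (glue f q) (i + 1) i rfl
          (by rw [mappingCone.inl_v_fst_v_assoc]) (by rw [mappingCone.inr_f_fst_v_assoc, zero_comp, hh]))
        (fun {Z} h hh m hm => by rw [← hm, mappingCone.inl_v_fst_v_assoc])
    exact hP.of_iso (hc.coconePointUniqueUpToIso (colimit.isColimit _)) (hRP (i + 1 + -1))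

end Class

section Trunc

variable (G : CochainComplex A ℤ)

/-- Transition maps of the truncations. -/
def truncMap (m m' : ℤ) (h : m ≤ m') : G.truncLE m ⟶ G.truncLE m' :=
  haveI : (G.truncLE m).IsStrictlyLE m' := CochainComplex.isStrictlyLE_of_le _ m m' h
  inv ((G.truncLE m).ιTruncLE m') ≫ CochainComplex.truncLEMap (G.ιTruncLE m) m'

lemma truncMap_ι (m m' : ℤ) (h : m ≤ m') : truncMap G m m' h ≫ G.ιTruncLE m' = G.ιTruncLE m := by
  haveI : (G.truncLE m).IsStrictlyLE m' := CochainComplex.isStrictlyLE_of_le _ m m' h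
  rw [truncMap, assoc, CochainComplex.ιTruncLE_naturality, IsIso.inv_hom_id_assoc]

lemma isIso_ι_f (m i : ℤ) (hi : i < m) : IsIso ((G.ιTruncLE m).f i) := by
  obtain ⟨k, rfl⟩ : ∃ k : ℕ, i = m - k := ⟨(m - i).toNat, by omega⟩
  let e := ComplexShape.embeddingUpIntLE m
  have hb : ¬ e.op.BoundaryGE k := by
    simp only [ComplexShape.Embedding.op_boundaryGE_iff, e, ComplexShape.boundaryLE_embeddingUpIntLE_iff]
    omega
  have h0 : IsIso ((HomologicalComplex.πTruncGE (G.op) e.op).f (m - k)) := by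
    haveI := G.op.isIso_restrictionToTruncGE' e.op k hb
    show IsIso ((e.op.liftExtend (G.op.restrictionToTruncGE' e.op) (G.op.restrictionToTruncGE'_hasLift e.op)).f (m - k))
    rw [e.op.liftExtend_f (G.op.restrictionToTruncGE' e.op) (G.op.restrictionToTruncGE'_hasLift e.op)
      (i := k) (i' := m - k) rfl]
    infer_instance
  exact inferInstanceAs (IsIso ((HomologicalComplex.πTruncGE (G.op) e.op).f (m - k)).unop)

/-- The diagram of truncations. -/
abbrev truncDiag : ℕ ⥤ CochainComplex A ℤ :=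
  Functor.ofSequence (X := fun n => G.truncLE ((n : ℤ) + 1)) fun n => truncMap G _ _ (by omega)

/-- Its cocone. -/
def truncCocone : Cocone (truncDiag G) where
  pt := G
  ι := NatTrans.ofSequence (fun n => G.ιTruncLE ((n : ℤ) + 1)) fun n => by
    rw [Functor.ofSequence_map_homOfLE_succ]
    exact (truncMap_ι G _ _ _).trans (comp_id _).symm

/-- The complex is the colimit of its truncations. -/
def isColimitTruncCocone : IsColimit (truncCocone G) :=
  HomologicalComplex.isColimitOfEval _ _ fun i => by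
    let F := truncDiag G ⋙ HomologicalComplex.eval A (ComplexShape.up ℤ) i
    let i₀ : ℕ := i.toNat
    have hι : ∀ k : ℕ, i₀ ≤ k → IsIso (((HomologicalComplex.eval A (ComplexShape.up ℤ) i).mapCocone
        (truncCocone G)).ι.app k) := fun k hk => isIso_ι_f G _ i (by omega)
    have hF : F.IsEventuallyConstantFrom i₀ := fun k φ => by
      haveI := hι k (leOfHom φ)
      haveI := hι i₀ le_rfl
      have e := ((HomologicalComplex.eval A (ComplexShape.up ℤ) i).mapCocone (truncCocone G)).w φ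
      exact IsIso.of_isIso_fac_right e
    haveI := hι i₀ le_rfl
    exact hF.isColimitOfIsIso _

end Trunc

section System

variable {P : A → Prop} (hP : GoodClass P) (G : CochainComplex A ℤ)

/-- A stage of the system. -/
structure Stage (n : ℕ) where
  /-- The complex. -/
  K : CochainComplex A ℤ
  /-- Its map to the truncation. -/
  π : K ⟶ G.truncLE ((n : ℤ) + 1)
  bdd : ∃ b : ℤ, K.IsStrictlyLE b
  cls : ∀ i, P (K.X i)
  qis : QuasiIso π
  epi : ∀ i, Epi (π.f i)

include hP in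
lemma nonempty_stage_zero : Nonempty (Stage (P := P) G 0) := by
  obtain ⟨Q, α, h1, h2, h3, h4⟩ := TriCat.exists_quasiIso_left_resolution P
    ⟨_, isZero_zero A, hP.zero (isZero_zero A)⟩ hP.enough (G.truncLE (((0 : ℕ) : ℤ) + 1)) (((0 : ℕ) : ℤ) + 1)
  exact ⟨⟨Q, α, ⟨_, h1⟩, h2, h4, h3⟩⟩

include hP in
lemma exists_next (n : ℕ) (S : Stage (P := P) G n) :
    ∃ (S' : Stage (P := P) G (n + 1)) (j : S.K ⟶ S'.K),
      j ≫ S'.π = S.π ≫ truncMap G _ _ (by omega) ∧
      ∀ i, ∃ r : S'.K.X i ⟶ S.K.X i, j.f i ≫ r = 𝟙 _ ∧ P (cokernel (j.f i)) := by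
  obtain ⟨b, hb⟩ := S.bdd
  obtain ⟨P₁, j, π, b', hb', hcls, hj, hq, he, hr⟩ := exists_extend hP
    (S.π ≫ truncMap G ((n : ℤ) + 1) (((n + 1 : ℕ) : ℤ) + 1) (by omega)) b (((n + 1 : ℕ) : ℤ) + 1) S.cls
  exact ⟨⟨P₁, π, ⟨b', hb'⟩, hcls, hq, he⟩, j, hj, hr⟩

/-- The stages. -/
def stage : ∀ n, Stage (P := P) G n
  | 0 => (nonempty_stage_zero hP G).some
  | n + 1 => (exists_next hP G n (stage n)).choose

/-- The system. -/
abbrev sys : ℕ ⥤ CochainComplex A ℤ :=
  Functor.ofSequence (X := fun n => (stage hP G n).K)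
    fun n => (exists_next hP G n (stage hP G n)).choose_spec.choose

lemma sys_map_succ (n : ℕ) :
    (sys hP G).map (homOfLE (Nat.le_succ n)) = (exists_next hP G n (stage hP G n)).choose_spec.choose :=
  Functor.ofSequence_map_homOfLE_succ _ n

include hP in
theorem exists_system [HasColimitsOfShape ℕ A] [HasExactColimitsOfShape ℕ A] :
    ∃ (Kc : ℕ ⥤ CochainComplex A ℤ) (π : ∀ n : ℕ, Kc.obj n ⟶ G.truncLE ((n : ℤ) + 1)),
      (∀ n : ℕ, Kc.map (homOfLE (Nat.le_succ n)) ≫ π (n + 1) ≫ G.ιTruncLE (((n + 1 : ℕ) : ℤ) + 1) =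
        π n ≫ G.ιTruncLE ((n : ℤ) + 1)) ∧
      (∀ n : ℕ, QuasiIso (π n) ∧ ∀ i : ℤ, Epi ((π n).f i)) ∧
      (∀ n : ℕ, ∃ b : ℤ, (Kc.obj n).IsStrictlyLE b) ∧
      (∀ (n : ℕ) (i : ℤ), P ((Kc.obj n).X i)) ∧
      (∀ (n : ℕ) (i : ℤ), ∃ r : (Kc.obj (n + 1)).X i ⟶ (Kc.obj n).X i,
        (Kc.map (homOfLE (Nat.le_succ n))).f i ≫ r = 𝟙 _ ∧
        P (cokernel ((Kc.map (homOfLE (Nat.le_succ n))).f i))) ∧
      ∃ c : colimit Kc ⟶ G, (∀ n : ℕ, colimit.ι Kc n ≫ c = π n ≫ G.ιTruncLE ((n : ℤ) + 1)) ∧ QuasiIso c := by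
  have hc : ∀ n, (sys hP G).map (homOfLE (Nat.le_succ n)) ≫ (stage hP G (n + 1)).π =
      (stage hP G n).π ≫ truncMap G ((n : ℤ) + 1) (((n + 1 : ℕ) : ℤ) + 1) (by omega) := fun n => by
    rw [sys_map_succ]
    exact (exists_next hP G n (stage hP G n)).choose_spec.choose_spec.1
  let η : sys hP G ⟶ truncDiag G := NatTrans.ofSequence (fun n => (stage hP G n).π) fun n => by
    refine (hc n).trans ?_
    rw [Functor.ofSequence_map_homOfLE_succ]
  let cc : Cocone (sys hP G) := (Cocone.precompose η).obj (truncCocone G)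
  refine ⟨sys hP G, fun n => (stage hP G n).π, fun n => ?_, fun n => ⟨(stage hP G n).qis, (stage hP G n).epi⟩,
    fun n => (stage hP G n).bdd, fun n i => (stage hP G n).cls i, fun n i => ?_,
    colimit.desc _ cc, fun n => colimit.ι_desc cc n, ?_⟩
  · rw [← assoc, hc n, assoc, truncMap_ι]
  · rw [sys_map_succ]
    exact (exists_next hP G n (stage hP G n)).choose_spec.choose_spec.2 i
  · exact TriCat.quasiIso_of_isColimit (colimit.isColimit _) (isColimitTruncCocone G) η
      (fun n => (stage hP G n).qis) _ fun n => colimit.ι_desc cc n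

end System

end Groth.Agent.SplitResolution
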