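import Groth.Agent.QCoh.Ab.CechBridge
import Mathlib.Algebra.Category.Grp.Zero
import Mathlib.LinearAlgebra.Finsupp.LinearCombination
import Mathlib.LinearAlgebra.Finsupp.Supported
import Mathlib.Data.Finset.Sort
import Mathlib.Data.Fintype.Order

/-!
# Cech cohomology vanishes from the cardinality of the cover on

The full complex of tuples retracts, naturally in the set of vertices, onto the complex of strictly
increasing tuples.
-/

set_option autoImplicit false
set_option linter.unusedSectionVars false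
set_option linter.style.haveILetI false

universe u

open CategoryTheory CategoryTheory.Limits TopologicalSpace Opposite

noncomputable section

namespace Groth.Agent.CechCard

open Groth.Agent.QCoh.Ab

section Chains

variable {κ : Type u}

/-- Chains on tuples. -/
abbrev Ch (κ : Type u) (n : ℕ) : Type u := (Fin n → κ) →₀ ℤ

/-- A tuple as a chain. -/
abbrev sx {n : ℕ} (σ : Fin n → κ) : Ch κ n := Finsupp.single σ 1

/-- The linear extension of a map on tuples. -/
def ext' {n : ℕ} {M : Type*} [AddCommGroup M] (g : (Fin n → κ) → M) : Ch κ n →ₗ[ℤ] M :=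
  Finsupp.linearCombination ℤ g

lemma ext'_sx {n : ℕ} {M : Type*} [AddCommGroup M] (g : (Fin n → κ) → M) (σ : Fin n → κ) :
    ext' g (sx σ) = g σ := by
  simp [ext']

lemma hom_ext' {n : ℕ} {M : Type*} [AddCommGroup M] {f g : Ch κ n →ₗ[ℤ] M}
    (h : ∀ σ, f (sx σ) = g (sx σ)) : f = g :=
  Finsupp.lhom_ext fun σ b => by
    have e : (Finsupp.single σ b : Ch κ n) = b • sx σ := by simp
    rw [e, map_zsmul, map_zsmul, h]

/-- The boundary. -/
def bd (n : ℕ) : Ch κ (n + 1) →ₗ[ℤ] Ch κ n := ext' (delta sx)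

lemma ext'_delta {n : ℕ} {M : Type*} [AddCommGroup M] (g : (Fin n → κ) → M) (x : Ch κ (n + 1)) :
    ext' (delta g) x = ext' g (bd n x) := by
  refine LinearMap.congr_fun (hom_ext' (f := ext' (delta g)) (g := (ext' g).comp (bd n)) fun σ => ?_) x
  rw [LinearMap.comp_apply, bd, ext'_sx, ext'_sx, delta, delta, map_sum]
  exact Finset.sum_congr rfl fun a _ => by rw [map_zsmul, ext'_sx]

lemma bd_bd (n : ℕ) (x : Ch κ (n + 2)) : bd n (bd (n + 1) x) = 0 := by
  show ext' (delta sx) (bd (n + 1) x) = 0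
  rw [← ext'_delta, show delta (delta (sx : (Fin n → κ) → Ch κ n)) = 0 from funext fun τ => delta_delta _ τ]
  simp [ext']

/-- The cone at a vertex. -/
def cone (n : ℕ) (v : κ) : Ch κ n →ₗ[ℤ] Ch κ (n + 1) := ext' fun τ => sx (Fin.cons v τ)

lemma bd_cone_zero (v : κ) (x : Ch κ 0) : bd 0 (cone 0 v x) = x := by
  refine LinearMap.congr_fun (hom_ext' (f := (bd 0).comp (cone 0 v)) (g := LinearMap.id) fun σ => ?_) x
  rw [LinearMap.comp_apply, LinearMap.id_apply, cone, ext'_sx, bd, ext'_sx, delta, Fin.sum_univ_one]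
  simp [Subsingleton.elim (α := Fin 0 → κ) _ σ]

lemma bd_cons {n : ℕ} (v : κ) (τ : Fin (n + 1) → κ) :
    bd (n + 1) (sx (Fin.cons v τ)) = sx τ - cone n v (bd n (sx τ)) := by
  rw [bd, ext'_sx, delta_cons, bd, ext'_sx]
  refine congrArg (fun z => sx τ - z) ?_
  rw [delta, delta, map_sum]
  refine Finset.sum_congr rfl fun a _ => ?_
  rw [map_zsmul, cone, ext'_sx]

lemma bd_cone (n : ℕ) (v : κ) (x : Ch κ (n + 1)) :
    bd (n + 1) (cone (n + 1) v x) = x - cone n v (bd n x) := by
  refine LinearMap.congr_fun (hom_ext' (f := (bd (n + 1)).comp (cone (n + 1) v))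
    (g := LinearMap.id - (cone n v).comp (bd n)) fun σ => ?_) x
  rw [LinearMap.comp_apply, cone, ext'_sx, bd_cons]
  rfl

/-- Chains with vertices in a set. -/
def supp (n : ℕ) (S : Set κ) : Submodule ℤ (Ch κ n) := Finsupp.supported ℤ ℤ {τ | ∀ a, τ a ∈ S}

lemma sx_mem_supp {n : ℕ} {S : Set κ} {σ : Fin n → κ} (h : ∀ a, σ a ∈ S) : sx σ ∈ supp n S :=
  Finsupp.single_mem_supported ℤ 1 h

lemma supp_induction {n : ℕ} {P : (Fin n → κ) → Prop} {M : Type*} [AddCommGroup M] (N : Submodule ℤ M)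
    (f : Ch κ n →ₗ[ℤ] M) (h : ∀ τ, P τ → f (sx τ) ∈ N) {x : Ch κ n}
    (hx : x ∈ Finsupp.supported ℤ ℤ {τ | P τ}) : f x ∈ N := by
  rw [Finsupp.supported_eq_span_single] at hx
  have : Submodule.span ℤ ((fun τ => Finsupp.single τ (1 : ℤ)) '' {τ | P τ}) ≤ N.comap f :=
    Submodule.span_le.2 fun _ ⟨τ, hτ, e⟩ => e ▸ h τ hτ
  exact this hx

lemma supp_mono {n : ℕ} {S T : Set κ} (h : S ⊆ T) : supp n S ≤ supp n T :=
  Finsupp.supported_mono fun _ hτ a => h (hτ a)

lemma cone_mem {n : ℕ} {S : Set κ} {v : κ} (hv : v ∈ S) {x : Ch κ n} (hx : x ∈ supp n S) :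
    cone n v x ∈ supp (n + 1) S :=
  supp_induction _ _ (fun τ hτ => by
    rw [cone, ext'_sx]
    exact sx_mem_supp (Fin.cases hv hτ)) hx

lemma bd_sx_mem {n : ℕ} {S : Set κ} {σ : Fin (n + 1) → κ} (h : ∀ a, σ a ∈ S) : bd n (sx σ) ∈ supp n S := by
  rw [bd, ext'_sx, delta]
  exact Submodule.sum_mem _ fun a _ => Submodule.smul_mem _ _ (sx_mem_supp fun b => h _)

variable [LinearOrder κ]

/-- Ordered chains with vertices in a set. -/
def osupp (n : ℕ) (S : Set κ) : Submodule ℤ (Ch κ n) :=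
  Finsupp.supported ℤ ℤ {τ | StrictMono τ ∧ ∀ a, τ a ∈ S}

lemma osupp_mono {n : ℕ} {S T : Set κ} (h : S ⊆ T) : osupp n S ≤ osupp n T :=
  Finsupp.supported_mono fun _ hτ => ⟨hτ.1, fun a => h (hτ.2 a)⟩

lemma osupp_le {n : ℕ} {S : Set κ} : osupp n S ≤ supp n S :=
  Finsupp.supported_mono fun _ hτ => hτ.2

open Classical in
/-- The cone at a least vertex, among ordered chains. -/
def ocone (n : ℕ) (w : κ) : Ch κ n →ₗ[ℤ] Ch κ (n + 1) :=
  ext' fun τ => if ∀ a, w < τ a then sx (Fin.cons w τ) else 0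

lemma ocone_sx {n : ℕ} (w : κ) (τ : Fin n → κ) :
    ocone n w (sx τ) = (if ∀ a, w < τ a then sx (Fin.cons w τ) else 0) := by
  classical
  rw [ocone, ext'_sx]

lemma strictMono_cons {n : ℕ} {w : κ} {τ : Fin n → κ} (hτ : StrictMono τ) (hw : ∀ a, w < τ a) :
    StrictMono (Fin.cons w τ : Fin (n + 1) → κ) := by
  intro a b hab
  induction b using Fin.cases with
  | zero => exact absurd hab (Fin.not_lt_zero a)
  | succ b =>
    induction a using Fin.cases with
    | zero => simpa using hw b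
    | succ a => simpa using hτ (Fin.succ_lt_succ_iff.1 hab)

lemma ocone_mem {n : ℕ} {S : Set κ} {w : κ} (hw : w ∈ S) {x : Ch κ n} (hx : x ∈ osupp n S) :
    ocone n w x ∈ osupp (n + 1) S :=
  supp_induction _ _ (fun τ hτ => by
    rw [ocone, ext'_sx]
    split_ifs with h
    · exact Finsupp.single_mem_supported ℤ 1 ⟨strictMono_cons hτ.1 h, Fin.cases hw hτ.2⟩
    · exact zero_mem _) hx

lemma bd_ocone_zero (w : κ) (x : Ch κ 0) : bd 0 (ocone 0 w x) = x := by
  refine LinearMap.congr_fun (hom_ext' (f := (bd 0).comp (ocone 0 w)) (g := LinearMap.id) fun σ => ?_) x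
  rw [LinearMap.comp_apply, ocone, ext'_sx, if_pos (fun a : Fin 0 => a.elim0)]
  have := bd_cone_zero w (sx σ)
  rwa [cone, ext'_sx] at this

lemma bd_ocone {n : ℕ} {S : Set κ} {w : κ} (hw : ∀ s ∈ S, w ≤ s) {x : Ch κ (n + 1)} (hx : x ∈ osupp (n + 1) S) :
    bd (n + 1) (ocone (n + 1) w x) + ocone n w (bd n x) = x := by
  refine _root_.sub_eq_zero.1 ((Submodule.mem_bot ℤ).1 (supp_induction ⊥
    ((bd (n + 1)).comp (ocone (n + 1) w) + (ocone n w).comp (bd n) - LinearMap.id) (fun τ hτ => ?_) hx))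
  rw [Submodule.mem_bot, LinearMap.sub_apply, LinearMap.add_apply, LinearMap.comp_apply, LinearMap.comp_apply,
    LinearMap.id_apply, _root_.sub_eq_zero]
  have hw' : w ≤ τ 0 := hw _ (hτ.2 0)
  rcases hw'.lt_or_eq with h | h
  · have h' : ∀ a, w < τ a := fun a => h.trans_le (hτ.1.monotone (Fin.zero_le a))
    have e : ocone n w (bd n (sx τ)) = cone n w (bd n (sx τ)) := by
      rw [bd, ext'_sx, delta, map_sum, map_sum]
      refine Finset.sum_congr rfl fun a _ => ?_
      rw [map_zsmul, map_zsmul, ocone_sx, cone, ext'_sx, if_pos fun b => h' _]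
    rw [e, ocone_sx, if_pos h', bd_cons]
    exact sub_add_cancel _ _
  · have h' : ¬ ∀ a, w < τ a := fun hh => (hh 0).ne h
    rw [ocone_sx, if_neg h', map_zero, zero_add, bd, ext'_sx, delta, map_sum, Fin.sum_univ_succ,
      Finset.sum_eq_zero, add_zero]
    · rw [map_zsmul, ocone_sx, if_pos]
      · simp only [Fin.val_zero, pow_zero, one_smul]
        refine congrArg sx (funext fun b => ?_)
        induction b using Fin.cases with
        | zero => simp [h]
        | succ b => simp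
      · intro b
        rw [h]
        exact hτ.1 (by simp [Fin.succ_pos])
    · intro a _
      cases n with
      | zero => exact a.elim0
      | succ m =>
        rw [map_zsmul, ocone_sx, if_neg, smul_zero]
        intro hh
        have := hh 0
        simp [← h] at this

/-- The retraction to ordered chains. -/
def A : ∀ n : ℕ, Ch κ n →ₗ[ℤ] Ch κ n
  | 0 => LinearMap.id
  | n + 1 => ext' fun σ => ocone n ((Finset.univ.image σ).min' (Finset.univ_nonempty.image σ)) (A n (bd n (sx σ)))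

/-- The homotopy. -/
def H : ∀ n : ℕ, Ch κ n →ₗ[ℤ] Ch κ (n + 1)
  | 0 => 0
  | n + 1 => ext' fun σ => cone (n + 1) (σ 0) (sx σ - A (n + 1) (sx σ) - H n (bd n (sx σ)))

lemma A_succ_sx (n : ℕ) (σ : Fin (n + 1) → κ) :
    A (n + 1) (sx σ) = ocone n ((Finset.univ.image σ).min' (Finset.univ_nonempty.image σ)) (A n (bd n (sx σ))) := by
  rw [A, ext'_sx]

lemma H_succ_sx (n : ℕ) (σ : Fin (n + 1) → κ) :
    H (n + 1) (sx σ) = cone (n + 1) (σ 0) (sx σ - A (n + 1) (sx σ) - H n (bd n (sx σ))) := by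
  rw [H, ext'_sx]

lemma A_mem : ∀ {n : ℕ} {S : Set κ} {x : Ch κ n}, x ∈ supp n S → A n x ∈ osupp n S
  | 0, S, x, hx => by
    refine Finsupp.supported_mono (fun τ _ => ?_) hx
    exact ⟨fun a => a.elim0, fun a => a.elim0⟩
  | n + 1, S, x, hx => supp_induction _ _ (fun σ hσ => by
    rw [A, ext'_sx]
    refine ocone_mem ?_ (A_mem (bd_sx_mem hσ))
    obtain ⟨a, -, ha⟩ := Finset.mem_image.1 ((Finset.univ.image σ).min'_mem (Finset.univ_nonempty.image σ))
    exact ha ▸ hσ a) hx

lemma bd_A : ∀ (n : ℕ) (x : Ch κ (n + 1)), bd n (A (n + 1) x) = A n (bd n x)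
  | 0, x => by
    refine LinearMap.congr_fun (hom_ext' (f := (bd 0).comp (A 1)) (g := (A 0).comp (bd 0)) fun σ => ?_) x
    rw [LinearMap.comp_apply, LinearMap.comp_apply, A_succ_sx, bd_ocone_zero]
  | n + 1, x => by
    refine LinearMap.congr_fun (hom_ext' (f := (bd (n + 1)).comp (A (n + 2))) (g := (A (n + 1)).comp (bd (n + 1)))
      fun σ => ?_) x
    rw [LinearMap.comp_apply, LinearMap.comp_apply]
    show bd (n + 1) (A (n + 2) (sx σ)) = _
    rw [A_succ_sx]
    have hm : A (n + 1) (bd (n + 1) (sx σ)) ∈ osupp (n + 1) (↑(Finset.univ.image σ)) :=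
      A_mem (bd_sx_mem fun a => Finset.mem_coe.2 (Finset.mem_image_of_mem σ (Finset.mem_univ a)))
    have key := bd_ocone (w := (Finset.univ.image σ).min' (Finset.univ_nonempty.image σ))
      (fun s hs => Finset.min'_le _ s (Finset.mem_coe.1 hs)) hm
    rw [bd_A n, bd_bd, map_zero, map_zero, add_zero] at key
    exact key

lemma H_mem : ∀ {n : ℕ} {S : Set κ} {x : Ch κ n}, x ∈ supp n S → H n x ∈ supp (n + 1) S
  | 0, S, x, hx => by simp [H]
  | n + 1, S, x, hx => supp_induction _ _ (fun σ hσ => by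
    rw [H, ext'_sx]
    exact cone_mem (hσ 0) (Submodule.sub_mem _ (Submodule.sub_mem _ (sx_mem_supp hσ)
      (osupp_le (A_mem (sx_mem_supp hσ)))) (H_mem (bd_sx_mem hσ)))) hx

lemma bd_H : ∀ (n : ℕ) (x : Ch κ (n + 1)),
    bd (n + 1) (H (n + 1) x) + H n (bd n x) = x - A (n + 1) x
  | 0, x => by
    refine LinearMap.congr_fun (hom_ext' (f := (bd 1).comp (H 1) + (H 0).comp (bd 0))
      (g := LinearMap.id - A 1) fun σ => ?_) x
    simp only [LinearMap.add_apply, LinearMap.comp_apply, LinearMap.sub_apply, LinearMap.id_apply]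
    rw [H_succ_sx, bd_cone]
    simp only [map_sub, bd_A]
    simp [H, A]
  | n + 1, x => by
    refine LinearMap.congr_fun (hom_ext' (f := (bd (n + 2)).comp (H (n + 2)) + (H (n + 1)).comp (bd (n + 1)))
      (g := LinearMap.id - A (n + 2)) fun σ => ?_) x
    simp only [LinearMap.add_apply, LinearMap.comp_apply, LinearMap.sub_apply, LinearMap.id_apply]
    have h := bd_H n (bd (n + 1) (sx σ))
    rw [bd_bd, map_zero, add_zero] at h
    show bd (n + 2) (H (n + 2) (sx σ)) + _ = _
    rw [H_succ_sx, bd_cone]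
    simp only [map_sub, bd_A, h]
    abel

lemma A_sx_eq_zero [Fintype κ] {n : ℕ} (h : Fintype.card κ < n) (σ : Fin n → κ) : A n (sx σ) = 0 := by
  have hm : A n (sx σ) ∈ osupp n (Set.univ : Set κ) := A_mem (sx_mem_supp fun a => Set.mem_univ _)
  have he : {τ : Fin n → κ | StrictMono τ ∧ ∀ a, τ a ∈ (Set.univ : Set κ)} = ∅ :=
    Set.eq_empty_iff_forall_notMem.2 fun τ hτ => by
      have := Fintype.card_le_of_injective τ hτ.1.injective
      rw [Fintype.card_fin] at this
      omega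
  rw [osupp, he, Finsupp.supported_empty] at hm
  exact (Submodule.mem_bot ℤ).1 hm

end Chains

variable {X : TopCat.{u}} {ι : Type u} (P : TopCat.Presheaf AddCommGrpCat.{u} X) (U : ι → Opens X)

/-- The vertices over an open. -/
abbrev vert (W : Opens X) : Set ι := {i | W ≤ U i}

/-- Evaluation of a cochain on chains. -/
def ev {p : ℕ} (c : Cochain P U p) (W : Opens X) : Ch ι p →ₗ[ℤ] P.obj (op W) := ext' (extend c W)

variable {P U}

lemma map_ev {p : ℕ} {c : Cochain P U p} (hc : IsNatural c) {W W' : Opens X} (g : W' ⟶ W) {x : Ch ι p}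
    (hx : x ∈ supp p (vert U W)) : P.map g.op (ev P U c W x) = ev P U c W' x := by
  refine _root_.sub_eq_zero.1 ((Submodule.mem_bot ℤ).1 (supp_induction (P := fun τ => ∀ a, τ a ∈ vert U W) ⊥
    ((P.map g.op).hom.toIntLinearMap.comp (ev P U c W) - ev P U c W') (fun τ hτ => ?_) hx))
  have h' : Le U τ W' := fun a => g.le.trans (hτ a)
  rw [Submodule.mem_bot, LinearMap.sub_apply, LinearMap.comp_apply, _root_.sub_eq_zero]
  show P.map g.op (ext' (extend c W) (sx τ)) = ext' (extend c W') (sx τ)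
  rw [ext'_sx, ext'_sx, extend, extend, dif_pos (show Le U τ W from hτ), dif_pos h']
  exact hc τ W W' hτ h' g

lemma ev_bd {p : ℕ} (c : Cochain P U p) (W : Opens X) {x : Ch ι (p + 1)} (hx : x ∈ supp (p + 1) (vert U W)) :
    ev P U c W (bd p x) = ev P U (d c) W x := by
  refine _root_.sub_eq_zero.1 ((Submodule.mem_bot ℤ).1 (supp_induction (P := fun τ => ∀ a, τ a ∈ vert U W) ⊥
    ((ev P U c W).comp (bd p) - ev P U (d c) W) (fun τ hτ => ?_) hx))
  rw [Submodule.mem_bot, LinearMap.sub_apply, LinearMap.comp_apply, _root_.sub_eq_zero]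
  show ext' (extend c W) (bd p (sx τ)) = ext' (extend (d c) W) (sx τ)
  rw [← ext'_delta, ext'_sx, ext'_sx, extend_d c W (show Le U τ W from hτ)]

theorem exists_d_eq [Fintype ι] {p : ℕ} (hp : Fintype.card ι < p + 1) {c : Cochain P U (p + 1)} (hc : IsNatural c)
    (hd : d c = 0) : ∃ b : Cochain P U p, IsNatural b ∧ d b = c := by
  classical
  letI : LinearOrder ι := LinearOrder.lift' (Fintype.equivFin ι) (Fintype.equivFin ι).injective
  refine ⟨fun τ W => ev P U c W.1 (H p (sx τ)), fun τ W W' h h' g => map_ev hc g (H_mem (sx_mem_supp h)), ?_⟩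
  funext σ W
  obtain ⟨W, hW⟩ := W
  have hσ : sx σ ∈ supp (p + 1) (vert U W) := sx_mem_supp hW
  have e1 : d (fun (τ : Fin p → ι) (W : {W : Opens X // Le U τ W}) => ev P U c W.1 (H p (sx τ))) σ ⟨W, hW⟩ =
      ev P U c W (H p (bd p (sx σ))) := by
    rw [d_eq_delta, bd, ext'_sx, delta, delta, map_sum, map_sum]
    refine Finset.sum_congr rfl fun a _ => ?_
    rw [map_zsmul, map_zsmul, extend, dif_pos (show Le U (fun b => σ (a.succAbove b)) W from fun b => hW _)]
  rw [e1]
  have hbd := bd_H p (sx σ)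
  rw [A_sx_eq_zero hp, sub_zero] at hbd
  rw [eq_sub_of_add_eq' hbd, map_sub, ev_bd c W (H_mem hσ)]
  have h0 : ev P U (d c) W (H (p + 1) (sx σ)) = 0 := by
    rw [hd]
    have : extend (0 : Cochain P U (p + 2)) W = 0 := funext fun τ => by simp [extend]
    simp [ev, this, ext']
  rw [h0, sub_zero]
  show ext' (extend c W) (sx σ) = _
  rw [ext'_sx, extend, dif_pos hW]

theorem isZero_cech (P : (Opens X)ᵒᵖ ⥤ AddCommGrpCat.{u}) [Finite ι] (U : ι → Opens X) (q : ℕ) (hq : Nat.card ι ≤ q) :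
    IsZero (((cechComplexFunctor U).obj P).homology q) := by
  haveI := Fintype.ofFinite ι
  rw [Nat.card_eq_fintype_card] at hq
  rw [← (HomologicalComplex.homologyMapIso (cechIso P U) q).isZero_iff,
    ← HomologicalComplex.exactAt_iff_isZero_homology]
  cases q with
  | zero =>
    haveI : IsEmpty ι := Fintype.card_eq_zero_iff.1 (Nat.le_zero.1 hq)
    refine ShortComplex.exact_of_isZero_X₂ _ ?_
    haveI : Subsingleton ((natCx P U).X 0) :=
      ⟨fun a b => Subtype.ext (funext fun σ => isEmptyElim (σ 0))⟩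
    exact AddCommGrpCat.isZero_of_subsingleton ((natCx P U).X 0)
  | succ m =>
    rw [HomologicalComplex.exactAt_iff' _ m (m + 1) (m + 2) (by simp) (by simp), ShortComplex.ab_exact_iff]
    simp only [HomologicalComplex.sc', HomologicalComplex.shortComplexFunctor'_obj_f,
      HomologicalComplex.shortComplexFunctor'_obj_g, natCx_d]
    intro c hd
    obtain ⟨b, hbn, hb⟩ := exists_d_eq (p := m + 1) (by omega) c.2 (congrArg Subtype.val hd)
    exact ⟨⟨b, hbn⟩, Subtype.ext hb⟩

end Groth.Agent.CechCard
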