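import Groth.Agent.SiteBase.FiniteCoverColimit

/-!
# Filtered colimits of abelian sheaves on sites with finite covers; noetherian spaces
-/

universe u

open CategoryTheory CategoryTheory.Limits Opposite TopologicalSpace

namespace Groth.Agent.SiteBase

variable {C : Type u} [SmallCategory C] [HasPullbacks C] {J : GrothendieckTopology C}
  {I : Type u} [SmallCategory I] [IsFiltered I]

theorem preservesColimitsOfShape_sheafToPresheaf_ab (hJ : ∀ U : C, ToposFin.IsQCSite J U) :
    PreservesColimitsOfShape I (sheafToPresheaf J AddCommGrpCat.{u}) where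
  preservesColimit {K} := by
    let P := colimit.cocone (K ⋙ sheafToPresheaf J AddCommGrpCat.{u})
    let Φ := (Functor.whiskeringRight Cᵒᵖ AddCommGrpCat.{u} (Type u)).obj (CategoryTheory.forget AddCommGrpCat.{u})
    have hP : Presheaf.IsSheaf J P.pt := by
      rw [Presheaf.isSheaf_iff_isSheaf_forget J _ (CategoryTheory.forget AddCommGrpCat.{u})]
      exact isSheaf_filteredColimit hJ (K ⋙ sheafCompose J (CategoryTheory.forget AddCommGrpCat.{u}))
        (Φ.mapCocone P) (isColimitOfPreserves Φ (colimit.isColimit _))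
    let c : Cocone K :=
      { pt := ⟨P.pt, hP⟩
        ι := { app := fun i => ⟨P.ι.app i⟩
               naturality := fun i j f => Sheaf.hom_ext (P.ι.naturality f) } }
    have h : IsColimit ((sheafToPresheaf J AddCommGrpCat.{u}).mapCocone c) :=
      (colimit.isColimit _).ofIsoColimit (Cocone.ext (Iso.refl _))
    exact preservesColimit_of_preserves_colimit_cocone (isColimitOfReflects _ h) h

/-- A Noetherian space has finite covers. -/
theorem isQCSite_of_noetherianSpace (X : Type u) [TopologicalSpace X] [NoetherianSpace X] (U : Opens X) :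
    ToposFin.IsQCSite (Opens.grothendieckTopology X) U := by
  intro S hS
  have hU : IsCompact (U : Set X) := NoetherianSpace.isCompact _
  choose V g hg hxV using fun x : (U : Set X) => hS x.1 x.2
  obtain ⟨s, hs⟩ := hU.elim_finite_subcover (fun x => (V x : Set X)) (fun x => (V x).2)
    fun x hx => Set.mem_iUnion.2 ⟨⟨x, hx⟩, hxV ⟨x, hx⟩⟩
  refine ⟨s.card, fun k => V (s.equivFin.symm k).1, fun k => g _, fun k => hg _, fun x hx => ?_⟩
  obtain ⟨y, hy, hxy⟩ := Set.mem_iUnion₂.1 (hs hx)
  refine ⟨V y, g y, ?_, hxy⟩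
  obtain ⟨k, hk⟩ : ∃ k, (s.equivFin.symm k).1 = y := ⟨s.equivFin ⟨y, hy⟩, by simp⟩
  subst hk
  exact Sieve.ofArrows_mk _ _ k

end Groth.Agent.SiteBase
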