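import Mathlib.CategoryTheory.Sites.Pullback
import Mathlib.CategoryTheory.Sites.Abelian
import Mathlib.CategoryTheory.Sites.Limits
import Mathlib.CategoryTheory.Sites.Whiskering
import Mathlib.CategoryTheory.Sites.Adjunction
import Mathlib.CategoryTheory.Adjunction.Additive
import Mathlib.Algebra.Category.Grp.Abelian
import Mathlib.Algebra.Category.Grp.Limits
import Mathlib.Algebra.Category.Grp.Colimits
import Mathlib.Algebra.Category.Grp.FilteredColimits
import Mathlib.Algebra.Category.Grp.Adjunctions
import Mathlib.Algebra.Homology.ShortComplex.ExactFunctor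

/-!
# Left exact functors on sheaves of sets carry abelian sheaves to abelian sheaves
-/

universe u

open CategoryTheory CategoryTheory.Limits Opposite

namespace Groth.Agent.SiteBase

variable {C D : Type u} [SmallCategory C] [SmallCategory D] {J : GrothendieckTopology C}
  {K : GrothendieckTopology D}

/-- The underlying sheaf of sets. -/
abbrev setSh (G : Sheaf K AddCommGrpCat.{u}) : Sheaf K (Type u) :=
  (sheafCompose K (forget AddCommGrpCat.{u})).obj G

/-- A section, seen as an element of the group of sections. -/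
abbrev asGrp (G : Sheaf K AddCommGrpCat.{u}) {V : Dᵒᵖ} (x : (setSh G).obj.obj V) : G.obj.obj V := x

variable {G : Sheaf K AddCommGrpCat.{u}} {S : Sheaf K (Type u)}

/-- The sum of two maps into an abelian sheaf. -/
noncomputable def padd (a b : S ⟶ setSh G) : S ⟶ setSh G :=
  ⟨{ app := fun V => TypeCat.ofHom fun s => asGrp G (a.hom.app V s) + asGrp G (b.hom.app V s)
     naturality := fun V W g => by
       ext s
       refine (congrArg₂ (fun x y => asGrp G x + asGrp G y)
         (NatTrans.naturality_apply a.hom g s) (NatTrans.naturality_apply b.hom g s)).trans ?_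
       exact (map_add (G.obj.map g).hom _ _).symm }⟩

/-- The negative of a map into an abelian sheaf. -/
noncomputable def pneg (a : S ⟶ setSh G) : S ⟶ setSh G :=
  ⟨{ app := fun V => TypeCat.ofHom fun s => -(asGrp G (a.hom.app V s))
     naturality := fun V W g => by
       ext s
       refine (congrArg (fun x => -(asGrp G x)) (NatTrans.naturality_apply a.hom g s)).trans ?_
       exact (map_neg (G.obj.map g).hom _).symm }⟩

/-- The zero map into an abelian sheaf. -/
noncomputable def pzero : S ⟶ setSh G :=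
  ⟨{ app := fun V => TypeCat.ofHom fun _ => (0 : G.obj.obj V)
     naturality := fun V W g => by
       ext s
       exact (map_zero (G.obj.map g).hom).symm }⟩

lemma padd_app (a b : S ⟶ setSh G) {V : Dᵒᵖ} (s : S.obj.obj V) :
    (padd a b).hom.app V s = asGrp G (a.hom.app V s) + asGrp G (b.hom.app V s) := rfl

lemma comp_padd {S' : Sheaf K (Type u)} (c : S' ⟶ S) (a b : S ⟶ setSh G) :
    c ≫ padd a b = padd (c ≫ a) (c ≫ b) := rfl

lemma comp_pzero {S' : Sheaf K (Type u)} (c : S' ⟶ S) : c ≫ (pzero : S ⟶ setSh G) = pzero := rfl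

lemma padd_assoc (a b c : S ⟶ setSh G) : padd (padd a b) c = padd a (padd b c) := by
  ext V s
  exact add_assoc (G := G.obj.obj V) _ _ _

lemma padd_comm (a b : S ⟶ setSh G) : padd a b = padd b a := by
  ext V s
  exact add_comm (G := G.obj.obj V) _ _

lemma pzero_padd (a : S ⟶ setSh G) : padd pzero a = a := by
  ext V s
  exact zero_add (M := G.obj.obj V) _

lemma pneg_padd (a : S ⟶ setSh G) : padd (pneg a) a = pzero := by
  ext V s
  exact neg_add_cancel (G := G.obj.obj V) _

section Sections

variable (L : Sheaf K (Type u) ⥤ Sheaf J (Type u)) [PreservesFiniteLimits L]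

/-- Sections of an image. -/
abbrev sliceSecT (A : Sheaf K (Type u)) (W : Cᵒᵖ) : Type u := (L.obj A).obj.obj W

/-- The action of a map on sections of images. -/
abbrev mapT {A B : Sheaf K (Type u)} (φ : A ⟶ B) (W : Cᵒᵖ) (z : sliceSecT L A W) : sliceSecT L B W :=
  (L.map φ).hom.app W z

lemma mapT_comp {A B E : Sheaf K (Type u)} (φ : A ⟶ B) (ψ : B ⟶ E) (W : Cᵒᵖ) (z : sliceSecT L A W) :
    mapT L (φ ≫ ψ) W z = mapT L ψ W (mapT L φ W z) :=
  congrArg (fun t => t.hom.app W z) (L.map_comp φ ψ)

lemma mapT_id {A : Sheaf K (Type u)} (W : Cᵒᵖ) (z : sliceSecT L A W) : mapT L (𝟙 A) W z = z :=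
  congrArg (fun t => t.hom.app W z) (L.map_id A)

lemma existsUnique_pairT (A B : Sheaf K (Type u)) (W : Cᵒᵖ) (a : sliceSecT L A W) (b : sliceSecT L B W) :
    ∃! z : sliceSecT L (A ⨯ B) W, mapT L prod.fst W z = a ∧ mapT L prod.snd W z = b := by
  let E := sheafToPresheaf J (Type u) ⋙ (evaluation Cᵒᵖ (Type u)).obj W
  have : PreservesFiniteLimits E := comp_preservesFiniteLimits _ _
  have : PreservesFiniteLimits (L ⋙ E) := comp_preservesFiniteLimits _ _
  let h := isLimitOfHasBinaryProductOfPreservesLimit (L ⋙ E) A B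
  let s : BinaryFan ((L ⋙ E).obj A) ((L ⋙ E).obj B) :=
    BinaryFan.mk (P := PUnit.{u + 1}) (TypeCat.ofHom fun _ => a) (TypeCat.ofHom fun _ => b)
  refine ⟨h.lift s PUnit.unit, ⟨?_, ?_⟩, fun z hz => ?_⟩
  · exact ConcreteCategory.congr_hom (h.fac s ⟨WalkingPair.left⟩) PUnit.unit
  · exact ConcreteCategory.congr_hom (h.fac s ⟨WalkingPair.right⟩) PUnit.unit
  · refine ConcreteCategory.congr_hom (h.uniq s (TypeCat.ofHom fun _ => z) fun j => ?_) PUnit.unit
    rcases j with ⟨⟨⟩⟩
    · ext x
      exact hz.1
    · ext x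
      exact hz.2

lemma unique_termT (W : Cᵒᵖ) : Nonempty (Unique (sliceSecT L (⊤_ (Sheaf K (Type u))) W)) := by
  let E := sheafToPresheaf J (Type u) ⋙ (evaluation Cᵒᵖ (Type u)).obj W
  have : PreservesFiniteLimits E := comp_preservesFiniteLimits _ _
  have : PreservesFiniteLimits (L ⋙ E) := comp_preservesFiniteLimits _ _
  exact ⟨(Types.isTerminalEquivUnique _).1 (IsTerminal.isTerminalObj (L ⋙ E) _ terminalIsTerminal)⟩

/-- A pair of sections of images. -/
noncomputable def pairT {A B : Sheaf K (Type u)} {W : Cᵒᵖ} (a : sliceSecT L A W) (b : sliceSecT L B W) :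
    sliceSecT L (A ⨯ B) W := (existsUnique_pairT L A B W a b).exists.choose

lemma mapT_fst_pairT {A B : Sheaf K (Type u)} {W : Cᵒᵖ} (a : sliceSecT L A W) (b : sliceSecT L B W) :
    mapT L prod.fst W (pairT L a b) = a := (existsUnique_pairT L A B W a b).exists.choose_spec.1

lemma mapT_snd_pairT {A B : Sheaf K (Type u)} {W : Cᵒᵖ} (a : sliceSecT L A W) (b : sliceSecT L B W) :
    mapT L prod.snd W (pairT L a b) = b := (existsUnique_pairT L A B W a b).exists.choose_spec.2

lemma eq_pairT {A B : Sheaf K (Type u)} {W : Cᵒᵖ} (a : sliceSecT L A W) (b : sliceSecT L B W) (z : sliceSecT L (A ⨯ B) W)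
    (h₁ : mapT L prod.fst W z = a) (h₂ : mapT L prod.snd W z = b) : z = pairT L a b :=
  (existsUnique_pairT L A B W a b).unique ⟨h₁, h₂⟩ ⟨mapT_fst_pairT L a b, mapT_snd_pairT L a b⟩

/-- The image of addition. -/
noncomputable def addT {W : Cᵒᵖ} (a b : sliceSecT L (setSh G) W) : sliceSecT L (setSh G) W :=
  mapT L (padd prod.fst prod.snd) W (pairT L a b)

lemma addT_map {W : Cᵒᵖ} (φ ψ : S ⟶ setSh G) (z : sliceSecT L S W) :
    addT L (mapT L φ W z) (mapT L ψ W z) = mapT L (padd φ ψ) W z := by
  have h : pairT L (mapT L φ W z) (mapT L ψ W z) = mapT L (prod.lift φ ψ) W z :=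
    (eq_pairT L _ _ _ (by rw [← mapT_comp, prod.lift_fst]) (by rw [← mapT_comp, prod.lift_snd])).symm
  refine (congrArg (mapT L (padd prod.fst prod.snd) W) h).trans ?_
  rw [← mapT_comp, comp_padd, prod.lift_fst, prod.lift_snd]

/-- The image of zero. -/
noncomputable def zeroT (G : Sheaf K AddCommGrpCat.{u}) (W : Cᵒᵖ) : sliceSecT L (setSh G) W :=
  mapT L pzero W (unique_termT L W).some.default

lemma mapT_pzero {W : Cᵒᵖ} (z : sliceSecT L S W) : mapT L (pzero : S ⟶ setSh G) W z = zeroT L G W := by
  rw [← comp_pzero (terminal.from S), mapT_comp]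
  exact congrArg (mapT L pzero W) ((unique_termT L W).some.uniq _)

/-- The group of sections of the image of an abelian sheaf. -/
@[instance_reducible]
noncomputable def grpT (G : Sheaf K AddCommGrpCat.{u}) (W : Cᵒᵖ) : AddCommGroup (sliceSecT L (setSh G) W) where
  add := addT L
  zero := zeroT L G W
  neg := mapT L (pneg (𝟙 _)) W
  nsmul := @nsmulRec _ ⟨zeroT L G W⟩ ⟨addT L⟩
  zsmul := @zsmulRec _ ⟨zeroT L G W⟩ ⟨addT L⟩ ⟨mapT L (pneg (𝟙 _)) W⟩ (@nsmulRec _ ⟨zeroT L G W⟩ ⟨addT L⟩)
  add_assoc a b c := by
    show addT L (addT L a b) c = addT L a (addT L b c)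
    let z := pairT L (pairT L a b) c
    have ha : mapT L (prod.fst ≫ prod.fst) W z = a := by
      rw [mapT_comp, mapT_fst_pairT, mapT_fst_pairT]
    have hb : mapT L (prod.fst ≫ prod.snd) W z = b := by
      rw [mapT_comp, mapT_fst_pairT, mapT_snd_pairT]
    have hc : mapT L prod.snd W z = c := mapT_snd_pairT L _ _
    rw [← ha, ← hb, ← hc, addT_map, addT_map, addT_map, addT_map, padd_assoc]
  zero_add a := by
    show addT L (zeroT L G W) a = a
    have h := addT_map L (pzero : setSh G ⟶ setSh G) (𝟙 _) a
    rwa [mapT_pzero, mapT_id, pzero_padd, mapT_id] at h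
  add_zero a := by
    show addT L a (zeroT L G W) = a
    have h := addT_map L (𝟙 (setSh G)) pzero a
    rwa [mapT_pzero, mapT_id, padd_comm, pzero_padd, mapT_id] at h
  neg_add_cancel a := by
    show addT L (mapT L (pneg (𝟙 _)) W a) a = zeroT L G W
    have h := addT_map L (pneg (𝟙 (setSh G))) (𝟙 _) a
    rwa [mapT_id, pneg_padd, mapT_pzero] at h
  add_comm a b := by
    show addT L a b = addT L b a
    let z := pairT L a b
    have ha : mapT L prod.fst W z = a := mapT_fst_pairT L a b
    have hb : mapT L prod.snd W z = b := mapT_snd_pairT L a b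
    rw [← ha, ← hb, addT_map, addT_map, padd_comm]

lemma pairT_natural {A B : Sheaf K (Type u)} {W W' : Cᵒᵖ} (g : W ⟶ W') (a : sliceSecT L A W) (b : sliceSecT L B W) :
    (L.obj (A ⨯ B)).obj.map g (pairT L a b) = pairT L ((L.obj A).obj.map g a) ((L.obj B).obj.map g b) := by
  refine eq_pairT L _ _ _ ?_ ?_
  · exact (NatTrans.naturality_apply (L.map prod.fst).hom g _).trans
      (congrArg _ (mapT_fst_pairT L a b))
  · exact (NatTrans.naturality_apply (L.map prod.snd).hom g _).trans
      (congrArg _ (mapT_snd_pairT L a b))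

lemma addT_natural {W W' : Cᵒᵖ} (g : W ⟶ W') (a b : sliceSecT L (setSh G) W) :
    (L.obj (setSh G)).obj.map g (addT L a b) =
      addT L ((L.obj (setSh G)).obj.map g a) ((L.obj (setSh G)).obj.map g b) := by
  refine (NatTrans.naturality_apply (L.map (padd (G := G) prod.fst prod.snd)).hom g _).symm.trans ?_
  exact congrArg (mapT L _ W') (pairT_natural L g a b)

/-- The image of an abelian sheaf, as an abelian sheaf. -/
noncomputable def pullGrp (G : Sheaf K AddCommGrpCat.{u}) : Sheaf J AddCommGrpCat.{u} where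
  obj :=
    { obj := fun W => @AddCommGrpCat.of (sliceSecT L (setSh G) W) (grpT L G W)
      map := fun {W W'} g =>
        letI := grpT L G W
        letI := grpT L G W'
        AddCommGrpCat.ofHom (AddMonoidHom.mk' (fun x : sliceSecT L (setSh G) W => ((L.obj (setSh G)).obj.map g x : sliceSecT L (setSh G) W'))
          (addT_natural L g))
      map_id := fun W => by
        apply AddCommGrpCat.ext
        intro x
        exact congrArg (fun t => t x) ((L.obj (setSh G)).obj.map_id W)
      map_comp := fun f g => by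
        apply AddCommGrpCat.ext
        intro x
        exact congrArg (fun t => t x) ((L.obj (setSh G)).obj.map_comp f g) }
  property := Presheaf.isSheaf_of_isSheaf_comp J _ (forget AddCommGrpCat.{u}) (L.obj (setSh G)).property

/-- The underlying sheaf of sets of `pullGrp`. -/
noncomputable def pullGrpIso (G : Sheaf K AddCommGrpCat.{u}) : setSh (pullGrp L G) ≅ L.obj (setSh G) :=
  Iso.refl _

end Sections

section Pull

variable (u : D ⥤ C) [u.IsContinuous K J] [PreservesFiniteLimits (u.sheafPullback (Type u) K J)]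

/-- The Ab-valued unit on sets. -/
noncomputable def setUnit (G : Sheaf K AddCommGrpCat.{u}) :
    setSh G ⟶ (u.sheafPushforwardContinuous (Type u) K J).obj (setSh ((u.sheafPullback AddCommGrpCat.{u} K J).obj G)) :=
  (sheafCompose K (forget AddCommGrpCat.{u})).map ((u.sheafAdjunctionContinuous AddCommGrpCat.{u} K J).unit.app G)

/-- The comparison map from the inverse image of sets. -/
noncomputable def pullCmp (G : Sheaf K AddCommGrpCat.{u}) :
    (u.sheafPullback (Type u) K J).obj (setSh G) ⟶ setSh ((u.sheafPullback AddCommGrpCat.{u} K J).obj G) :=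
  ((u.sheafAdjunctionContinuous (Type u) K J).homEquiv _ _).symm (setUnit u G)

lemma pullCmp_unit (G : Sheaf K AddCommGrpCat.{u}) :
    (u.sheafAdjunctionContinuous (Type u) K J).unit.app (setSh G) ≫
      (u.sheafPushforwardContinuous (Type u) K J).map (pullCmp u G) = setUnit u G :=
  ((u.sheafAdjunctionContinuous (Type u) K J).homEquiv_unit _ _ (pullCmp u G)).symm.trans
    (Equiv.apply_symm_apply _ _)

lemma pullCmp_naturality {G G' : Sheaf K AddCommGrpCat.{u}} (φ : G ⟶ G') :
    (u.sheafPullback (Type u) K J).map ((sheafCompose K (forget AddCommGrpCat.{u})).map φ) ≫ pullCmp u G' =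
      pullCmp u G ≫ (sheafCompose J (forget AddCommGrpCat.{u})).map ((u.sheafPullback AddCommGrpCat.{u} K J).map φ) := by
  refine ((u.sheafAdjunctionContinuous (Type u) K J).homEquiv_naturality_left_symm _ _).symm.trans
    (Eq.trans ?_ ((u.sheafAdjunctionContinuous (Type u) K J).homEquiv_naturality_right_symm _ _))
  refine congrArg ((u.sheafAdjunctionContinuous (Type u) K J).homEquiv _ _).symm ?_
  refine ((sheafCompose K (forget AddCommGrpCat.{u})).map_comp _ _).symm.trans ?_
  refine (congrArg (fun t => (sheafCompose K (forget AddCommGrpCat.{u})).map t)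
    ((u.sheafAdjunctionContinuous AddCommGrpCat.{u} K J).unit.naturality φ)).trans ?_
  exact (sheafCompose K (forget AddCommGrpCat.{u})).map_comp _ _

/-- The unit on sets, seen on sections. -/
noncomputable def unitT {S : Sheaf K (Type u)} {V : Dᵒᵖ} (x : S.obj.obj V) :
    sliceSecT (u.sheafPullback (Type u) K J) S (op (u.obj V.unop)) :=
  ((u.sheafAdjunctionContinuous (Type u) K J).unit.app S).hom.app V x

lemma mapT_unitT {A B : Sheaf K (Type u)} (φ : A ⟶ B) {V : Dᵒᵖ} (x : A.obj.obj V) :
    mapT (u.sheafPullback (Type u) K J) φ _ (unitT u x) = unitT u (φ.hom.app V x) :=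
  (congrArg (fun t => t.hom.app V x) ((u.sheafAdjunctionContinuous (Type u) K J).unit.naturality φ)).symm

lemma unitT_add {G : Sheaf K AddCommGrpCat.{u}} {V : Dᵒᵖ} (x y : G.obj.obj V) :
    unitT (J := J) u (S := setSh G) (x + y) =
      addT (u.sheafPullback (Type u) K J) (unitT u (S := setSh G) x) (unitT u (S := setSh G) y) := by
  let E := sheafToPresheaf K (Type u) ⋙ (evaluation Dᵒᵖ (Type u)).obj V
  have : PreservesFiniteLimits E := comp_preservesFiniteLimits _ _
  obtain ⟨p, hx, hy⟩ : ∃ p : (setSh G ⨯ setSh G).obj.obj V,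
      (prod.fst : setSh G ⨯ setSh G ⟶ _).hom.app V p = x ∧ (prod.snd : setSh G ⨯ setSh G ⟶ _).hom.app V p = y := by
    let h := isLimitOfHasBinaryProductOfPreservesLimit E (setSh G) (setSh G)
    let s : BinaryFan (E.obj (setSh G)) (E.obj (setSh G)) :=
      BinaryFan.mk (P := PUnit.{u + 1}) (TypeCat.ofHom fun _ => x) (TypeCat.ofHom fun _ => y)
    exact ⟨h.lift s PUnit.unit, ConcreteCategory.congr_hom (h.fac s ⟨WalkingPair.left⟩) PUnit.unit,
      ConcreteCategory.congr_hom (h.fac s ⟨WalkingPair.right⟩) PUnit.unit⟩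
  rw [← hx, ← hy, ← mapT_unitT u prod.fst p, ← mapT_unitT u prod.snd p, addT_map, mapT_unitT]
  exact congrArg (unitT u) (padd_app _ _ p).symm

lemma pullCmp_unitT {G : Sheaf K AddCommGrpCat.{u}} {V : Dᵒᵖ} (x : G.obj.obj V) :
    (pullCmp (J := J) u G).hom.app _ (unitT u (S := setSh G) x) =
      ((u.sheafAdjunctionContinuous AddCommGrpCat.{u} K J).unit.app G).hom.app V x :=
  congrArg (fun (t : setSh G ⟶ (u.sheafPushforwardContinuous (Type u) K J).obj
      (setSh ((u.sheafPullback AddCommGrpCat.{u} K J).obj G))) => t.hom.app V x) (pullCmp_unit (J := J) u G)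

lemma pullCmp_add (G : Sheaf K AddCommGrpCat.{u}) {W : Cᵒᵖ} (a b : sliceSecT (u.sheafPullback (Type u) K J) (setSh G) W) :
    asGrp ((u.sheafPullback AddCommGrpCat.{u} K J).obj G) ((pullCmp (J := J) u G).hom.app W (addT _ a b)) =
      asGrp _ ((pullCmp (J := J) u G).hom.app W a) + asGrp _ ((pullCmp (J := J) u G).hom.app W b) := by
  let L := u.sheafPullback (Type u) K J
  let adj := u.sheafAdjunctionContinuous (Type u) K J
  have e : L.map (padd prod.fst prod.snd) ≫ pullCmp u G =
      padd (L.map (prod.fst : setSh G ⨯ setSh G ⟶ _) ≫ pullCmp u G) (L.map prod.snd ≫ pullCmp u G) := by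
    apply (adj.homEquiv _ _).injective
    rw [adj.homEquiv_unit, adj.homEquiv_unit]
    ext V p
    refine (congrArg (fun z => (pullCmp u G).hom.app _ z) (mapT_unitT u _ p)).trans ?_
    refine (pullCmp_unitT u _).trans ?_
    refine (map_add (((u.sheafAdjunctionContinuous AddCommGrpCat.{u} K J).unit.app G).hom.app V).hom _ _).trans ?_
    refine congrArg₂ (fun x y => asGrp ((u.sheafPullback AddCommGrpCat.{u} K J).obj G) x + asGrp _ y)
      ((pullCmp_unitT u _).symm.trans ?_) ((pullCmp_unitT u _).symm.trans ?_)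
    · exact congrArg (fun z => (pullCmp u G).hom.app _ z) (mapT_unitT u _ p).symm
    · exact congrArg (fun z => (pullCmp u G).hom.app _ z) (mapT_unitT u _ p).symm
  refine (congrArg (fun t => t.hom.app W (pairT L a b)) e).trans ?_
  exact congrArg₂ (fun x y => asGrp ((u.sheafPullback AddCommGrpCat.{u} K J).obj G) x + asGrp _ y)
    (congrArg (fun z => (pullCmp u G).hom.app W z) (mapT_fst_pairT L a b))
    (congrArg (fun z => (pullCmp u G).hom.app W z) (mapT_snd_pairT L a b))

/-- Inverse images of abelian sheaves have the inverse image of sets as underlying sheaf of sets. -/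
theorem isIso_pullCmp (G : Sheaf K AddCommGrpCat.{u}) : IsIso (pullCmp (J := J) u G) := by
  let L := u.sheafPullback (Type u) K J
  let adj := u.sheafAdjunctionContinuous (Type u) K J
  let adjA := u.sheafAdjunctionContinuous AddCommGrpCat.{u} K J
  let H := pullGrp L G
  let i : G ⟶ (u.sheafPushforwardContinuous AddCommGrpCat.{u} K J).obj H :=
    ⟨{ app := fun V =>
         letI : AddCommGroup (sliceSecT L (setSh G) (u.op.obj V)) := grpT L G (u.op.obj V)
         AddCommGrpCat.ofHom (AddMonoidHom.mk'
          (fun x : G.obj.obj V => (unitT u (S := setSh G) x : sliceSecT L (setSh G) (u.op.obj V))) (unitT_add u))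
       naturality := fun V V' g => by
         apply AddCommGrpCat.ext
         intro x
         exact NatTrans.naturality_apply (adj.unit.app (setSh G)).hom g x }⟩
  let d := (adjA.homEquiv G H).symm i
  let dS : setSh ((u.sheafPullback AddCommGrpCat.{u} K J).obj G) ⟶ L.obj (setSh G) :=
    (sheafCompose J (forget AddCommGrpCat.{u})).map d ≫ (pullGrpIso L G).hom
  have hd : adjA.unit.app G ≫ (u.sheafPushforwardContinuous AddCommGrpCat.{u} K J).map d = i :=
    (adjA.homEquiv_unit _ _ d).symm.trans (Equiv.apply_symm_apply _ _)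
  have h1 : pullCmp u G ≫ dS = 𝟙 _ := by
    apply (adj.homEquiv _ _).injective
    rw [adj.homEquiv_unit, adj.homEquiv_unit]
    refine Eq.trans ?_ ((Category.comp_id _).symm.trans
      (congrArg (fun t => adj.unit.app (setSh G) ≫ t) ((u.sheafPushforwardContinuous (Type u) K J).map_id _).symm))
    ext V x
    refine (congrArg (fun z => dS.hom.app (op (u.obj V.unop)) z) (pullCmp_unitT u x)).trans ?_
    exact congrArg (fun t => t.hom.app V x) hd
  let c : H ⟶ (u.sheafPullback AddCommGrpCat.{u} K J).obj G :=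
    ⟨{ app := fun W =>
         letI : AddCommGroup (sliceSecT L (setSh G) W) := grpT L G W
         AddCommGrpCat.ofHom (AddMonoidHom.mk'
          (fun x : sliceSecT L (setSh G) W => asGrp ((u.sheafPullback AddCommGrpCat.{u} K J).obj G) ((pullCmp u G).hom.app W x))
          (pullCmp_add u G))
       naturality := fun W W' g => by
         apply AddCommGrpCat.ext
         intro x
         exact NatTrans.naturality_apply (pullCmp u G).hom g x }⟩
  have h2 : d ≫ c = 𝟙 _ := by
    apply (adjA.homEquiv _ _).injective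
    rw [adjA.homEquiv_naturality_right, adjA.homEquiv_unit, adjA.homEquiv_unit, hd]
    refine Eq.trans ?_ ((Category.comp_id _).symm.trans
      (congrArg (fun t => adjA.unit.app G ≫ t) ((u.sheafPushforwardContinuous AddCommGrpCat.{u} K J).map_id _).symm))
    ext V x
    exact pullCmp_unitT u x
  refine ⟨dS, h1, ?_⟩
  show ((sheafCompose J (forget AddCommGrpCat.{u})).map d ≫ (pullGrpIso L G).hom) ≫ pullCmp u G = 𝟙 _
  refine (congrArg (fun t => t ≫ pullCmp u G) (Category.comp_id _)).trans ?_
  exact ((sheafCompose J (forget AddCommGrpCat.{u})).map_comp d c).symm.trans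
    ((congrArg (fun t => (sheafCompose J (forget AddCommGrpCat.{u})).map t) h2).trans
      ((sheafCompose J (forget AddCommGrpCat.{u})).map_id _))

/-- Inverse images of abelian sheaves are exact if those of sets are. -/
theorem preservesFiniteLimits_sheafPullback_ab :
    PreservesFiniteLimits (u.sheafPullback AddCommGrpCat.{u} K J) := by
  let P := u.sheafPullback AddCommGrpCat.{u} K J
  let adjA := u.sheafAdjunctionContinuous AddCommGrpCat.{u} K J
  have : (u.sheafPushforwardContinuous AddCommGrpCat.{u} K J).Additive := ⟨fun {_ _ _ _} => rfl⟩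
  have : P.Additive := adjA.left_adjoint_additive
  have : PreservesColimitsOfSize.{0, 0} P := adjA.leftAdjoint_preservesColimits
  have : PreservesFiniteColimits P := ⟨fun _ => inferInstance⟩
  have hm : ∀ {X Y : Sheaf K AddCommGrpCat.{u}} (φ : X ⟶ Y) [Mono φ], Mono (P.map φ) := by
    intro X Y φ _
    have := isIso_pullCmp (J := J) u X
    have := isIso_pullCmp (J := J) u Y
    have : PreservesFiniteLimits (sheafCompose K (forget AddCommGrpCat.{u})) := by
      refine ⟨fun Z _ _ => ?_⟩
      exact ⟨fun {F} => ⟨fun {c} hc => ⟨isLimitOfReflects (sheafToPresheaf K (Type u))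
        (isLimitOfPreserves ((sheafToPresheaf K AddCommGrpCat.{u}) ⋙ (Functor.whiskeringRight Dᵒᵖ _ _).obj (forget AddCommGrpCat.{u})) hc)⟩⟩⟩
    have hS : Mono ((u.sheafPullback (Type u) K J).map ((sheafCompose K (forget AddCommGrpCat.{u})).map φ)) :=
      inferInstance
    have h : Mono ((sheafCompose J (forget AddCommGrpCat.{u})).map (P.map φ)) := by
      have e : (sheafCompose J (forget AddCommGrpCat.{u})).map (P.map φ) = inv (pullCmp u X) ≫
          (u.sheafPullback (Type u) K J).map ((sheafCompose K (forget AddCommGrpCat.{u})).map φ) ≫ pullCmp u Y := by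
        rw [pullCmp_naturality, IsIso.inv_hom_id_assoc]
      rw [e]
      infer_instance
    have : (sheafCompose J (forget AddCommGrpCat.{u})).Faithful := inferInstance
    exact (sheafCompose J (forget AddCommGrpCat.{u})).mono_of_mono_map h
  exact (Functor.preservesFiniteLimits_iff_forall_exact_map_and_mono P).2 fun S hS => by
    have := hS.mono_f
    exact ⟨((Functor.preservesFiniteColimits_iff_forall_exact_map_and_epi P).1 inferInstance S hS).1, hm S.f⟩

end Pull

end Groth.Agent.SiteBase
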