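import Groth.Agent.ModPull.Refine
import Groth.Agent.SiteBase.PullGroup
import Groth.Agent.ModPull.Sections

/-!
# Sections of inverse images of sheaves of sets, locally
-/

universe u

open CategoryTheory CategoryTheory.Limits Opposite
open Groth.Agent.ModPull

namespace Groth.Agent.SiteBase

variable {C D : Type u} [SmallCategory C] [SmallCategory D] {J : GrothendieckTopology C}
  {K : GrothendieckTopology D} (u : D ⥤ C) [u.IsContinuous K J]

/-- The pullback of a section along a map. -/
noncomputable def repT {S : Sheaf K (Type u)} {W : C} {V : D} (h : W ⟶ u.obj V) (x : S.obj.obj (op V)) :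
    sliceSecT (u.sheafPullback (Type u) K J) S (op W) :=
  ((u.sheafPullback (Type u) K J).obj S).obj.map h.op (unitT u (V := op V) x)

variable {S : Sheaf K (Type u)}

lemma map_repT {W W' : C} {V : D} (g : W' ⟶ W) (h : W ⟶ u.obj V) (x : S.obj.obj (op V)) :
    ((u.sheafPullback (Type u) K J).obj S).obj.map g.op (repT (J := J) u h x) = repT u (g ≫ h) x :=
  (ConcreteCategory.congr_hom (((u.sheafPullback (Type u) K J).obj S).obj.map_comp h.op g.op) _).symm

lemma repT_map {W : C} {V V' : D} (a : V' ⟶ V) (h : W ⟶ u.obj V) (h' : W ⟶ u.obj V') (e : h' ≫ u.map a = h)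
    (x : S.obj.obj (op V)) : repT (J := J) u h x = repT u h' (S.obj.map a.op x) := by
  subst e
  refine (ConcreteCategory.congr_hom (((u.sheafPullback (Type u) K J).obj S).obj.map_comp (u.map a).op h'.op) _).trans ?_
  exact congrArg (fun z => ((u.sheafPullback (Type u) K J).obj S).obj.map h'.op z)
    (NatTrans.naturality_apply ((u.sheafAdjunctionContinuous (Type u) K J).unit.app S).hom a.op x).symm

/-- Sections of inverse images are locally pulled back sections. -/
theorem locally_exists_repT {W : C} (z : sliceSecT (u.sheafPullback (Type u) K J) S (op W)) :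
    Locally J W (fun W' g => ∃ (V : D) (h : W' ⟶ u.obj V) (x : S.obj.obj (op V)),
      ((u.sheafPullback (Type u) K J).obj S).obj.map g.op z = repT u h x) := by
  let L := u.sheafPullback (Type u) K J
  let adj := u.sheafAdjunctionContinuous (Type u) K J
  let T : ∀ ⦃W : C⦄, (L.obj S).obj.obj (op W) → Sieve W := fun W z =>
    { arrows := fun W' g => ∃ (V : D) (h : W' ⟶ u.obj V) (x : S.obj.obj (op V)),
        (L.obj S).obj.map g.op z = repT u h x
      downward_closed := by
        rintro W' W'' g ⟨V, h, x, e⟩ k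
        refine ⟨V, k ≫ h, x, ?_⟩
        rw [op_comp, Functor.map_comp, ConcreteCategory.comp_apply, e]
        exact map_repT u k h x }
  have hT : ∀ ⦃W W' : C⦄ (f : W' ⟶ W) (q : (L.obj S).obj.obj (op W)),
      T ((L.obj S).obj.map f.op q) = (T q).pullback f := fun W W' f q => by
    ext Z t
    have e : (L.obj S).obj.map t.op ((L.obj S).obj.map f.op q) = (L.obj S).obj.map (t ≫ f).op q :=
      (ConcreteCategory.congr_hom ((L.obj S).obj.map_comp f.op t.op) q).symm
    constructor
    · rintro ⟨V, h, x, hx⟩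
      exact ⟨V, h, x, e.symm.trans hx⟩
    · rintro ⟨V, h, x, hx⟩
      exact ⟨V, h, x, e.trans hx⟩
  let k₁ : L.obj S ⟶ closedSheaf J := ⟨classify J T hT⟩
  let k₂ : L.obj S ⟶ closedSheaf J := ⟨classifyTop J _⟩
  have hk : k₁ = k₂ := by
    apply (adj.homEquiv _ _).injective
    rw [adj.homEquiv_unit, adj.homEquiv_unit]
    ext V x
    refine classify_app_eq T hT _ (J.superset_covering (fun W' g _ => ?_) (J.top_mem _))
    exact ⟨V.unop, g, x, rfl⟩
  exact ⟨T z, mem_of_classify_eq T hT (congrArg (fun t => t.hom) hk) z, fun W' g hg => hg⟩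

variable [PreservesFiniteLimits (u.sheafPullback (Type u) K J)]

/-- Pulled back sections are equal only if locally the sections are. -/
theorem locally_eq_of_repT_eq {W : C} {V : D} (h : W ⟶ u.obj V) (x x' : S.obj.obj (op V))
    (e : repT (J := J) u h x = repT u h x') :
    Locally J W (fun W' g => ∃ (V' : D) (a : V' ⟶ V) (h' : W' ⟶ u.obj V'),
      h' ≫ u.map a = g ≫ h ∧ S.obj.map a.op x = S.obj.map a.op x') := by
  let L := u.sheafPullback (Type u) K J
  let Y := (presheafToSheaf K (Type u)).obj (yoneda.obj V)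
  let sadj := sheafificationAdjunction K (Type u)
  let φ : S.obj.obj (op V) → (Y ⟶ S) := fun y => (sadj.homEquiv _ _).symm (yonedaEquiv.symm y)
  have hφ : ∀ (y : S.obj.obj (op V)) {V' : D} (a : V' ⟶ V),
      (φ y).hom.app (op V') ((toSheafify K (yoneda.obj V)).app (op V') a) = S.obj.map a.op y := fun y V' a =>
    ConcreteCategory.congr_hom (NatTrans.congr_app
      ((sadj.homEquiv_unit _ _ (φ y)).symm.trans (Equiv.apply_symm_apply _ _)) (op V')) a
  let η₁ : Y.obj.obj (op V) := (toSheafify K (yoneda.obj V)).app (op V) (𝟙 V)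
  let z₀ : sliceSecT L Y (op W) := repT u h η₁
  have hz : ∀ y, mapT L (φ y) (op W) z₀ = repT u h y := fun y => by
    refine (NatTrans.naturality_apply (L.map (φ y)).hom h.op _).trans ?_
    refine congrArg (fun z => (L.obj S).obj.map h.op z) ((mapT_unitT u (φ y) _).trans (congrArg (unitT u) ?_))
    exact (hφ y (𝟙 V)).trans (by simp)
  -- lift to the image of the equalizer
  let E := sheafToPresheaf J (Type u) ⋙ (evaluation Cᵒᵖ (Type u)).obj (op W)
  have : PreservesFiniteLimits E := comp_preservesFiniteLimits _ _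
  have : PreservesFiniteLimits (L ⋙ E) := comp_preservesFiniteLimits _ _
  let hlim := isLimitForkMapOfIsLimit (L ⋙ E) (equalizer.condition (φ x) (φ x')) (equalizerIsEqualizer (φ x) (φ x'))
  obtain ⟨w, hw⟩ : ∃ w : sliceSecT L (equalizer (φ x) (φ x')) (op W),
      mapT L (equalizer.ι (φ x) (φ x')) (op W) w = z₀ := by
    let c : Fork ((L ⋙ E).map (φ x)) ((L ⋙ E).map (φ x')) :=
      Fork.ofι (P := PUnit.{u + 1}) (TypeCat.ofHom fun _ => z₀) (by
        ext z
        exact (hz x).trans (e.trans (hz x').symm))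
    exact ⟨hlim.lift c PUnit.unit, ConcreteCategory.congr_hom (hlim.fac c WalkingParallelPair.zero) PUnit.unit⟩
  refine (locally_exists_repT u w).bind fun W₁ g ⟨V₁, h₁, e₁, he₁⟩ => ?_
  let ι := equalizer.ι (φ x) (φ x')
  have hι : (L.obj Y).obj.map g.op z₀ = repT u h₁ (ι.hom.app (op V₁) e₁) := by
    rw [← hw]
    refine (NatTrans.naturality_apply (L.map ι).hom g.op w).symm.trans ?_
    refine (congrArg (fun z => mapT L ι _ z) he₁).trans ?_
    refine (NatTrans.naturality_apply (L.map ι).hom h₁.op _).trans ?_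
    exact congrArg (fun z => (L.obj Y).obj.map h₁.op z) (mapT_unitT u ι e₁)
  have : Presheaf.IsLocallySurjective K (toSheafify K (yoneda.obj V)) := inferInstance
  obtain ⟨R, hR, hRimg⟩ : ∃ R ∈ K V₁, ∀ ⦃V' : D⦄ (c : V' ⟶ V₁), R c →
      ∃ a : V' ⟶ V, (toSheafify K (yoneda.obj V)).app (op V') a = Y.obj.map c.op (ι.hom.app (op V₁) e₁) :=
    ⟨Presheaf.imageSieve (toSheafify K (yoneda.obj V)) (U := V₁) (ι.hom.app (op V₁) e₁),
      Presheaf.imageSieve_mem K _ _, fun V' c hc => ⟨hc.choose, hc.choose_spec⟩⟩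
  refine Locally.bind ⟨_, imgSieve_mem (J := J) u hR h₁, fun W₂ g' hg' => hg'⟩ fun W₂ g' ⟨V₂, c, h₂, hc, e₂⟩ => ?_
  obtain ⟨a, ha⟩ := hRimg c hc
  have hxa : S.obj.map a.op x = S.obj.map a.op x' := by
    rw [← hφ x a, ← hφ x' a, ha]
    refine (NatTrans.naturality_apply (φ x).hom c.op _).trans (Eq.trans ?_ (NatTrans.naturality_apply (φ x').hom c.op _).symm)
    exact congrArg (fun z => S.obj.map c.op z)
      (congrArg (fun t => t.hom.app (op V₁) e₁) (equalizer.condition (φ x) (φ x')))
  -- compare in the sheafified representable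
  let cmp := comparison J K u (yonMap u V)
  have hcmp : ∀ {W' : C} {V' : D} (h' : W' ⟶ u.obj V') (b : V' ⟶ V),
      cmp.hom.app (op W') (repT u h' ((toSheafify K (yoneda.obj V)).app (op V') b)) =
        (toSheafify J (yoneda.obj (u.obj V))).app (op W') (h' ≫ u.map b) := by
    intro W' V' h' b
    refine (NatTrans.naturality_apply cmp.hom h'.op _).trans ?_
    refine Eq.trans ?_ (NatTrans.naturality_apply (toSheafify J (yoneda.obj (u.obj V))) h'.op (u.map b)).symm
    refine congrArg (fun z => ((presheafToSheaf J (Type u)).obj (yoneda.obj (u.obj V))).obj.map h'.op z) ?_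
    have key := ((pullAdj J K u).homEquiv_unit (yoneda.obj V) _ cmp).symm.trans (Equiv.apply_symm_apply _ _)
    refine Eq.trans ?_ ((ConcreteCategory.congr_hom (NatTrans.congr_app key (op V')) b).trans ?_)
    · rfl
    · exact congrArg (fun z => (toSheafify J (yoneda.obj (u.obj V))).app _ z) (yonMap_app (u := u) (op V') b)
  have key2 : (toSheafify J (yoneda.obj (u.obj V))).app (op W₂) (h₂ ≫ u.map a) =
      (toSheafify J (yoneda.obj (u.obj V))).app (op W₂) ((g' ≫ g) ≫ h) := by
    rw [← hcmp h₂ a, ha, ← repT_map u c (g' ≫ h₁) h₂ e₂, ← map_repT, ← hι]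
    refine (congrArg (fun z => cmp.hom.app (op W₂) z)
      ((ConcreteCategory.congr_hom ((L.obj Y).obj.map_comp g.op g'.op) z₀).symm.trans (map_repT u (g' ≫ g) h η₁))).trans ?_
    refine (hcmp ((g' ≫ g) ≫ h) (𝟙 V)).trans ?_
    rw [u.map_id, Category.comp_id]
  have : Presheaf.IsLocallyInjective J (toSheafify J (yoneda.obj (u.obj V))) := inferInstance
  refine Locally.mono ⟨Presheaf.equalizerSieve (F := yoneda.obj (u.obj V)) (X := op W₂) _ _,
    Presheaf.equalizerSieve_mem J (toSheafify J (yoneda.obj (u.obj V))) (X := op W₂) _ _ key2, fun _ g hg => hg⟩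
    fun W₃ g'' hg'' => ?_
  refine ⟨V₂, a, g'' ≫ h₂, ?_, hxa⟩
  rw [Category.assoc]
  refine (hg'' : g'' ≫ h₂ ≫ u.map a = g'' ≫ (g' ≫ g) ≫ h).trans ?_
  simp only [Category.assoc]
  rfl

end Groth.Agent.SiteBase
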