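import Groth.Agent.SiteBase.PullGroup
import Mathlib.Algebra.Category.Ring.Limits
import Mathlib.Algebra.Category.Ring.Colimits
import Mathlib.Algebra.Category.Ring.FilteredColimits
import Mathlib.Tactic.Ring
import Mathlib.Algebra.Ring.MinimalAxioms

/-!
# Left exact functors on sheaves of sets carry sheaves of rings to sheaves of rings
-/

universe u

open CategoryTheory CategoryTheory.Limits Opposite

namespace Groth.Agent.SiteBase

variable {C D : Type u} [SmallCategory C] [SmallCategory D] {J : GrothendieckTopology C}
  {K : GrothendieckTopology D}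

/-- A natural binary operation on rings. -/
structure RingOp where
  /-- the operation -/
  op : ∀ R : CommRingCat.{u}, R → R → R
  nat : ∀ {R S : CommRingCat.{u}} (φ : R ⟶ S) (a b : R), φ.hom (op R a b) = op S (φ.hom a) (φ.hom b)

/-- A natural constant of rings. -/
structure RingCst where
  /-- the constant -/
  val : ∀ R : CommRingCat.{u}, R
  nat : ∀ {R S : CommRingCat.{u}} (φ : R ⟶ S), φ.hom (val R) = val S

/-- Addition. -/
def opAdd : RingOp.{u} := ⟨fun _ a b => a + b, fun φ a b => map_add φ.hom a b⟩

/-- Multiplication. -/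
def opMul : RingOp.{u} := ⟨fun _ a b => a * b, fun φ a b => map_mul φ.hom a b⟩

/-- Negation of the second argument. -/
def opSub : RingOp.{u} := ⟨fun _ a b => a - b, fun φ a b => map_sub φ.hom a b⟩

/-- Zero. -/
def cstZero : RingCst.{u} := ⟨fun _ => 0, fun φ => map_zero φ.hom⟩

/-- One. -/
def cstOne : RingCst.{u} := ⟨fun _ => 1, fun φ => map_one φ.hom⟩

/-- The underlying sheaf of sets of a sheaf of rings. -/
abbrev setShR (R : Sheaf K CommRingCat.{u}) : Sheaf K (Type u) :=
  (sheafCompose K (forget CommRingCat.{u})).obj R

/-- A section, seen as an element of the ring of sections. -/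
abbrev asRing (R : Sheaf K CommRingCat.{u}) {V : Dᵒᵖ} (x : (setShR R).obj.obj V) : R.obj.obj V := x

variable {R : Sheaf K CommRingCat.{u}} {S : Sheaf K (Type u)}

/-- An operation applied to two maps into a sheaf of rings. -/
noncomputable def pop (o : RingOp.{u}) (a b : S ⟶ setShR R) : S ⟶ setShR R :=
  ⟨{ app := fun V => TypeCat.ofHom fun s => o.op _ (asRing R (a.hom.app V s)) (asRing R (b.hom.app V s))
     naturality := fun V W g => by
       ext s
       refine (congrArg₂ (fun x y => o.op _ (asRing R x) (asRing R y))
         (NatTrans.naturality_apply a.hom g s) (NatTrans.naturality_apply b.hom g s)).trans ?_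
       exact (o.nat (R.obj.map g) _ _).symm }⟩

/-- A constant map into a sheaf of rings. -/
noncomputable def pcst (k : RingCst.{u}) : S ⟶ setShR R :=
  ⟨{ app := fun V => TypeCat.ofHom fun _ => k.val (R.obj.obj V)
     naturality := fun V W g => by
       ext s
       exact (k.nat (R.obj.map g)).symm }⟩

lemma pop_app (o : RingOp.{u}) (a b : S ⟶ setShR R) {V : Dᵒᵖ} (s : S.obj.obj V) :
    (pop o a b).hom.app V s = o.op _ (asRing R (a.hom.app V s)) (asRing R (b.hom.app V s)) := rfl

lemma comp_pop {S' : Sheaf K (Type u)} (c : S' ⟶ S) (o : RingOp.{u}) (a b : S ⟶ setShR R) :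
    c ≫ pop o a b = pop o (c ≫ a) (c ≫ b) := rfl

lemma comp_pcst {S' : Sheaf K (Type u)} (c : S' ⟶ S) (k : RingCst.{u}) :
    c ≫ (pcst k : S ⟶ setShR R) = pcst k := rfl

section Sections

variable (L : Sheaf K (Type u) ⥤ Sheaf J (Type u)) [PreservesFiniteLimits L]

/-- The image of an operation. -/
noncomputable def opT (o : RingOp.{u}) {W : Cᵒᵖ} (a b : sliceSecT L (setShR R) W) : sliceSecT L (setShR R) W :=
  mapT L (pop o prod.fst prod.snd) W (pairT L a b)

lemma opT_map (o : RingOp.{u}) {W : Cᵒᵖ} (φ ψ : S ⟶ setShR R) (z : sliceSecT L S W) :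
    opT L o (mapT L φ W z) (mapT L ψ W z) = mapT L (pop o φ ψ) W z := by
  have h : pairT L (mapT L φ W z) (mapT L ψ W z) = mapT L (prod.lift φ ψ) W z :=
    (eq_pairT L _ _ _ (by rw [← mapT_comp, prod.lift_fst]) (by rw [← mapT_comp, prod.lift_snd])).symm
  refine (congrArg (mapT L (pop o prod.fst prod.snd) W) h).trans ?_
  rw [← mapT_comp, comp_pop, prod.lift_fst, prod.lift_snd]

/-- The image of a constant. -/
noncomputable def cstT (R : Sheaf K CommRingCat.{u}) (k : RingCst.{u}) (W : Cᵒᵖ) : sliceSecT L (setShR R) W :=
  mapT L (pcst k) W (unique_termT L W).some.default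

lemma mapT_pcst (k : RingCst.{u}) {W : Cᵒᵖ} (z : sliceSecT L S W) :
    mapT L (pcst k : S ⟶ setShR R) W z = cstT L R k W := by
  rw [← comp_pcst (terminal.from S), mapT_comp]
  exact congrArg (mapT L (pcst k) W) ((unique_termT L W).some.uniq _)

/-- Three sections are the images of one. -/
lemma exists_triple {A : Sheaf K (Type u)} {W : Cᵒᵖ} (a b c : sliceSecT L A W) :
    ∃ (T : Sheaf K (Type u)) (p q r : T ⟶ A) (z : sliceSecT L T W),
      mapT L p W z = a ∧ mapT L q W z = b ∧ mapT L r W z = c :=
  ⟨(A ⨯ A) ⨯ A, prod.fst ≫ prod.fst, prod.fst ≫ prod.snd, prod.snd, pairT L (pairT L a b) c,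
    by rw [mapT_comp, mapT_fst_pairT, mapT_fst_pairT], by rw [mapT_comp, mapT_fst_pairT, mapT_snd_pairT],
    mapT_snd_pairT L _ _⟩

variable (R) in
/-- The ring of sections of the image of a sheaf of rings. -/
@[instance_reducible]
noncomputable def ringT (W : Cᵒᵖ) : CommRing (sliceSecT L (setShR R) W) :=
  letI iA : Add (sliceSecT L (setShR R) W) := ⟨opT L opAdd⟩
  letI iM : Mul (sliceSecT L (setShR R) W) := ⟨opT L opMul⟩
  letI iZ : Zero (sliceSecT L (setShR R) W) := ⟨cstT L R cstZero W⟩
  letI iO : One (sliceSecT L (setShR R) W) := ⟨cstT L R cstOne W⟩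
  letI iN : Neg (sliceSecT L (setShR R) W) := ⟨fun a => opT L opSub (cstT L R cstZero W) a⟩
  CommRing.ofMinimalAxioms
    (fun a b c => by
      show opT L opAdd (opT L opAdd a b) c = opT L opAdd a (opT L opAdd b c)
      obtain ⟨T, p, q, r, z, rfl, rfl, rfl⟩ := exists_triple L a b c
      simp only [opT_map]
      exact congrArg (fun t => mapT L t W z) (by ext V s; exact add_assoc (G := R.obj.obj V) _ _ _))
    (fun a => by
      show opT L opAdd (cstT L R cstZero W) a = a
      rw [← mapT_id L W a, ← mapT_pcst L (R := R) cstZero a, opT_map]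
      exact congrArg (fun t => mapT L t W a) (by ext V s; exact zero_add (M := R.obj.obj V) _))
    (fun a => by
      show opT L opAdd (opT L opSub (cstT L R cstZero W) a) a = cstT L R cstZero W
      rw [← mapT_id L W a, ← mapT_pcst L (R := R) cstZero a, opT_map, opT_map]
      exact congrArg (fun t => mapT L t W a) (by
        ext V s
        show (0 : R.obj.obj V) - _ + _ = 0
        rw [zero_sub]
        exact neg_add_cancel _))
    (fun a b c => by
      show opT L opMul (opT L opMul a b) c = opT L opMul a (opT L opMul b c)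
      obtain ⟨T, p, q, r, z, rfl, rfl, rfl⟩ := exists_triple L a b c
      simp only [opT_map]
      exact congrArg (fun t => mapT L t W z) (by ext V s; exact mul_assoc (G := R.obj.obj V) _ _ _))
    (fun a b => by
      show opT L opMul a b = opT L opMul b a
      obtain ⟨T, p, q, r, z, rfl, rfl, -⟩ := exists_triple L a b b
      simp only [opT_map]
      exact congrArg (fun t => mapT L t W z) (by ext V s; exact mul_comm (G := R.obj.obj V) _ _))
    (fun a => by
      show opT L opMul (cstT L R cstOne W) a = a
      rw [← mapT_id L W a, ← mapT_pcst L (R := R) cstOne a, opT_map]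
      exact congrArg (fun t => mapT L t W a) (by ext V s; exact one_mul (M := R.obj.obj V) _))
    (fun a b c => by
      show opT L opMul a (opT L opAdd b c) = opT L opAdd (opT L opMul a b) (opT L opMul a c)
      obtain ⟨T, p, q, r, z, rfl, rfl, rfl⟩ := exists_triple L a b c
      simp only [opT_map]
      exact congrArg (fun t => mapT L t W z) (by ext V s; exact mul_add (R := R.obj.obj V) _ _ _))

lemma opT_natural (o : RingOp.{u}) {W W' : Cᵒᵖ} (g : W ⟶ W') (a b : sliceSecT L (setShR R) W) :
    (L.obj (setShR R)).obj.map g (opT L o a b) =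
      opT L o ((L.obj (setShR R)).obj.map g a) ((L.obj (setShR R)).obj.map g b) := by
  refine (NatTrans.naturality_apply (L.map (pop (R := R) o prod.fst prod.snd)).hom g _).symm.trans ?_
  exact congrArg (mapT L _ W') (pairT_natural L g a b)

lemma cstT_natural (k : RingCst.{u}) {W W' : Cᵒᵖ} (g : W ⟶ W') :
    (L.obj (setShR R)).obj.map g (cstT L R k W) = cstT L R k W' := by
  refine (NatTrans.naturality_apply (L.map (pcst (R := R) (S := ⊤_ (Sheaf K (Type u))) k)).hom g _).symm.trans ?_
  exact congrArg (mapT L _ W') ((unique_termT L W').some.uniq _)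

/-- The image of a sheaf of rings, as a sheaf of rings. -/
noncomputable def pullRing (R : Sheaf K CommRingCat.{u}) : Sheaf J CommRingCat.{u} where
  obj :=
    { obj := fun W => @CommRingCat.of (sliceSecT L (setShR R) W) (ringT R L W)
      map := fun {W W'} g =>
        letI := ringT R L W
        letI := ringT R L W'
        CommRingCat.ofHom
          { toFun := fun x : sliceSecT L (setShR R) W => ((L.obj (setShR R)).obj.map g x : sliceSecT L (setShR R) W')
            map_one' := cstT_natural L cstOne g
            map_mul' := opT_natural L opMul g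
            map_zero' := cstT_natural L cstZero g
            map_add' := opT_natural L opAdd g }
      map_id := fun W => by
        apply CommRingCat.hom_ext
        refine RingHom.ext fun x => ?_
        exact congrArg (fun t => t x) ((L.obj (setShR R)).obj.map_id W)
      map_comp := fun f g => by
        apply CommRingCat.hom_ext
        refine RingHom.ext fun x => ?_
        exact congrArg (fun t => t x) ((L.obj (setShR R)).obj.map_comp f g) }
  property :=
    haveI : ReflectsLimitsOfSize.{u, u} (forget CommRingCat.{u}) := reflectsLimits_of_reflectsIsomorphisms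
    Presheaf.isSheaf_of_isSheaf_comp J _ (forget CommRingCat.{u}) (L.obj (setShR R)).property

/-- The underlying sheaf of sets of `pullRing`. -/
noncomputable def pullRingIso (R : Sheaf K CommRingCat.{u}) : setShR (pullRing L R) ≅ L.obj (setShR R) :=
  Iso.refl _

end Sections

section Pull

variable (u : D ⥤ C) [u.IsContinuous K J] [PreservesFiniteLimits (u.sheafPullback (Type u) K J)]

/-- The comparison map from the inverse image of sets. -/
noncomputable def ringCmp (R : Sheaf K CommRingCat.{u}) :
    (u.sheafPullback (Type u) K J).obj (setShR R) ⟶ setShR ((u.sheafPullback CommRingCat.{u} K J).obj R) :=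
  ((u.sheafAdjunctionContinuous (Type u) K J).homEquiv _ _).symm
    ((sheafCompose K (forget CommRingCat.{u})).map ((u.sheafAdjunctionContinuous CommRingCat.{u} K J).unit.app R))

lemma ringCmp_unit (R : Sheaf K CommRingCat.{u}) :
    (u.sheafAdjunctionContinuous (Type u) K J).unit.app (setShR R) ≫
      (u.sheafPushforwardContinuous (Type u) K J).map (ringCmp u R) =
      (sheafCompose K (forget CommRingCat.{u})).map ((u.sheafAdjunctionContinuous CommRingCat.{u} K J).unit.app R) :=
  ((u.sheafAdjunctionContinuous (Type u) K J).homEquiv_unit _ _ (ringCmp u R)).symm.trans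
    (Equiv.apply_symm_apply _ _)

lemma ringCmp_unitT {R : Sheaf K CommRingCat.{u}} {V : Dᵒᵖ} (x : R.obj.obj V) :
    (ringCmp (J := J) u R).hom.app _ (unitT u (S := setShR R) x) =
      ((u.sheafAdjunctionContinuous CommRingCat.{u} K J).unit.app R).hom.app V x :=
  congrArg (fun (t : setShR R ⟶ (u.sheafPushforwardContinuous (Type u) K J).obj
      (setShR ((u.sheafPullback CommRingCat.{u} K J).obj R))) => t.hom.app V x) (ringCmp_unit (J := J) u R)

lemma unitT_op (o : RingOp.{u}) {R : Sheaf K CommRingCat.{u}} {V : Dᵒᵖ} (x y : R.obj.obj V) :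
    unitT (J := J) u (S := setShR R) (o.op _ x y) =
      opT (u.sheafPullback (Type u) K J) o (unitT u (S := setShR R) x) (unitT u (S := setShR R) y) := by
  let E := sheafToPresheaf K (Type u) ⋙ (evaluation Dᵒᵖ (Type u)).obj V
  have : PreservesFiniteLimits E := comp_preservesFiniteLimits _ _
  obtain ⟨p, hx, hy⟩ : ∃ p : (setShR R ⨯ setShR R).obj.obj V,
      (prod.fst : setShR R ⨯ setShR R ⟶ _).hom.app V p = x ∧ (prod.snd : setShR R ⨯ setShR R ⟶ _).hom.app V p = y := by
    let h := isLimitOfHasBinaryProductOfPreservesLimit E (setShR R) (setShR R)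
    let s : BinaryFan (E.obj (setShR R)) (E.obj (setShR R)) :=
      BinaryFan.mk (P := PUnit.{u + 1}) (TypeCat.ofHom fun _ => x) (TypeCat.ofHom fun _ => y)
    exact ⟨h.lift s PUnit.unit, ConcreteCategory.congr_hom (h.fac s ⟨WalkingPair.left⟩) PUnit.unit,
      ConcreteCategory.congr_hom (h.fac s ⟨WalkingPair.right⟩) PUnit.unit⟩
  rw [← hx, ← hy, ← mapT_unitT u prod.fst p, ← mapT_unitT u prod.snd p, opT_map, mapT_unitT]
  exact congrArg (unitT u) (pop_app o _ _ p).symm

lemma unitT_cst (k : RingCst.{u}) {R : Sheaf K CommRingCat.{u}} {V : Dᵒᵖ} :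
    unitT (J := J) u (S := setShR R) (k.val (R.obj.obj V)) =
      cstT (u.sheafPullback (Type u) K J) R k (op (u.obj V.unop)) :=
  (mapT_unitT u (pcst k : setShR R ⟶ setShR R) (0 : R.obj.obj V)).symm.trans (mapT_pcst _ k _)

lemma ringCmp_op (o : RingOp.{u}) (R : Sheaf K CommRingCat.{u}) {W : Cᵒᵖ}
    (a b : sliceSecT (u.sheafPullback (Type u) K J) (setShR R) W) :
    asRing ((u.sheafPullback CommRingCat.{u} K J).obj R) ((ringCmp (J := J) u R).hom.app W (opT _ o a b)) =
      o.op _ (asRing _ ((ringCmp (J := J) u R).hom.app W a)) (asRing _ ((ringCmp (J := J) u R).hom.app W b)) := by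
  let L := u.sheafPullback (Type u) K J
  let adj := u.sheafAdjunctionContinuous (Type u) K J
  have e : L.map (pop o prod.fst prod.snd) ≫ ringCmp u R =
      pop o (L.map (prod.fst : setShR R ⨯ setShR R ⟶ _) ≫ ringCmp u R) (L.map prod.snd ≫ ringCmp u R) := by
    apply (adj.homEquiv _ _).injective
    rw [adj.homEquiv_unit, adj.homEquiv_unit]
    ext V p
    refine (congrArg (fun z => (ringCmp u R).hom.app _ z) (mapT_unitT u _ p)).trans ?_
    refine (ringCmp_unitT u _).trans ?_
    refine (o.nat (((u.sheafAdjunctionContinuous CommRingCat.{u} K J).unit.app R).hom.app V) _ _).trans ?_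
    refine congrArg₂ (fun x y => o.op _ (asRing ((u.sheafPullback CommRingCat.{u} K J).obj R) x) (asRing _ y))
      ((ringCmp_unitT u _).symm.trans ?_) ((ringCmp_unitT u _).symm.trans ?_)
    · exact congrArg (fun z => (ringCmp u R).hom.app _ z) (mapT_unitT u _ p).symm
    · exact congrArg (fun z => (ringCmp u R).hom.app _ z) (mapT_unitT u _ p).symm
  refine (congrArg (fun t => t.hom.app W (pairT L a b)) e).trans ?_
  exact congrArg₂ (fun x y => o.op _ (asRing ((u.sheafPullback CommRingCat.{u} K J).obj R) x) (asRing _ y))
    (congrArg (fun z => (ringCmp u R).hom.app W z) (mapT_fst_pairT L a b))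
    (congrArg (fun z => (ringCmp u R).hom.app W z) (mapT_snd_pairT L a b))

lemma ringCmp_cst (k : RingCst.{u}) (R : Sheaf K CommRingCat.{u}) (W : Cᵒᵖ) :
    asRing ((u.sheafPullback CommRingCat.{u} K J).obj R)
      ((ringCmp (J := J) u R).hom.app W (cstT (u.sheafPullback (Type u) K J) R k W)) =
      k.val (((u.sheafPullback CommRingCat.{u} K J).obj R).obj.obj W) := by
  let L := u.sheafPullback (Type u) K J
  let adj := u.sheafAdjunctionContinuous (Type u) K J
  have e : L.map (pcst k : ⊤_ (Sheaf K (Type u)) ⟶ setShR R) ≫ ringCmp u R = pcst k := by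
    apply (adj.homEquiv _ _).injective
    rw [adj.homEquiv_unit, adj.homEquiv_unit]
    ext V p
    refine (congrArg (fun z => (ringCmp u R).hom.app _ z) (mapT_unitT u _ p)).trans ?_
    refine (ringCmp_unitT u _).trans ?_
    exact k.nat (((u.sheafAdjunctionContinuous CommRingCat.{u} K J).unit.app R).hom.app V)
  exact congrArg (fun t => t.hom.app W ((unique_termT L W).some.default)) e

/-- Inverse images of sheaves of rings have the inverse image of sets as underlying sheaf of sets. -/
theorem isIso_ringCmp (R : Sheaf K CommRingCat.{u}) : IsIso (ringCmp (J := J) u R) := by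
  let L := u.sheafPullback (Type u) K J
  let adj := u.sheafAdjunctionContinuous (Type u) K J
  let adjR := u.sheafAdjunctionContinuous CommRingCat.{u} K J
  let H := pullRing L R
  let i : R ⟶ (u.sheafPushforwardContinuous CommRingCat.{u} K J).obj H :=
    ⟨{ app := fun V =>
         letI : CommRing (sliceSecT L (setShR R) (u.op.obj V)) := ringT R L (u.op.obj V)
         CommRingCat.ofHom
          { toFun := fun x : R.obj.obj V => (unitT u (S := setShR R) x : sliceSecT L (setShR R) (u.op.obj V))
            map_one' := unitT_cst u cstOne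
            map_mul' := unitT_op u opMul
            map_zero' := unitT_cst u cstZero
            map_add' := unitT_op u opAdd }
       naturality := fun V V' g => by
         apply CommRingCat.hom_ext
         refine RingHom.ext fun x => ?_
         exact NatTrans.naturality_apply (adj.unit.app (setShR R)).hom g x }⟩
  let d := (adjR.homEquiv R H).symm i
  let dS : setShR ((u.sheafPullback CommRingCat.{u} K J).obj R) ⟶ L.obj (setShR R) :=
    (sheafCompose J (forget CommRingCat.{u})).map d ≫ (pullRingIso L R).hom
  have hd : adjR.unit.app R ≫ (u.sheafPushforwardContinuous CommRingCat.{u} K J).map d = i :=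
    (adjR.homEquiv_unit _ _ d).symm.trans (Equiv.apply_symm_apply _ _)
  have h1 : ringCmp u R ≫ dS = 𝟙 _ := by
    apply (adj.homEquiv _ _).injective
    rw [adj.homEquiv_unit, adj.homEquiv_unit]
    refine Eq.trans ?_ ((Category.comp_id _).symm.trans
      (congrArg (fun t => adj.unit.app (setShR R) ≫ t) ((u.sheafPushforwardContinuous (Type u) K J).map_id _).symm))
    ext V x
    refine (congrArg (fun z => dS.hom.app (op (u.obj V.unop)) z) (ringCmp_unitT u x)).trans ?_
    exact congrArg (fun t => t.hom.app V x) hd
  let c : H ⟶ (u.sheafPullback CommRingCat.{u} K J).obj R :=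
    ⟨{ app := fun W =>
         letI : CommRing (sliceSecT L (setShR R) W) := ringT R L W
         CommRingCat.ofHom
          { toFun := fun x : sliceSecT L (setShR R) W =>
              asRing ((u.sheafPullback CommRingCat.{u} K J).obj R) ((ringCmp u R).hom.app W x)
            map_one' := ringCmp_cst u cstOne R W
            map_mul' := ringCmp_op u opMul R
            map_zero' := ringCmp_cst u cstZero R W
            map_add' := ringCmp_op u opAdd R }
       naturality := fun W W' g => by
         apply CommRingCat.hom_ext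
         refine RingHom.ext fun x => ?_
         exact NatTrans.naturality_apply (ringCmp u R).hom g x }⟩
  have h2 : d ≫ c = 𝟙 _ := by
    apply (adjR.homEquiv _ _).injective
    rw [adjR.homEquiv_naturality_right, adjR.homEquiv_unit, adjR.homEquiv_unit, hd]
    refine Eq.trans ?_ ((Category.comp_id _).symm.trans
      (congrArg (fun t => adjR.unit.app R ≫ t) ((u.sheafPushforwardContinuous CommRingCat.{u} K J).map_id _).symm))
    ext V x
    exact ringCmp_unitT u x
  refine ⟨dS, h1, ?_⟩
  show ((sheafCompose J (forget CommRingCat.{u})).map d ≫ (pullRingIso L R).hom) ≫ ringCmp u R = 𝟙 _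
  refine (congrArg (fun t => t ≫ ringCmp u R) (Category.comp_id _)).trans ?_
  exact ((sheafCompose J (forget CommRingCat.{u})).map_comp d c).symm.trans
    ((congrArg (fun t => (sheafCompose J (forget CommRingCat.{u})).map t) h2).trans
      ((sheafCompose J (forget CommRingCat.{u})).map_id _))

end Pull

end Groth.Agent.SiteBase
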