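import Groth.Agent.SiteBase.FlatMor
import Groth.Agent.SiteBase.PullRep
import Groth.Agent.SiteBase.PullRing

/-!
# Flatness over the pulled back ring lifts relations
-/

universe u

open CategoryTheory CategoryTheory.Limits Opposite
open Groth.Agent.ModTensor Groth.Agent.ModPull

namespace Groth.Agent.SiteBase

variable {C D : Type u} [SmallCategory C] [SmallCategory D] {J : GrothendieckTopology C}
  {K : GrothendieckTopology D} {O_C : Sheaf J CommRingCat.{u}} {O_D : Sheaf K CommRingCat.{u}}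
  (f : ModSite.RMor O_C O_D)

/-- A pulled back section of the pulled back ring. -/
noncomputable def repR {W : C} {V : D} (h : W ⟶ f.fn.obj V) : O_D.obj.obj (op V) →+* f.invRing.obj.obj (op W) :=
  (f.invRing.obj.map h.op).hom.comp
    (((f.fn.sheafAdjunctionContinuous CommRingCat.{u} K J).unit.app O_D).hom.app (op V)).hom

lemma map_repR {W W' : C} {V : D} (g : W' ⟶ W) (h : W ⟶ f.fn.obj V) (x : O_D.obj.obj (op V)) :
    (f.invRing.obj.map g.op).hom (repR f h x) = repR f (g ≫ h) x := ringMap_comp h g _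

lemma repR_eq_ringCmp {W : C} {V : D} (h : W ⟶ f.fn.obj V) (x : O_D.obj.obj (op V)) :
    (ringCmp (J := J) f.fn O_D).hom.app (op W) (repT f.fn (S := setShR O_D) h x) = repR f h x := by
  refine (NatTrans.naturality_apply (ringCmp (J := J) f.fn O_D).hom h.op _).trans ?_
  exact congrArg (fun z => (f.invRing.obj.map h.op).hom z) (ringCmp_unitT f.fn x)

lemma repR_map {W : C} {V V' : D} (a : V' ⟶ V) (h : W ⟶ f.fn.obj V) (h' : W ⟶ f.fn.obj V')
    (e : h' ≫ f.fn.map a = h) (x : O_D.obj.obj (op V)) : repR f h x = repR f h' ((O_D.obj.map a.op).hom x) := by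
  rw [← repR_eq_ringCmp, ← repR_eq_ringCmp]
  exact congrArg (fun z => (ringCmp (J := J) f.fn O_D).hom.app (op W) z) (repT_map f.fn (S := setShR O_D) a h h' e x)

lemma invSharp_repR {W : C} {V : D} (h : W ⟶ f.fn.obj V) (x : O_D.obj.obj (op V)) :
    (f.invSharp.hom.app (op W)).hom (repR f h x) = (O_C.obj.map h.op).hom (shp f x) := by
  have e : (f.fn.sheafAdjunctionContinuous CommRingCat.{u} K J).unit.app O_D ≫
      (f.fn.sheafPushforwardContinuous CommRingCat.{u} K J).map f.invSharp = f.sharp :=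
    ((f.fn.sheafAdjunctionContinuous CommRingCat.{u} K J).homEquiv_unit _ _ f.invSharp).symm.trans
      (Equiv.apply_symm_apply _ _)
  refine (NatTrans.naturality_apply f.invSharp.hom h.op _).trans ?_
  exact congrArg (fun z => (O_C.obj.map h.op).hom z) (congrArg (fun t => (t.hom.app (op V)).hom x) e)

/-- Sections of the pulled back ring are locally pulled back sections. -/
theorem locally_exists_repR {W : C} (r : f.invRing.obj.obj (op W)) :
    Locally J W (fun W' g => ∃ (V : D) (h : W' ⟶ f.fn.obj V) (x : O_D.obj.obj (op V)),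
      (f.invRing.obj.map g.op).hom r = repR f h x) := by
  have := isIso_ringCmp (J := J) f.fn O_D
  let z := (inv (ringCmp (J := J) f.fn O_D)).hom.app (op W) r
  have hz : (ringCmp (J := J) f.fn O_D).hom.app (op W) z = r :=
    congrArg (fun t => t.hom.app (op W) r) (IsIso.inv_hom_id (ringCmp (J := J) f.fn O_D))
  refine (locally_exists_repT f.fn (S := setShR O_D) z).mono fun W' g ⟨V, h, x, e⟩ => ⟨V, h, x, ?_⟩
  rw [← hz, ← repR_eq_ringCmp]
  exact (NatTrans.naturality_apply (ringCmp (J := J) f.fn O_D).hom g.op z).symm.trans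
    (congrArg (fun t => (ringCmp (J := J) f.fn O_D).hom.app (op W') t) e)

/-- Pulled back sections of the ring vanish only if locally the sections do. -/
theorem locally_eq_of_repR_eq {W : C} {V : D} (h : W ⟶ f.fn.obj V) (x x' : O_D.obj.obj (op V))
    (e : repR f h x = repR f h x') :
    Locally J W (fun W' g => ∃ (V' : D) (a : V' ⟶ V) (h' : W' ⟶ f.fn.obj V'),
      h' ≫ f.fn.map a = g ≫ h ∧ (O_D.obj.map a.op).hom x = (O_D.obj.map a.op).hom x') := by
  refine locally_eq_of_repT_eq f.fn (S := setShR O_D) h x x' ?_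
  have := isIso_ringCmp (J := J) f.fn O_D
  rw [← repR_eq_ringCmp, ← repR_eq_ringCmp] at e
  have key := congrArg (fun z => (inv (ringCmp (J := J) f.fn O_D)).hom.app (op W) z) e
  have hid := fun z => congrArg (fun t => t.hom.app (op W) z) (IsIso.hom_inv_id (ringCmp (J := J) f.fn O_D))
  exact (hid _).symm.trans (key.trans (hid _))

/-- Finitely many pulled back sections live locally at a common stage. -/
lemma locally_common (n : ℕ) :
    ∀ (W : C) (V : D) (h : W ⟶ f.fn.obj V) (r : Fin n → f.invRing.obj.obj (op W)),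
      Locally J W (fun W' g => ∃ (V' : D) (d : V' ⟶ V) (h' : W' ⟶ f.fn.obj V') (x : Fin n → O_D.obj.obj (op V')),
        h' ≫ f.fn.map d = g ≫ h ∧ ∀ i, (f.invRing.obj.map g.op).hom (r i) = repR f h' (x i)) := by
  induction n with
  | zero =>
    exact fun W V h r => Locally.of_id fun W' g => ⟨V, 𝟙 V, g ≫ h, fun i => i.elim0,
      by rw [f.fn.map_id, Category.comp_id], fun i => i.elim0⟩
  | succ n ih =>
    intro W V h r
    refine ((ih W V h (fun i => r i.castSucc)).and (locally_exists_repR f (r (Fin.last n)))).bind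
      fun W₁ g ⟨⟨V₁, d, h₁, x, e₁, hx⟩, ⟨V₂, h₂, y, hy⟩⟩ => ?_
    refine Locally.mono ⟨_, pairSieve_mem (K := K) f.fn h₁ h₂, fun _ k hk => hk⟩
      fun W₂ g' ⟨V', a₁, a₂, h', ea₁, ea₂⟩ => ?_
    refine ⟨V', a₁ ≫ d, h', Fin.snoc (α := fun _ => O_D.obj.obj (op V')) (fun i => (O_D.obj.map a₁.op).hom (x i))
      ((O_D.obj.map a₂.op).hom y), by rw [f.fn.map_comp, reassoc_of% ea₁, e₁, Category.assoc], fun i => ?_⟩
    have key : ∀ {V₀ : D} (b : V' ⟶ V₀) (h₀ : W₁ ⟶ f.fn.obj V₀) (s : O_D.obj.obj (op V₀)) (t : f.invRing.obj.obj (op W))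
        (_ : h' ≫ f.fn.map b = g' ≫ h₀) (_ : (f.invRing.obj.map g.op).hom t = repR f h₀ s),
        (f.invRing.obj.map (g' ≫ g).op).hom t = repR f h' ((O_D.obj.map b.op).hom s) := by
      intro V₀ b h₀ s t eb et
      rw [← ringMap_comp g g' t, et, map_repR]
      exact repR_map f b _ h' eb s
    refine Fin.lastCases ?_ (fun j => ?_) i
    · rw [Fin.snoc_last]
      exact key a₂ h₂ y _ ea₂ hy
    · rw [Fin.snoc_castSucc]
      exact key a₁ h₁ _ _ ea₁ (hx j)

/-- Finitely many vanishing pulled back sections vanish locally at a common stage. -/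
lemma locally_common_zero (n : ℕ) :
    ∀ (W : C) (V : D) (h : W ⟶ f.fn.obj V) (x : Fin n → O_D.obj.obj (op V)), (∀ i, repR f h (x i) = 0) →
      Locally J W (fun W' g => ∃ (V' : D) (d : V' ⟶ V) (h' : W' ⟶ f.fn.obj V'),
        h' ≫ f.fn.map d = g ≫ h ∧ ∀ i, (O_D.obj.map d.op).hom (x i) = 0) := by
  induction n with
  | zero =>
    exact fun W V h x _ => Locally.of_id fun W' g => ⟨V, 𝟙 V, g ≫ h,
      by rw [f.fn.map_id, Category.comp_id], fun i => i.elim0⟩
  | succ n ih =>
    intro W V h x hx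
    refine (ih W V h (fun i => x i.castSucc) fun i => hx _).bind fun W₁ g ⟨V₁, d, h₁, e₁, hd⟩ => ?_
    have h0 : repR f h₁ ((O_D.obj.map d.op).hom (x (Fin.last n))) = repR f h₁ 0 := by
      rw [← repR_map f d _ h₁ e₁, ← map_repR, hx, map_zero, map_zero]
    refine (locally_eq_of_repR_eq f h₁ _ _ h0).mono fun W₂ g' ⟨V₂, a, h₂, e₂, ha⟩ => ?_
    refine ⟨V₂, a ≫ d, h₂, by rw [f.fn.map_comp, reassoc_of% e₂, e₁, Category.assoc], fun i => ?_⟩
    rw [← ringMap_comp d a]
    refine Fin.lastCases ?_ (fun j => ?_) i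
    · rw [ha, map_zero]
    · rw [hd j, map_zero]

/-- If `O_C` is flat over `f⁻¹O_D`, relations lift. -/
theorem relLift_of_isFlat_baseMod (hf : ModSite.IsFlat f.baseMod) : RelLift f (ModSite.unit O_C) := by
  classical
  intro W V h σ Y _ _ c a hrel
  let a₀ : σ → O_C.obj.obj (op W) := a
  let a₁ : σ → ((fg f.invRing).obj f.baseMod).obj (op W) := a
  have hrel' : ∀ y, ∑ l, repR f h (c l y) • a₁ l = 0 := fun y => by
    refine Eq.trans (Finset.sum_congr rfl fun l _ => ?_) (hrel y)
    show (f.invSharp.hom.app (op W)).hom (repR f h (c l y)) * a₀ l = (O_C.obj.map h.op).hom (shp f (c l y)) * a₀ l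
    rw [invSharp_repR]
  refine (exists_trivialisation (κ := Y) (Y := σ) hf (fun y l => repR f h (c l y)) a₁ hrel').bind
    fun W₁ g ⟨n, N, t, ht, hN⟩ => ?_
  let e := Fintype.equivFin (Fin n × σ)
  let eY := Fintype.equivFin (Fin n × Y)
  refine (locally_common f _ W₁ V (g ≫ h) (fun i => N (e.symm i).1 (e.symm i).2)).bind
    fun W₂ g₂ ⟨V₁, d, h₁, x, e₁, hx⟩ => ?_
  let x' : Fin n → σ → O_D.obj.obj (op V₁) := fun j l => x (e (j, l))
  have hx' : ∀ j l, (f.invRing.obj.map g₂.op).hom (N j l) = repR f h₁ (x' j l) := fun j l => by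
    have := hx (e (j, l))
    rwa [e.symm_apply_apply] at this
  refine (locally_common_zero f _ W₂ V₁ h₁
    (fun i => ∑ l, x' (eY.symm i).1 l * (O_D.obj.map d.op).hom (c l (eY.symm i).2)) fun i => ?_).mono
    fun W₃ g₃ ⟨V₂, a₂, h₂, e₂, hzero⟩ => ?_
  · rw [map_sum]
    have hn := congrArg (f.invRing.obj.map g₂.op).hom (hN (eY.symm i).2 (eY.symm i).1)
    rw [map_sum, map_zero] at hn
    refine Eq.trans (Finset.sum_congr rfl fun l _ => ?_) hn
    rw [map_mul, map_mul, ← hx', map_repR, map_repR, ← repR_map f d (g₂ ≫ g ≫ h) h₁ e₁, mul_comm]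
  · refine ⟨V₂, a₂ ≫ d, h₂, n, fun l j => (O_D.obj.map a₂.op).hom (x' j l),
      fun j => (O_C.obj.map (g₃ ≫ g₂).op).hom (t j), ?_, fun l => ?_, fun j y => ?_⟩
    · rw [f.fn.map_comp, reassoc_of% e₂, e₁]
      simp only [Category.assoc]
    · have hl : (O_C.obj.map g.op).hom (a₀ l) =
          ∑ j, (f.invSharp.hom.app (op W₁)).hom (N j l) * (show O_C.obj.obj (op W₁) from t j) := ht l
      show (O_C.obj.map ((g₃ ≫ g₂) ≫ g).op).hom (a₀ l) = ∑ j, _ * _
      rw [← ringMap_comp g (g₃ ≫ g₂), hl, map_sum]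
      refine Finset.sum_congr rfl fun j _ => ?_
      rw [map_mul]
      refine congrArg (· * _) ?_
      rw [← invSharp_repR, ← repR_map f a₂ (g₃ ≫ h₁) h₂ e₂, ← map_repR, ← hx', ringMap_comp]
      exact (NatTrans.naturality_apply f.invSharp.hom (g₃ ≫ g₂).op (N j l)).symm
    · have := hzero (eY (j, y))
      rw [eY.symm_apply_apply, map_sum] at this
      refine Eq.trans (Finset.sum_congr rfl fun l _ => ?_) this
      rw [map_mul, ringMap_comp]

end Groth.Agent.SiteBase
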