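import Groth.Agent.SiteBase.HZshAcyclic
import Groth.Agent.H9Misc.SupportsExcision

/-!
# Sections with supports commute with restriction
-/

universe u

open CategoryTheory CategoryTheory.Limits Opposite

namespace Groth.Agent.SuppCore

variable {C : Type u} [SmallCategory C] {J : GrothendieckTopology C} {O : Sheaf J CommRingCat.{u}}
  [HasBinaryProducts C] (U X : C) [ModSite.HasPushOver (O.over X) (prodOver U X)]

/-- The inclusion `Γ_Z(F)|_X ⟶ F|_X`. -/
noncomputable abbrev restrι (F : ModSite.Mod O) :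
    (ModSite.restr O X).obj ((ModSite.sectOn O U).obj F) ⟶ (ModSite.restr O X).obj F :=
  (ModSite.restr O X).map ((ModSite.sectOnι O U).app F)

lemma res_over {F : ModSite.Mod O} {W W' : Over X} (g : W' ⟶ W) (x : ModSite.sect ((ModSite.restr O X).obj F) W) :
    res ((ModSite.restr O X).obj F) g x = res F g.left x := rfl

lemma restrι_comp_unit (F : ModSite.Mod O) :
    restrι U X F ≫ (ModSite.restrPushOverAdj (O.over X) (prodOver U X)).unit.app _ = 0 := by
  refine (comp_unit_eq_zero_iff (prodOver U X) _).2 ((mem_homZ_iff_app (prodOver U X) _).2 fun Y k z => ?_)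
  refine (res_id F (W := Y.left) _).symm.trans ?_
  exact ((sect_sectOn_iff U (W := Y.left) F _).1 ⟨z, rfl⟩) (𝟙 _) ⟨k.left ≫ prod.fst⟩

lemma sectι_comp_restr_unit (F : ModSite.Mod O) :
    (ModSite.sectOnι (O.over X) (prodOver U X)).app ((ModSite.restr O X).obj F) ≫
      (ModSite.restr O X).map ((ModSite.restrPushOverAdj O U).unit.app F) = 0 := by
  apply SheafOfModules.hom_ext
  apply PresheafOfModules.hom_ext
  intro Y
  ext y
  have hy := (sect_sectOn_iff (prodOver U X) (W := Y.unop) ((ModSite.restr O X).obj F) _).1 ⟨y, rfl⟩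
  obtain ⟨z, hz⟩ := (sect_sectOn_iff U (W := Y.unop.left) F
    ((((ModSite.sectOnι (O.over X) (prodOver U X)).app ((ModSite.restr O X).obj F)).val.app Y).hom y)).2
    (fun V g ⟨k⟩ => hy (V := Over.mk (g ≫ Y.unop.hom)) (Over.homMk g rfl)
      ⟨Over.homMk (prod.lift k (g ≫ Y.unop.hom)) (prod.lift_snd _ _)⟩)
  refine (congrArg (((ModSite.restrPushOverAdj O U).unit.app F).val.app (op Y.unop.left)).hom hz).symm.trans ?_
  exact congrArg (fun φ : (ModSite.sectOn O U).obj F ⟶ _ => (φ.val.app (op Y.unop.left)).hom z)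
    (kernel.condition _)

/-- `Γ_Z(F)|_X ≅ Γ_{Z ∩ X}(F|_X)`, naturally in `F`. -/
theorem nonempty_sectOn_restr_iso :
    Nonempty (ModSite.sectOn O U ⋙ ModSite.restr O X ≅
      ModSite.restr O X ⋙ ModSite.sectOn (O.over X) (prodOver U X)) := by
  have := (ModSite.extZeroAdj O X).rightAdjoint_preservesLimits.{0, 0}
  have : ∀ F, Mono (restrι U X F) := fun F => by
    have : Mono ((ModSite.sectOnι O U).app F) :=
      inferInstanceAs (Mono (kernel.ι ((ModSite.restrPushOverAdj O U).unit.app F)))
    exact (ModSite.restr O X).map_mono _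
  let hk := fun F => KernelFork.mapIsLimit _ (kernelIsKernel ((ModSite.restrPushOverAdj O U).unit.app F))
    (ModSite.restr O X)
  let ι' := fun F : ModSite.Mod O => (ModSite.sectOnι (O.over X) (prodOver U X)).app ((ModSite.restr O X).obj F)
  have : ∀ F, Mono (ι' F) := fun F =>
    inferInstanceAs (Mono (kernel.ι ((ModSite.restrPushOverAdj (O.over X) (prodOver U X)).unit.app _)))
  let l : ∀ F, (ModSite.restr O X).obj ((ModSite.sectOn O U).obj F) ⟶
      (ModSite.sectOn (O.over X) (prodOver U X)).obj ((ModSite.restr O X).obj F) :=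
    fun F => kernel.lift _ (restrι U X F) (restrι_comp_unit U X F)
  have hl : ∀ F, l F ≫ ι' F = restrι U X F := fun F => kernel.lift_ι _ _ _
  choose r hr using fun F => (⟨(KernelFork.IsLimit.lift' (hk F) (ι' F) (sectι_comp_restr_unit U X F)).1,
    (KernelFork.IsLimit.lift' (hk F) (ι' F) (sectι_comp_restr_unit U X F)).2⟩ :
      ∃ r, r ≫ restrι U X F = ι' F)
  let e : ∀ F, (ModSite.restr O X).obj ((ModSite.sectOn O U).obj F) ≅
      (ModSite.sectOn (O.over X) (prodOver U X)).obj ((ModSite.restr O X).obj F) := fun F =>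
    { hom := l F
      inv := r F
      hom_inv_id := (cancel_mono (restrι U X F)).1
        ((Category.assoc _ _ _).trans ((congrArg (l F ≫ ·) (hr F)).trans ((hl F).trans (Category.id_comp _).symm)))
      inv_hom_id := (cancel_mono (ι' F)).1
        ((Category.assoc _ _ _).trans ((congrArg (r F ≫ ·) (hl F)).trans ((hr F).trans (Category.id_comp _).symm))) }
  refine ⟨NatIso.ofComponents e fun {F G} φ => (cancel_mono (ι' G)).1 ?_⟩
  have n₁ := congrArg (ModSite.restr O X).map ((ModSite.sectOnι O U).naturality φ)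
  rw [Functor.map_comp, Functor.map_comp] at n₁
  have n₂ := (ModSite.sectOnι (O.over X) (prodOver U X)).naturality ((ModSite.restr O X).map φ)
  refine (Category.assoc _ _ _).trans ((congrArg (_ ≫ ·) (hl G)).trans (n₁.trans ?_))
  refine (congrArg (· ≫ _) (hl F).symm).trans ((Category.assoc _ _ _).trans ?_)
  exact (congrArg (l F ≫ ·) n₂.symm).trans (Category.assoc _ _ _).symm

end Groth.Agent.SuppCore
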