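import Groth.Agent.SiteBase.PushAcyclic
import Groth.Agent.SiteBase.CofreeFam
import Groth.Agent.SiteBase.HKRep

/-!
# Restrictions of totally acyclic sheaves
-/

universe u

open CategoryTheory CategoryTheory.Limits Opposite Abelian

namespace Groth.Agent.SiteBase

variable {C D : Type u} [SmallCategory C] [SmallCategory D] {J : GrothendieckTopology C}
  {K : GrothendieckTopology D} (u : D ⥤ C) [u.IsContinuous K J]

/-- Direct images which preserve injectives preserve total acyclicity. -/
theorem isTotallyAcyclic_push_of_injective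
    (hinj : ∀ I : Sheaf J AddCommGrpCat.{u}, Injective I → Injective ((CohSite.push J K u).obj I))
    (F : Sheaf J AddCommGrpCat.{u}) (hF : CohCx.IsTotallyAcyclic F) :
    CohCx.IsTotallyAcyclic ((CohSite.push J K u).obj F) := by
  have hG : PreservesFiniteLimits (CohSite.push J K u) := by
    have : (CohSite.push J K u).IsRightAdjoint := inferInstance
    exact inferInstance
  have hex : ∀ E : ShortComplex (Sheaf J AddCommGrpCat.{u}), E.ShortExact → CohCx.IsTotallyAcyclic E.X₁ →
      (E.map (CohSite.push J K u)).ShortExact := by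
    intro E hE hA
    have := hE.mono_f
    have hloc : Sheaf.IsLocallySurjective ((CohSite.push J K u).map E.g) := ⟨fun {V} s => by
      obtain ⟨t, ht⟩ := sections_surjective_of_EH_one hE (u.obj V)
        ((subsingleton_HU_iff _ _ _).1 (subsingleton_HU_of_totallyAcyclic hA _ 0)) s
      refine K.superset_covering ?_ (K.top_mem _)
      intro W g _
      exact ⟨((CohSite.push J K u).obj E.X₂).obj.map g.op t,
        (ConcreteCategory.congr_hom (((CohSite.push J K u).map E.g).hom.naturality g.op) t).trans
          (congrArg _ ht)⟩⟩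
    exact ShortComplex.ShortExact.mk' (hE.exact.map_of_mono_of_preservesKernel _ ‹_› inferInstance)
      ((CohSite.push J K u).map_mono E.f) ((Sheaf.isLocallySurjective_iff_epi' _ _).1 hloc)
  intro S q
  suffices H : ∀ E : ShortComplex (Sheaf J AddCommGrpCat.{u}), E.ShortExact → Injective E.X₂ →
      CohCx.IsTotallyAcyclic E.X₁ →
      Subsingleton (Ext (freeSh S) ((CohSite.push J K u).obj E.X₁) (q + 1)) from by
    obtain ⟨E, hE, hI, rfl⟩ : ∃ E : ShortComplex (Sheaf J AddCommGrpCat.{u}),
        E.ShortExact ∧ Injective E.X₂ ∧ E.X₁ = F :=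
      ⟨injectiveSES F, injectiveSES_shortExact F, inferInstance, injectiveSES_X₁ F⟩
    exact H E hE hI hF
  clear hF F
  induction q generalizing S with
  | zero =>
    intro E hE hI hA
    have := hinj E.X₂ hI
    refine subsingleton_ext_map_one (CohSite.push J K u) (freeSh S) E (hex E hE hA)
      (Ext.subsingleton_of_injective _ _ 0) fun φ => ?_
    obtain ⟨ψ, hψ⟩ := exists_lift_of_ext_one (freeSh ((u.sheafPullback (Type u) K J).obj S)) hE (hA _ 0)
      ((pushEquiv u S E.X₃).symm φ)
    refine ⟨pushEquiv u S E.X₂ ψ, ?_⟩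
    show pushEquiv u S E.X₂ ψ ≫ (CohSite.push J K u).map E.g = φ
    rw [pushEquiv_eq, Category.assoc, ← Functor.map_comp, hψ, ← pushEquiv_eq, Equiv.apply_symm_apply]
  | succ q ih =>
    intro E hE hI hA
    have := hinj E.X₂ hI
    refine subsingleton_ext_map_succ (CohSite.push J K u) (freeSh S) E (hex E hE hA) (q + 1)
      (Ext.subsingleton_of_injective _ _ (q + 1)) ?_
    have hA₃ : CohCx.IsTotallyAcyclic E.X₃ := fun K q =>
      subsingleton_ext_X₃ _ hE (q + 1) (hA K (q + 1)) (Ext.subsingleton_of_injective _ E.X₂ q)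
    obtain ⟨E', hE', hI', hX⟩ : ∃ E' : ShortComplex (Sheaf J AddCommGrpCat.{u}),
        E'.ShortExact ∧ Injective E'.X₂ ∧ E'.X₁ = E.X₃ :=
      ⟨injectiveSES E.X₃, injectiveSES_shortExact _, inferInstance, injectiveSES_X₁ _⟩
    have := ih S E' hE' hI'
    rw [hX] at this
    exact this hA₃

end Groth.Agent.SiteBase
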