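import Groth.Agent.H9Misc.SupportsSS
import Groth.Agent.SiteBase.OverAcyclic
import Groth.Agent.QCoh.RpushGod

/-!
# Local cohomology sheaves of totally acyclic modules vanish
-/

universe u

open CategoryTheory CategoryTheory.Limits Opposite Abelian

namespace Groth.Agent.SiteBase

variable {C : Type u} [SmallCategory C] {J : GrothendieckTopology C}

set_option maxHeartbeats 1000000 in
/-- Compatible families on any sieve extend, in a totally acyclic sheaf. -/
theorem exists_extend_sieve {F : Sheaf J AddCommGrpCat.{u}} (hF : CohCx.IsTotallyAcyclic F)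
    {W : C} (R : Sieve W)
    (τ : R.functor ⟶ ((sheafCompose J (CategoryTheory.forget AddCommGrpCat.{u})).obj F).obj) :
    ∃ m : ((sheafCompose J (CategoryTheory.forget AddCommGrpCat.{u})).obj F).obj.obj (op W),
      ∀ ⦃V : C⦄ (g : V ⟶ W) (hg : R g),
        ((sheafCompose J (CategoryTheory.forget AddCommGrpCat.{u})).obj F).obj.map g.op m =
          τ.app (op V) ⟨g, hg⟩ := by
  let G := (sheafCompose J (CategoryTheory.forget AddCommGrpCat.{u})).obj F
  let Y := (presheafToSheaf J (Type u)).obj R.functor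
  let ι : Y ⟶ hSheaf J W := (presheafToSheaf J (Type u)).map R.functorInclusion
  have : Mono ι := (presheafToSheaf J (Type u)).map_mono _
  let a := sheafificationAdjunction J (Type u)
  obtain ⟨ψ, hψ⟩ := exists_extend_of_isTotallyAcyclic hF ι
    ((freeShEquiv Y F).symm ((a.homEquiv R.functor G).symm τ))
  have h : ι ≫ freeShEquiv (hSheaf J W) F ψ = (a.homEquiv R.functor G).symm τ :=
    (freeShEquiv_precomp ι ψ).symm.trans ((congrArg _ hψ).trans (Equiv.apply_symm_apply _ _))
  have h2 : R.functorInclusion ≫ a.homEquiv (yoneda.obj W) G (freeShEquiv (hSheaf J W) F ψ) = τ :=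
    (a.homEquiv_naturality_left R.functorInclusion _).symm.trans
      ((congrArg (a.homEquiv R.functor G) h).trans (Equiv.apply_symm_apply _ _))
  refine ⟨yonedaEquiv (a.homEquiv (yoneda.obj W) G (freeShEquiv (hSheaf J W) F ψ)), fun V g hg => ?_⟩
  refine Eq.trans ?_ (congrArg (fun t : R.functor ⟶ G.obj => t.app (op V) ⟨g, hg⟩) h2)
  refine ((yonedaEquiv_naturality _ g).trans (yonedaEquiv_apply _)).trans ?_
  exact congrArg (ConcreteCategory.hom ((a.homEquiv (yoneda.obj W) G (freeShEquiv (hSheaf J W) F ψ)).app (op V)))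
    (Category.id_comp g)

end Groth.Agent.SiteBase

namespace Groth.Agent.SuppCore

open Groth.Agent.SiteBase

variable {C : Type u} [SmallCategory C] {J : GrothendieckTopology C} {O : Sheaf J CommRingCat.{u}}
  (U : C) [ModSite.HasPushOver O U]

/-- The underlying abelian sheaves of a short exact sequence of modules. -/
lemma toAb_shortExact' {S : ShortComplex (ModSite.Mod O)} (hS : S.ShortExact) :
    (S.map (SheafOfModules.toSheaf (ModSite.ringSh O))).ShortExact :=
  hS.map_of_exact (SheafOfModules.toSheaf (ModSite.ringSh O))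

/-- The sections killed by every arrow through `U`. -/
noncomputable def killedOn (X : ModSite.Mod O) : X.val.Submodule where
  obj W :=
    { carrier := {x : ModSite.sect X W.unop | ∀ ⦃V : C⦄ (g : V ⟶ W.unop), Nonempty (V ⟶ U) → res X g x = 0}
      zero_mem' := fun _ g _ => map_zero _
      add_mem' := fun {a b} ha hb V g hg => (map_add (res X g) a b).trans (by rw [ha g hg, hb g hg, add_zero])
      smul_mem' := fun r a ha V g hg => (res_smul X g r a).trans (by rw [ha g hg, smul_zero]) }
  map {W W'} f := fun x hx V g hg => (res_comp X g f.unop x).symm.trans (hx (g ≫ f.unop) hg)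

omit [ModSite.HasPushOver O U] in
lemma isSheaf_killedOn (X : ModSite.Mod O) :
    Presheaf.IsSheaf J (killedOn U X).toPresheafOfModules.presheaf := by
  rw [Presheaf.isSheaf_iff_isSheaf_forget J _ (CategoryTheory.forget AddCommGrpCat.{u}),
    isSheaf_iff_isSheaf_of_type]
  intro W S hS x hx
  have hsh : Presieve.IsSheaf J ((ModSite.toAb X).obj ⋙ CategoryTheory.forget AddCommGrpCat.{u}) :=
    (isSheaf_iff_isSheaf_of_type J _).1
      ((sheafCompose J (CategoryTheory.forget AddCommGrpCat.{u})).obj (ModSite.toAb X)).property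
  let y : Presieve.FamilyOfElements ((ModSite.toAb X).obj ⋙ CategoryTheory.forget AddCommGrpCat.{u})
    S.arrows := fun W' g hg => (x g hg).1
  have hy : y.Compatible := fun A B Z g₁ g₂ f₁ f₂ h₁ h₂ w => congrArg Subtype.val (hx g₁ g₂ h₁ h₂ w)
  obtain ⟨t, ht, huniq⟩ := hsh S hS y hy
  have htv : ∀ ⦃W' : C⦄ (g : W' ⟶ W) (hg : S g), res X g t = (x g hg).1 := fun W' g hg => ht g hg
  have hmem : t ∈ (killedOn U X).obj (op W) := by
    intro V g hg
    refine eq_of_res (J.pullback_stable g hS) fun V' f hf => ?_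
    refine ((res_comp X f g t).symm.trans (htv (f ≫ g) hf)).trans ?_
    refine Eq.trans ?_ (map_zero _).symm
    exact (res_id X _).symm.trans ((x (f ≫ g) hf).2 (𝟙 V') (hg.map (f ≫ ·)))
  exact ⟨⟨t, hmem⟩, fun W' g hg => Subtype.ext (ht g hg), fun z hz =>
    Subtype.ext (huniq z.1 fun W' g hg => congrArg Subtype.val (hz g hg))⟩

/-- Sections with supports are the sections killed by every arrow through `U`. -/
theorem sect_sectOn_iff {W : C} (X : ModSite.Mod O) (x : ModSite.sect X W) :
    (∃ z : ModSite.sect ((ModSite.sectOn O U).obj X) W,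
      (((ModSite.sectOnι O U).app X).val.app (op W)).hom z = x) ↔
    ∀ ⦃V : C⦄ (g : V ⟶ W), Nonempty (V ⟶ U) → res X g x = 0 := by
  constructor
  · rintro ⟨z, rfl⟩ V g ⟨k⟩
    have h0 : (ModSite.restr O U).map ((ModSite.sectOnι O U).app X) = 0 :=
      (comp_unit_eq_zero_iff U _).1 (kernel.condition _)
    refine (res_app ((ModSite.sectOnι O U).app X) g z).trans ?_
    exact congrArg (fun φ : (ModSite.restr O U).obj _ ⟶ (ModSite.restr O U).obj _ =>
      (φ.val.app (op (Over.mk k))).hom (res _ g z)) h0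
  · intro hx
    let K : ModSite.Mod O := ⟨(killedOn U X).toPresheafOfModules, isSheaf_killedOn U X⟩
    let ι : K ⟶ X := ⟨(killedOn U X).ι⟩
    have h0 : (ModSite.restr O U).map ι = 0 := by
      apply SheafOfModules.hom_ext
      refine PresheafOfModules.hom_ext fun V => ?_
      ext (y : (killedOn U X).obj (op V.unop.left))
      exact (res_id X _).symm.trans (y.2 (𝟙 _) ⟨V.unop.hom⟩)
    let l : K ⟶ (ModSite.sectOn O U).obj X := kernel.lift _ ι ((comp_unit_eq_zero_iff U ι).2 h0)
    have hl : l ≫ (ModSite.sectOnι O U).app X = ι := kernel.lift_ι _ _ _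
    exact ⟨(l.val.app (op W)).hom ⟨x, hx⟩,
      congrArg (fun φ : K ⟶ X => (φ.val.app (op W)).hom ⟨x, hx⟩) hl⟩

/-- The kernel of a totally acyclic module makes sections with supports exact. -/
theorem sectOn_surjective {S : ShortComplex (ModSite.Mod O)} (hS : S.ShortExact)
    (h₁ : CohCx.IsTotallyAcyclic (ModSite.toAb S.X₁)) {W : C}
    (s : ModSite.sect ((ModSite.sectOn O U).obj S.X₃) W) :
    ∃ t : ModSite.sect ((ModSite.sectOn O U).obj S.X₂) W,
      (((ModSite.sectOn O U).map S.g).val.app (op W)).hom t = s := by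
  have key := fun (X : ModSite.Mod O) (x : ModSite.sect X W) => sect_sectOn_iff (O := O) U X x
  obtain ⟨b, hb⟩ : ∃ b : ModSite.sect S.X₂ W, (S.g.val.app (op W)).hom b =
      (((ModSite.sectOnι O U).app S.X₃).val.app (op W)).hom s :=
    surjective_sections_of_HU_one (toAb_shortExact' hS) W (subsingleton_HU_of_totallyAcyclic h₁ W 0) _
  have hinj : ∀ V, Function.Injective (S.f.val.app V).hom := fun V => by
    have := hS.mono_f
    exact (ModuleCat.mono_iff_injective _).1
      (inferInstanceAs (Mono ((SheafOfModules.evaluation (ModSite.ringSh O) V).map S.f)))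
  have hs : ∀ ⦃V : C⦄ (g : V ⟶ W), Nonempty (V ⟶ U) →
      res S.X₃ g ((((ModSite.sectOnι O U).app S.X₃).val.app (op W)).hom s) = 0 :=
    (key S.X₃ _).1 ⟨s, rfl⟩
  let R : Sieve W :=
    { arrows := fun V _ => Nonempty (V ⟶ U)
      downward_closed := fun {V V'} _ hg f => hg.map (f ≫ ·) }
  have hex : ∀ ⦃V : C⦄ (g : V ⟶ W), R g →
      ∃ m : ModSite.sect S.X₁ V, (S.f.val.app (op V)).hom m = res S.X₂ g b := by
    intro V g hg
    have : (SheafOfModules.evaluation (ModSite.ringSh O) (op V)).PreservesZeroMorphisms := ⟨fun _ _ => rfl⟩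
    have hker := hS.exact.map_of_mono_of_preservesKernel (SheafOfModules.evaluation (ModSite.ringSh O) (op V))
      hS.mono_f inferInstance
    rw [ShortComplex.moduleCat_exact_iff] at hker
    refine hker (res S.X₂ g b) ?_
    exact (res_app S.g g b).symm.trans ((congrArg (res S.X₃ g) hb).trans (hs g hg))
  choose m hm using hex
  have hnat : ∀ ⦃V V' : C⦄ (g : V ⟶ W) (hg : R g) (f : V' ⟶ V),
      m (f ≫ g) (R.downward_closed hg f) = res S.X₁ f (m g hg) := fun V V' g hg f =>
    hinj _ ((hm _ _).trans ((res_comp S.X₂ f g b).trans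
      ((congrArg (res S.X₂ f) (hm g hg).symm).trans (res_app S.f f _))))
  let τ : R.functor ⟶ ((sheafCompose J (CategoryTheory.forget AddCommGrpCat.{u})).obj (ModSite.toAb S.X₁)).obj :=
    { app := fun V => TypeCat.ofHom fun p => m p.1 p.2
      naturality := fun V V' f => by
        ext p
        exact hnat p.1 p.2 f.unop }
  obtain ⟨n, hn⟩ := exists_extend_sieve h₁ R τ
  obtain ⟨t, ht⟩ := (key S.X₂ (b - (S.f.val.app (op W)).hom n)).2 fun V g hg => by
    rw [map_sub, sub_eq_zero]
    exact (hm g hg).symm.trans ((congrArg (S.f.val.app (op V)).hom (hn g hg)).symm.trans (res_app S.f g n).symm)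
  refine ⟨t, ?_⟩
  have hinjι : Function.Injective (((ModSite.sectOnι O U).app S.X₃).val.app (op W)).hom := by
    have : Mono ((ModSite.sectOnι O U).app S.X₃) :=
      inferInstanceAs (Mono (kernel.ι ((ModSite.restrPushOverAdj O U).unit.app S.X₃)))
    exact (ModuleCat.mono_iff_injective _).1
      (inferInstanceAs (Mono ((SheafOfModules.evaluation (ModSite.ringSh O) (op W)).map
        ((ModSite.sectOnι O U).app S.X₃))))
  refine hinjι (Eq.trans ?_ hb)
  refine (congrArg (fun φ : (ModSite.sectOn O U).obj S.X₂ ⟶ S.X₃ => (φ.val.app (op W)).hom t)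
    ((ModSite.sectOnι O U).naturality S.g)).trans ?_
  refine (congrArg (S.g.val.app (op W)).hom ht).trans ?_
  rw [map_sub, sub_eq_self]
  exact congrArg (fun φ : S.X₁ ⟶ S.X₃ => (φ.val.app (op W)).hom n) S.zero

/-- Local cohomology sheaves of totally acyclic modules vanish. -/
theorem isZero_HZsh [HasInjectiveResolutions (ModSite.Mod O)] (M : ModSite.Mod O)
    (hM : CohCx.IsTotallyAcyclic (ModSite.toAb M)) (i : ℕ) :
    IsZero ((ModSite.HZsh O U (i + 1)).obj M) := by
  have := SpObjSS.enoughInjectives_of_hasInjectiveResolutions (C := ModSite.Mod O)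
  have : PreservesFiniteLimits (ModSite.sectOn O U) := inferInstance
  refine QCoh.isZero_rightDerived_of_class (ModSite.sectOn O U)
    (fun X => CohCx.IsTotallyAcyclic (ModSite.toAb X)) (fun {S} hS h₁ h₂ => ?_) (fun {S} hS h₁ h₂ => ?_) M hM i
  · intro K q
    refine subsingleton_ext_X₃ _ (toAb_shortExact' hS) (q + 1) (h₁ K (q + 1)) ?_
    exact @isTotallyAcyclic_toSheaf_injective _ _ _ (ModSite.ringSh O) S.X₂ h₂ K q
  · refine ⟨fun {L} a b e => ?_⟩
    apply SheafOfModules.hom_ext
    refine PresheafOfModules.hom_ext fun X => ?_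
    ext x
    obtain ⟨t, rfl⟩ := sectOn_surjective U hS h₁ (W := X.unop) x
    exact congrArg (fun φ : (ModSite.sectOn O U).obj S.X₂ ⟶ L => (φ.val.app X).hom t) e

end Groth.Agent.SuppCore
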