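import Groth.Agent.H9Misc.SupportsExcision

/-!
# The unit `I ⟶ j_* j^* I` of an injective module is an epimorphism for a subterminal open
-/

universe u

open CategoryTheory CategoryTheory.Limits Opposite

namespace Groth.Agent.SuppCore

variable {C : Type u} [SmallCategory C] {J : GrothendieckTopology C} {O : Sheaf J CommRingCat.{u}}
  {V : C} (hV : ∀ X : C, Subsingleton (X ⟶ V)) {Q X : ModSite.Mod O}
  (ψ : (ModSite.restr O V).obj Q ⟶ (ModSite.restr O V).obj X)

include hV in
lemma extVal_zero {W : C} : extVal ψ (0 : ModSite.sect Q W) = 0 := by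
  by_cases h : Nonempty (W ⟶ V)
  · obtain ⟨k⟩ := h
    rw [extVal_eq hV ψ k]
    exact map_zero _
  · exact extVal_neg ψ h _

include hV in
lemma res_extVal_locOver {W' W : C} (f : W' ⟶ W) (s : ModSite.sect Q W)
    (hW : Nonempty (W ⟶ V) ∨ s = 0) :
    res X f (extVal ψ s) = extVal ψ (res Q f s) := by
  rcases hW with ⟨⟨k⟩⟩ | rfl
  · rw [extVal_eq hV ψ k, extVal_eq hV ψ (f ≫ k)]
    exact (PresheafOfModules.naturality_apply ψ.val
      (Over.homMk f rfl : Over.mk (f ≫ k) ⟶ Over.mk k).op s).symm
  · rw [extVal_zero hV, map_zero, map_zero, extVal_zero hV]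

include hV in
/-- A morphism over `V` out of a module all of whose sections are locally zero or over `V` extends. -/
theorem exists_ext_locOver (hQ : ∀ {W : C} (s : ModSite.sect Q W), locOverSieve V Q s ∈ J W) :
    ∃ φ : Q ⟶ X, (ModSite.restr O V).map φ = ψ := by
  have hsh : Presieve.IsSheaf J ((ModSite.toAb X).obj ⋙ CategoryTheory.forget AddCommGrpCat.{u}) :=
    (isSheaf_iff_isSheaf_of_type J _).1
      ((sheafCompose J (CategoryTheory.forget AddCommGrpCat.{u})).obj (ModSite.toAb X)).property
  have hex : ∀ (W : Cᵒᵖ) (s : ModSite.sect Q W.unop), ∃ t : ModSite.sect X W.unop,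
      ∀ ⦃W' : C⦄ (g : W' ⟶ W.unop), locOverSieve V Q s g → res X g t = extVal ψ (res Q g s) := by
    intro W s
    let x : Presieve.FamilyOfElements ((ModSite.toAb X).obj ⋙ CategoryTheory.forget AddCommGrpCat.{u})
      (locOverSieve V Q s).arrows := fun W' g _ => extVal ψ (res Q g s)
    have hx : x.Compatible := by
      rw [Presieve.compatible_iff_sieveCompatible]
      intro W' W'' g f hg
      refine Eq.trans ?_ (res_extVal_locOver hV ψ f (res Q g s) hg).symm
      exact congrArg (extVal ψ) (res_comp Q f g s)
    obtain ⟨t, ht, -⟩ := hsh _ (hQ s) x hx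
    exact ⟨t, ht⟩
  choose t ht using hex
  have huniq : ∀ (W : Cᵒᵖ) (s : ModSite.sect Q W.unop) (y : ModSite.sect X W.unop) (S : Sieve W.unop),
      S ∈ J W.unop →
      (∀ ⦃W' : C⦄ (g : W' ⟶ W.unop), S g → locOverSieve V Q s g → res X g y = extVal ψ (res Q g s)) →
      y = t W s := fun W s y S hS h =>
    eq_of_res (J.intersection_covering hS (hQ s)) fun W' g hg => (h g hg.1 hg.2).trans (ht W s g hg.2).symm
  have hadd : ∀ W a b, t W (a + b) = t W a + t W b := fun W a b => (huniq W (a + b) _ _
    (J.intersection_covering (hQ a) (hQ b)) fun W' g hg _ => by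
      rw [map_add, map_add, ht W a g hg.1, ht W b g hg.2, extVal_add hV]).symm
  have hsmul : ∀ W r a, t W (r • a) = r • t W a := fun W r a => (huniq W (r • a) _ _ (hQ a) fun W' g hg _ => by
    refine (res_smul X g r (t W a)).trans ?_
    rw [ht W a g hg, ← extVal_smul hV]
    exact congrArg (extVal ψ) (res_smul Q g r a).symm).symm
  let φ : Q.val ⟶ X.val :=
    { app := fun W => ModuleCat.ofHom
        { toFun := t W
          map_add' := hadd W
          map_smul' := hsmul W }
      naturality := fun {W W'} f => by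
        ext s
        refine (huniq W' (res Q f.unop s) (res X f.unop (t W s)) _ (hQ (res Q f.unop s)) fun W'' g hg _ => ?_).symm
        refine (res_comp X g f.unop (t W s)).symm.trans ((ht W s (g ≫ f.unop) ?_).trans ?_)
        · exact hg.imp id fun h => (res_comp Q g f.unop s).trans h
        · exact congrArg (extVal ψ) (res_comp Q g f.unop s) }
  refine ⟨⟨φ⟩, ?_⟩
  apply SheafOfModules.hom_ext
  apply PresheafOfModules.hom_ext
  intro Y
  ext s
  refine (huniq (op Y.unop.left) s ((ψ.val.app Y).hom s) ⊤ (J.top_mem _) fun W' g _ _ => ?_).symm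
  refine Eq.trans ?_ (extVal_eq hV ψ (g ≫ Y.unop.hom) _).symm
  exact (PresheafOfModules.naturality_apply ψ.val
    (Over.homMk g rfl : Over.mk (g ≫ Y.unop.hom) ⟶ Y.unop).op s).symm

include hV in
/-- For a subterminal `V`, the unit of `restr ⊣ pushOver` at an injective module is an epimorphism. -/
theorem epi_unit_of_injective [ModSite.HasPushOver O V] (I : ModSite.Mod O) [Injective I] :
    Epi ((ModSite.restrPushOverAdj O V).unit.app I) := by
  let adj := ModSite.restrPushOverAdj O V
  let N := (ModSite.pushOver O V).obj ((ModSite.restr O V).obj I)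
  obtain ⟨φ, hφ⟩ := exists_ext_locOver hV (Q := locOverMod V N) (X := I)
    ((ModSite.restr O V).map (locOverι V N) ≫ adj.counit.app _) fun {W} s => by
      refine J.superset_covering (S := locOverSieve V N (W := W) s.1) (fun W' g hg => hg.imp id fun h => ?_) s.2
      exact Subtype.ext h
  obtain ⟨r, hr⟩ : ∃ r : N ⟶ I, (ModSite.restr O V).map r = adj.counit.app _ := by
    have := isIso_restr_locOverι V N
    refine ⟨Injective.factorThru φ (locOverι V N),
      (cancel_epi ((ModSite.restr O V).map (locOverι V N))).1 ?_⟩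
    exact ((ModSite.restr O V).map_comp _ _).symm.trans
      ((congrArg (ModSite.restr O V).map (Injective.comp_factorThru φ _)).trans hφ)
  have : IsSplitEpi (adj.unit.app I) := ⟨⟨⟨r, by
    refine (adj.homEquiv _ _).symm.injective ?_
    rw [adj.homEquiv_counit, adj.homEquiv_counit, Functor.map_comp, Category.assoc]
    refine Eq.trans ?_ ((congrArg (fun t => t ≫ adj.counit.app _) ((ModSite.restr O V).map_id N)).trans
      (Category.id_comp _)).symm
    exact (congrArg (fun t => (ModSite.restr O V).map r ≫ t) (adj.left_triangle_components I)).trans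
      ((Category.comp_id _).trans hr)⟩⟩⟩
  infer_instance

end Groth.Agent.SuppCore
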