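import Groth.Agent.SiteBase.HZshAcyclic
import Groth.Agent.SiteBase.ModColim

/-!
# Sections with supports commute with restriction of scalars
-/

universe u

open CategoryTheory CategoryTheory.Limits Opposite

namespace Groth.Agent.SuppCore

variable {C : Type u} [SmallCategory C] {J : GrothendieckTopology C} {O O' : Sheaf J CommRingCat.{u}}
  (φ : O ⟶ O') (U : C) [ModSite.HasPushOver O U] [ModSite.HasPushOver O' U]

/-- Restriction of scalars along `φ`. -/
noncomputable abbrev rscal : ModSite.Mod O' ⥤ ModSite.Mod O :=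
  SheafOfModules.restrictScalars ((sheafCompose J (forget₂ CommRingCat.{u} RingCat.{u})).map φ)

omit [ModSite.HasPushOver O U] [ModSite.HasPushOver O' U] in
lemma res_rscal {F : ModSite.Mod O'} {W' W : C} (g : W' ⟶ W) (x : ModSite.sect ((rscal φ).obj F) W) :
    res ((rscal φ).obj F) g x = res F g x := rfl

lemma rscalι_comp_unit (F : ModSite.Mod O') :
    (rscal φ).map ((ModSite.sectOnι O' U).app F) ≫ (ModSite.restrPushOverAdj O U).unit.app _ = 0 := by
  refine (comp_unit_eq_zero_iff U _).2 ((mem_homZ_iff_app U _).2 fun Y k z => ?_)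
  refine (res_id F (W := Y) _).symm.trans ?_
  exact ((sect_sectOn_iff U (W := Y) F _).1 ⟨z, rfl⟩) (𝟙 _) ⟨k⟩

lemma sectι_comp_rscal_unit (F : ModSite.Mod O') :
    (ModSite.sectOnι O U).app ((rscal φ).obj F) ≫
      (rscal φ).map ((ModSite.restrPushOverAdj O' U).unit.app F) = 0 := by
  apply SheafOfModules.hom_ext
  apply PresheafOfModules.hom_ext
  intro Y
  ext y
  have hy := (sect_sectOn_iff U (W := Y.unop) ((rscal φ).obj F) _).1 ⟨y, rfl⟩
  obtain ⟨z, hz⟩ := (sect_sectOn_iff U (W := Y.unop) F
    ((((ModSite.sectOnι O U).app ((rscal φ).obj F)).val.app Y).hom y)).2 hy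
  refine (congrArg (((ModSite.restrPushOverAdj O' U).unit.app F).val.app Y).hom hz).symm.trans ?_
  exact congrArg (fun ψ : (ModSite.sectOn O' U).obj F ⟶ _ => (ψ.val.app Y).hom z) (kernel.condition _)

/-- `Γ_Z` does not depend on the ring. -/
theorem nonempty_sectOn_rscal_iso :
    Nonempty (ModSite.sectOn O' U ⋙ rscal φ ≅ rscal φ ⋙ ModSite.sectOn O U) := by
  have := SiteBase.preservesLimitsOfSize_restrictScalars ((sheafCompose J (forget₂ CommRingCat.{u} RingCat.{u})).map φ)
  have : PreservesLimitsOfSize.{0, 0} (rscal φ) := preservesLimitsOfSize_shrink.{0, u, 0, u} (rscal φ)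
  let restrι := fun F : ModSite.Mod O' => (rscal φ).map ((ModSite.sectOnι O' U).app F)
  have : ∀ F, Mono (restrι F) := fun F => by
    have : Mono ((ModSite.sectOnι O' U).app F) :=
      inferInstanceAs (Mono (kernel.ι ((ModSite.restrPushOverAdj O' U).unit.app F)))
    exact (rscal φ).map_mono _
  let hk := fun F => KernelFork.mapIsLimit _ (kernelIsKernel ((ModSite.restrPushOverAdj O' U).unit.app F))
    (rscal φ)
  let ι' := fun F : ModSite.Mod O' => (ModSite.sectOnι O U).app ((rscal φ).obj F)
  have : ∀ F, Mono (ι' F) := fun F =>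
    inferInstanceAs (Mono (kernel.ι ((ModSite.restrPushOverAdj O U).unit.app _)))
  let l : ∀ F, (rscal φ).obj ((ModSite.sectOn O' U).obj F) ⟶ (ModSite.sectOn O U).obj ((rscal φ).obj F) :=
    fun F => kernel.lift _ (restrι F) (rscalι_comp_unit φ U F)
  have hl : ∀ F, l F ≫ ι' F = restrι F := fun F => kernel.lift_ι _ _ _
  choose r hr using fun F => (⟨(KernelFork.IsLimit.lift' (hk F) (ι' F) (sectι_comp_rscal_unit φ U F)).1,
    (KernelFork.IsLimit.lift' (hk F) (ι' F) (sectι_comp_rscal_unit φ U F)).2⟩ :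
      ∃ r, r ≫ restrι F = ι' F)
  let e : ∀ F, (rscal φ).obj ((ModSite.sectOn O' U).obj F) ≅ (ModSite.sectOn O U).obj ((rscal φ).obj F) := fun F =>
    { hom := l F
      inv := r F
      hom_inv_id := (cancel_mono (restrι F)).1
        ((Category.assoc _ _ _).trans ((congrArg (l F ≫ ·) (hr F)).trans ((hl F).trans (Category.id_comp _).symm)))
      inv_hom_id := (cancel_mono (ι' F)).1
        ((Category.assoc _ _ _).trans ((congrArg (r F ≫ ·) (hl F)).trans ((hr F).trans (Category.id_comp _).symm))) }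
  refine ⟨NatIso.ofComponents e fun {F G} ψ => (cancel_mono (ι' G)).1 ?_⟩
  have n₁ := congrArg (rscal φ).map ((ModSite.sectOnι O' U).naturality ψ)
  rw [Functor.map_comp, Functor.map_comp] at n₁
  have n₂ := (ModSite.sectOnι O U).naturality ((rscal φ).map ψ)
  refine (Category.assoc _ _ _).trans ((congrArg (_ ≫ ·) (hl G)).trans (n₁.trans ?_))
  refine (congrArg (· ≫ _) (hl F).symm).trans ((Category.assoc _ _ _).trans ?_)
  exact (congrArg (l F ≫ ·) n₂.symm).trans (Category.assoc _ _ _).symm

end Groth.Agent.SuppCore
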