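import Groth.Agent.H9Misc.SupportsTensor

/-!
# Quotient supported in the closed complement commutes with tensoring
-/

universe u

open CategoryTheory CategoryTheory.Limits Opposite MonoidalCategory
open Groth.Agent.ModTensor

namespace Groth.Agent.SuppCore

variable {C : Type u} [SmallCategory C] {J : GrothendieckTopology C} {O : Sheaf J CommRingCat.{u}}
  (U : C)

lemma quotOnπ_mem (N : ModSite.Mod O) : (ModSite.quotOnπ O U).app N ∈ ExtSupp.homZ U _ _ :=
  (ExtSupp.mem_homZ_iff U _).2 (cokernel.condition _)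

/-- `(X/X_U) ⊗ M ≅ (X ⊗ M)/(X ⊗ M)_U`. -/
noncomputable def quotOfTensIso (X M : ModSite.Mod O) :
    tens ((ModSite.quotOn O U).obj X) M ≅ (ModSite.quotOn O U).obj (tens X M) :=
  let l := CokernelCofork.IsColimit.desc' (isColimitProjLeft U X M) ((ModSite.quotOnπ O U).app (tens X M))
    ((whiskerRight_counit_comp_eq_zero_iff U _).2 (quotOnπ_mem U (tens X M)))
  let r : (ModSite.quotOn O U).obj (tens X M) ⟶ tens ((ModSite.quotOn O U).obj X) M :=
    cokernel.desc _ (projLeft U X M) ((ExtSupp.mem_homZ_iff U _).1 (projLeft_mem U X M))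
  { hom := l.1
    inv := r
    hom_inv_id := (cancel_epi (projLeft U X M)).1 (by
      refine (Category.assoc _ _ _).symm.trans ?_
      exact ((congrArg (· ≫ r) l.2).trans (cokernel.π_desc _ _ _)).trans (Category.comp_id _).symm)
    inv_hom_id := coequalizer.hom_ext (by
      refine (Category.assoc _ _ _).symm.trans ?_
      exact ((congrArg (· ≫ l.1) (cokernel.π_desc _ _ _)).trans l.2).trans (Category.comp_id _).symm) }

lemma projLeft_quotOfTensIso (X M : ModSite.Mod O) :
    projLeft U X M ≫ (quotOfTensIso U X M).hom = (ModSite.quotOnπ O U).app (tens X M) :=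
  (CokernelCofork.IsColimit.desc' (isColimitProjLeft U X M) ((ModSite.quotOnπ O U).app (tens X M))
    ((whiskerRight_counit_comp_eq_zero_iff U _).2 (quotOnπ_mem U (tens X M)))).2

/-- The natural isomorphism `(X / X_U) ⊗ M ≅ (X ⊗ M)/(X ⊗ M)_U`. -/
noncomputable def quotOfTensorIso (M : ModSite.Mod O) :
    ModSite.quotOn O U ⋙ (ModSite.tensorBi O).flip.obj M ≅
      (ModSite.tensorBi O).flip.obj M ⋙ ModSite.quotOn O U :=
  NatIso.ofComponents (fun X => quotOfTensIso U X M) fun {X X'} f => by
    refine (cancel_epi (projLeft U X M)).1 ?_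
    refine Eq.trans ?_ (((ModSite.quotOnπ O U).naturality (((ModSite.tensorBi O).flip.obj M).map f)).trans
      ((congrArg (· ≫ _) (projLeft_quotOfTensIso U X M).symm).trans (Category.assoc _ _ _)))
    refine Eq.trans ?_ (congrArg (_ ≫ ·) (projLeft_quotOfTensIso U X' M))
    refine (Category.assoc _ _ _).symm.trans (Eq.trans ?_ (Category.assoc _ _ _))
    refine congrArg (· ≫ (quotOfTensIso U X' M).hom) ?_
    refine (((ModSite.tensorBi O).flip.obj M).map_comp _ _).symm.trans (Eq.trans ?_
      (((ModSite.tensorBi O).flip.obj M).map_comp _ _))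
    exact congrArg _ ((ModSite.quotOnπ O U).naturality f).symm

variable [ModSite.HasPushOver O U]

/-- `Γ_Z(ℋom(M, -)) ≅ ℋom(M, Γ_Z(-))`. -/
noncomputable def sectSheafHomIso (M : ModSite.Mod O) [ModSite.HasSheafHom M] :
    ModSite.sheafHom M ⋙ ModSite.sectOn O U ≅ ModSite.sectOn O U ⋙ ModSite.sheafHom M :=
  (((quotSectAdj U).comp (ModSite.sheafHomAdj M)).ofNatIsoLeft (quotOfTensorIso U M)).rightAdjointUniq
    ((ModSite.sheafHomAdj M).comp (quotSectAdj U))

end Groth.Agent.SuppCore
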