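import Mathlib.CategoryTheory.Sites.Over
import Mathlib.CategoryTheory.Sites.CoverLifting
import Mathlib.CategoryTheory.Sites.Pullback
import Mathlib.CategoryTheory.Adjunction.Triple
import Mathlib.CategoryTheory.Functor.KanExtension.Adjunction
import Mathlib.CategoryTheory.Limits.Types.Limits

/-!
# Localisation at a subterminal object
-/

universe w v u u' v'

open CategoryTheory CategoryTheory.Limits Opposite

namespace Groth.Agent.SiteBase

variable {C : Type u} [Category.{v} C] (J : GrothendieckTopology C) (U : C) (A : Type u') [Category.{v'} A]
  [∀ P : (Over U)ᵒᵖ ⥤ A, (Over.forget U).op.HasPointwiseRightKanExtension P]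
  [∀ P : (Over U)ᵒᵖ ⥤ A, (Over.forget U).op.HasLeftKanExtension P] [HasWeakSheafify J A]

/-- Localising at a subterminal object is the inclusion of a fully faithful left adjoint. -/
theorem isIso_unit_forget_of_subsingleton (hU : ∀ V : C, Subsingleton (V ⟶ U)) :
    IsIso ((Over.forget U).sheafAdjunctionContinuous A (J.over U) J).unit := by
  have : (Over.forget U).Full := ⟨fun {X Y} f => ⟨Over.homMk f ((hU _).elim _ _), rfl⟩⟩
  have hc : IsIso ((Over.forget U).sheafAdjunctionCocontinuous A (J.over U) J).counit := by
    have (F : Sheaf (J.over U) A) :
        IsIso (((Over.forget U).sheafAdjunctionCocontinuous A (J.over U) J).counit.app F) := by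
      have : IsIso ((sheafToPresheaf _ A).map
          (((Over.forget U).sheafAdjunctionCocontinuous A (J.over U) J).counit.app F)) := by
        show IsIso (((Over.forget U).sheafAdjunctionCocontinuous A (J.over U) J).counit.app F).hom
        rw [Functor.sheafAdjunctionCocontinuous_counit_app_hom]
        have : (Over.forget U).op.Full := inferInstance
        have : (Over.forget U).op.Faithful := inferInstance
        exact @NatIso.isIso_of_isIso_app _ _ _ _ _ _ _ fun X => by
          rw [Functor.ranAdjunction_counit]
          exact (Functor.isPointwiseRightKanExtensionRanCounit (Over.forget U).op F.obj _).isIso_hom_app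
      exact isIso_of_reflects_iso _ (sheafToPresheaf _ A)
    exact NatIso.isIso_of_isIso_app _
  let t : Adjunction.Triple ((Over.forget U).sheafPullback A (J.over U) J)
      ((Over.forget U).sheafPushforwardContinuous A (J.over U) J)
      ((Over.forget U).sheafPushforwardCocontinuous A (J.over U) J) :=
    ⟨(Over.forget U).sheafAdjunctionContinuous A (J.over U) J,
      (Over.forget U).sheafAdjunctionCocontinuous A (J.over U) J⟩
  exact t.isIso_unit_iff_isIso_counit.2 hc

end Groth.Agent.SiteBase
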