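import Mathlib.CategoryTheory.Sites.SheafCohomology.Basic
import Mathlib.Algebra.Homology.DerivedCategory.Ext.ExactSequences
import Mathlib.Algebra.Homology.ShortComplex.HomologicalComplex
import Groth.Agent.SiteBase.Global
import Mathlib.Topology.Sheaves.Sheaf
import Mathlib.Algebra.Category.Grp.Abelian
import Mathlib.CategoryTheory.Sites.Limits
import Mathlib.CategoryTheory.Sites.Abelian

/-!
# Surjectivity on sections at the end of an exact sequence
-/

set_option autoImplicit false
set_option linter.unusedSectionVars false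
set_option linter.style.haveILetI false

universe u

open CategoryTheory CategoryTheory.Limits Opposite Abelian

noncomputable section

namespace Groth.Agent.LongResSurj

variable {C : Type u} [SmallCategory C] {J : GrothendieckTopology C}
  [HasExt.{u} (Sheaf J AddCommGrpCat.{u})]

theorem surjective_of_shortExact {S : ShortComplex (Sheaf J AddCommGrpCat.{u})} (hS : S.ShortExact) (n : ℕ)
    (h : Subsingleton (Sheaf.H S.X₁ (n + 1))) : Function.Surjective (Sheaf.H.map S.g n) := by
  intro x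
  let Zc : Sheaf J AddCommGrpCat.{u} := (constantSheaf J AddCommGrpCat.{u}).obj (AddCommGrpCat.of (ULift.{u} ℤ))
  have key : ∀ (x₃ : Ext Zc S.X₃ n), ∃ x₂ : Ext Zc S.X₂ n, x₂.comp (Ext.mk₀ S.g) (add_zero n) = x₃ := by
    intro x₃
    refine Ext.covariant_sequence_exact₃ (X := Zc) hS x₃ (n₁ := n + 1) rfl ?_
    exact @Subsingleton.elim _ h _ _
  obtain ⟨y, hy⟩ := key x
  exact ⟨y, hy⟩

theorem subsingleton_X₃ {S : ShortComplex (Sheaf J AddCommGrpCat.{u})} (hS : S.ShortExact) (n : ℕ)
    (h₂ : Subsingleton (Sheaf.H S.X₂ n)) (h₁ : Subsingleton (Sheaf.H S.X₁ (n + 1))) :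
    Subsingleton (Sheaf.H S.X₃ n) :=
  (surjective_of_shortExact hS n h₁).subsingleton

variable (F : ChainComplex (Sheaf J AddCommGrpCat.{u}) ℕ)

/-- The cycles. -/
abbrev Z (j : ℕ) : Sheaf J AddCommGrpCat.{u} := kernel (F.d (j + 1) j)

/-- The sequence of cycles at a stage. -/
abbrev seq (j : ℕ) : ShortComplex (Sheaf J AddCommGrpCat.{u}) :=
  ShortComplex.mk (kernel.ι (F.d (j + 2) (j + 1))) (kernel.lift (F.d (j + 1) j) (F.d (j + 2) (j + 1)) (F.d_comp_d _ _ _))
    (by rw [← cancel_mono (kernel.ι (F.d (j + 1) j)), Category.assoc, kernel.lift_ι, kernel.condition, zero_comp])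

lemma shortExact_seq (j : ℕ) (h : F.ExactAt (j + 1)) : (seq F j).ShortExact := by
  have hex : (ShortComplex.mk (F.d (j + 2) (j + 1)) (F.d (j + 1) j) (F.d_comp_d _ _ _)).Exact :=
    (F.exactAt_iff' (j + 2) (j + 1) j (by simp) (by simp)).1 h
  haveI : Epi (seq F j).g := hex.epi_kernelLift
  refine { exact := ShortComplex.exact_of_f_is_kernel _ (KernelFork.IsLimit.ofι _ _
    (fun g hg => kernel.lift _ g (?_)) (fun g hg => kernel.lift_ι _ _ _) (fun g hg b hb => ?_)) }
  · have := congrArg (fun t => t ≫ kernel.ι (F.d (j + 1) j)) hg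
    simpa using this
  · rw [← cancel_mono (kernel.ι (F.d (j + 2) (j + 1))), hb, kernel.lift_ι]

theorem subsingleton_Z (r : ℕ) (hmono : Mono (F.d (r + 1) r)) (hex : ∀ j, 1 ≤ j → j < r + 1 → F.ExactAt j)
    (hvan : ∀ j, 2 ≤ j → j ≤ r + 1 → Subsingleton (Sheaf.H (F.X j) (j - 1))) :
    ∀ (k j : ℕ), j + k = r → Subsingleton (Sheaf.H (Z F j) (j + 1))
  | 0, j, hj => by
    obtain rfl : j = r := hj
    have hz : 𝟙 (Z F j) = 0 := by
      rw [← cancel_mono (kernel.ι (F.d (j + 1) j)), Category.id_comp, zero_comp, ← cancel_mono (F.d (j + 1) j),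
        kernel.condition, zero_comp]
    refine ⟨fun a b => ?_⟩
    have key : ∀ x : Sheaf.H (Z F j) (j + 1), x = 0 := fun x => by
      have := x.comp_mk₀_id
      rw [hz, Ext.mk₀_zero, Ext.comp_zero] at this
      exact this.symm
    rw [key a, key b]
  | k + 1, j, hj => by
    refine subsingleton_X₃ (shortExact_seq F j (hex (j + 1) (by omega) (by omega))) (j + 1) ?_
      (subsingleton_Z r hmono hex hvan k (j + 1) (by omega))
    exact hvan (j + 2) (by omega) (by omega)

theorem surjective_app_top {T : C} (hT : IsTerminal T) (r : ℕ) (hmono : Mono (F.d (r + 1) r)) (hepi : Epi (F.d 1 0))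
    (hex : ∀ j, 1 ≤ j → j < r + 1 → F.ExactAt j)
    (hvan : ∀ j, 2 ≤ j → j ≤ r + 1 → Subsingleton (Sheaf.H (F.X j) (j - 1))) :
    Function.Surjective ((F.d 1 0).hom.app (op T)) := fun y => by
  have hS : (ShortComplex.mk (kernel.ι (F.d 1 0)) (F.d 1 0) (kernel.condition _)).ShortExact :=
    { exact := ShortComplex.exact_of_f_is_kernel _ (kernelIsKernel _), epi_g := hepi }
  obtain ⟨x, hx⟩ := surjective_of_shortExact hS 0 (subsingleton_Z F r hmono hex hvan r 0 (Nat.zero_add r))
    ((Sheaf.H.equiv₀ (F.X 0) hT).symm y)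
  refine ⟨Sheaf.H.equiv₀ (F.X 1) hT x, ?_⟩
  rw [Sheaf.H.equiv₀_naturality, hx, AddEquiv.apply_symm_apply]

end Groth.Agent.LongResSurj
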