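import Groth.Prelude.Def_SGA4c
import Mathlib

/-!
# Filtered colimits of sheaves on sites with finite covers
-/

universe u

open CategoryTheory CategoryTheory.Limits Opposite

namespace Groth.Agent.SiteBase

variable {C : Type u} [SmallCategory C] [HasPullbacks C] {J : GrothendieckTopology C}
  {I : Type u} [SmallCategory I] [IsFiltered I]

theorem isSheaf_filteredColimit (hJ : ∀ U : C, ToposFin.IsQCSite J U) (K : I ⥤ Sheaf J (Type u))
    (c : Cocone (K ⋙ sheafToPresheaf J (Type u))) (hc : IsColimit c) :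
    Presheaf.IsSheaf J c.pt := by
  classical
  have hev : ∀ X : Cᵒᵖ, IsColimit (((evaluation Cᵒᵖ (Type u)).obj X).mapCocone c) :=
    fun X => isColimitOfPreserves _ hc
  -- restriction
  let r : ∀ (i : I) {V W : C}, (V ⟶ W) → (K.obj i).obj.obj (op W) → (K.obj i).obj.obj (op V) :=
    fun i V W f a => (K.obj i).obj.map f.op a
  let t : ∀ {i j : I}, (i ⟶ j) → ∀ {W : C}, (K.obj i).obj.obj (op W) → (K.obj j).obj.obj (op W) :=
    fun {i j} f {W} a => (K.map f).hom.app (op W) a
  let cl : ∀ (i : I) {W : C}, (K.obj i).obj.obj (op W) → c.pt.obj (op W) :=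
    fun i W a => (c.ι.app i).app (op W) a
  have cl_t : ∀ {i j : I} (f : i ⟶ j) {W : C} (a : (K.obj i).obj.obj (op W)), cl j (t f a) = cl i a :=
    fun {i j} f W a => congrArg (fun (η : (K ⋙ sheafToPresheaf J (Type u)).obj i ⟶ c.pt) => η.app (op W) a) (c.w f)
  have cl_r : ∀ (i : I) {V W : C} (f : V ⟶ W) (a : (K.obj i).obj.obj (op W)),
      c.pt.map f.op (cl i a) = cl i (r i f a) :=
    fun i V W f a => (NatTrans.naturality_apply (c.ι.app i) f.op a).symm
  have t_r : ∀ {i j : I} (g : i ⟶ j) {V W : C} (f : V ⟶ W) (a : (K.obj i).obj.obj (op W)),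
      t g (r i f a) = r j f (t g a) :=
    fun {i j} g V W f a => NatTrans.naturality_apply (K.map g).hom f.op a
  have t_comp : ∀ {i j k : I} (g : i ⟶ j) (h : j ⟶ k) {W : C} (a : (K.obj i).obj.obj (op W)),
      t h (t g a) = t (g ≫ h) a := fun {i j k} g h W a => by
    show _ = (K.map (g ≫ h)).hom.app (op W) a
    rw [K.map_comp]; rfl
  have rep : ∀ {W : C} (x : c.pt.obj (op W)), ∃ (i : I) (a : (K.obj i).obj.obj (op W)), cl i a = x :=
    fun {W} x => Types.jointly_surjective _ (hev (op W)) x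
  have eqv : ∀ {W : C} {i : I} (a b : (K.obj i).obj.obj (op W)), cl i a = cl i b →
      ∃ (j : I) (f : i ⟶ j), t f a = t f b := by
    intro W i a b h
    obtain ⟨j, f, g, hfg⟩ := (Types.FilteredColimit.isColimit_eq_iff _ (hev (op W))).mp h
    refine ⟨IsFiltered.coeq f g, f ≫ IsFiltered.coeqHom f g, ?_⟩
    have e := congrArg (t (IsFiltered.coeqHom f g)) (show t f a = t g b from hfg)
    rw [t_comp, t_comp] at e
    conv_rhs => rw [IsFiltered.coeq_condition f g]
    exact e
  -- finitely many equalities can be achieved at once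
  have eqs : ∀ (i : I) {n : Type} (s : Finset n) (W : n → C) (a b : ∀ k, (K.obj i).obj.obj (op (W k))),
      (∀ k ∈ s, cl i (a k) = cl i (b k)) → ∃ (j : I) (f : i ⟶ j), ∀ k ∈ s, t f (a k) = t f (b k) := by
    intro i n s W a b h
    induction s using Finset.induction with
    | empty => exact ⟨i, 𝟙 i, fun k hk => absurd hk (Finset.notMem_empty k)⟩
    | @insert k s _ ih =>
      obtain ⟨j, f, hf⟩ := ih fun l hl => h l (Finset.mem_insert_of_mem hl)
      obtain ⟨j', f', hf'⟩ := eqv (t f (a k)) (t f (b k)) (by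
        rw [cl_t, cl_t]; exact h k (Finset.mem_insert_self _ _))
      refine ⟨j', f ≫ f', fun l hl => ?_⟩
      rcases Finset.mem_insert.mp hl with rfl | hl
      · rw [← t_comp, ← t_comp, hf']
      · rw [← t_comp, ← t_comp, hf l hl]
  have hK : ∀ i, Presieve.IsSheaf J (K.obj i).obj := fun i => (isSheaf_iff_isSheaf_of_type J _).1 (K.obj i).property
  -- separatedness
  have sep : ∀ {X : C} {S : Sieve X}, S ∈ J X → ∀ (x y : c.pt.obj (op X)),
      (∀ ⦃W : C⦄ (g : W ⟶ X), S g → c.pt.map g.op x = c.pt.map g.op y) → x = y := by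
    intro X S hS x y h
    obtain ⟨n, V, g, hg, hcov⟩ := hJ X S hS
    obtain ⟨i₁, a₁, rfl⟩ := rep x
    obtain ⟨i₂, a₂, rfl⟩ := rep y
    obtain ⟨i, a, b, ha, hb⟩ : ∃ (i : I) (a b : (K.obj i).obj.obj (op X)), cl i a = cl i₁ a₁ ∧ cl i b = cl i₂ a₂ :=
      ⟨IsFiltered.max i₁ i₂, t (IsFiltered.leftToMax i₁ i₂) a₁, t (IsFiltered.rightToMax i₁ i₂) a₂, cl_t _ _, cl_t _ _⟩
    rw [← ha, ← hb] at h ⊢
    obtain ⟨j, f, hf⟩ := eqs i Finset.univ V (fun k => r i (g k) a) (fun k => r i (g k) b) fun k _ => by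
      rw [← cl_r, ← cl_r]; exact h (g k) (hg k)
    rw [← cl_t f a, ← cl_t f b]
    refine congrArg (cl j) ((hK j _ hcov).isSeparatedFor.ext fun W w hw => ?_)
    obtain ⟨W', u₀, v, ⟨k⟩, rfl⟩ := hw
    have e := hf k (Finset.mem_univ k)
    rw [t_r, t_r] at e
    show (K.obj j).obj.map (u₀ ≫ g k).op (t f a) = (K.obj j).obj.map (u₀ ≫ g k).op (t f b)
    rw [op_comp, Functor.map_comp_apply, Functor.map_comp_apply]
    exact congrArg _ e
  rw [isSheaf_iff_isSheaf_of_type]
  intro X S hS x hx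
  obtain ⟨n, V, g, hg, hcov⟩ := hJ X S hS
  choose i₀ a₀ ha₀ using fun k => rep (x (g k) (hg k))
  obtain ⟨i, hi⟩ := IsFiltered.sup_objs_exists (Finset.univ.image i₀)
  let b : ∀ k, (K.obj i).obj.obj (op (V k)) := fun k =>
    t (hi (Finset.mem_image_of_mem i₀ (Finset.mem_univ k))).some (a₀ k)
  have hb : ∀ k, cl i (b k) = x (g k) (hg k) := fun k => (cl_t _ _).trans (ha₀ k)
  obtain ⟨j, f, hf⟩ := eqs i Finset.univ (fun p : Fin n × Fin n => pullback (g p.1) (g p.2))
    (fun p => r i (pullback.fst (g p.1) (g p.2)) (b p.1))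
    (fun p => r i (pullback.snd (g p.1) (g p.2)) (b p.2)) fun p _ => by
      rw [← cl_r, ← cl_r, hb, hb]
      exact hx _ _ (hg p.1) (hg p.2) pullback.condition
  have hcompat : Presieve.Arrows.Compatible (K.obj j).obj g (fun k => t f (b k)) := by
    intro k l W u v w
    have e := congrArg (r j (pullback.lift u v w)) (hf (k, l) (Finset.mem_univ _))
    rw [t_r, t_r] at e
    change (K.obj j).obj.map (pullback.lift u v w).op ((K.obj j).obj.map (pullback.fst (g k) (g l)).op (t f (b k))) =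
      (K.obj j).obj.map (pullback.lift u v w).op ((K.obj j).obj.map (pullback.snd (g k) (g l)).op (t f (b l))) at e
    rw [← Functor.map_comp_apply, ← Functor.map_comp_apply, ← op_comp, ← op_comp, pullback.lift_fst,
      pullback.lift_snd] at e
    exact e
  have hsheaf : Presieve.IsSheafFor (K.obj j).obj (Presieve.ofArrows V g) :=
    (Presieve.isSheafFor_iff_generate _).2 (hK j _ hcov)
  obtain ⟨a, ha, -⟩ := (Presieve.isSheafFor_arrows_iff _ g).1 hsheaf _ hcompat
  refine ⟨cl j a, fun W w hw => ?_, fun y hy => ?_⟩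
  · refine sep (J.pullback_stable w hcov) _ _ fun W' v hv => ?_
    obtain ⟨Z, p, q, ⟨k⟩, hpq⟩ := hv
    rw [← Functor.map_comp_apply, ← op_comp, ← hpq, op_comp, Functor.map_comp_apply, cl_r,
      show r j (g k) a = t f (b k) from ha k, cl_t, hb k]
    exact hx p v (hg k) hw hpq
  · refine sep hcov _ _ fun W w hw => ?_
    obtain ⟨Z, p, q, ⟨k⟩, rfl⟩ := hw
    rw [op_comp, Functor.map_comp_apply, Functor.map_comp_apply, hy (g k) (hg k), cl_r,
      show r j (g k) a = t f (b k) from ha k, cl_t, hb k]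

theorem preservesColimitsOfShape_sheafToPresheaf (hJ : ∀ U : C, ToposFin.IsQCSite J U) :
    PreservesColimitsOfShape I (sheafToPresheaf J (Type u)) where
  preservesColimit {K} := by
    let P := colimit.cocone (K ⋙ sheafToPresheaf J (Type u))
    have hP := isSheaf_filteredColimit hJ K P (colimit.isColimit _)
    let c : Cocone K :=
      { pt := ⟨P.pt, hP⟩
        ι := { app := fun i => ⟨P.ι.app i⟩
               naturality := fun i j f => Sheaf.hom_ext (P.ι.naturality f) } }
    have h : IsColimit ((sheafToPresheaf J (Type u)).mapCocone c) :=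
      (colimit.isColimit _).ofIsoColimit (Cocone.ext (Iso.refl _))
    exact preservesColimit_of_preserves_colimit_cocone (isColimitOfReflects _ h) h

end Groth.Agent.SiteBase
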