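import Mathlib.CategoryTheory.Monoidal.Braided.Basic
import Mathlib.CategoryTheory.Monoidal.NaturalTransformation
import Mathlib.CategoryTheory.Groupoid

/-!
# The free Picard groupoid on a symmetric monoidal groupoid, by generators and relations
-/

set_option autoImplicit false
set_option backward.isDefEq.respectTransparency false
set_option linter.style.haveILetI false
set_option linter.unusedSectionVars false

universe v u v' u'

open CategoryTheory MonoidalCategory Functor.LaxMonoidal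

noncomputable section

namespace Groth.Agent.Picardification

variable (A : Type u)

/-- Objects: words with formal inverses. -/
inductive Ob : Type u
  | of : A → Ob
  | one : Ob
  | ten : Ob → Ob → Ob
  | opp : Ob → Ob

variable [Category.{v} A] [MonoidalCategory A] [SymmetricCategory A]

variable {A} in
/-- Generating morphisms. -/
inductive Hm : Ob A → Ob A → Type (max u v)
  | id (X : Ob A) : Hm X X
  | comp {X Y Z : Ob A} : Hm X Y → Hm Y Z → Hm X Z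
  | wL (X : Ob A) {Y Z : Ob A} : Hm Y Z → Hm (X.ten Y) (X.ten Z)
  | wR {X Y : Ob A} : Hm X Y → (Z : Ob A) → Hm (X.ten Z) (Y.ten Z)
  | aH (X Y Z : Ob A) : Hm ((X.ten Y).ten Z) (X.ten (Y.ten Z))
  | aI (X Y Z : Ob A) : Hm (X.ten (Y.ten Z)) ((X.ten Y).ten Z)
  | lH (X : Ob A) : Hm (Ob.one.ten X) X
  | lI (X : Ob A) : Hm X (Ob.one.ten X)
  | rH (X : Ob A) : Hm (X.ten Ob.one) X
  | rI (X : Ob A) : Hm X (X.ten Ob.one)
  | br (X Y : Ob A) : Hm (X.ten Y) (Y.ten X)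
  | map {a b : A} : (a ⟶ b) → Hm (Ob.of a) (Ob.of b)
  | eH : Hm Ob.one (Ob.of (𝟙_ A))
  | eI : Hm (Ob.of (𝟙_ A)) Ob.one
  | mH (a b : A) : Hm ((Ob.of a).ten (Ob.of b)) (Ob.of (a ⊗ b))
  | mI (a b : A) : Hm (Ob.of (a ⊗ b)) ((Ob.of a).ten (Ob.of b))
  | vH (X : Ob A) : Hm (X.ten X.opp) Ob.one
  | vI (X : Ob A) : Hm Ob.one (X.ten X.opp)

variable {A}

open Hm in
/-- The relations. -/
inductive Rel : ∀ {X Y : Ob A}, Hm X Y → Hm X Y → Prop
  | refl {X Y} (f : Hm X Y) : Rel f f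
  | symm {X Y} {f g : Hm X Y} : Rel f g → Rel g f
  | trans {X Y} {f g h : Hm X Y} : Rel f g → Rel g h → Rel f h
  | compC {X Y Z} {f f' : Hm X Y} {g g' : Hm Y Z} : Rel f f' → Rel g g' → Rel (comp f g) (comp f' g')
  | wLC {X Y Z} {f f' : Hm Y Z} : Rel f f' → Rel (wL X f) (wL X f')
  | wRC {X Y Z} {f f' : Hm X Y} : Rel f f' → Rel (wR f Z) (wR f' Z)
  | idC {X Y} (f : Hm X Y) : Rel (comp (Hm.id X) f) f
  | cId {X Y} (f : Hm X Y) : Rel (comp f (Hm.id Y)) f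
  | assoc {W X Y Z} (f : Hm W X) (g : Hm X Y) (h : Hm Y Z) : Rel (comp (comp f g) h) (comp f (comp g h))
  | wLid (X Y) : Rel (wL X (Hm.id Y)) (Hm.id (X.ten Y))
  | wRid (X Y) : Rel (wR (Hm.id X) Y) (Hm.id (X.ten Y))
  | wLcomp (W) {X Y Z} (f : Hm X Y) (g : Hm Y Z) : Rel (wL W (comp f g)) (comp (wL W f) (wL W g))
  | wRcomp {X Y Z} (f : Hm X Y) (g : Hm Y Z) (W) : Rel (wR (comp f g) W) (comp (wR f W) (wR g W))
  | exch {W X Y Z} (f : Hm Y Z) (g : Hm W X) : Rel (comp (wL W f) (wR g Z)) (comp (wR g Y) (wL X f))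
  | a1 {X X'} (f : Hm X X') (Y Z) : Rel (comp (wR (wR f Y) Z) (aH X' Y Z)) (comp (aH X Y Z) (wR f (Y.ten Z)))
  | a2 (X) {Y Y'} (g : Hm Y Y') (Z) : Rel (comp (wR (wL X g) Z) (aH X Y' Z)) (comp (aH X Y Z) (wL X (wR g Z)))
  | a3 (X Y) {Z Z'} (h : Hm Z Z') : Rel (comp (wL (X.ten Y) h) (aH X Y Z')) (comp (aH X Y Z) (wL X (wL Y h)))
  | lN {X Y} (f : Hm X Y) : Rel (comp (wL Ob.one f) (lH Y)) (comp (lH X) f)
  | rN {X Y} (f : Hm X Y) : Rel (comp (wR f Ob.one) (rH Y)) (comp (rH X) f)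
  | pent (W X Y Z) : Rel (comp (wR (aH W X Y) Z) (comp (aH W (X.ten Y) Z) (wL W (aH X Y Z))))
      (comp (aH (W.ten X) Y Z) (aH W X (Y.ten Z)))
  | tri (X Y) : Rel (comp (aH X Ob.one Y) (wL X (lH Y))) (wR (rH X) Y)
  | aHI (X Y Z) : Rel (comp (aH X Y Z) (aI X Y Z)) (Hm.id _)
  | aIH (X Y Z) : Rel (comp (aI X Y Z) (aH X Y Z)) (Hm.id _)
  | lHI (X) : Rel (comp (lH X) (lI X)) (Hm.id _)
  | lIH (X) : Rel (comp (lI X) (lH X)) (Hm.id _)
  | rHI (X) : Rel (comp (rH X) (rI X)) (Hm.id _)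
  | rIH (X) : Rel (comp (rI X) (rH X)) (Hm.id _)
  | bNR (X) {Y Z} (f : Hm Y Z) : Rel (comp (wL X f) (br X Z)) (comp (br X Y) (wR f X))
  | bNL {X Y} (f : Hm X Y) (Z) : Rel (comp (wR f Z) (br Y Z)) (comp (br X Z) (wL Z f))
  | hex1 (X Y Z) : Rel (comp (aH X Y Z) (comp (br X (Y.ten Z)) (aH Y Z X)))
      (comp (wR (br X Y) Z) (comp (aH Y X Z) (wL Y (br X Z))))
  | hex2 (X Y Z) : Rel (comp (aI X Y Z) (comp (br (X.ten Y) Z) (aI Z X Y)))
      (comp (wL X (br Y Z)) (comp (aI X Z Y) (wR (br X Z) Y)))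
  | bb (X Y) : Rel (comp (br X Y) (br Y X)) (Hm.id _)
  | mapId (a : A) : Rel (Hm.map (𝟙 a)) (Hm.id _)
  | mapComp {a b c : A} (f : a ⟶ b) (g : b ⟶ c) : Rel (Hm.map (f ≫ g)) (comp (Hm.map f) (Hm.map g))
  | eHI : Rel (comp eH eI) (Hm.id _)
  | eIH : Rel (comp eI eH) (Hm.id _)
  | mHI (a b : A) : Rel (comp (mH a b) (mI a b)) (Hm.id _)
  | mIH (a b : A) : Rel (comp (mI a b) (mH a b)) (Hm.id _)
  | mNL {a b : A} (f : a ⟶ b) (c : A) : Rel (comp (wR (Hm.map f) (Ob.of c)) (mH b c))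
      (comp (mH a c) (Hm.map (f ▷ c)))
  | mNR {a b : A} (c : A) (f : a ⟶ b) : Rel (comp (wL (Ob.of c) (Hm.map f)) (mH c b))
      (comp (mH c a) (Hm.map (c ◁ f)))
  | mA (a b c : A) : Rel (comp (wR (mH a b) (Ob.of c)) (comp (mH (a ⊗ b) c) (Hm.map (α_ a b c).hom)))
      (comp (aH (Ob.of a) (Ob.of b) (Ob.of c)) (comp (wL (Ob.of a) (mH b c)) (mH a (b ⊗ c))))
  | mLU (a : A) : Rel (lH (Ob.of a)) (comp (wR eH (Ob.of a)) (comp (mH (𝟙_ A) a) (Hm.map (λ_ a).hom)))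
  | mRU (a : A) : Rel (rH (Ob.of a)) (comp (wL (Ob.of a) eH) (comp (mH a (𝟙_ A)) (Hm.map (ρ_ a).hom)))
  | mB (a b : A) : Rel (comp (mH a b) (Hm.map (β_ a b).hom)) (comp (br (Ob.of a) (Ob.of b)) (mH b a))
  | vHI (X) : Rel (comp (vH X) (vI X)) (Hm.id _)
  | vIH (X) : Rel (comp (vI X) (vH X)) (Hm.id _)

/-- Morphisms up to the relations. -/
def Q (X Y : Ob A) : Type (max u v) := Quot (Rel (X := X) (Y := Y))

/-- The class of a word. -/
abbrev q {X Y : Ob A} (f : Hm X Y) : Q X Y := Quot.mk _ f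

/-- Composition of classes. -/
def qcomp {X Y Z : Ob A} : Q X Y → Q Y Z → Q X Z :=
  Quot.lift₂ (fun f g => q (Hm.comp f g)) (fun f _ _ h => Quot.sound (.compC (.refl f) h))
    (fun _ _ g h => Quot.sound (.compC h (.refl g)))

instance category : Category.{max u v} (Ob A) where
  Hom X Y := Q X Y
  id X := q (Hm.id X)
  comp := qcomp
  id_comp := by rintro X Y ⟨f⟩; exact Quot.sound (.idC f)
  comp_id := by rintro X Y ⟨f⟩; exact Quot.sound (.cId f)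
  assoc := by rintro W X Y Z ⟨f⟩ ⟨g⟩ ⟨h⟩; exact Quot.sound (.assoc f g h)

/-- The class of a word, as a morphism. -/
abbrev qh {X Y : Ob A} (f : Hm X Y) : X ⟶ Y := Quot.mk _ f

lemma q_comp {X Y Z : Ob A} (f : Hm X Y) (g : Hm Y Z) : qh (Hm.comp f g) = qh f ≫ qh g := rfl

/-- Isomorphisms from inverse pairs of words. -/
def qIso {X Y : Ob A} (f : Hm X Y) (g : Hm Y X) (h₁ : Rel (Hm.comp f g) (Hm.id X))
    (h₂ : Rel (Hm.comp g f) (Hm.id Y)) : X ≅ Y where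
  hom := q f
  inv := q g
  hom_inv_id := Quot.sound h₁
  inv_hom_id := Quot.sound h₂

instance monoidalStruct : MonoidalCategoryStruct (Ob A) where
  tensorObj := Ob.ten
  whiskerLeft X _ _ f := Quot.map (Hm.wL X) (fun _ _ h => Rel.wLC h) f
  whiskerRight f Z := Quot.map (fun f => Hm.wR f Z) (fun _ _ h => Rel.wRC h) f
  tensorUnit := Ob.one
  associator X Y Z := qIso (Hm.aH X Y Z) (Hm.aI X Y Z) (.aHI X Y Z) (.aIH X Y Z)
  leftUnitor X := qIso (Hm.lH X) (Hm.lI X) (.lHI X) (.lIH X)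
  rightUnitor X := qIso (Hm.rH X) (Hm.rI X) (.rHI X) (.rIH X)

section Basic

variable {W X Y Z : Ob A}

lemma wL_comp (W : Ob A) (f : X ⟶ Y) (g : Y ⟶ Z) : W ◁ (f ≫ g) = W ◁ f ≫ W ◁ g := by
  induction f using Quot.ind with | mk f =>
  induction g using Quot.ind with | mk g => exact Quot.sound (.wLcomp W f g)

lemma wR_comp (f : X ⟶ Y) (g : Y ⟶ Z) (W : Ob A) : (f ≫ g) ▷ W = f ▷ W ≫ g ▷ W := by
  induction f using Quot.ind with | mk f =>
  induction g using Quot.ind with | mk g => exact Quot.sound (.wRcomp f g W)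

lemma exchange (f : Y ⟶ Z) (g : W ⟶ X) : W ◁ f ≫ g ▷ Z = g ▷ Y ≫ X ◁ f := by
  induction f using Quot.ind with | mk f =>
  induction g using Quot.ind with | mk g => exact Quot.sound (.exch f g)

lemma a1 {X' : Ob A} (f : X ⟶ X') (Y Z : Ob A) :
    f ▷ Y ▷ Z ≫ (α_ X' Y Z).hom = (α_ X Y Z).hom ≫ f ▷ (Y ⊗ Z) := by
  induction f using Quot.ind with | mk f => exact Quot.sound (.a1 f Y Z)

lemma a2 (X : Ob A) {Y' : Ob A} (g : Y ⟶ Y') (Z : Ob A) :
    (X ◁ g) ▷ Z ≫ (α_ X Y' Z).hom = (α_ X Y Z).hom ≫ X ◁ g ▷ Z := by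
  induction g using Quot.ind with | mk g => exact Quot.sound (.a2 X g Z)

lemma a3 (X Y : Ob A) {Z' : Ob A} (h : Z ⟶ Z') :
    (X ⊗ Y) ◁ h ≫ (α_ X Y Z').hom = (α_ X Y Z).hom ≫ X ◁ Y ◁ h := by
  induction h using Quot.ind with | mk h => exact Quot.sound (.a3 X Y h)

end Basic

instance monoidal : MonoidalCategory (Ob A) where
  tensorHom_def _ _ := rfl
  id_tensorHom_id X Y := by
    show q (Hm.comp (Hm.wR (Hm.id X) Y) (Hm.wL X (Hm.id Y))) = q (Hm.id (X.ten Y))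
    exact Quot.sound ((Rel.compC (.wRid X Y) (.wLid X Y)).trans (.idC _))
  tensorHom_comp_tensorHom {X₁ Y₁ Z₁ X₂ Y₂ Z₂} f₁ f₂ g₁ g₂ := by
    show (f₁ ▷ X₂ ≫ Y₁ ◁ f₂) ≫ g₁ ▷ Y₂ ≫ Z₁ ◁ g₂ = (f₁ ≫ g₁) ▷ X₂ ≫ Z₁ ◁ (f₂ ≫ g₂)
    rw [wR_comp, wL_comp, Category.assoc, Category.assoc, ← Category.assoc (Y₁ ◁ f₂), exchange f₂ g₁,
      Category.assoc]
  whiskerLeft_id X Y := Quot.sound (.wLid X Y)
  id_whiskerRight X Y := Quot.sound (.wRid X Y)
  associator_naturality {X₁ X₂ X₃ Y₁ Y₂ Y₃} f₁ f₂ f₃ := by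
    show ((f₁ ▷ X₂ ≫ Y₁ ◁ f₂) ▷ X₃ ≫ (Y₁ ⊗ Y₂) ◁ f₃) ≫ _ =
      _ ≫ f₁ ▷ (X₂ ⊗ X₃) ≫ Y₁ ◁ (f₂ ▷ X₃ ≫ Y₂ ◁ f₃)
    rw [wR_comp, wL_comp, Category.assoc, Category.assoc, a3, ← Category.assoc ((Y₁ ◁ f₂) ▷ X₃), a2,
      Category.assoc, ← Category.assoc (f₁ ▷ X₂ ▷ X₃), a1]
    simp only [Category.assoc]
  leftUnitor_naturality f := by induction f using Quot.ind with | mk f => exact Quot.sound (.lN f)
  rightUnitor_naturality f := by induction f using Quot.ind with | mk f => exact Quot.sound (.rN f)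
  pentagon W X Y Z := Quot.sound (.pent W X Y Z)
  triangle X Y := Quot.sound (.tri X Y)

instance symmetric : SymmetricCategory (Ob A) where
  braiding X Y := qIso (Hm.br X Y) (Hm.br Y X) (.bb X Y) (.bb Y X)
  braiding_naturality_right X _ _ f := by induction f using Quot.ind with | mk f => exact Quot.sound (.bNR X f)
  braiding_naturality_left f Z := by induction f using Quot.ind with | mk f => exact Quot.sound (.bNL f Z)
  hexagon_forward X Y Z := Quot.sound (.hex1 X Y Z)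
  hexagon_reverse X Y Z := Quot.sound (.hex2 X Y Z)
  symmetry X Y := Quot.sound (.bb X Y)

/-- The canonical functor. -/
def incl : A ⥤ Ob A where
  obj := Ob.of
  map f := q (Hm.map f)
  map_id a := Quot.sound (.mapId a)
  map_comp f g := Quot.sound (.mapComp f g)

instance laxBraided : (incl (A := A)).LaxBraided where
  ε := q Hm.eH
  μ a b := q (Hm.mH a b)
  μ_natural_left f c := Quot.sound (.mNL f c)
  μ_natural_right c f := Quot.sound (.mNR c f)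
  associativity a b c := Quot.sound (.mA a b c)
  left_unitality a := Quot.sound (.mLU a)
  right_unitality a := Quot.sound (.mRU a)
  braided a b := Quot.sound (.mB a b)

variable [IsGroupoid A]

lemma isIso_q {X Y : Ob A} (f : Hm X Y) : IsIso (qh f) := by
  induction f with
  | id X => exact inferInstanceAs (IsIso (𝟙 X))
  | comp f g hf hg => exact @IsIso.comp_isIso _ _ _ _ _ _ _ hf hg
  | wL X f hf => exact inferInstanceAs (IsIso (X ◁ qh f))
  | wR f Z hf => exact inferInstanceAs (IsIso (qh f ▷ Z))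
  | aH X Y Z => exact inferInstanceAs (IsIso (α_ X Y Z).hom)
  | aI X Y Z => exact inferInstanceAs (IsIso (α_ X Y Z).inv)
  | lH X => exact inferInstanceAs (IsIso (λ_ X).hom)
  | lI X => exact inferInstanceAs (IsIso (λ_ X).inv)
  | rH X => exact inferInstanceAs (IsIso (ρ_ X).hom)
  | rI X => exact inferInstanceAs (IsIso (ρ_ X).inv)
  | br X Y => exact inferInstanceAs (IsIso (β_ X Y).hom)
  | map f => exact inferInstanceAs (IsIso ((incl (A := A)).map f))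
  | eH => exact (qIso Hm.eH Hm.eI .eHI .eIH).isIso_hom
  | eI => exact (qIso Hm.eH Hm.eI .eHI .eIH).isIso_inv
  | mH a b => exact (qIso (Hm.mH a b) (Hm.mI a b) (.mHI a b) (.mIH a b)).isIso_hom
  | mI a b => exact (qIso (Hm.mH a b) (Hm.mI a b) (.mHI a b) (.mIH a b)).isIso_inv
  | vH X => exact (qIso (Hm.vH X) (Hm.vI X) (.vHI X) (.vIH X)).isIso_hom
  | vI X => exact (qIso (Hm.vH X) (Hm.vI X) (.vHI X) (.vIH X)).isIso_inv

instance isGroupoid : IsGroupoid (Ob A) where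
  all_isIso f := by induction f using Quot.ind with | mk f => exact isIso_q f

/-- An invertible object gives an equivalence. -/
lemma isEquivalence_tensorLeft {C : Type u'} [Category.{v'} C] [MonoidalCategory C] [BraidedCategory C]
    {X Y : C} (e : X ⊗ Y ≅ 𝟙_ C) : (tensorLeft X).IsEquivalence ∧ (tensorRight X).IsEquivalence := by
  have h : (tensorLeft X).IsEquivalence :=
    (CategoryTheory.Equivalence.mk (tensorLeft X) (tensorLeft Y)
      (NatIso.ofComponents (fun Z => (λ_ Z).symm ≪≫ whiskerRightIso (e.symm ≪≫ β_ X Y) Z ≪≫ α_ Y X Z)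
        (fun {Z Z'} f => by
          dsimp [whiskerRightIso]
          simp only [Category.assoc]
          rw [← associator_naturality_right, ← whisker_exchange_assoc, ← leftUnitor_inv_naturality_assoc]))
      (NatIso.ofComponents (fun Z => (α_ X Y Z).symm ≪≫ whiskerRightIso e Z ≪≫ λ_ Z)
        (fun {Z Z'} f => by
          dsimp [whiskerRightIso]
          simp only [Category.assoc]
          rw [associator_inv_naturality_right_assoc, whisker_exchange_assoc, leftUnitor_naturality]))).isEquivalence_functor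
  exact ⟨h, Functor.isEquivalence_of_iso (NatIso.ofComponents (fun Z => β_ X Z)
    (fun f => BraidedCategory.braiding_naturality_right X f) : tensorLeft X ≅ tensorRight X)⟩

/-- All objects are invertible. -/
theorem isEquivalence_tensor (X : Ob A) : (tensorLeft X).IsEquivalence ∧ (tensorRight X).IsEquivalence :=
  isEquivalence_tensorLeft (qIso (Hm.vH X) (Hm.vI X) (.vHI X) (.vIH X) : X ⊗ X.opp ≅ 𝟙_ (Ob A))

section Universal

variable {P : Type u'} [Category.{v'} P] [MonoidalCategory P] [SymmetricCategory P] [IsGroupoid P]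
  (hP : ∀ X : P, (tensorLeft X).IsEquivalence ∧ (tensorRight X).IsEquivalence)

include hP in
lemma exists_inverse (p : P) : ∃ p' : P, Nonempty (p ⊗ p' ≅ 𝟙_ P) := by
  have := (hP p).1
  exact ⟨(tensorLeft p).objPreimage (𝟙_ P), ⟨(tensorLeft p).objObjPreimageIso (𝟙_ P)⟩⟩

/-- A chosen inverse. -/
def cinv (p : P) : P := (exists_inverse hP p).choose

/-- The chosen isomorphism. -/
def cev (p : P) : p ⊗ cinv hP p ≅ 𝟙_ P := (exists_inverse hP p).choose_spec.some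

variable (Φ : A ⥤ P) [Φ.LaxBraided]

/-- Evaluation of objects. -/
def evO : Ob A → P
  | .of a => Φ.obj a
  | .one => 𝟙_ P
  | .ten X Y => evO X ⊗ evO Y
  | .opp X => cinv hP (evO X)

/-- Evaluation of words. -/
def evH : ∀ {X Y : Ob A}, Hm X Y → (evO hP Φ X ⟶ evO hP Φ Y)
  | _, _, .id _ => 𝟙 _
  | _, _, .comp f g => evH f ≫ evH g
  | _, _, .wL X f => evO hP Φ X ◁ evH f
  | _, _, .wR f Z => evH f ▷ evO hP Φ Z
  | _, _, .aH X Y Z => (α_ _ _ _).hom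
  | _, _, .aI X Y Z => (α_ _ _ _).inv
  | _, _, .lH X => (λ_ _).hom
  | _, _, .lI X => (λ_ _).inv
  | _, _, .rH X => (ρ_ _).hom
  | _, _, .rI X => (ρ_ _).inv
  | _, _, .br X Y => (β_ _ _).hom
  | _, _, .map f => Φ.map f
  | _, _, .eH => ε Φ
  | _, _, .eI => CategoryTheory.inv (ε Φ)
  | _, _, .mH a b => μ Φ a b
  | _, _, .mI a b => CategoryTheory.inv (μ Φ a b)
  | _, _, .vH X => (cev hP _).hom
  | _, _, .vI X => (cev hP _).inv

lemma evH_sound {X Y : Ob A} {f g : Hm X Y} (h : Rel f g) : evH hP Φ f = evH hP Φ g := by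
  induction h with
  | refl f => rfl
  | symm _ ih => exact ih.symm
  | trans _ _ ih ih' => exact ih.trans ih'
  | compC _ _ ih ih' => simp only [evH, ih, ih']
  | wLC _ ih => simp only [evH, ih]
  | wRC _ ih => simp only [evH, ih]
  | a3 X Y h => exact associator_naturality_right _ _ _
  | a1 f Y Z => exact associator_naturality_left _ _ _
  | a2 X g Z => exact associator_naturality_middle _ _ _
  | exch f g => exact whisker_exchange _ _
  | pent W X Y Z => exact MonoidalCategory.pentagon _ _ _ _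
  | tri X Y => exact MonoidalCategory.triangle _ _
  | bNR X f => exact BraidedCategory.braiding_naturality_right _ _
  | bNL f Z => exact BraidedCategory.braiding_naturality_left _ _
  | hex1 X Y Z => exact BraidedCategory.hexagon_forward _ _ _
  | hex2 X Y Z => exact BraidedCategory.hexagon_reverse _ _ _
  | bb X Y => exact SymmetricCategory.symmetry _ _
  | mNL f c => exact μ_natural_left Φ f c
  | mNR c f => exact μ_natural_right Φ c f
  | mA a b c => exact associativity Φ a b c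
  | mLU a => exact left_unitality Φ a
  | mRU a => exact right_unitality Φ a
  | mB a b => exact Functor.LaxBraided.braided a b
  | _ => simp [evH, evO]

/-- The extension. -/
def ext : Ob A ⥤ P where
  obj := evO hP Φ
  map f := Quot.lift (evH hP Φ) (fun _ _ h => evH_sound hP Φ h) f
  map_id X := rfl
  map_comp := by rintro X Y Z ⟨f⟩ ⟨g⟩; rfl

instance extLax : (ext hP Φ).LaxBraided where
  ε := 𝟙 _
  μ X Y := 𝟙 _
  μ_natural_left {X Y} f X' := by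
    induction f using Quot.ind with | mk f => exact (Category.comp_id _).trans (Category.id_comp _).symm
  μ_natural_right {X Y} X' f := by
    induction f using Quot.ind with | mk f => exact (Category.comp_id _).trans (Category.id_comp _).symm
  associativity X Y Z := by
    show 𝟙 _ ▷ _ ≫ 𝟙 _ ≫ (α_ _ _ _).hom = _ ≫ _ ◁ 𝟙 _ ≫ 𝟙 _
    simp
  left_unitality X := by
    show (λ_ _).hom = 𝟙 _ ▷ _ ≫ 𝟙 _ ≫ (λ_ _).hom
    simp
  right_unitality X := by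
    show (ρ_ _).hom = _ ◁ 𝟙 _ ≫ 𝟙 _ ≫ (ρ_ _).hom
    simp
  braided X Y := (Category.id_comp _).trans (Category.comp_id _).symm

/-- It extends. -/
def extIso : incl ⋙ ext hP Φ ≅ Φ :=
  NatIso.ofComponents (fun a => Iso.refl _) fun f => (Category.comp_id _).trans (Category.id_comp _).symm

lemma isMonoidal_extIso : NatTrans.IsMonoidal (extIso hP Φ).hom where
  unit := by
    show (𝟙 _ ≫ ε Φ) ≫ 𝟙 _ = ε Φ
    rw [Category.comp_id]
    exact Category.id_comp _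
  tensor X Y := by
    show (𝟙 _ ≫ μ Φ X Y) ≫ 𝟙 _ = ((𝟙 _ : Φ.obj X ⟶ Φ.obj X) ⊗ₘ (𝟙 _ : Φ.obj Y ⟶ Φ.obj Y)) ≫ μ Φ X Y
    rw [Category.comp_id, id_tensorHom_id]

variable (Ψ Ψ' : Ob A ⥤ P) [Ψ.LaxBraided] [Ψ'.LaxBraided] (τ : incl ⋙ Ψ ⟶ incl ⋙ Ψ')

/-- The unit component. -/
def cmpOne : Ψ.obj Ob.one ⟶ Ψ'.obj Ob.one := CategoryTheory.inv (ε Ψ) ≫ ε Ψ'

/-- The components of a transformation. -/
def cmp : ∀ X : Ob A, Ψ.obj X ⟶ Ψ'.obj X
  | .of a => τ.app a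
  | .one => cmpOne Ψ Ψ'
  | .ten X Y => CategoryTheory.inv (μ Ψ X Y) ≫ (cmp X ⊗ₘ cmp Y) ≫ μ Ψ' X Y
  | .opp X =>
    haveI := (hP (Ψ'.obj X)).1
    (tensorLeft (Ψ'.obj X)).preimage (CategoryTheory.inv (cmp X ▷ Ψ.obj X.opp) ≫ μ Ψ X X.opp ≫
      Ψ.map (q (Hm.vH X)) ≫ cmpOne Ψ Ψ' ≫ CategoryTheory.inv (Ψ'.map (q (Hm.vH X))) ≫
        CategoryTheory.inv (μ Ψ' X X.opp))

lemma cmp_tensor (X Y : Ob A) :
    μ Ψ X Y ≫ cmp hP Ψ Ψ' τ (X ⊗ Y) = (cmp hP Ψ Ψ' τ X ⊗ₘ cmp hP Ψ Ψ' τ Y) ≫ μ Ψ' X Y :=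
  IsIso.hom_inv_id_assoc _ _

lemma cmp_unit : ε Ψ ≫ cmp hP Ψ Ψ' τ (𝟙_ (Ob A)) = ε Ψ' := IsIso.hom_inv_id_assoc _ _

/-- Naturality at a morphism. -/
def Nat' {X Y : Ob A} (f : X ⟶ Y) : Prop :=
  Ψ.map f ≫ cmp hP Ψ Ψ' τ Y = cmp hP Ψ Ψ' τ X ≫ Ψ'.map f

variable {Ψ Ψ' τ} in
lemma nat_inv {X Y : Ob A} (e : X ≅ Y) (h : Nat' hP Ψ Ψ' τ e.hom) : Nat' hP Ψ Ψ' τ e.inv := by
  unfold Nat' at h ⊢
  rw [← cancel_epi (Ψ.map e.hom), ← Category.assoc, ← Ψ.map_comp, e.hom_inv_id, Ψ.map_id, Category.id_comp,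
    reassoc_of% h, ← Ψ'.map_comp, e.hom_inv_id, Ψ'.map_id, Category.comp_id]

lemma nat_wL (W : Ob A) {X Y : Ob A} (f : X ⟶ Y) (h : Nat' hP Ψ Ψ' τ f) : Nat' hP Ψ Ψ' τ (W ◁ f) := by
  unfold Nat' at h ⊢
  rw [← cancel_epi (μ Ψ W X), ← μ_natural_right_assoc, cmp_tensor, ← Category.assoc, ← id_tensorHom,
    MonoidalCategory.tensorHom_comp_tensorHom, Category.id_comp, h, reassoc_of% (cmp_tensor hP Ψ Ψ' τ W X),
    ← μ_natural_right, ← id_tensorHom, MonoidalCategory.tensorHom_comp_tensorHom_assoc, Category.comp_id]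

lemma nat_wR {X Y : Ob A} (f : X ⟶ Y) (W : Ob A) (h : Nat' hP Ψ Ψ' τ f) : Nat' hP Ψ Ψ' τ (f ▷ W) := by
  unfold Nat' at h ⊢
  rw [← cancel_epi (μ Ψ X W), ← μ_natural_left_assoc, cmp_tensor, ← Category.assoc, ← tensorHom_id,
    MonoidalCategory.tensorHom_comp_tensorHom, Category.id_comp, h, reassoc_of% (cmp_tensor hP Ψ Ψ' τ X W),
    ← μ_natural_left, ← tensorHom_id, MonoidalCategory.tensorHom_comp_tensorHom_assoc, Category.comp_id]

lemma nat_lH (X : Ob A) : Nat' hP Ψ Ψ' τ (λ_ X).hom := by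
  unfold Nat'
  rw [← cancel_epi (μ Ψ (𝟙_ (Ob A)) X), ← cancel_epi (ε Ψ ▷ Ψ.obj X), reassoc_of% (cmp_tensor hP Ψ Ψ' τ (𝟙_ (Ob A)) X),
    ← left_unitality_assoc, ← tensorHom_id, MonoidalCategory.tensorHom_comp_tensorHom_assoc,
    cmp_unit, Category.id_comp, tensorHom_def', Category.assoc, ← left_unitality, leftUnitor_naturality]

lemma nat_rH (X : Ob A) : Nat' hP Ψ Ψ' τ (ρ_ X).hom := by
  unfold Nat'
  rw [← cancel_epi (μ Ψ X (𝟙_ (Ob A))), ← cancel_epi (Ψ.obj X ◁ ε Ψ), reassoc_of% (cmp_tensor hP Ψ Ψ' τ X (𝟙_ (Ob A))),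
    ← right_unitality_assoc, ← id_tensorHom, MonoidalCategory.tensorHom_comp_tensorHom_assoc,
    cmp_unit, Category.id_comp, tensorHom_def, Category.assoc, ← right_unitality, rightUnitor_naturality]

lemma nat_br (X Y : Ob A) : Nat' hP Ψ Ψ' τ (β_ X Y).hom := by
  unfold Nat'
  rw [← cancel_epi (μ Ψ X Y), Functor.LaxBraided.braided_assoc, cmp_tensor,
    reassoc_of% (cmp_tensor hP Ψ Ψ' τ X Y), Functor.LaxBraided.braided, BraidedCategory.braiding_naturality_assoc]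

lemma nat_aH (X Y Z : Ob A) : Nat' hP Ψ Ψ' τ (α_ X Y Z).hom := by
  unfold Nat'
  rw [← cancel_epi (μ Ψ (X ⊗ Y) Z), ← cancel_epi (μ Ψ X Y ▷ Ψ.obj Z), associativity_assoc, cmp_tensor,
    reassoc_of% (cmp_tensor hP Ψ Ψ' τ (X ⊗ Y) Z), ← id_tensorHom (Ψ.obj X),
    MonoidalCategory.tensorHom_comp_tensorHom_assoc, Category.id_comp, cmp_tensor, ← tensorHom_id,
    MonoidalCategory.tensorHom_comp_tensorHom_assoc, cmp_tensor, Category.id_comp,
    ← Category.comp_id (cmp hP Ψ Ψ' τ X), ← MonoidalCategory.tensorHom_comp_tensorHom,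
    ← Category.comp_id (cmp hP Ψ Ψ' τ Z), ← MonoidalCategory.tensorHom_comp_tensorHom,
    id_tensorHom, tensorHom_id, Category.assoc, Category.assoc, associativity]
  simp only [Category.comp_id]
  rw [MonoidalCategory.associator_naturality_assoc]

lemma nat_vH (X : Ob A) : Nat' hP Ψ Ψ' τ (q (Hm.vH X) : X ⊗ X.opp ⟶ 𝟙_ (Ob A)) := by
  unfold Nat'
  have := (hP (Ψ'.obj X)).1
  have h := (tensorLeft (Ψ'.obj X)).map_preimage (CategoryTheory.inv (cmp hP Ψ Ψ' τ X ▷ Ψ.obj X.opp) ≫ μ Ψ X X.opp ≫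
      Ψ.map (q (Hm.vH X)) ≫ cmpOne Ψ Ψ' ≫ CategoryTheory.inv (Ψ'.map (q (Hm.vH X))) ≫
        CategoryTheory.inv (μ Ψ' X X.opp))
  change Ψ'.obj X ◁ cmp hP Ψ Ψ' τ X.opp = _ at h
  rw [← cancel_epi (μ Ψ X X.opp), reassoc_of% (cmp_tensor hP Ψ Ψ' τ X X.opp), tensorHom_def, Category.assoc, h]
  simp only [Category.assoc, IsIso.inv_hom_id_assoc, IsIso.hom_inv_id_assoc]
  rw [IsIso.inv_hom_id, Category.comp_id]
  rfl

variable (hτ : NatTrans.IsMonoidal τ)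

include hτ in
lemma nat_eH : Nat' hP Ψ Ψ' τ (q Hm.eH : 𝟙_ (Ob A) ⟶ incl.obj (𝟙_ A)) := by
  unfold Nat'
  rw [← cancel_epi (ε Ψ), reassoc_of% (cmp_unit hP Ψ Ψ' τ)]
  exact (Category.assoc _ _ _).symm.trans hτ.unit

include hτ in
lemma nat_mH (a b : A) : Nat' hP Ψ Ψ' τ (q (Hm.mH a b) : incl.obj a ⊗ incl.obj b ⟶ incl.obj (a ⊗ b)) := by
  unfold Nat'
  rw [← cancel_epi (μ Ψ (incl.obj a) (incl.obj b)), reassoc_of% (cmp_tensor hP Ψ Ψ' τ (incl.obj a) (incl.obj b))]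
  exact (Category.assoc _ _ _).symm.trans (hτ.tensor a b)

include hτ in
lemma natural {X Y : Ob A} (f : Hm X Y) : Nat' hP Ψ Ψ' τ (q f : X ⟶ Y) := by
  induction f with
  | id X => show Ψ.map (𝟙 X) ≫ _ = _ ≫ Ψ'.map (𝟙 X); rw [Ψ.map_id, Ψ'.map_id, Category.id_comp, Category.comp_id]
  | comp f g hf hg =>
    show Ψ.map (qh f ≫ qh g) ≫ _ = _ ≫ Ψ'.map (qh f ≫ qh g)
    rw [Ψ.map_comp, Ψ'.map_comp, Category.assoc, show Ψ.map (qh g) ≫ _ = _ from hg, ← Category.assoc,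
      show Ψ.map (qh f) ≫ _ = _ from hf, Category.assoc]
  | wL X f hf => exact nat_wL hP Ψ Ψ' τ X _ hf
  | wR f Z hf => exact nat_wR hP Ψ Ψ' τ _ Z hf
  | aH X Y Z => exact nat_aH hP Ψ Ψ' τ X Y Z
  | aI X Y Z => exact nat_inv hP (α_ X Y Z) (nat_aH hP Ψ Ψ' τ X Y Z)
  | lH X => exact nat_lH hP Ψ Ψ' τ X
  | lI X => exact nat_inv hP (λ_ X) (nat_lH hP Ψ Ψ' τ X)
  | rH X => exact nat_rH hP Ψ Ψ' τ X
  | rI X => exact nat_inv hP (ρ_ X) (nat_rH hP Ψ Ψ' τ X)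
  | br X Y => exact nat_br hP Ψ Ψ' τ X Y
  | map f => exact τ.naturality f
  | eH => exact nat_eH hP Ψ Ψ' τ hτ
  | eI => exact nat_inv hP (qIso Hm.eH Hm.eI .eHI .eIH) (nat_eH hP Ψ Ψ' τ hτ)
  | mH a b => exact nat_mH hP Ψ Ψ' τ hτ a b
  | mI a b => exact nat_inv hP (qIso (Hm.mH a b) (Hm.mI a b) (.mHI a b) (.mIH a b)) (nat_mH hP Ψ Ψ' τ hτ a b)
  | vH X => exact nat_vH hP Ψ Ψ' τ X
  | vI X => exact nat_inv hP (qIso (Hm.vH X) (Hm.vI X) (.vHI X) (.vIH X)) (nat_vH hP Ψ Ψ' τ X)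

include hP hτ in
theorem existsUnique_lift :
    ∃! θ : Ψ ⟶ Ψ', NatTrans.IsMonoidal θ ∧ Functor.whiskerLeft incl θ = τ := by
  let θ : Ψ ⟶ Ψ' :=
    { app := cmp hP Ψ Ψ' τ
      naturality := fun X Y f => by induction f using Quot.ind with | mk f => exact natural hP Ψ Ψ' τ hτ f }
  refine ⟨θ, ⟨⟨cmp_unit hP Ψ Ψ' τ, cmp_tensor hP Ψ Ψ' τ⟩, rfl⟩, fun θ' hθ' => ?_⟩
  obtain ⟨hm, hw⟩ := hθ'
  ext X
  show θ'.app X = cmp hP Ψ Ψ' τ X
  induction X with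
  | of a => exact congrArg (fun t : incl ⋙ Ψ ⟶ incl ⋙ Ψ' => t.app a) hw
  | one => exact (cancel_epi (ε Ψ)).1 (hm.unit.trans (cmp_unit hP Ψ Ψ' τ).symm)
  | ten X Y ihX ihY =>
    refine (cancel_epi (μ Ψ X Y)).1 ((hm.tensor X Y).trans ?_)
    rw [ihX, ihY]
    exact (cmp_tensor hP Ψ Ψ' τ X Y).symm
  | opp X ih =>
    have := (hP (Ψ'.obj X)).1
    refine (tensorLeft (Ψ'.obj X)).map_injective ?_
    show Ψ'.obj X ◁ θ'.app X.opp = Ψ'.obj X ◁ cmp hP Ψ Ψ' τ X.opp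
    have h1 := (θ'.naturality (q (Hm.vH X) : X ⊗ X.opp ⟶ 𝟙_ (Ob A)))
    have h2 := nat_vH hP Ψ Ψ' τ X
    unfold Nat' at h2
    rw [show θ'.app (𝟙_ (Ob A)) = cmp hP Ψ Ψ' τ (𝟙_ (Ob A)) from
      (cancel_epi (ε Ψ)).1 (hm.unit.trans (cmp_unit hP Ψ Ψ' τ).symm), h2] at h1
    have h3 := congrArg (μ Ψ X X.opp ≫ ·) ((cancel_mono _).1 h1)
    rw [hm.tensor, cmp_tensor, cancel_mono, ih, tensorHom_def, tensorHom_def, cancel_epi] at h3
    exact h3.symm

end Universal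

end Groth.Agent.Picardification
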