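import Groth.Agent.SiteBase.EdgeZero

/-!
# Existence and uniqueness of the edge maps
-/

universe u

open CategoryTheory CategoryTheory.Limits Opposite CechEdge

namespace Groth.Agent.SiteBase.Edge

variable {C : Type u} [SmallCategory C] [HasPullbacks C] {J : GrothendieckTopology C} {U : C} {ι : Type u}
  (Y : ι → Over U)

/-- The edge maps exist. -/
theorem exists_isEdge (hY : Sieve.ofArrows (fun i => (Y i).left) (fun i => (Y i).hom) ∈ J U) :
    ∃ e : ∀ (P : Cᵒᵖ ⥤ AddCommGrpCat.{u}) (p : ℕ), CohCx.cechH P Y p →+ CohSite.HU (shf J P) p U,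
      IsEdge J Y e := by
  have := enoughInjectives_presheaf (C := C)
  obtain ⟨η, h0, hη⟩ := ConnSeq.exists_hom (effaced_cechSeq Y) (edge0 Y hY : _ ⟶ (cohSeq J U).F 0)
  refine ⟨fun P p => ((η p).app P).hom, hY, fun P s => ?_, fun P Q φ p x => ?_, fun S hS hC p x => ?_⟩
  · show ((η 0).app P).hom _ = _
    rw [h0]
    exact edge0Hom_toCech Y hY P s
  · exact ConcreteCategory.congr_hom ((η p).naturality φ) x
  · exact ConcreteCategory.congr_hom (hη S hS p) x

variable {Y}
variable {e : ∀ (P : Cᵒᵖ ⥤ AddCommGrpCat.{u}) (p : ℕ), CohCx.cechH P Y p →+ CohSite.HU (shf J P) p U}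

/-- The natural transformations attached to a family of edge maps. -/
noncomputable def edgeNat (he : IsEdge J Y e) (p : ℕ) : (cechSeq Y).F p ⟶ (cohSeq J U).F p where
  app P := AddCommGrpCat.ofHom (e P p)
  naturality P Q φ := AddCommGrpCat.hom_ext <| AddMonoidHom.ext fun x => he.natural P Q φ p x

lemma edgeNat_δ (he : IsEdge J Y e) (S : ShortComplex (Cᵒᵖ ⥤ AddCommGrpCat.{u})) (hS : S.ShortExact) (p : ℕ) :
    (cechSeq Y).δ hS p ≫ (edgeNat he (p + 1)).app S.X₁ = (edgeNat he p).app S.X₃ ≫ (cohSeq J U).δ hS p :=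
  AddCommGrpCat.hom_ext <| AddMonoidHom.ext fun x => he.delta S hS (cx_shortExact Y hS) p x

lemma isIso_shfMap_toSheafify (P : Cᵒᵖ ⥤ AddCommGrpCat.{u}) : IsIso (shfMap J (toSheafify J P)) := by
  have h1 := (sheafificationAdjunction J AddCommGrpCat.{u}).left_triangle_components P
  exact IsIso.of_isIso_fac_right h1

/-- In degree zero any family of edge maps is the standard one. -/
lemma edge_zero_eq (he : IsEdge J Y e) (P : Cᵒᵖ ⥤ AddCommGrpCat.{u}) (x : CohCx.cechH P Y 0) :
    e P 0 x = edge0Hom Y he.cover P x := by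
  obtain ⟨t, ht⟩ := exists_edge0_section Y he.cover P x
  have := isIso_shfMap_toSheafify (J := J) P
  have hinj : Function.Injective (HUmap (shfMap J (toSheafify J P)) 0 U) :=
    ((forget AddCommGrpCat.{u}).mapIso ((((Sheaf.cohomologyPresheafFunctor J 0) ⋙
      (evaluation Cᵒᵖ AddCommGrpCat.{u}).obj (op U)).mapIso (asIso (shfMap J (toSheafify J P)))))).toEquiv.injective
  refine hinj ?_
  rw [← he.natural P (shf J P).obj (toSheafify J P) 0 x, ← ht, he.zero,
    ← edge0Hom_natural Y he.cover (toSheafify J P) x, ← ht, edge0Hom_toCech]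

theorem edge_unique (he : IsEdge J Y e)
    {e' : ∀ (P : Cᵒᵖ ⥤ AddCommGrpCat.{u}) (p : ℕ), CohCx.cechH P Y p →+ CohSite.HU (shf J P) p U}
    (he' : IsEdge J Y e') : e = e' := by
  have := enoughInjectives_presheaf (C := C)
  have h := ConnSeq.hom_unique (effaced_cechSeq Y) (edgeNat he) (edgeNat he') (edgeNat_δ he) (edgeNat_δ he') (by
    ext P : 2
    exact AddCommGrpCat.hom_ext <| AddMonoidHom.ext fun x =>
      (edge_zero_eq he P x).trans (edge_zero_eq he' P x).symm)
  funext P p
  exact congrArg (fun t => AddCommGrpCat.Hom.hom (t.app P)) (h p)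

end Groth.Agent.SiteBase.Edge
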