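import Groth.Agent.SiteBase.EdgeZero

/-!
# Sheaves are presheaves with bijective augmentations to Cech cohomology
-/

universe u

open CategoryTheory CategoryTheory.Limits Opposite CechEdge

namespace Groth.Agent.SiteBase.Edge

variable {C : Type u} [SmallCategory C] [HasPullbacks C] {U : C} {ι : Type u} (Y : ι → Over U)
  (P : Cᵒᵖ ⥤ AddCommGrpCat.{u})

lemma comp0_toCech₀ (s : P.obj (op U)) (i : ι) :
    comp0 Y ((Over.forget U).op ⋙ P) ((toCech₀ P Y).hom s) i = (P.map (Y i).hom.op).hom s := by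
  refine (congrArg (fun z => (((Over.forget U).op ⋙ P).map (Pi.lift (fun _ : Fin 1 => 𝟙 (Y i))).op).hom z)
    (ConcreteCategory.congr_hom (Pi.lift_π (fun i : Fin 1 → ι => P.map (∏ᶜ (Y ∘ i)).hom.op) (fun _ => i)) s)).trans ?_
  refine (map_op_comp_apply P (Pi.lift (fun _ : Fin 1 => 𝟙 (Y i))).left (∏ᶜ (Y ∘ fun _ : Fin 1 => i)).hom s).symm.trans ?_
  exact congrArg (fun t => (P.map (Quiver.Hom.op t)).hom s) (Over.w (Pi.lift (fun _ : Fin 1 => 𝟙 (Y i))))

lemma isSheafFor_of_bijective (h : Function.Bijective (toCech Y P)) :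
    Presieve.IsSheafFor (P ⋙ CategoryTheory.forget AddCommGrpCat.{u})
      (Presieve.ofArrows (fun i => (Y i).left) fun i => (Y i).hom) := by
  let K := cx P Y
  have hiso : IsIso (K.homologyπ 0) := K.isIso_homologyπ _ 0 rfl (by simp)
  have hπ : Function.Bijective (K.homologyπ 0).hom := ConcreteCategory.bijective_of_isIso _
  have hcyc : Function.Bijective (toCycles P Y) := by
    have : toCech Y P = ((K.homologyπ 0).hom : _ →+ _).comp (toCycles P Y).hom := rfl
    exact (Function.Bijective.of_comp_iff' hπ _).1 (by rw [this] at h; exact h)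
  have hi : Function.Injective (K.iCycles 0).hom :=
    (AddCommGrpCat.mono_iff_injective (K.iCycles 0)).1 inferInstance
  have hti : ∀ s, (K.iCycles 0).hom ((toCycles P Y).hom s) = (toCech₀ P Y).hom s := fun s =>
    ConcreteCategory.congr_hom (toCycles_i P Y) s
  rw [Presieve.isSheafFor_arrows_iff]
  intro t ht
  obtain ⟨x, hx⟩ := exists_comp0 Y ((Over.forget U).op ⋙ P) t
  have hd : (K.d 0 1).hom x = 0 := (d_zero_eq_zero_iff Y _ x).2 fun i => by
    rw [hx]
    exact ht (i 0) (i 1) _ (Pi.π (fun k => Y (i k)) 0).left (Pi.π (fun k => Y (i k)) 1).left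
      ((Over.w _).trans (Over.w _).symm)
  let one : (AddCommGrpCat.of (ULift.{u} ℤ)) := ULift.up 1
  let k : AddCommGrpCat.of (ULift.{u} ℤ) ⟶ K.X 0 :=
    AddCommGrpCat.ofHom ((zmultiplesHom _ x).comp AddEquiv.ulift.toAddMonoidHom)
  have hk : k ≫ K.d 0 1 = 0 := by
    ext n
    show (K.d 0 1).hom (n.down • x) = 0
    rw [map_zsmul, hd, smul_zero]
  have hz : (K.iCycles 0).hom ((K.liftCycles k 1 (by simp) hk).hom one) = x :=
    (ConcreteCategory.congr_hom (K.liftCycles_i k 1 (by simp) hk) one).trans (one_zsmul x)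
  obtain ⟨s, hs⟩ := hcyc.2 ((K.liftCycles k 1 (by simp) hk).hom one)
  have hs0 : (toCech₀ P Y).hom s = x := (hti s).symm.trans ((congrArg (K.iCycles 0).hom hs).trans hz)
  refine ⟨s, fun i => ?_, fun s' hs' => ?_⟩
  · exact (comp0_toCech₀ Y P s i).symm.trans ((congrArg (fun z => comp0 Y _ z i) hs0).trans (congrFun hx i))
  · refine hcyc.1 (hi (((hti s').trans ?_).trans (hti s).symm))
    refine (comp0_ext Y ((Over.forget U).op ⋙ P) (funext fun i => ?_)).trans hs0.symm
    exact (comp0_toCech₀ Y P s' i).trans ((hs' i).trans (congrFun hx i).symm)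

theorem isSheaf_iff_toCech_bijective (J : GrothendieckTopology C) :
    Presheaf.IsSheaf J P ↔ ∀ (U : C) (ι : Type u) (Y : ι → Over U),
      Sieve.ofArrows (fun i => (Y i).left) (fun i => (Y i).hom) ∈ J U → Function.Bijective (toCech Y P) := by
  refine ⟨fun h U ι Y hY => toCech_bijective Y ⟨P, h⟩ hY, fun h => ?_⟩
  rw [Presheaf.isSheaf_iff_isSheaf_forget J P (CategoryTheory.forget AddCommGrpCat.{u}), isSheaf_iff_isSheaf_of_type]
  intro V R hR
  let Y : (Σ W : C, {g : W ⟶ V // R g}) → Over V := fun p => Over.mk p.2.1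
  have hgen : Sieve.ofArrows (fun i => (Y i).left) (fun i => (Y i).hom) = R := le_antisymm
    ((Sieve.generate_le_iff _ _).2 fun W g hg => by obtain ⟨p⟩ := hg; exact p.2.2)
    fun W g hg => Sieve.ofArrows_mk _ _ (⟨W, g, hg⟩ : Σ W : C, {g : W ⟶ V // R g})
  have := isSheafFor_of_bijective Y P (h V _ Y (hgen.symm ▸ hR))
  rw [Presieve.isSheafFor_iff_generate] at this
  exact hgen ▸ this

end Groth.Agent.SiteBase.Edge
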