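import Groth.Agent.SiteBase.Edge

/-!
# Bijectivity of edge maps for acyclic families, injectivity in degree one
-/

universe u

open CategoryTheory CategoryTheory.Limits Opposite CechEdge Abelian

namespace Groth.Agent.SiteBase.Edge

variable {C : Type u} [SmallCategory C] {J : GrothendieckTopology C}

/-- The presheaf quotient sequence of a short exact sequence of sheaves. -/
noncomputable abbrev quotSES (E : ShortComplex (Sheaf J AddCommGrpCat.{u})) :
    ShortComplex (Cᵒᵖ ⥤ AddCommGrpCat.{u}) :=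
  ShortComplex.mk E.f.hom (cokernel.π E.f.hom) (cokernel.condition _)

/-- The comparison of the presheaf quotient with the quotient sheaf. -/
noncomputable def quotTo (E : ShortComplex (Sheaf J AddCommGrpCat.{u})) : (quotSES E).X₃ ⟶ E.X₃.obj :=
  cokernel.desc E.f.hom E.g.hom (congrArg (fun t : E.X₁ ⟶ E.X₃ => t.hom) E.zero)

lemma π_quotTo (E : ShortComplex (Sheaf J AddCommGrpCat.{u})) : cokernel.π E.f.hom ≫ quotTo E = E.g.hom :=
  cokernel.π_desc _ _ _

variable {E : ShortComplex (Sheaf J AddCommGrpCat.{u})}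

lemma quotSES_shortExact (hE : E.ShortExact) : (quotSES E).ShortExact := by
  have : Mono E.f := hE.mono_f
  have : Mono E.f.hom := (sheafToPresheaf J AddCommGrpCat.{u}).map_mono E.f
  exact ShortComplex.ShortExact.mk' (ShortComplex.exact_of_g_is_cokernel _ (cokernelIsCokernel _))
    this inferInstance

lemma quotTo_injective (hE : E.ShortExact) (W : C) : Function.Injective ((quotTo E).app (op W)) := by
  have hsurj : Function.Surjective ((cokernel.π E.f.hom).app (op W)) :=
    (AddCommGrpCat.epi_iff_surjective _).1 inferInstance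
  have hπ : ∀ a, (quotTo E).app (op W) ((cokernel.π E.f.hom).app (op W) a) = E.g.hom.app (op W) a := fun a =>
    ConcreteCategory.congr_hom (NatTrans.congr_app (π_quotTo E) (op W)) a
  refine (injective_iff_map_eq_zero _).2 fun z hz => ?_
  obtain ⟨a, rfl⟩ := hsurj z
  obtain ⟨b, rfl⟩ := sections_exact hE W a ((hπ a).symm.trans hz)
  exact ConcreteCategory.congr_hom (NatTrans.congr_app (cokernel.condition E.f.hom) (op W)) b

lemma quotTo_surjective (W : C) (h : Function.Surjective (E.g.hom.app (op W))) :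
    Function.Surjective ((quotTo E).app (op W)) := fun z => by
  obtain ⟨a, rfl⟩ := h z
  exact ⟨(cokernel.π E.f.hom).app (op W) a,
    ConcreteCategory.congr_hom (NatTrans.congr_app (π_quotTo E) (op W)) a⟩

variable [HasPullbacks C] {U : C} {ι : Type u} {Y : ι → Over U}

lemma quotTo_cech_zero_injective (hE : E.ShortExact) : Function.Injective (cechHMap Y (quotTo E) 0) := by
  let φ : cx (quotSES E).X₃ Y ⟶ cx E.X₃.obj Y := (cxFunctor Y).map (quotTo E)
  have h0 : Function.Injective (φ.f 0) := fun a b hab => cev_ext Y _ fun i => quotTo_injective hE _ (by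
    have := congrArg (cev Y _ 0 i) hab
    exact ((cev_map Y _ (Functor.whiskerLeft (Over.forget U).op (quotTo E)) 0 i a).symm.trans this).trans
      (cev_map Y _ (Functor.whiskerLeft (Over.forget U).op (quotTo E)) 0 i b))
  have : Mono (φ.f 0) := (AddCommGrpCat.mono_iff_injective _).2 h0
  have : Mono (HomologicalComplex.cyclesMap φ 0) := by
    have e := HomologicalComplex.cyclesMap_i φ 0
    have : Mono (HomologicalComplex.cyclesMap φ 0 ≫ (cx E.X₃.obj Y).iCycles 0) := by rw [e]; infer_instance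
    exact mono_of_mono (HomologicalComplex.cyclesMap φ 0) ((cx E.X₃.obj Y).iCycles 0)
  have h1 : IsIso ((cx (quotSES E).X₃ Y).homologyπ 0) := (cx (quotSES E).X₃ Y).isIso_homologyπ _ 0 rfl (by simp)
  have h2 : IsIso ((cx E.X₃.obj Y).homologyπ 0) := (cx E.X₃.obj Y).isIso_homologyπ _ 0 rfl (by simp)
  have : Mono (HomologicalComplex.homologyMap φ 0) := by
    have e := HomologicalComplex.homologyπ_naturality φ 0
    rw [show HomologicalComplex.homologyMap φ 0 = inv ((cx (quotSES E).X₃ Y).homologyπ 0) ≫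
      HomologicalComplex.cyclesMap φ 0 ≫ (cx E.X₃.obj Y).homologyπ 0 from ((IsIso.eq_inv_comp _).2 e)]
    infer_instance
  exact (AddCommGrpCat.mono_iff_injective _).1 this

lemma quotTo_cech_bijective (hE : E.ShortExact)
    (hs : ∀ (n : ℕ) (i : Fin (n + 1) → ι), Function.Surjective (E.g.hom.app (op (∏ᶜ fun k => Y (i k)).left)))
    (p : ℕ) : Function.Bijective (cechHMap Y (quotTo E) p) := by
  let φ : cx (quotSES E).X₃ Y ⟶ cx E.X₃.obj Y := (cxFunctor Y).map (quotTo E)
  have hb : ∀ n, IsIso (φ.f n) := fun n => (ConcreteCategory.isIso_iff_bijective _).2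
    ⟨fun a b hab => cev_ext Y _ fun i => quotTo_injective hE _
      (((cev_map Y _ (Functor.whiskerLeft (Over.forget U).op (quotTo E)) n i a).symm.trans
        (congrArg (cev Y _ n i) hab)).trans
          (cev_map Y _ (Functor.whiskerLeft (Over.forget U).op (quotTo E)) n i b)),
    fun z => by
      choose t ht using fun i : Fin (n + 1) → ι =>
        quotTo_surjective _ (hs n i) (cev Y ((Over.forget U).op ⋙ E.X₃.obj) n i z)
      obtain ⟨x, hx⟩ := exists_cev Y ((Over.forget U).op ⋙ (quotSES E).X₃) t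
      exact ⟨x, cev_ext Y _ fun i => (cev_map Y _ _ n i x).trans ((congrArg _ (hx i)).trans (ht i))⟩⟩
  have : IsIso φ := HomologicalComplex.Hom.isIso_of_components φ
  have : IsIso (HomologicalComplex.homologyMap φ p) :=
    inferInstanceAs (IsIso ((HomologicalComplex.homologyFunctor _ _ p).map φ))
  exact ConcreteCategory.bijective_of_isIso (HomologicalComplex.homologyMap φ p)

variable {e : ∀ (P : Cᵒᵖ ⥤ AddCommGrpCat.{u}) (p : ℕ), CohCx.cechH P Y p →+ CohSite.HU (shf J P) p U}

lemma edgeSh_toCech (he : IsEdge J Y e) (F : Sheaf J AddCommGrpCat.{u}) (s : F.obj.obj (op U)) :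
    edgeSh e F 0 (toCech Y F.obj s) = sectH0 J U F s := by
  show HUmap ((sheafificationAdjunction J AddCommGrpCat.{u}).counit.app F) 0 U (e F.obj 0 (toCech Y F.obj s)) = _
  refine (congrArg (HUmap ((sheafificationAdjunction J AddCommGrpCat.{u}).counit.app F) 0 U) (he.zero F.obj s)).trans
    ((sectH0_natural ((sheafificationAdjunction J AddCommGrpCat.{u}).counit.app F) U _).trans ?_)
  refine congrArg (sectH0 J U F) ?_
  exact ConcreteCategory.congr_hom (NatTrans.congr_app
    ((sheafificationAdjunction J AddCommGrpCat.{u}).right_triangle_components F) (op U)) s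

lemma edgeSh_zero_bijective (he : IsEdge J Y e) (F : Sheaf J AddCommGrpCat.{u}) :
    Function.Bijective (edgeSh e F 0) :=
  (Function.Bijective.of_comp_iff _ (toCech_bijective Y F he.cover)).1
    ((funext (edgeSh_toCech he F) : edgeSh e F 0 ∘ toCech Y F.obj = sectH0 J U F) ▸ (sectH0 J U F).bijective)

lemma edgeSh_δ (he : IsEdge J Y e) (hE : E.ShortExact) (p : ℕ)
    (x : CohCx.cechH (quotSES E).X₃ Y p) :
    edgeSh e E.X₁ (p + 1) ((cx_shortExact Y (quotSES_shortExact hE)).δ p (p + 1) rfl x) =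
      extδ hE U p (edgeSh e E.X₃ p (cechHMap Y (quotTo E) p x)) := by
  let L := presheafToSheaf J AddCommGrpCat.{u}
  let ε := (sheafificationAdjunction J AddCommGrpCat.{u}).counit
  let ψ : (quotSES E).map L ⟶ E :=
    { τ₁ := ε.app E.X₁, τ₂ := ε.app E.X₂, τ₃ := L.map (quotTo E) ≫ ε.app E.X₃
      comm₁₂ := (ε.naturality E.f).symm
      comm₂₃ := by
        refine (ε.naturality E.g).symm.trans ?_
        refine Eq.trans ?_ (Category.assoc _ _ _)
        exact congrArg (fun t => t ≫ ε.app E.X₃) ((congrArg L.map (π_quotTo E).symm).trans (L.map_comp _ _)) }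
  show HUmap (ε.app E.X₁) (p + 1) U (e E.X₁.obj (p + 1) _) =
    extδ hE U p (HUmap (ε.app E.X₃) p U (e E.X₃.obj p (cechHMap Y (quotTo E) p x)))
  rw [he.delta (quotSES E) (quotSES_shortExact hE) (cx_shortExact Y (quotSES_shortExact hE)) p x,
    he.natural _ _ (quotTo E) p x]
  refine (postcomp_extClass_natural (CohCx.freeSheaf J U) ((quotSES_shortExact hE).map_of_exact L) hE ψ p
    (e (quotSES E).X₃ p x)).trans ?_
  refine congrArg (fun t : Abelian.Ext (CohCx.freeSheaf J U) E.X₃ p => t.comp hE.extClass rfl) ?_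
  exact ((congrArg (fun t => Ext.comp (show Ext (CohCx.freeSheaf J U) (L.obj (quotSES E).X₃) p from e (quotSES E).X₃ p x) t (add_zero p))
    (Ext.mk₀_comp_mk₀ (L.map (quotTo E)) (ε.app E.X₃))).symm).trans (Ext.comp_assoc_of_third_deg_zero _ _ _ _).symm

theorem edgeSh_one_injective (he : IsEdge J Y e) (F : Sheaf J AddCommGrpCat.{u}) :
    Function.Injective (edgeSh e F 1) := by
  suffices H : ∀ E : ShortComplex (Sheaf J AddCommGrpCat.{u}), E.ShortExact → Injective E.X₂ →
      Function.Injective (edgeSh e E.X₁ 1) by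
    obtain ⟨E, hE, hI, rfl⟩ : ∃ E : ShortComplex (Sheaf J AddCommGrpCat.{u}),
        E.ShortExact ∧ Injective E.X₂ ∧ E.X₁ = F :=
      ⟨injectiveSES F, injectiveSES_shortExact F, inferInstance, injectiveSES_X₁ F⟩
    exact H E hE hI
  intro E hE hI
  have hS := quotSES_shortExact hE
  refine (injective_iff_map_eq_zero _).2 fun z hz => ?_
  obtain ⟨x, rfl⟩ := (effaced_cechSeq Y hS (injective_obj E.X₂) 0).1 z
  have h0 : extδ hE U 0 (edgeSh e E.X₃ 0 (cechHMap Y (quotTo E) 0 x)) = 0 := (edgeSh_δ he hE 0 x).symm.trans hz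
  obtain ⟨y, hy⟩ := Ext.covariant_sequence_exact₃ (CohCx.freeSheaf J U) hE _ rfl h0
  obtain ⟨t, rfl⟩ := (sectH0 J U E.X₂).surjective y
  have e1 : cechHMap Y (quotTo E) 0 x = toCech Y E.X₃.obj (E.g.hom.app (op U) t) :=
    (edgeSh_zero_bijective he E.X₃).1 (hy.symm.trans ((sectH0_natural E.g U t).trans
      (edgeSh_toCech he E.X₃ _).symm))
  have e2 : x = cechHMap Y (cokernel.π E.f.hom) 0 (toCech Y E.X₂.obj t) := by
    refine quotTo_cech_zero_injective hE (e1.trans ?_)
    rw [toCech_natural, toCech_natural]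
    exact congrArg (toCech Y E.X₃.obj) (ConcreteCategory.congr_hom (NatTrans.congr_app (π_quotTo E) (op U)) t).symm
  rw [e2]
  exact ConcreteCategory.congr_hom ((cx_shortExact Y hS).comp_δ 0 1 rfl) _

theorem edgeSh_bijective (he : IsEdge J Y e) (F : Sheaf J AddCommGrpCat.{u})
    (h : ∀ (p : ℕ) (a : Fin (p + 1) → ι) (q : ℕ),
      Subsingleton (CohSite.HU F (q + 1) (∏ᶜ fun k => Y (a k)).left))
    (p : ℕ) : Function.Bijective (edgeSh e F p) := by
  induction p generalizing F with
  | zero => exact edgeSh_zero_bijective he F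
  | succ p ih =>
    suffices H : ∀ E : ShortComplex (Sheaf J AddCommGrpCat.{u}), E.ShortExact → Injective E.X₂ →
        (∀ (p : ℕ) (a : Fin (p + 1) → ι) (q : ℕ),
          Subsingleton (EH E.X₁ (q + 1) (∏ᶜ fun k => Y (a k)).left)) →
        Function.Bijective (edgeSh e E.X₁ (p + 1)) by
      obtain ⟨E, hE, hI, rfl⟩ : ∃ E : ShortComplex (Sheaf J AddCommGrpCat.{u}),
          E.ShortExact ∧ Injective E.X₂ ∧ E.X₁ = F :=
        ⟨injectiveSES F, injectiveSES_shortExact F, inferInstance, injectiveSES_X₁ F⟩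
      exact H E hE hI fun n a q => (subsingleton_HU_iff _ _ _).1 (h n a q)
    intro E hE hI hF
    have hS := quotSES_shortExact hE
    have hG : Function.Bijective (edgeSh e E.X₃ p) := ih E.X₃ fun n a q => (subsingleton_HU_iff _ _ _).2
      (subsingleton_EH_X₃ hE _ (q + 1) (hF n a (q + 1)) (subsingleton_EH_of_injective E.X₂ _ q))
    have hJ := quotTo_cech_bijective (Y := Y) hE (fun n i => sections_surjective_of_EH_one hE _ (hF n i 0)) p
    obtain ⟨hsurj, hker⟩ := effaced_cechSeq Y hS (injective_obj E.X₂) p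
    refine ⟨(injective_iff_map_eq_zero _).2 fun z hz => ?_, fun w => ?_⟩
    · obtain ⟨x, rfl⟩ := hsurj z
      cases p with
      | zero => exact (injective_iff_map_eq_zero (edgeSh e E.X₁ 1)).1 (edgeSh_one_injective he E.X₁) _ hz
      | succ p =>
        have h0 : extδ hE U (p + 1) (edgeSh e E.X₃ (p + 1) (cechHMap Y (quotTo E) (p + 1) x)) = 0 :=
          (edgeSh_δ he hE (p + 1) x).symm.trans hz
        have := (injective_iff_map_eq_zero _).1 (conn_bijective hE U p).1 _ h0
        rw [show x = 0 from (injective_iff_map_eq_zero _).1 hJ.1 _ ((injective_iff_map_eq_zero _).1 hG.1 _ this)]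
        exact map_zero _
    · obtain ⟨y, hy⟩ := Ext.covariant_sequence_exact₁ (CohCx.freeSheaf J U) hE w
        ((subsingleton_EH_of_injective E.X₂ U p).elim _ _) (n₀ := p) rfl
      obtain ⟨y', rfl⟩ := hG.2 y
      obtain ⟨x, rfl⟩ := hJ.2 y'
      exact ⟨_, (edgeSh_δ he hE p x).trans hy⟩

end Groth.Agent.SiteBase.Edge
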