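import Groth.Agent.SiteBase.Edge

/-!
# Edge maps and refinements
-/

universe u

open CategoryTheory CategoryTheory.Limits Opposite CechEdge

namespace Groth.Agent.SiteBase.Edge

variable {C : Type u} [SmallCategory C] [HasPullbacks C] {U : C} {ι κ : Type u} {Y : ι → Over U}
  {Y' : κ → Over U} (f : FormalCoproduct.mk ι Y ⟶ FormalCoproduct.mk κ Y')

/-- The map of Cech complexes of a refinement, natural in the presheaf. -/
noncomputable def refineNat : cxFunctor Y' ⟶ cxFunctor Y :=
  Functor.whiskerLeft ((Functor.whiskeringLeft (Over U)ᵒᵖ Cᵒᵖ AddCommGrpCat.{u}).obj (Over.forget U).op)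
    (Functor.whiskerRight
      (Functor.whiskerLeft (FormalCoproduct.evalOp.{u} (Over U) AddCommGrpCat.{u})
        ((Functor.whiskeringLeft _ _ _).map (NatTrans.rightOp (FormalCoproduct.cechFunctor.map f))))
      (AlgebraicTopology.alternatingCofaceMapComplex AddCommGrpCat.{u}))

lemma refineNat_app (P : Cᵒᵖ ⥤ AddCommGrpCat.{u}) : (refineNat f).app P = CohCx.cechRefine P f := rfl

lemma toCech₀_refine (P : Cᵒᵖ ⥤ AddCommGrpCat.{u}) :
    toCech₀ P Y' ≫ (CohCx.cechRefine P f).f 0 = toCech₀ P Y := by
  let G := (FormalCoproduct.evalOp.{u} (Over U) AddCommGrpCat.{u}).obj ((Over.forget U).op ⋙ P)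
  let a := (FormalCoproduct.cechFunctor.map f).app (op (SimplexCategory.mk 0))
  show toCech₀ P Y' ≫ G.map a.op = toCech₀ P Y
  simp only [G]
  refine Pi.hom_ext _ _ fun i => ?_
  erw [Category.assoc, Pi.lift_π, Pi.lift_π, Pi.lift_π_assoc]
  change P.map _ ≫ P.map _ = P.map _
  refine (P.map_comp _ _).symm.trans ?_
  exact congrArg (fun t => P.map t) (congrArg Quiver.Hom.op (Over.w (a.φ i)))

lemma toCech_refine (P : Cᵒᵖ ⥤ AddCommGrpCat.{u}) (s : P.obj (op U)) :
    (HomologicalComplex.homologyMap (CohCx.cechRefine P f) 0).hom (toCech Y' P s) = toCech Y P s := by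
  have h1 : toCycles P Y' ≫ (cx P Y').homologyπ 0 ≫ HomologicalComplex.homologyMap (CohCx.cechRefine P f) 0 =
      toCycles P Y ≫ (cx P Y).homologyπ 0 := by
    refine (congrArg (fun t => toCycles P Y' ≫ t) (HomologicalComplex.homologyπ_naturality (CohCx.cechRefine P f) 0)).trans ?_
    refine (Category.assoc _ _ _).symm.trans ?_
    refine congrArg (fun t => t ≫ (cx P Y).homologyπ 0) ((cancel_mono ((cx P Y).iCycles 0)).1 ?_)
    refine (Category.assoc _ _ _).trans ?_
    refine (congrArg (fun t => toCycles P Y' ≫ t) (HomologicalComplex.cyclesMap_i (CohCx.cechRefine P f) 0)).trans ?_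
    refine (Category.assoc _ _ _).symm.trans ?_
    refine (congrArg (fun t => t ≫ (CohCx.cechRefine P f).f 0) (toCycles_i P Y')).trans ?_
    exact (toCech₀_refine f P).trans (toCycles_i P Y).symm
  exact ConcreteCategory.congr_hom h1 s

variable {J : GrothendieckTopology C}
  {e : ∀ (P : Cᵒᵖ ⥤ AddCommGrpCat.{u}) (p : ℕ), CohCx.cechH P Y p →+ CohSite.HU (shf J P) p U}

/-- Composing edge maps with a refinement gives edge maps. -/
theorem isEdge_refine (hY' : Sieve.ofArrows (fun i => (Y' i).left) (fun i => (Y' i).hom) ∈ J U)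
    (he : IsEdge J Y e) :
    IsEdge J Y' fun P p => (e P p).comp (HomologicalComplex.homologyMap (CohCx.cechRefine P f) p).hom where
  cover := hY'
  zero P s := (congrArg (e P 0) (toCech_refine f P s)).trans (he.zero P s)
  natural P Q φ p x := by
    refine Eq.trans (congrArg (e Q p) ?_) (he.natural P Q φ p _)
    refine ConcreteCategory.congr_hom (f := HomologicalComplex.homologyMap ((cxFunctor Y').map φ) p ≫
      HomologicalComplex.homologyMap (CohCx.cechRefine Q f) p)
      (g := HomologicalComplex.homologyMap (CohCx.cechRefine P f) p ≫ HomologicalComplex.homologyMap ((cxFunctor Y).map φ) p) ?_ x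
    exact (HomologicalComplex.homologyMap_comp _ _ p).symm.trans
      ((congrArg (fun t => HomologicalComplex.homologyMap t p) ((refineNat f).naturality φ)).trans
        (HomologicalComplex.homologyMap_comp _ _ p))
  delta S hS hC p x := by
    refine Eq.trans (congrArg (e S.X₁ (p + 1)) ?_) (he.delta S hS (cx_shortExact Y hS) p _)
    exact ConcreteCategory.congr_hom (HomologicalComplex.HomologySequence.δ_naturality
      (S.mapNatTrans (refineNat f)) hC (cx_shortExact Y hS) p (p + 1) rfl) x

theorem edgeSh_refine (he : IsEdge J Y e)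
    {e' : ∀ (P : Cᵒᵖ ⥤ AddCommGrpCat.{u}) (p : ℕ), CohCx.cechH P Y' p →+ CohSite.HU (shf J P) p U}
    (he' : IsEdge J Y' e') (F : Sheaf J AddCommGrpCat.{u}) (p : ℕ) (x : CohCx.cechH F.obj Y' p) :
    edgeSh e F p ((HomologicalComplex.homologyMap (CohCx.cechRefine F.obj f) p).hom x) = edgeSh e' F p x := by
  have h := edge_unique (isEdge_refine f he'.cover he) he'
  rw [← h]
  rfl

end Groth.Agent.SiteBase.Edge
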