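import Groth.Agent.TriCat.KInjRes
import Groth.Agent.H9Misc.SerreDerived
import Groth.Prelude.Def_WeakSerre
import Mathlib.Algebra.Homology.DerivedCategory.KInjective

/-!
# Derived categories of coreflective subcategories
-/

set_option autoImplicit false

universe w w' v v' u u'

open CategoryTheory CategoryTheory.Limits DerivedCategory

namespace Groth.Agent.SiteBase.SerreCorefl

variable {A : Type u} [Category.{v} A] [Abelian A] [HasDerivedCategory.{w} A]
  {B : Type u'} [Category.{v'} B] [Abelian B] [HasDerivedCategory.{w'} B]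
  {ι : A ⥤ B} [ι.Additive] [PreservesFiniteLimits ι] [PreservesFiniteColimits ι] [ι.Faithful]
  {t : B ⥤ A} [t.Additive] (adj : ι ⊣ t)

/-- The counit on complexes. -/
noncomputable abbrev counitCx (I : CochainComplex B ℤ) :
    (ι.mapHomologicalComplex _).obj ((t.mapHomologicalComplex _).obj I) ⟶ I where
  f n := adj.counit.app (I.X n)
  comm' i j _ := (adj.counit.naturality (I.d i j)).symm

/-- The adjunct of a morphism of complexes. -/
noncomputable abbrev adjunct {X : CochainComplex A ℤ} {I : CochainComplex B ℤ}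
    (h : (ι.mapHomologicalComplex _).obj X ⟶ I) : X ⟶ (t.mapHomologicalComplex _).obj I where
  f n := adj.homEquiv _ _ (h.f n)
  comm' i j _ := by
    refine (adj.homEquiv_naturality_right (h.f i) (I.d i j)).symm.trans ?_
    refine (congrArg (adj.homEquiv _ _) (h.comm i j)).trans ?_
    exact adj.homEquiv_naturality_left (X.d i j) (h.f j)

omit [HasDerivedCategory.{w} A] [HasDerivedCategory.{w'} B] [PreservesFiniteLimits ι] [PreservesFiniteColimits ι] [ι.Faithful] [t.Additive] in
lemma adjunct_counit {X : CochainComplex A ℤ} {I : CochainComplex B ℤ}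
    [t.Additive] (h : (ι.mapHomologicalComplex _).obj X ⟶ I) :
    (ι.mapHomologicalComplex _).map (adjunct adj h) ≫ counitCx adj I = h := by
  ext n
  show ι.map (adj.homEquiv _ _ (h.f n)) ≫ adj.counit.app _ = h.f n
  exact (adj.homEquiv_counit (X := X.X n) (Y := I.X n) (g := adj.homEquiv _ _ (h.f n))).symm.trans
    (Equiv.symm_apply_apply _ _)

omit [HasDerivedCategory.{w} A] [HasDerivedCategory.{w'} B] [PreservesFiniteLimits ι] [PreservesFiniteColimits ι] [ι.Faithful] in
lemma nonempty_homotopy_of_adjunct {X : CochainComplex A ℤ} {I : CochainComplex B ℤ}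
    (g : X ⟶ (t.mapHomologicalComplex _).obj I)
    (h : Homotopy ((ι.mapHomologicalComplex _).map g ≫ counitCx adj I) 0) : Nonempty (Homotopy g 0) := by
  let η : X ⟶ (t.mapHomologicalComplex _).obj ((ι.mapHomologicalComplex _).obj X) :=
    { f := fun n => adj.unit.app (X.X n), comm' := fun i j _ => (adj.unit.naturality (X.d i j)).symm }
  refine ⟨(Homotopy.ofEq ?_).trans (((t.mapHomotopy h).compLeft η).trans (Homotopy.ofEq (by simp)))⟩
  ext n
  show g.f n = adj.unit.app _ ≫ t.map (ι.map (g.f n) ≫ adj.counit.app _)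
  rw [Functor.map_comp]
  exact (((Category.assoc _ _ _).symm.trans (congrArg (· ≫ t.map (adj.counit.app (I.X n)))
    (adj.unit.naturality (g.f n)).symm)).trans ((Category.assoc _ _ _).trans
    ((congrArg (g.f n ≫ ·) (adj.right_triangle_components (I.X n))).trans (Category.comp_id _)))).symm

variable (P : ObjectProperty B) [P.IsClosedUnderIsomorphisms] (hP : ∀ X : A, P (ι.obj X))
  (hres : ∀ M : CochainComplex B ℤ, ∃ (I : CochainComplex B ℤ) (f : M ⟶ I),
    I.IsKInjective ∧ QuasiIso f ∧ ∀ n, Injective (I.X n))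
  (hq : ∀ I : CochainComplex B ℤ, (∀ n, Injective (I.X n)) → (∀ n, P (I.homology n)) →
    QuasiIso (counitCx adj I))

omit [ι.Faithful] [P.IsClosedUnderIsomorphisms] [HasDerivedCategory.{w} A] [HasDerivedCategory.{w'} B] in
include hP in
lemma prop_homology [P.IsClosedUnderIsomorphisms] (X : CochainComplex A ℤ) (n : ℤ) :
    P (((ι.mapHomologicalComplex _).obj X).homology n) :=
  P.prop_of_iso ((X.sc n).mapHomologyIso ι).symm (hP _)

include hP hres hq in
/-- A resolution by the adjunct of an injective resolution. -/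
lemma exists_resolution (Y : CochainComplex A ℤ) :
    ∃ (I : CochainComplex B ℤ) (f : Y ⟶ (t.mapHomologicalComplex _).obj I),
      I.IsKInjective ∧ QuasiIso f ∧ QuasiIso (counitCx adj I) := by
  obtain ⟨I, f, hI, hf, hinj⟩ := hres ((ι.mapHomologicalComplex _).obj Y)
  have hc : QuasiIso (counitCx adj I) := hq I hinj fun n =>
    P.prop_of_iso (asIso (HomologicalComplex.homologyMap f n)) (prop_homology P hP Y n)
  refine ⟨I, adjunct adj f, hI, ?_, hc⟩
  have : QuasiIso ((ι.mapHomologicalComplex _).map (adjunct adj f) ≫ counitCx adj I) := by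
    rw [adjunct_counit]; exact hf
  have : ι.ReflectsIsomorphisms := ⟨fun f hf => by
    have := ι.mono_of_mono_map (inferInstance : Mono (ι.map f))
    have := ι.epi_of_epi_map (inferInstance : Epi (ι.map f))
    exact isIso_of_mono_of_epi f⟩
  exact (HomologicalComplex.quasiIso_map_iff_of_preservesHomology (adjunct adj f) ι).1
    (quasiIso_of_comp_right _ (counitCx adj I))

include adj hP hres hq in
/-- The functor of derived categories is fully faithful with the expected essential image. -/
theorem main :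
    ι.mapDerivedCategory.Full ∧ ι.mapDerivedCategory.Faithful ∧
      ∀ K : DerivedCategory B, WSerre.cohIn P K ↔ ι.mapDerivedCategory.essImage K := by
  let L := ι.mapDerivedCategory
  have hQ : ∀ {M I : CochainComplex B ℤ} [I.IsKInjective], Function.Bijective
      (fun h : (HomotopyCategory.quotient B _).obj M ⟶ (HomotopyCategory.quotient B _).obj I =>
        DerivedCategory.Qh.map h) := fun {M I} _ =>
    CochainComplex.IsKInjective.Qh_map_bijective _ I
  have hQsurj : ∀ {M I : CochainComplex B ℤ} [I.IsKInjective] (ψ : Q.obj M ⟶ Q.obj I),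
      ∃ h : M ⟶ I, Q.map h = ψ := fun {M I} _ ψ => by
    obtain ⟨χ, hχ⟩ := hQ.2 ((quotientCompQhIso B).hom.app M ≫ ψ ≫ (quotientCompQhIso B).inv.app I)
    obtain ⟨h, rfl⟩ := (HomotopyCategory.quotient B _).map_surjective χ
    exact ⟨h, (NatIso.naturality_1 (quotientCompQhIso B) h).symm.trans
      ((congrArg (fun q => (quotientCompQhIso B).inv.app M ≫ q ≫ (quotientCompQhIso B).hom.app I) hχ).trans
        (by simp))⟩
  have hQnull : ∀ {M I : CochainComplex B ℤ} [I.IsKInjective] (h : M ⟶ I), Q.map h = 0 →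
      Nonempty (Homotopy h 0) := fun {M I} _ h h0 => by
    refine ⟨HomotopyCategory.homotopyOfEq h 0 (hQ.1 ?_)⟩
    show Qh.map ((HomotopyCategory.quotient B _).map h) = Qh.map ((HomotopyCategory.quotient B _).map 0)
    rw [Functor.map_zero, Functor.map_zero, show Qh.map ((HomotopyCategory.quotient B _).map h) = _ from
      (NatIso.naturality_2 (quotientCompQhIso B) h).symm, h0, zero_comp, comp_zero]
  have hT : ∀ I : CochainComplex B ℤ, I.IsKInjective →
      CochainComplex.IsKInjective ((t.mapHomologicalComplex (ComplexShape.up ℤ)).obj I) := fun I hI =>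
    ⟨fun {X} g hX => nonempty_homotopy_of_adjunct adj g (CochainComplex.IsKInjective.homotopyZero _
      (fun n => (hX n).map ι))⟩
  have : (Q (C := A)).EssSurj := Localization.essSurj _ (HomologicalComplex.quasiIso A (ComplexShape.up ℤ))
  have key : ∀ (Y' Y : DerivedCategory A), Function.Bijective (fun φ : Y' ⟶ Y => L.map φ) := by
    intro Y' Y
    obtain ⟨X', ⟨e'⟩⟩ : ∃ X', Nonempty (Q.obj X' ≅ Y') := ⟨_, ⟨Q.objObjPreimageIso Y'⟩⟩
    obtain ⟨X, ⟨e⟩⟩ : ∃ X, Nonempty (Q.obj X ≅ Y) := ⟨_, ⟨Q.objObjPreimageIso Y⟩⟩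
    obtain ⟨I, f, hI, hf, hc⟩ := exists_resolution adj P hP hres hq X
    let eY : Q.obj ((t.mapHomologicalComplex _).obj I) ≅ Y := (asIso (Q.map f)).symm ≪≫ e
    have hKT := hT I hI
    let T := (t.mapHomologicalComplex (ComplexShape.up ℤ)).obj I
    let c : Q.obj ((ι.mapHomologicalComplex (ComplexShape.up ℤ)).obj T) ⟶ Q.obj I :=
      Q.map (counitCx adj I)
    let κ := ι.mapDerivedCategoryFactors
    have hL : ∀ g : X' ⟶ T, L.map (Q.map g) =
        κ.hom.app X' ≫ Q.map ((ι.mapHomologicalComplex _).map g) ≫ κ.inv.app T :=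
      fun g => (NatIso.naturality_2 κ g).symm
    have b : Function.Bijective (fun φ : Q.obj X' ⟶ Q.obj T => L.map φ) := by
      constructor
      · intro φ φ' hφ
        refine sub_eq_zero.1 ?_
        have h0 : L.map (φ - φ') = 0 := by rw [Functor.map_sub]; exact sub_eq_zero.2 hφ
        generalize φ - φ' = ψ at h0
        obtain ⟨χ, hχ⟩ := (CochainComplex.IsKInjective.Qh_map_bijective _ T).2
          ((quotientCompQhIso A).hom.app X' ≫ ψ ≫ (quotientCompQhIso A).inv.app T)
        obtain ⟨g, rfl⟩ := (HomotopyCategory.quotient A _).map_surjective χ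
        have hg : Q.map g = ψ := (NatIso.naturality_1 (quotientCompQhIso A) g).symm.trans
          ((congrArg (fun q => (quotientCompQhIso A).inv.app X' ≫ q ≫ (quotientCompQhIso A).hom.app T) hχ).trans
            (by simp))
        rw [← hg, hL] at h0
        have h1 : Q.map ((ι.mapHomologicalComplex _).map g) = 0 := by
          rw [← cancel_epi (κ.hom.app X'), ← cancel_mono (κ.inv.app T), Category.assoc, h0]
          simp
        obtain ⟨H⟩ := hQnull ((ι.mapHomologicalComplex _).map g ≫ counitCx adj I)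
          (by rw [Functor.map_comp, h1, zero_comp])
        obtain ⟨H'⟩ := nonempty_homotopy_of_adjunct adj g H
        rw [← hg, DerivedCategory.Q_map_eq_of_homotopy _ H', Functor.map_zero]
      · intro ψ
        obtain ⟨h, hh⟩ := hQsurj (κ.inv.app X' ≫ ψ ≫ κ.hom.app T ≫ c)
        refine ⟨Q.map (adjunct adj h), ?_⟩
        show L.map (Q.map (adjunct adj h)) = ψ
        have : Q.map ((ι.mapHomologicalComplex _).map (adjunct adj h)) =
            κ.inv.app X' ≫ ψ ≫ κ.hom.app T := by
          rw [← cancel_mono c, ← Functor.map_comp, adjunct_counit, hh]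
          simp
        rw [hL, this]
        simp
        exact Category.comp_id ψ
    have e1 : (fun φ : Y' ⟶ Y => L.map φ) =
        (fun φ => L.map e'.inv ≫ φ ≫ L.map eY.hom) ∘ (fun φ : Q.obj X' ⟶ Q.obj T => L.map φ) ∘
          (fun φ => e'.hom ≫ φ ≫ eY.inv) := by
      funext φ
      simp only [Function.comp_apply, ← Functor.map_comp]
      simp
    rw [e1]
    exact ((L.mapIso e').homCongr (L.mapIso eY)).bijective.comp
      (b.comp (e'.symm.homCongr eY.symm).bijective)
  refine ⟨⟨fun {Y' Y} φ => (key Y' Y).2 φ⟩, ⟨fun {Y' Y} _ _ h => (key Y' Y).1 h⟩, fun K => ⟨fun hK => ?_, ?_⟩⟩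
  · have : (Q (C := B)).EssSurj := Localization.essSurj _ (HomologicalComplex.quasiIso B (ComplexShape.up ℤ))
    obtain ⟨I, f, hI, hf, hinj⟩ := hres (Q.objPreimage K)
    let e : Q.obj I ≅ K := (asIso (Q.map f)).symm ≪≫ Q.objObjPreimageIso K
    have hc : QuasiIso (counitCx adj I) := hq I hinj fun n => P.prop_of_iso
      ((DerivedCategory.homologyFunctor B n).mapIso e.symm ≪≫
        (DerivedCategory.homologyFunctorFactors B n).app I) (hK n)
    exact ⟨Q.obj ((t.mapHomologicalComplex _).obj I),
      ⟨ι.mapDerivedCategoryFactors.app _ ≪≫ asIso (Q.map (counitCx adj I)) ≪≫ e⟩⟩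
  · rintro ⟨Y, ⟨e⟩⟩ n
    refine P.prop_of_iso ((DerivedCategory.homologyFunctor B n).mapIso
      (L.mapIso (Q.objObjPreimageIso Y) ≪≫ e)) ?_
    exact P.prop_of_iso (((DerivedCategory.homologyFunctor B n).mapIso
      (ι.mapDerivedCategoryFactors.app _) ≪≫ (DerivedCategory.homologyFunctorFactors B n).app _)).symm
      (prop_homology P hP _ n)

end Groth.Agent.SiteBase.SerreCorefl
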