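import Groth.Agent.SiteBase.EH
import Mathlib.CategoryTheory.Sites.IsSheafFor
import Mathlib.Algebra.Homology.ShortComplex.ShortExact
import Mathlib.CategoryTheory.Preadditive.Injective.Basic

/-!
# Acyclicity on objects and presheaf cohomology of covering sieves
-/

universe u v w

open CategoryTheory CategoryTheory.Limits Opposite Abelian

namespace Groth.Agent.SiteBase

section Generic

variable {A : Type v} [Category.{u} A] [Abelian A] [HasExt.{w} A] (P : A)
  {S : ShortComplex A} (hS : S.ShortExact)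
include hS

lemma subsingleton_ext_X₃ (n : ℕ) (h₁ : Subsingleton (Ext P S.X₁ (n + 1)))
    (h₂ : Subsingleton (Ext P S.X₂ n)) : Subsingleton (Ext P S.X₃ n) := by
  refine subsingleton_of_forall_eq 0 fun x => ?_
  obtain ⟨y, rfl⟩ := Ext.covariant_sequence_exact₃ P hS x rfl (h₁.elim _ _)
  rw [show y = 0 from h₂.elim _ _, Ext.zero_comp]

lemma subsingleton_ext_X₁ (n : ℕ) (h₂ : Subsingleton (Ext P S.X₂ (n + 1)))
    (h₃ : Subsingleton (Ext P S.X₃ n)) : Subsingleton (Ext P S.X₁ (n + 1)) := by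
  refine subsingleton_of_forall_eq 0 fun x => ?_
  obtain ⟨y, rfl⟩ := Ext.covariant_sequence_exact₁ P hS x (h₂.elim _ _) (n₀ := n) rfl
  rw [show y = 0 from h₃.elim _ _, Ext.zero_comp]

lemma subsingleton_ext_one_X₁ (h₂ : Subsingleton (Ext P S.X₂ 1))
    (h : Function.Surjective fun φ : P ⟶ S.X₂ => φ ≫ S.g) : Subsingleton (Ext P S.X₁ 1) := by
  refine subsingleton_of_forall_eq 0 fun x => ?_
  obtain ⟨y, rfl⟩ := Ext.covariant_sequence_exact₁ P hS x (h₂.elim _ _) (n₀ := 0) rfl
  obtain ⟨φ, rfl⟩ := (Ext.mk₀_bijective P S.X₃).2 y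
  obtain ⟨ψ, rfl⟩ := h φ
  simp only
  rw [← Ext.mk₀_comp_mk₀, Ext.comp_assoc_of_second_deg_zero, hS.comp_extClass, Ext.comp_zero]

lemma exists_lift_of_ext_one (h₁ : Subsingleton (Ext P S.X₁ 1)) (φ : P ⟶ S.X₃) :
    ∃ ψ : P ⟶ S.X₂, ψ ≫ S.g = φ := by
  obtain ⟨y, hy⟩ := Ext.covariant_sequence_exact₃ P hS (Ext.mk₀ φ) (n₁ := 1) rfl (h₁.elim _ _)
  obtain ⟨ψ, rfl⟩ := (Ext.mk₀_bijective P S.X₂).2 y
  rw [Ext.mk₀_comp_mk₀] at hy
  exact ⟨ψ, (Ext.mk₀_bijective _ _).1 hy⟩

end Generic

variable {C : Type u} [SmallCategory C]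

section Free

variable (J : GrothendieckTopology C)

/-- The free abelian sheaf on a presheaf of sets. -/
noncomputable abbrev freeOnPsh (K : Cᵒᵖ ⥤ Type u) : Sheaf J AddCommGrpCat.{u} :=
  (presheafToSheaf J AddCommGrpCat.{u}).obj (K ⋙ AddCommGrpCat.free.{u})

/-- Functoriality of the free abelian sheaf on a presheaf of sets. -/
noncomputable abbrev freeOnPshMap {K K' : Cᵒᵖ ⥤ Type u} (a : K ⟶ K') :
    freeOnPsh J K ⟶ freeOnPsh J K' :=
  (presheafToSheaf J AddCommGrpCat.{u}).map (Functor.whiskerRight a AddCommGrpCat.free.{u})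

/-- Maps out of the free abelian sheaf on a presheaf of sets. -/
noncomputable def freeEquiv (K : Cᵒᵖ ⥤ Type u) (F : Sheaf J AddCommGrpCat.{u}) :
    (freeOnPsh J K ⟶ F) ≃ (K ⟶ F.obj ⋙ CategoryTheory.forget AddCommGrpCat.{u}) :=
  ((sheafificationAdjunction J AddCommGrpCat.{u}).homEquiv _ _).trans
    ((AddCommGrpCat.adj.whiskerRight Cᵒᵖ).homEquiv _ _)

variable {J}

lemma freeEquiv_comp {K : Cᵒᵖ ⥤ Type u} {F G : Sheaf J AddCommGrpCat.{u}} (φ : freeOnPsh J K ⟶ F)
    (g : F ⟶ G) :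
    freeEquiv J K G (φ ≫ g) = freeEquiv J K F φ ≫ Functor.whiskerRight g.hom _ := rfl

lemma freeEquiv_precomp {K K' : Cᵒᵖ ⥤ Type u} (a : K ⟶ K') {F : Sheaf J AddCommGrpCat.{u}}
    (φ : freeOnPsh J K' ⟶ F) :
    freeEquiv J K F (freeOnPshMap J a ≫ φ) = a ≫ freeEquiv J K' F φ :=
  (congrArg ((AddCommGrpCat.adj.whiskerRight Cᵒᵖ).homEquiv _ _)
    (Adjunction.homEquiv_naturality_left _ _ _)).trans (Adjunction.homEquiv_naturality_left _ _ _)

lemma freeEquiv_secEquiv_symm {X : C} {F : Sheaf J AddCommGrpCat.{u}} (s : F.obj.obj (op X)) :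
    freeEquiv J (yoneda.obj X) F ((secEquiv J X F).symm s) =
      (yonedaEquiv (F := F.obj ⋙ CategoryTheory.forget AddCommGrpCat.{u})).symm s :=
  (Equiv.eq_symm_apply yonedaEquiv).2 ((secEquiv J X F).apply_symm_apply s)

end Free

variable (J : GrothendieckTopology C)

/-- Forgetting the sheaf condition, landing in sheaves for the trivial topology. -/
noncomputable abbrev toBot : Sheaf J AddCommGrpCat.{u} ⥤ Sheaf (⊥ : GrothendieckTopology C) AddCommGrpCat.{u} :=
  sheafToPresheaf J AddCommGrpCat.{u} ⋙ (sheafBotEquivalence AddCommGrpCat.{u}).inverse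

instance : (toBot J).Additive where

instance (E : Sheaf J AddCommGrpCat.{u}) [Injective E] : Injective ((toBot J).obj E) :=
  Injective.injective_of_adjoint ((sheafBotEquivalence AddCommGrpCat.{u}).toAdjunction.comp
    (sheafificationAdjunction J AddCommGrpCat.{u})) E

variable {J}

/-- The inclusion of a sieve, on free sheaves for the trivial topology. -/
noncomputable abbrev sieveIncl {X : C} (R : Sieve X) :
    freeOnPsh ⊥ R.functor ⟶ CohCx.freeSheaf (⊥ : GrothendieckTopology C) X :=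
  freeOnPshMap ⊥ R.functorInclusion

/-- Maps out of a covering sieve into a sheaf are sections. -/
lemma sieveIncl_comp_bijective (G : Sheaf J AddCommGrpCat.{u}) {X : C} {R : Sieve X} (hR : R ∈ J X) :
    Function.Bijective fun φ : CohCx.freeSheaf (⊥ : GrothendieckTopology C) X ⟶ (toBot J).obj G =>
      sieveIncl R ≫ φ := by
  have hG : Presieve.IsSheafFor (G.obj ⋙ CategoryTheory.forget AddCommGrpCat.{u}) R.arrows :=
    (isSheaf_iff_isSheaf_of_type _ _).1
      ((sheafCompose J (CategoryTheory.forget AddCommGrpCat.{u})).obj G).property R hR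
  rw [Presieve.isSheafFor_iff_yonedaSheafCondition] at hG
  refine ⟨fun φ ψ h => ?_, fun χ => ?_⟩
  · apply (freeEquiv ⊥ _ _).injective
    refine (hG (freeEquiv ⊥ _ _ (sieveIncl R ≫ φ))).unique ?_ ?_
    · exact (freeEquiv_precomp _ φ).symm
    · rw [show sieveIncl R ≫ φ = sieveIncl R ≫ ψ from h]
      exact (freeEquiv_precomp _ ψ).symm
  · obtain ⟨g, hg, -⟩ := hG (freeEquiv ⊥ _ _ χ)
    refine ⟨(freeEquiv ⊥ _ _).symm g, (freeEquiv ⊥ _ _).injective ?_⟩
    exact (freeEquiv_precomp _ _).trans ((congrArg _ (Equiv.apply_symm_apply _ _)).trans hg)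

lemma shortExact_toBot {E : ShortComplex (Sheaf J AddCommGrpCat.{u})} (hE : E.ShortExact)
    (h : ∀ X, Function.Surjective (E.g.hom.app (op X)).hom) :
    (E.map (toBot J)).ShortExact := by
  have : Mono E.f := hE.mono_f
  have hepi : Epi ((toBot J).map E.g) := by
    have : Epi ((sheafToPresheaf J AddCommGrpCat.{u}).map E.g) := by
      have : ∀ T, Epi (((sheafToPresheaf J AddCommGrpCat.{u}).map E.g).app T) := fun T =>
        (AddCommGrpCat.epi_iff_surjective _).2 (h T.unop)
      exact NatTrans.epi_of_epi_app _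
    exact (sheafBotEquivalence AddCommGrpCat.{u}).inverse.map_epi _
  exact ShortComplex.ShortExact.mk' (hE.exact.map_of_mono_of_preservesKernel _ ‹_› inferInstance)
    ((toBot J).map_mono E.f) hepi

/-- The presheaf Ext groups of covering sieves. -/
abbrev SExt (G : Sheaf J AddCommGrpCat.{u}) {X : C} (R : Sieve X) (q : ℕ) : Type u :=
  Ext (freeOnPsh (⊥ : GrothendieckTopology C) R.functor) ((toBot J).obj G) q

theorem sections_surjective_of_SExt {E : ShortComplex (Sheaf J AddCommGrpCat.{u})} (hE : E.ShortExact)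
    (h : ∀ (X : C) (R : Sieve X), R ∈ J X → Subsingleton (SExt E.X₁ R 1)) (X : C) :
    Function.Surjective (E.g.hom.app (op X)).hom := by
  intro s
  let f' := (toBot J).map E.f
  let g' := (toBot J).map E.g
  have hfg : f' ≫ g' = 0 := by rw [← Functor.map_comp, E.zero, Functor.map_zero]
  have : Mono f' := by
    have := hE.mono_f
    exact (toBot J).map_mono E.f
  let S' : ShortComplex (Sheaf (⊥ : GrothendieckTopology C) AddCommGrpCat.{u}) :=
    ShortComplex.mk f' (cokernel.π f') (cokernel.condition _)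
  have hS' : S'.ShortExact := ShortComplex.ShortExact.mk' (ShortComplex.exact_cokernel f') this inferInstance
  have hloc : Sheaf.IsLocallySurjective E.g := (Sheaf.isLocallySurjective_iff_epi' _ E.g).2 hE.epi_g
  let R := Presheaf.imageSieve E.g.hom s
  have hR : R ∈ J X := hloc.imageSieve_mem s
  let i : cokernel f' ⟶ (toBot J).obj E.X₃ := cokernel.desc f' g' hfg
  have hi : ∀ V, Function.Injective (i.hom.app (op V)).hom := by
    have hmono : Mono i := by
      have hex : (E.map (toBot J)).Exact := by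
        have := hE.mono_f
        exact hE.exact.map_of_mono_of_preservesKernel _ ‹_› inferInstance
      exact hex.mono_cokernelDesc
    intro V a b hab
    refine (secEquiv ⊥ V _).symm.injective ((cancel_mono i).1 ?_)
    rw [secEquiv_symm_comp, secEquiv_symm_comp, hab]
  choose t ht using fun (V : C) (g : V ⟶ X) (hg : R g) =>
    (hg : ∃ t, E.g.hom.app (op V) t = E.X₃.obj.map g.op s)
  have key : ∀ (V : C) (g : V ⟶ X) (hg : R g),
      (i.hom.app (op V)).hom (((cokernel.π f').hom.app (op V)).hom (t V g hg)) =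
        (E.X₃.obj.map g.op).hom s := fun V g hg =>
    (ConcreteCategory.congr_hom (NatTrans.congr_app (congrArg (fun a : (toBot J).obj E.X₂ ⟶ (toBot J).obj E.X₃ => a.hom)
      (cokernel.π_desc f' g' hfg)) (op V)) (t V g hg)).trans (ht V g hg)
  let q : R.functor ⟶ (cokernel f').obj ⋙ CategoryTheory.forget AddCommGrpCat.{u} :=
    { app := fun V => TypeCat.ofHom fun g => ((cokernel.π f').hom.app V).hom (t V.unop g.1 g.2)
      naturality := fun V W k => by
        ext g
        refine hi W.unop ?_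
        refine (key _ _ _).trans ?_
        refine Eq.trans ?_ (ConcreteCategory.congr_hom (i.hom.naturality k) _).symm
        refine Eq.trans ?_ (congrArg (E.X₃.obj.map k).hom (key _ _ g.2)).symm
        exact ConcreteCategory.congr_hom (E.X₃.obj.map_comp g.1.op k) s }
  obtain ⟨ψ, hψ⟩ := exists_lift_of_ext_one (freeOnPsh ⊥ R.functor) hS' (h X R hR)
    ((freeEquiv ⊥ R.functor (cokernel f')).symm q)
  obtain ⟨χ, hχ⟩ := (sieveIncl_comp_bijective E.X₂ hR).2 ψ
  refine ⟨secEquiv ⊥ X _ χ, ?_⟩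
  refine (secEquiv_comp X χ g').symm.trans ?_
  refine ((secEquiv ⊥ X ((toBot J).obj E.X₃)).symm_apply_eq).1 ?_ |>.symm
  refine (sieveIncl_comp_bijective E.X₃ hR).1 ?_
  refine Eq.trans ?_ (Category.assoc _ _ _)
  rw [show sieveIncl R ≫ χ = ψ from hχ, show g' = cokernel.π f' ≫ i from (cokernel.π_desc f' g' hfg).symm,
    ← Category.assoc, show ψ ≫ cokernel.π f' = _ from hψ]
  apply (freeEquiv ⊥ _ _).injective
  refine (freeEquiv_precomp _ _).trans ?_
  refine Eq.trans ?_ (freeEquiv_comp _ i).symm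
  rw [Equiv.apply_symm_apply]
  ext V g
  refine Eq.trans ?_ (key _ g.1 g.2).symm
  rw [freeEquiv_secEquiv_symm]
  rfl

theorem subsingleton_HU_of_SExt (F : Sheaf J AddCommGrpCat.{u})
    (h : ∀ (X : C) (R : Sieve X), R ∈ J X → ∀ q, Subsingleton (SExt F R (q + 1))) (X : C) (q : ℕ) :
    Subsingleton (CohSite.HU F (q + 1) X) := by
  let P : Sheaf J AddCommGrpCat.{u} → Prop := fun G =>
    ∀ (X : C) (R : Sieve X), R ∈ J X → ∀ q, Subsingleton (SExt G R (q + 1))
  have hsurj : ∀ E : ShortComplex (Sheaf J AddCommGrpCat.{u}), E.ShortExact → P E.X₁ →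
      ∀ X, Function.Surjective (E.g.hom.app (op X)).hom := fun E hE h₁ =>
    sections_surjective_of_SExt hE fun X R hR => h₁ X R hR 0
  exact subsingleton_HU_of_class P (fun _ => True)
    (fun E hE h₁ hI Y R hR n => subsingleton_ext_X₃ _ (shortExact_toBot hE (hsurj E hE h₁)) (n + 1)
      (h₁ Y R hR (n + 1)) (Ext.subsingleton_of_injective _ ((toBot J).obj E.X₂) n))
    (fun E hE h₁ _ Y _ => hsurj E hE h₁ Y) h (U := X) trivial q

theorem subsingleton_SExt_of_acyclic {X : C} {R : Sieve X} (hR : R ∈ J X) (q : ℕ) :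
    ∀ (F : Sheaf J AddCommGrpCat.{u}), (∀ (Y : C) (n : ℕ), Subsingleton (CohSite.HU F (n + 1) Y)) →
      Subsingleton (SExt F R (q + 1)) := by
  suffices H : ∀ E : ShortComplex (Sheaf J AddCommGrpCat.{u}), E.ShortExact → Injective E.X₂ →
      (∀ (Y : C) (n : ℕ), Subsingleton (EH E.X₁ (n + 1) Y)) → Subsingleton (SExt E.X₁ R (q + 1)) from
    fun F hF => by
      obtain ⟨E, hE, hI, rfl⟩ : ∃ E : ShortComplex (Sheaf J AddCommGrpCat.{u}),
          E.ShortExact ∧ Injective E.X₂ ∧ E.X₁ = F :=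
        ⟨injectiveSES F, injectiveSES_shortExact F, inferInstance, injectiveSES_X₁ F⟩
      exact H E hE hI fun Y n => (subsingleton_HU_iff _ _ _).1 (hF Y n)
  induction q with
  | zero =>
    intro E hE hI hF
    have hs := fun Y => sections_surjective_of_EH_one hE Y (hF Y 0)
    refine subsingleton_ext_one_X₁ _ (shortExact_toBot hE hs)
      (Ext.subsingleton_of_injective _ ((toBot J).obj E.X₂) 0) fun φ => ?_
    obtain ⟨χ, rfl⟩ := (sieveIncl_comp_bijective E.X₃ hR).2 φ
    obtain ⟨t, ht⟩ := hs X (secEquiv ⊥ X ((toBot J).obj E.X₃) χ)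
    refine ⟨sieveIncl R ≫ (secEquiv ⊥ X ((toBot J).obj E.X₂)).symm t, (Category.assoc _ _ _).trans ?_⟩
    refine congrArg (sieveIncl R ≫ ·) ?_
    apply (secEquiv ⊥ X ((toBot J).obj E.X₃)).injective
    refine (secEquiv_comp X _ ((E.map (toBot J)).g)).trans ?_
    refine Eq.trans ?_ ht
    exact congrArg (E.g.hom.app (op X)).hom ((secEquiv ⊥ X ((toBot J).obj E.X₂)).apply_symm_apply t)
  | succ q ih =>
    intro E hE hI hF
    have hs := fun Y => sections_surjective_of_EH_one hE Y (hF Y 0)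
    refine subsingleton_ext_X₁ _ (shortExact_toBot hE hs) (q + 1)
      (Ext.subsingleton_of_injective _ ((toBot J).obj E.X₂) (q + 1)) ?_
    have hF₃ : ∀ (Y : C) (n : ℕ), Subsingleton (EH E.X₃ (n + 1) Y) := fun Y n =>
      subsingleton_EH_X₃ hE Y (n + 1) (hF Y (n + 1)) (subsingleton_EH_of_injective E.X₂ Y n)
    obtain ⟨E', hE', hI', hX⟩ : ∃ E' : ShortComplex (Sheaf J AddCommGrpCat.{u}),
        E'.ShortExact ∧ Injective E'.X₂ ∧ E'.X₁ = E.X₃ :=
      ⟨injectiveSES E.X₃, injectiveSES_shortExact _, inferInstance, injectiveSES_X₁ _⟩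
    have := ih E' hE' hI'
    rw [hX] at this
    exact this hF₃

end Groth.Agent.SiteBase
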