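import Groth.Agent.SiteBase.Top
import Groth.Agent.SiteBase.SieveAcyclic
import Groth.Agent.SiteBase.Sections
import Groth.Agent.TowerLib.LimVanish
import Groth.Agent.H9Misc.MLSeq
import Groth.Agent.BigSiteLib.FppfDesc.LocExact
import Groth.Agent.QCoh.ToSheaf
import Groth.Agent.S0856

/-!
# Derived limits of towers of modules which are acyclic on a basis
-/

set_option autoImplicit false
set_option backward.isDefEq.respectTransparency false
set_option linter.unusedSectionVars false

universe v u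

open CategoryTheory CategoryTheory.Limits Opposite Abelian TopologicalSpace

namespace Groth.Agent.SiteBase.LimTowerBasis

section Towers

variable {B : Type u} [Category.{v} B] [Abelian B] [EnoughInjectives B]
  [∀ T : Type, HasProductsOfShape T B]

/-- The cofree tower on a tower. -/
noncomputable def cofree (I : ℕᵒᵖ ⥤ B) : ℕᵒᵖ ⥤ B where
  obj k := ∏ᶜ fun m : {m : ℕ // m ≤ k.unop} => Injective.under (I.obj (op m.1))
  map {k k'} v := Pi.lift fun m : {m : ℕ // m ≤ k'.unop} =>
    Pi.π (fun m : {m : ℕ // m ≤ k.unop} => Injective.under (I.obj (op m.1))) ⟨m.1, m.2.trans (leOfHom v.unop)⟩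
  map_id k := Pi.hom_ext _ _ fun m => by simp
  map_comp {k k' k''} v w := Pi.hom_ext _ _ fun m => by simp

/-- The embedding into the cofree tower. -/
noncomputable def toCofree (I : ℕᵒᵖ ⥤ B) : I ⟶ cofree I where
  app k := Pi.lift fun m : {m : ℕ // m ≤ k.unop} => I.map (homOfLE m.2).op ≫ Injective.ι _
  naturality k k' v := Pi.hom_ext _ _ fun m => by
    simp only [cofree, Category.assoc, Pi.lift_π]
    rw [← Category.assoc, ← I.map_comp]
    rfl

instance mono_toCofree (I : ℕᵒᵖ ⥤ B) : Mono (toCofree I) := by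
  haveI : ∀ k, Mono ((toCofree I).app k) := fun k => ⟨fun {Z} a b e => by
    have := congrArg (· ≫ Pi.π (fun m : {m : ℕ // m ≤ k.unop} => Injective.under (I.obj (op m.1)))
      ⟨k.unop, le_rfl⟩) e
    simp [toCofree] at this
    exact (cancel_mono (Injective.ι (I.obj k))).1 this⟩
  exact NatTrans.mono_of_mono_app _

theorem injective_obj (I : ℕᵒᵖ ⥤ B) [Injective I] (n : ℕ) : Injective (I.obj (op n)) := by
  let r := Injective.factorThru (𝟙 I) (toCofree I)
  have h : (toCofree I).app (op n) ≫ r.app (op n) = 𝟙 _ := by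
    rw [← NatTrans.comp_app, show toCofree I ≫ r = 𝟙 I from Injective.comp_factorThru _ _, NatTrans.id_app]
  haveI : Injective ((cofree I).obj (op n)) :=
    inferInstanceAs (Injective (∏ᶜ fun m : {m : ℕ // m ≤ n} => Injective.under (I.obj (op m.1))))
  exact (Retract.mk ((toCofree I).app (op n)) (r.app (op n)) h).injective

theorem exists_section (I : ℕᵒᵖ ⥤ B) [Injective I] (n : ℕ) :
    ∃ s : I.obj (op n) ⟶ I.obj (op (n + 1)), s ≫ I.map (homOfLE (Nat.le_add_right n 1)).op = 𝟙 _ := by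
  classical
  let r := Injective.factorThru (𝟙 I) (toCofree I)
  let t : (cofree I).obj (op n) ⟶ (cofree I).obj (op (n + 1)) := Pi.lift fun m : {m : ℕ // m ≤ n + 1} =>
    if h : m.1 ≤ n then Pi.π (fun m : {m : ℕ // m ≤ n} => Injective.under (I.obj (op m.1))) ⟨m.1, h⟩ else 0
  refine ⟨(toCofree I).app (op n) ≫ t ≫ r.app (op (n + 1)), ?_⟩
  have ht : t ≫ (cofree I).map (homOfLE (Nat.le_add_right n 1)).op = 𝟙 _ := by
    refine Pi.hom_ext _ _ fun m => ?_
    simp only [cofree, t, Category.assoc, Pi.lift_π, Category.id_comp]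
    exact dif_pos m.2
  simp only [Category.assoc]
  rw [← r.naturality, reassoc_of% ht, ← NatTrans.comp_app,
    show toCofree I ≫ r = 𝟙 I from Injective.comp_factorThru _ _, NatTrans.id_app]

end Towers

section Sections

variable {X : TopCat.{u}}

/-- The sections over an open. -/
noncomputable abbrev sec (U : Opens X) : CohTop.Ab X ⥤ AddCommGrpCat.{u} :=
  sheafToPresheaf (Opens.grothendieckTopology X) AddCommGrpCat.{u} ⋙ (evaluation _ _).obj (op U)

instance preservesFiniteLimits_sec (U : Opens X) : PreservesFiniteLimits (sec U) := comp_preservesFiniteLimits _ _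

lemma sec_surjective {S : ShortComplex (CohTop.Ab X)} (hS : S.ShortExact) (U : Opens X)
    (h : Subsingleton (CohTop.HU S.X₁ 1 U)) (z : S.X₃.obj.obj (op U)) :
    ∃ y, S.g.hom.app (op U) y = z := by
  obtain ⟨x, hx⟩ := Ext.covariant_sequence_exact₃ (CohCx.freeSheaf _ U) hS
    (Ext.mk₀ ((secEquiv _ U S.X₃).symm z)) (zero_add 1) (h.elim _ _)
  obtain ⟨φ, rfl⟩ := (Ext.mk₀_bijective _ _).2 x
  rw [Ext.mk₀_comp_mk₀] at hx
  refine ⟨secEquiv _ U S.X₂ φ, (secEquiv_comp U φ S.g).symm.trans ?_⟩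
  rw [(Ext.mk₀_bijective _ _).1 hx, AddEquiv.apply_symm_apply]

/-- Sections of an acyclic resolution of an acyclic sheaf are exact. -/
theorem sec_resolution_exact (K : CochainComplex (CohTop.Ab X) ℕ) {E : CohTop.Ab X} (ι : E ⟶ K.X 0)
    [Mono ι] (w : ι ≫ K.d 0 1 = 0) (hex₀ : (ShortComplex.mk ι (K.d 0 1) w).Exact)
    (hex : ∀ k, K.ExactAt (k + 1)) (hK : ∀ i, TopCat.Sheaf.IsFlasque (K.X i)) (U : Opens X)
    (hE : ∀ j, Subsingleton (CohTop.HU E (j + 1) U)) (k : ℕ) (x : (K.X (k + 1)).obj.obj (op U))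
    (hx : (K.d (k + 1) (k + 2)).hom.app (op U) x = 0) : ∃ y, (K.d k (k + 1)).hom.app (op U) y = x := by
  let Z : ℕ → CohTop.Ab X := fun i => kernel (K.d i (i + 1))
  let p : ∀ i, K.X i ⟶ Z (i + 1) := fun i => kernel.lift _ (K.d i (i + 1)) (K.d_comp_d _ _ _)
  let S : ℕ → ShortComplex (CohTop.Ab X) := fun i => ShortComplex.mk (kernel.ι (K.d i (i + 1))) (p i) (by
    apply (cancel_mono (kernel.ι (K.d (i + 1) (i + 1 + 1)))).1
    simp [p])
  have hS : ∀ i, (S i).ShortExact := fun i => by
    haveI : Mono (S i).f := inferInstanceAs (Mono (kernel.ι _))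
    haveI : Epi (S i).g := by
      have h := (HomologicalComplex.exactAt_iff' _ i (i + 1) (i + 2) (by simp) (by simp)).1 (hex i)
      exact h.epi_kernelLift
    refine ⟨ShortComplex.exact_of_f_is_kernel _ (KernelFork.IsLimit.ofι' _ _ fun {A} a ha => ?_)⟩
    have ha' : a ≫ K.d i (i + 1) = 0 := by
      have := ha =≫ kernel.ι (K.d (i + 1) (i + 1 + 1))
      simpa [S, p] using this
    exact ⟨kernel.lift _ a ha', kernel.lift_ι _ _ _⟩
  have hZ : ∀ i j, Subsingleton (CohTop.HU (Z i) (j + 1) U) := fun i => by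
    induction i with
    | zero =>
      intro j
      let e : E ≅ Z 0 := hex₀.fIsKernel.conePointUniqueUpToIso (limit.isLimit _)
      refine subsingleton_of_forall_eq 0 fun y => ?_
      let y' : Ext (CohCx.freeSheaf _ U) (Z 0) (j + 1) := y
      have h : (y'.comp (Ext.mk₀ e.inv) (add_zero _)).comp (Ext.mk₀ e.hom) (add_zero _) = y' := by
        rw [Ext.comp_assoc_of_third_deg_zero, Ext.mk₀_comp_mk₀, e.inv_hom_id, Ext.comp_mk₀_id]
      rw [(hE j).elim (y'.comp (Ext.mk₀ e.inv) (add_zero _)) 0, Ext.zero_comp] at h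
      exact h.symm
    | succ i ih =>
      intro j
      haveI := hK i
      exact subsingleton_ext_X₃ (P := CohCx.freeSheaf _ U) (hS i) (j + 1) (ih (j + 1)) (subsingleton_HU_of_isFlasque (K.X i) U j)
  obtain ⟨z, hz⟩ := BigSiteLib.FppfDesc.exists_kernel_section (K.d (k + 1) (k + 2)) x hx
  obtain ⟨y, hy⟩ := sec_surjective (hS k) U (hZ k 0) z
  refine ⟨y, ?_⟩
  rw [← hz, ← hy]
  exact (congrArg (fun t => t.hom.app (op U) y) (kernel.lift_ι (K.d (k + 1) (k + 2)) (K.d k (k + 1))
    (K.d_comp_d _ _ _))).symm.trans (ConcreteCategory.comp_apply _ _ y)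

/-- Sections of a left exact sequence. -/
theorem sec_kernel_exact {E K₀ K₁ : CohTop.Ab X} (ι : E ⟶ K₀) (d : K₀ ⟶ K₁) [Mono ι] (w : ι ≫ d = 0)
    (hex₀ : (ShortComplex.mk ι d w).Exact) (U : Opens X) (x : K₀.obj.obj (op U))
    (hx : d.hom.app (op U) x = 0) : ∃ e, ι.hom.app (op U) e = x :=
  (ShortComplex.ab_exact_iff _).1
    (hex₀.map_of_mono_of_preservesKernel (sec U) inferInstance inferInstance) x hx

end Sections

section Modules

variable {X : TopCat.{u}} (R : Sheaf (Opens.grothendieckTopology X) RingCat.{u})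

/-- The sections of modules over an open, as groups. -/
noncomputable abbrev secMod (U : Opens X) : SheafOfModules.{u} R ⥤ AddCommGrpCat.{u} :=
  SheafOfModules.toSheaf R ⋙ sec U

instance preservesLimitsOfShape_secMod (U : Opens X) : PreservesLimitsOfShape ℕᵒᵖ (secMod R U) :=
  preservesLimitsOfShape_of_natIso
    (Functor.isoWhiskerRight (SheafOfModules.toSheafCompSheafToPresheafIso.{u} R)
      ((evaluation _ AddCommGrpCat.{u}).obj (op U))).symm

theorem isFlasque_toSheaf_injective (I : SheafOfModules.{u} R) [Injective I] :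
    TopCat.Sheaf.IsFlasque (X := X) ((SheafOfModules.toSheaf R).obj I) where
  epi {U V} i := by
    have : Mono i.unop := ⟨fun a b _ => Subsingleton.elim a b⟩
    exact (AddCommGrpCat.epi_iff_surjective _).mpr (S0856.result R I i.unop)

variable {R}

/-- A sequence of sheaves is exact if its sections over a basis are. -/
theorem exact_of_basis {S : ShortComplex (CohTop.Ab X)} {B : Set (Opens X)} (hB : Opens.IsBasis B)
    (h : ∀ U ∈ B, ∀ x : S.X₂.obj.obj (op U), S.g.hom.app (op U) x = 0 → ∃ y, S.f.hom.app (op U) y = x) :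
    S.Exact :=
  BigSiteLib.FppfDesc.exact_of_locally_boundary fun V s hs p hp => by
    obtain ⟨W, hW, hpW, hWV⟩ := Opens.isBasis_iff_nbhd.1 hB hp
    refine ⟨W, homOfLE hWV, ?_, hpW⟩
    obtain ⟨y, hy⟩ := h W hW (S.X₂.obj.map (homOfLE hWV).op s) (by
      rw [NatTrans.naturality_apply, hs, map_zero])
    exact ⟨y, hy⟩

variable [(lim : (ℕᵒᵖ ⥤ SheafOfModules.{u} R) ⥤ SheafOfModules.{u} R).Additive]
  [HasInjectiveResolutions (ℕᵒᵖ ⥤ SheafOfModules.{u} R)]
  [EnoughInjectives (SheafOfModules.{u} R)]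

theorem isZero_rightDerived_of_sections (E : ℕᵒᵖ ⥤ SheafOfModules.{u} R) {B : Set (Opens X)}
    (hB : Opens.IsBasis B)
    (hE : ∀ U ∈ B, ∀ (n j : ℕ), Subsingleton (CohTop.HU ((SheafOfModules.toSheaf R).obj (E.obj (op n))) (j + 1) U))
    (k : ℕ) (hML : k = 0 → ∀ U ∈ B, ((E ⋙ secMod R U) ⋙ forget AddCommGrpCat.{u}).IsMittagLeffler) :
    IsZero (((lim : (ℕᵒᵖ ⥤ SheafOfModules.{u} R) ⥤ SheafOfModules.{u} R).rightDerived (k + 1)).obj E) := by
  haveI : ∀ T : Type, HasProductsOfShape T (SheafOfModules.{u} R) := fun T => inferInstance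
  let J := injectiveResolution E
  refine IsZero.of_iso ?_ (J.isoRightDerivedObj lim (k + 1))
  refine ((HomologicalComplex.exactAt_iff_isZero_homology _ _).1 ?_)
  rw [HomologicalComplex.exactAt_iff' _ k (k + 1) (k + 2) (by simp) (by simp)]
  refine (ShortComplex.exact_map_iff_of_faithful _ (SheafOfModules.toSheaf R)).1 (exact_of_basis hB ?_)
  intro U hU (x : (secMod R U).obj (limit (J.cocomplex.X (k + 1))))
    (hx : (secMod R U).map (limMap (J.cocomplex.d (k + 1) (k + 2))) x = 0)
  show ∃ y : (secMod R U).obj (limit (J.cocomplex.X k)), (secMod R U).map (limMap (J.cocomplex.d k (k + 1))) y = x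
  -- the complexes of sections at a stage
  let K : ℕ → CochainComplex (CohTop.Ab X) ℕ := fun n =>
    (((evaluation ℕᵒᵖ (SheafOfModules.{u} R)).obj (op n) ⋙ SheafOfModules.toSheaf R).mapHomologicalComplex _).obj
      J.cocomplex
  let Φ : ℕ → (ℕᵒᵖ ⥤ SheafOfModules.{u} R) ⥤ CohTop.Ab X := fun n =>
    (evaluation ℕᵒᵖ (SheafOfModules.{u} R)).obj (op n) ⋙ SheafOfModules.toSheaf R
  have hK : ∀ n i, TopCat.Sheaf.IsFlasque (X := X) ((K n).X i) := fun n i => by
    haveI : Injective (J.cocomplex.X i) := J.injective i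
    exact @isFlasque_toSheaf_injective X R ((J.cocomplex.X i).obj (op n)) (injective_obj (J.cocomplex.X i) n)
  haveI : ∀ n, Mono ((Φ n).map (J.ι.f 0)) := fun n => inferInstance
  have hw : ∀ n, (Φ n).map (J.ι.f 0) ≫ (Φ n).map (J.cocomplex.d 0 1) = 0 := fun n => by
    rw [← Functor.map_comp, J.ι_f_zero_comp_complex_d, Functor.map_zero]
  have hex₀ : ∀ n, (ShortComplex.mk ((Φ n).map (J.ι.f 0)) ((Φ n).map (J.cocomplex.d 0 1)) (hw n)).Exact :=
    fun n => (J.exact₀.map ((evaluation ℕᵒᵖ (SheafOfModules.{u} R)).obj (op n))).map (SheafOfModules.toSheaf R)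
  have hex : ∀ n i, (K n).ExactAt (i + 1) := fun n i => by
    rw [HomologicalComplex.exactAt_iff' _ i (i + 1) (i + 2) (by simp) (by simp)]
    exact (((HomologicalComplex.exactAt_iff' _ i (i + 1) (i + 2) (by simp) (by simp)).1
      (J.cocomplex_exactAt_succ i)).map ((evaluation ℕᵒᵖ (SheafOfModules.{u} R)).obj (op n))).map
      (SheafOfModules.toSheaf R)
  have hexact : ∀ i n (z : (secMod R U).obj ((J.cocomplex.X (i + 1)).obj (op n))),
      (secMod R U).map ((J.cocomplex.d (i + 1) (i + 2)).app (op n)) z = 0 →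
      ∃ t, (secMod R U).map ((J.cocomplex.d i (i + 1)).app (op n)) t = z := fun i n z hz =>
    sec_resolution_exact (K n) ((Φ n).map (J.ι.f 0)) (hw n) (hex₀ n) (hex n) (hK n) U (hE U hU n) i z hz
  have hsurj : ∀ i n, Function.Surjective
      (((J.cocomplex.X i) ⋙ secMod R U).map (homOfLE (Nat.le_add_right n 1)).op) := fun i n z => by
    obtain ⟨s, hs⟩ := exists_section (J.cocomplex.X i) n
    refine ⟨(secMod R U).map s z, ?_⟩
    show (secMod R U).map ((J.cocomplex.X i).map (homOfLE (Nat.le_add_right n 1)).op) ((secMod R U).map s z) = z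
    rw [← ConcreteCategory.comp_apply, ← (secMod R U).map_comp, hs, (secMod R U).map_id]
    rfl
  let G := secMod R U
  let T : ℕ → ℕᵒᵖ ⥤ AddCommGrpCat.{u} := fun i => J.cocomplex.X i ⋙ G
  have hL : ∀ i, IsLimit (G.mapCone (limit.cone (J.cocomplex.X i))) := fun i =>
    isLimitOfPreserves G (limit.isLimit _)
  let x' : ∀ n, (T (k + 1)).obj (op n) := fun n => G.map (limit.π (J.cocomplex.X (k + 1)) (op n)) x
  have hxw : ∀ n, (T (k + 1)).map (homOfLE (Nat.le_add_right n 1)).op (x' (n + 1)) = x' n := fun n =>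
    (ConcreteCategory.comp_apply _ _ x).symm.trans (by
      rw [show (T (k + 1)).map (homOfLE (Nat.le_add_right n 1)).op =
        G.map ((J.cocomplex.X (k + 1)).map (homOfLE (Nat.le_add_right n 1)).op) from rfl, ← Functor.map_comp,
        limit.w]
      rfl)
  have hxk : ∀ n, G.map ((J.cocomplex.d (k + 1) (k + 2)).app (op n)) (x' n) = 0 := fun n => by
    refine (ConcreteCategory.comp_apply _ _ x).symm.trans ?_
    rw [← Functor.map_comp, ← limMap_π, Functor.map_comp, ConcreteCategory.comp_apply, hx, map_zero]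
  obtain ⟨y, hy, hyx⟩ : ∃ y : ∀ n, (T k).obj (op n),
      (∀ n, (T k).map (homOfLE (Nat.le_add_right n 1)).op (y (n + 1)) = y n) ∧
        ∀ n, G.map ((J.cocomplex.d k (k + 1)).app (op n)) (y n) = x' n := by
    rcases k with _ | k
    · obtain ⟨z, hz⟩ := TowerLib.exists_lim_element (T 1) x' hxw
      obtain ⟨w, hw'⟩ := H9Misc.MLSeq.exists_lift
        (Functor.whiskerRight (show E ⟶ J.cocomplex.X 0 from J.ι.f 0) G)
        (Functor.whiskerRight (J.cocomplex.d 0 1) G)
        (fun ⟨n⟩ => by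
          ext a
          refine ⟨fun ha => sec_kernel_exact ((Φ n).map (J.ι.f 0)) ((Φ n).map (J.cocomplex.d 0 1)) (hw n) (hex₀ n) U a ha, ?_⟩
          rintro ⟨e, rfl⟩
          refine (ConcreteCategory.comp_apply _ _ e).symm.trans ?_
          exact (congrArg (fun q => q.hom.app (op U) e) (hw n)).trans rfl)
        (hML rfl U hU) z (fun ⟨n⟩ => by
          obtain ⟨t, ht⟩ := hexact 0 n (x' n) (hxk n)
          exact ⟨t, ht.trans (hz n).symm⟩)
      refine ⟨fun n => limit.π (T 0) (op n) w, fun n =>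
        ConcreteCategory.congr_hom (limit.w (T 0) (homOfLE (Nat.le_add_right n 1)).op) w, fun n => ?_⟩
      refine Eq.trans ?_ ((congrArg (limit.π (T 1) (op n)) hw').trans (hz n))
      exact (ConcreteCategory.congr_hom (limMap_π (Functor.whiskerRight (J.cocomplex.d 0 1) G) (op n)) w).symm
    · exact TowerLib.exists_compatible (W := T k) (X := T (k + 1)) (Y := T (k + 2))
        (Functor.whiskerRight (J.cocomplex.d k (k + 1)) G) (Functor.whiskerRight (J.cocomplex.d (k + 1) (k + 2)) G)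
        (by
          ext n : 2
          show G.map _ ≫ G.map _ = 0
          rw [← Functor.map_comp, ← NatTrans.comp_app, HomologicalComplex.d_comp_d, NatTrans.app_zero,
            Functor.map_zero])
        (hsurj k) (hexact k) x' hxw (fun n => hexact (k + 1) n (x' n) (hxk n))
  obtain ⟨w, hw'⟩ := TowerLib.exists_cone_element (T k) (hL k) y hy
  refine ⟨w, Concrete.isLimit_ext _ (hL (k + 1)) _ _ fun ⟨n⟩ => ?_⟩
  refine (ConcreteCategory.comp_apply _ _ w).symm.trans ?_
  show (G.map (limMap (J.cocomplex.d k (k + 1))) ≫ G.map (limit.π (J.cocomplex.X (k + 1)) (op n))) w = _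
  rw [← Functor.map_comp, limMap_π, Functor.map_comp, ConcreteCategory.comp_apply]
  exact (congrArg _ (hw' n)).trans (hyx n)

end Modules

end Groth.Agent.SiteBase.LimTowerBasis
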