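import Groth.Prelude.Def_CohTop
import Mathlib.Topology.Sheaves.Flasque
import Mathlib.CategoryTheory.Limits.Types.Limits
import Mathlib.CategoryTheory.Limits.Preserves.Limits
import Mathlib.CategoryTheory.Sites.Limits
import Mathlib.Algebra.Category.Grp.Limits
import Mathlib.Algebra.Category.Grp.EpiMono
import Mathlib.CategoryTheory.Abelian.Exact

/-!
# Towers of flasque sheaves
-/

universe u

open CategoryTheory CategoryTheory.Limits TopologicalSpace Opposite

namespace Groth.Agent.SiteBase.FlasqueTower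

variable {X : TopCat.{u}}

/-- The sections over an open. -/
noncomputable abbrev secF (U : Opens X) : CohTop.Ab X ⥤ AddCommGrpCat.{u} :=
  sheafToPresheaf (Opens.grothendieckTopology X) AddCommGrpCat.{u} ⋙ (evaluation _ _).obj (op U)

lemma sec_surjective {S : ShortComplex (CohTop.Ab X)} (hS : S.ShortExact) [TopCat.Sheaf.IsFlasque S.X₁]
    (U : Opens X) : Function.Surjective ((secF U).map S.g) :=
  (AddCommGrpCat.epi_iff_surjective _).mp (TopCat.Sheaf.IsFlasque.epi_of_shortExact hS)

variable (M : ℕᵒᵖ ⥤ CohTop.Ab X)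

/-- The transition maps. -/
noncomputable abbrev step (n : ℕ) : M.obj (op (n + 1)) ⟶ M.obj (op n) := M.map (homOfLE (Nat.le_succ n)).op

lemma exists_limit_section (U : Opens X) (t : ∀ n, (secF U).obj (M.obj (op n)))
    (ht : ∀ n, (secF U).map (step M n) (t (n + 1)) = t n) :
    ∃ x : (secF U).obj (limit M), ∀ n, (secF U).map (limit.π M (op n)) x = t n := by
  let G := secF U ⋙ forget AddCommGrpCat.{u}
  have h : ∀ m n (h : m ≤ n), G.map (M.map (homOfLE h).op) (t n) = t m := fun m n h => by
    induction n, h using Nat.le_induction with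
    | base =>
      rw [Subsingleton.elim (homOfLE le_rfl : m ⟶ m) (𝟙 m), op_id, M.map_id, G.map_id]
      rfl
    | succ n h ih =>
      rw [show (homOfLE (h.trans (Nat.le_succ n)) : m ⟶ n + 1).op = (homOfLE (Nat.le_succ n)).op ≫ (homOfLE h).op from rfl,
        M.map_comp, G.map_comp]
      exact (congrArg (G.map (M.map (homOfLE h).op)) (ht n)).trans ih
  let s : (M ⋙ G).sections := ⟨fun j => t j.unop, fun {i j} f => h j.unop i.unop (leOfHom f.unop)⟩
  obtain ⟨x, hx⟩ : ∃ x, Types.sectionOfCone (G.mapCone (limit.cone M)) x = s :=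
    ((Types.isLimit_iff_bijective_sectionOfCone _).1 ⟨isLimitOfPreserves G (limit.isLimit M)⟩).2 s
  exact ⟨x, fun n => congrArg (fun r : (M ⋙ G).sections => r.1 (op n)) hx⟩

lemma section_ext (U : Opens X) {x y : (secF U).obj (limit M)}
    (h : ∀ n, (secF U).map (limit.π M (op n)) x = (secF U).map (limit.π M (op n)) y) : x = y := by
  let G := secF U ⋙ forget AddCommGrpCat.{u}
  exact ((Types.isLimit_iff_bijective_sectionOfCone _).1 ⟨isLimitOfPreserves G (limit.isLimit M)⟩).1
    (Subtype.ext (funext fun j => h j.unop))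

lemma shortExact_kernel {A B : CohTop.Ab X} (f : A ⟶ B) [Epi f] :
    (ShortComplex.mk (kernel.ι f) f (kernel.condition f)).ShortExact where
  exact := ShortComplex.exact_of_f_is_kernel _ (kernelIsKernel f)

theorem isFlasque_limit (h : ∀ n : ℕ, TopCat.Sheaf.IsFlasque (M.obj (op n)))
    (he : ∀ n : ℕ, Epi (step M n)) (hk : ∀ n : ℕ, TopCat.Sheaf.IsFlasque (kernel (step M n) : CohTop.Ab X)) :
    TopCat.Sheaf.IsFlasque (limit M : CohTop.Ab X) where
  epi {W V} i := by
    refine (AddCommGrpCat.epi_iff_surjective _).2 fun s => ?_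
    let r : ∀ (A : CohTop.Ab X), (secF W.unop).obj A ⟶ (secF V.unop).obj A := fun A => A.obj.map i
    have hr : ∀ {A B : CohTop.Ab X} (φ : A ⟶ B) (a : (secF W.unop).obj A),
        r B ((secF W.unop).map φ a) = (secF V.unop).map φ (r A a) := fun φ a =>
      (NatTrans.naturality_apply φ.hom i a).symm
    have hsurj : ∀ {A : CohTop.Ab X}, TopCat.Sheaf.IsFlasque A → Function.Surjective (r A) := fun hA =>
      (AddCommGrpCat.epi_iff_surjective _).mp (hA.epi i)
    let sn : ∀ n, (secF V.unop).obj (M.obj (op n)) := fun n => (secF V.unop).map (limit.π M (op n)) s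
    have hsn : ∀ n, (secF V.unop).map (step M n) (sn (n + 1)) = sn n := fun n =>
      (ConcreteCategory.comp_apply _ _ _).symm.trans (congrArg (fun φ => φ s)
        (((secF V.unop).map_comp _ _).symm.trans (congrArg (secF V.unop).map (limit.w M (homOfLE (Nat.le_succ n)).op))))
    have hnext : ∀ n (a : {a : (secF W.unop).obj (M.obj (op n)) // r _ a = sn n}),
        ∃ b : (secF W.unop).obj (M.obj (op (n + 1))), r _ b = sn (n + 1) ∧ (secF W.unop).map (step M n) b = a.1 := by
      intro n ⟨a, ha⟩
      have := he n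
      have := hk n
      obtain ⟨b, hb⟩ := sec_surjective (shortExact_kernel (step M n)) W.unop a
      have hker : (secF V.unop).map (step M n) (sn (n + 1) - r _ b) = 0 := by
        rw [map_sub, hsn, ← hr, hb, ha, sub_self]
      obtain ⟨c, hc⟩ := (ShortComplex.ab_exact_iff _).1
        ((shortExact_kernel (step M n)).exact.map_of_mono_of_preservesKernel (secF V.unop) inferInstance inferInstance) _ hker
      obtain ⟨c', hc'⟩ := hsurj (hk n) c
      refine ⟨b + (secF W.unop).map (kernel.ι (step M n)) c', ?_, ?_⟩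
      · rw [map_add, hr, hc']
        exact (congrArg (r _ b + ·) hc).trans (add_sub_cancel _ _)
      · rw [map_add]
        refine (congrArg₂ (· + ·) hb ?_).trans (add_zero a)
        rw [← ConcreteCategory.comp_apply, ← Functor.map_comp, kernel.condition, Functor.map_zero]
        rfl
    choose nx hnx₁ hnx₂ using hnext
    obtain ⟨a₀, ha₀⟩ := hsurj (h 0) (sn 0)
    let t : ∀ n, {a : (secF W.unop).obj (M.obj (op n)) // r _ a = sn n} := fun n =>
      Nat.rec (motive := fun n => {a : (secF W.unop).obj (M.obj (op n)) // r _ a = sn n})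
        ⟨a₀, ha₀⟩ (fun n a => ⟨nx n a, hnx₁ n a⟩) n
    obtain ⟨x, hx⟩ := exists_limit_section M W.unop (fun n => (t n).1) fun n => hnx₂ n (t n)
    refine ⟨x, section_ext M V.unop fun n => ?_⟩
    refine (hr (limit.π M (op n)) x).symm.trans ?_
    rw [hx]
    exact (t n).2

theorem epi_limMap {S : ShortComplex (ℕᵒᵖ ⥤ CohTop.Ab X)} (hS : S.ShortExact)
    (h : ∀ n : ℕ, TopCat.Sheaf.IsFlasque (S.X₁.obj (op n)))
    (he : ∀ n : ℕ, Epi (step S.X₁ n))
    (hk : ∀ n : ℕ, TopCat.Sheaf.IsFlasque (kernel (step S.X₁ n) : CohTop.Ab X)) : Epi (limMap S.g) := by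
  have hn : ∀ n, (S.map ((evaluation ℕᵒᵖ (CohTop.Ab X)).obj (op n))).ShortExact := fun n =>
    hS.map_of_exact _
  have : Epi (limMap S.g).hom := by
    have : ∀ U, Epi ((limMap S.g).hom.app U) := fun U => by
      refine (AddCommGrpCat.epi_iff_surjective _).2 fun s => ?_
      let E := secF U.unop
      let sn : ∀ n, E.obj (S.X₃.obj (op n)) := fun n => E.map (limit.π S.X₃ (op n)) s
      have hnext : ∀ n (a : {a : E.obj (S.X₂.obj (op n)) // E.map (S.g.app (op n)) a = sn n}),
          ∃ b : E.obj (S.X₂.obj (op (n + 1))),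
            E.map (S.g.app (op (n + 1))) b = sn (n + 1) ∧ E.map (step S.X₂ n) b = a.1 := by
        intro n ⟨a, ha⟩
        have := h (n + 1)
        have := he n
        have := hk n
        obtain ⟨b, hb⟩ : ∃ b : E.obj (S.X₂.obj (op (n + 1))), E.map (S.g.app (op (n + 1))) b = sn (n + 1) :=
          @sec_surjective _ _ (hn (n + 1)) (h (n + 1)) U.unop (sn (n + 1))
        have hz : E.map (S.g.app (op n)) (a - E.map (step S.X₂ n) b) = 0 := by
          rw [map_sub, ha, ← ConcreteCategory.comp_apply, ← E.map_comp, S.g.naturality, E.map_comp,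
            ConcreteCategory.comp_apply]
          refine sub_eq_zero.2 (Eq.trans ?_ (congrArg (E.map (step S.X₃ n)) hb).symm)
          exact ((ConcreteCategory.comp_apply _ _ _).symm.trans (congrArg (fun φ => φ s)
            ((E.map_comp _ _).symm.trans (congrArg E.map (limit.w S.X₃ (homOfLE (Nat.le_succ n)).op))))).symm
        obtain ⟨c, hc⟩ := (ShortComplex.ab_exact_iff _).1
          ((hn n).exact.map_of_mono_of_preservesKernel E (hn n).mono_f inferInstance) _ hz
        obtain ⟨c', hc'⟩ := sec_surjective (shortExact_kernel (step S.X₁ n)) U.unop c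
        refine ⟨b + E.map (S.f.app (op (n + 1))) c', ?_, ?_⟩
        · rw [map_add]
          refine (congrArg₂ (· + ·) hb ?_).trans (add_zero _)
          have := congrArg (fun φ : S.X₁ ⟶ S.X₃ => E.map (φ.app (op (n + 1)))) S.zero
          exact ((ConcreteCategory.comp_apply _ _ _).symm.trans (congrArg (fun φ => φ c')
            ((E.map_comp _ _).symm.trans (this.trans (E.map_zero _ _))))).trans rfl
        · rw [map_add, ← ConcreteCategory.comp_apply (E.map (S.f.app _)) (E.map (step S.X₂ n)), ← E.map_comp,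
            ← S.f.naturality, E.map_comp, ConcreteCategory.comp_apply]
          exact (congrArg (E.map (step S.X₂ n) b + ·) ((congrArg (E.map (S.f.app (op n))) hc').trans hc)).trans
            (add_sub_cancel _ _)
      choose nx hnx₁ hnx₂ using hnext
      obtain ⟨a₀, ha₀⟩ := @sec_surjective _ _ (hn 0) (h 0) U.unop (sn 0)
      let t : ∀ n, {a : E.obj (S.X₂.obj (op n)) // E.map (S.g.app (op n)) a = sn n} := fun n =>
        Nat.rec (motive := fun n => {a : E.obj (S.X₂.obj (op n)) // E.map (S.g.app (op n)) a = sn n})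
          ⟨a₀, ha₀⟩ (fun n a => ⟨nx n a, hnx₁ n a⟩) n
      obtain ⟨x, hx⟩ := exists_limit_section S.X₂ U.unop (fun n => (t n).1) fun n => hnx₂ n (t n)
      refine ⟨x, section_ext S.X₃ U.unop fun n => ?_⟩
      show E.map (limit.π S.X₃ (op n)) (E.map (limMap S.g) x) = _
      rw [← ConcreteCategory.comp_apply, ← E.map_comp, limMap_π, E.map_comp, ConcreteCategory.comp_apply]
      exact (congrArg (E.map (S.g.app (op n))) (hx n)).trans (t n).2
    exact NatTrans.epi_of_epi_app _
  exact (sheafToPresheaf _ _).epi_of_epi_map this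

end Groth.Agent.SiteBase.FlasqueTower
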