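import Mathlib.AlgebraicTopology.ExtraDegeneracy
import Mathlib.AlgebraicTopology.AlternatingFaceMapComplex
import Mathlib.Algebra.Category.Grp.Adjunctions
import Mathlib.Algebra.Category.Grp.Abelian
import Mathlib.Algebra.Homology.QuasiIso
import Mathlib.Algebra.Homology.SingleHomology
import Mathlib.Algebra.Homology.ShortComplex.Ab

/-!
# Free abelian groups on a nerve of a map of sets: exactness
-/

universe u

open CategoryTheory Limits Opposite Simplicial

namespace Groth.Agent.SiteBase

variable (S : SimplicialObject.Augmented (Type u))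

/-- The `i`-th vertex of a simplex. -/
def vtx {n : SimplexCategory} (x : S.left.obj (op n)) (i : Fin (n.len + 1)) : S.left.obj (op ⦋0⦌) :=
  S.left.map (SimplexCategory.const ⦋0⦌ n i).op x

/-- The augmentation. -/
def aug {n : SimplexCategory} (x : S.left.obj (op n)) : S.right := S.hom.app (op n) x

lemma vtx_map {n m : SimplexCategory} (θ : n ⟶ m) (x : S.left.obj (op m)) (i : Fin (n.len + 1)) :
    vtx S (S.left.map θ.op x) i = vtx S x (θ.toOrderHom i) := by
  refine (ConcreteCategory.congr_hom (S.left.map_comp θ.op (SimplexCategory.const ⦋0⦌ n i).op) x).symm.trans ?_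
  rfl

lemma aug_map {n m : SimplexCategory} (θ : n ⟶ m) (x : S.left.obj (op m)) :
    aug S (S.left.map θ.op x) = aug S x :=
  ConcreteCategory.congr_hom (S.hom.naturality θ.op) x

lemma aug_vtx {n : SimplexCategory} (x : S.left.obj (op n)) (i : Fin (n.len + 1)) :
    aug S (vtx S x i) = aug S x := aug_map S _ x

/-- Simplices are exactly tuples of vertices with the same augmentation. -/
structure IsNerveLike : Prop where
  ext : ∀ {n : ℕ} (x y : S.left.obj (op ⦋n⦌)), (∀ i, vtx S x i = vtx S y i) → x = y
  exists_simplex : ∀ {n : ℕ} (g : Fin (n + 1) → S.left.obj (op ⦋0⦌)),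
    (∀ i, aug S (g i) = aug S (g 0)) → ∃ x : S.left.obj (op ⦋n⦌), ∀ i, vtx S x i = g i

/-- The augmentation replaced by its corestriction to its range. -/
def rangeAug : SimplicialObject.Augmented (Type u) where
  left := S.left
  right := Set.range (aug S (n := ⦋0⦌))
  hom :=
    { app := fun n => TypeCat.ofHom fun x => ⟨aug S (n := n.unop) x, vtx S x 0, aug_vtx S x 0⟩
      naturality := fun n m θ => by
        ext x
        exact Subtype.ext (aug_map S θ.unop x) }

variable {S}

lemma vtx_zero (x : S.left.obj (op ⦋0⦌)) (i : Fin 1) : vtx S (n := ⦋0⦌) x i = x := by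
  have : SimplexCategory.const ⦋0⦌ ⦋0⦌ i = 𝟙 _ := Subsingleton.elim _ _
  rw [vtx, this, op_id, S.left.map_id]
  rfl

/-- A nerve with augmentation corestricted to the range has an extra degeneracy. -/
theorem IsNerveLike.nonempty_extraDegeneracy (h : IsNerveLike S) :
    Nonempty (rangeAug S).ExtraDegeneracy := by
  choose sec hsec using fun b : Set.range (aug S (n := ⦋0⦌)) => b.2
  have hcons : ∀ (n : ℕ) (x : S.left.obj (op ⦋n⦌)), ∃ y : S.left.obj (op ⦋n + 1⦌),
      ∀ i, vtx S y i = (Fin.cons (sec ⟨aug S x, vtx S x 0, aug_vtx S x 0⟩) (vtx S x) : Fin (n + 2) → _) i := by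
    intro n x
    refine h.exists_simplex _ fun i => ?_
    induction i using Fin.cases with
    | zero => rfl
    | succ i => simp [aug_vtx, hsec]
  choose s hs using hcons
  refine ⟨{
    s' := TypeCat.ofHom sec
    s := fun n => TypeCat.ofHom (s n)
    s'_comp_ε := ?_
    s₀_comp_δ₁ := ?_
    s_comp_δ₀ := ?_
    s_comp_δ := ?_
    s_comp_σ := ?_ }⟩
  · ext b
    exact Subtype.ext (hsec b)
  · ext x
    refine h.ext _ _ fun i => ?_
    refine (vtx_map S (SimplexCategory.δ 1) (s 0 x) i).trans ?_
    refine (hs 0 x _).trans ?_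
    fin_cases i
    exact (vtx_zero _ 0).symm
  · intro n
    ext x
    refine h.ext _ _ fun i => ?_
    refine (vtx_map S (SimplexCategory.δ 0) (s n x) i).trans ?_
    refine (hs n x _).trans ?_
    exact Fin.cons_succ _ _ i
  · intro n j
    ext x
    refine h.ext _ _ fun i => ?_
    refine (vtx_map S (SimplexCategory.δ j.succ) (s (n + 1) x) i).trans ?_
    refine (hs (n + 1) x _).trans (Eq.trans ?_ (hs n _ i).symm)
    show Fin.cons _ _ (j.succ.succAbove i) = _
    induction i using Fin.cases with
    | zero =>
      rw [Fin.succ_succAbove_zero, Fin.cons_zero, Fin.cons_zero]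
      exact congrArg sec (Subtype.ext (aug_map S (SimplexCategory.δ j) x).symm)
    | succ i =>
      rw [Fin.succ_succAbove_succ, Fin.cons_succ, Fin.cons_succ]
      exact (vtx_map S (SimplexCategory.δ j) x i).symm
  · intro n j
    ext x
    refine h.ext _ _ fun i => ?_
    refine (vtx_map S (SimplexCategory.σ j.succ) (s n x) i).trans ?_
    refine (hs n x _).trans (Eq.trans ?_ (hs (n + 1) _ i).symm)
    show Fin.cons _ _ (j.succ.predAbove i) = _
    induction i using Fin.cases with
    | zero =>
      rw [show j.succ.predAbove (0 : Fin (n + 3)) = 0 from by simp [Fin.predAbove], Fin.cons_zero, Fin.cons_zero]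
      exact congrArg sec (Subtype.ext (aug_map S (SimplexCategory.σ j) x).symm)
    | succ i =>
      rw [Fin.succ_predAbove_succ, Fin.cons_succ, Fin.cons_succ]
      exact (vtx_map S (SimplexCategory.σ j) x i).symm

variable (S)

/-- The free simplicial abelian group. -/
noncomputable abbrev freeAug : SimplicialObject.Augmented AddCommGrpCat.{u} :=
  ((SimplicialObject.Augmented.whiskering _ _).obj AddCommGrpCat.free.{u}).obj S

/-- The complex of free abelian groups. -/
noncomputable abbrev freeChain : ChainComplex AddCommGrpCat.{u} ℕ :=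
  AlgebraicTopology.AlternatingFaceMapComplex.obj (SimplicialObject.Augmented.drop.obj (freeAug S))

variable {S}

lemma IsNerveLike.quasiIso_rangeAug (h : IsNerveLike S) :
    QuasiIso ((AlgebraicTopology.AlternatingFaceMapComplex.ε (C := AddCommGrpCat.{u})).app
      (freeAug (rangeAug S))) := by
  obtain ⟨ed⟩ := h.nonempty_extraDegeneracy
  exact (inferInstance : QuasiIso (ed.map AddCommGrpCat.free.{u}).homotopyEquiv.hom)

theorem IsNerveLike.exactAt_freeChain (h : IsNerveLike S) (n : ℕ) : (freeChain S).ExactAt (n + 1) := by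
  have := h.quasiIso_rangeAug
  refine (quasiIsoAt_iff_exactAt' ((AlgebraicTopology.AlternatingFaceMapComplex.ε
    (C := AddCommGrpCat.{u})).app (freeAug (rangeAug S))) (n + 1)
    (ChainComplex.exactAt_succ_single_obj _ _)).1 inferInstance

theorem IsNerveLike.exact_freeChain_zero (h : IsNerveLike S) {x : (freeChain S).X 0}
    (hx : ((freeAug S).hom.app (op ⦋0⦌)).hom x = 0) :
    ∃ y, ((freeChain S).d 1 0).hom y = x := by
  have hq := h.quasiIso_rangeAug
  have hq0 : QuasiIsoAt ((AlgebraicTopology.AlternatingFaceMapComplex.ε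
    (C := AddCommGrpCat.{u})).app (freeAug (rangeAug S))) 0 := inferInstance
  rw [ChainComplex.quasiIsoAt₀_iff, ShortComplex.quasiIso_iff_of_zeros' _ (by simp; rfl) (by simp; rfl) (by simp; rfl),
    ShortComplex.ab_exact_iff] at hq0
  refine hq0.1 x ?_
  let ι' : (rangeAug S).right ⟶ S.right := TypeCat.ofHom Subtype.val
  have hι : Function.Injective (AddCommGrpCat.free.map ι').hom :=
    haveI : Mono ι' := (mono_iff_injective _).2 Subtype.val_injective
    (AddCommGrpCat.mono_iff_injective _).1 (AddCommGrpCat.free.{u}.map_mono ι')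
  refine hι (Eq.trans ?_ (map_zero _).symm)
  refine Eq.trans ?_ hx
  have e : (((AlgebraicTopology.AlternatingFaceMapComplex.ε
      (C := AddCommGrpCat.{u})).app (freeAug (rangeAug S))).f 0) =
      (freeAug (rangeAug S)).hom.app (op ⦋0⦌) := by
    simp only [AlgebraicTopology.AlternatingFaceMapComplex.ε]
    exact ChainComplex.toSingle₀Equiv_symm_apply_f_zero (V := AddCommGrpCat.{u}) _ _
  refine (congrArg (fun m => (AddCommGrpCat.free.map ι').hom (m.hom x)) e).trans ?_
  exact (ConcreteCategory.congr_hom (AddCommGrpCat.free.map_comp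
    ((rangeAug S).hom.app (op ⦋0⦌)) ι') x).symm

end Groth.Agent.SiteBase
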