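import Groth.Agent.SiteBase.WideCospan
import Groth.Agent.SiteBase.NerveLike
import Groth.Agent.SiteBase.HKRep
import Mathlib.AlgebraicTopology.AlternatingFaceMapComplex
import Mathlib.CategoryTheory.Sites.Limits

/-!
# The free Cech nerve of an epimorphism of sheaves of sets resolves
-/

universe u

open CategoryTheory CategoryTheory.Limits Opposite Simplicial AlgebraicTopology

namespace Groth.Agent.SiteBase

variable {C : Type u} [SmallCategory C] {J : GrothendieckTopology C}

/-- Sections of a sheaf of sets as maps out of the sheaf of a representable. -/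
noncomputable def secT (U : C) (F : Sheaf J (Type u)) : (hSheaf J U ⟶ F) ≃ F.obj.obj (op U) :=
  ((sheafificationAdjunction J (Type u)).homEquiv _ _).trans yonedaEquiv

lemma secT_comp (U : C) {F G : Sheaf J (Type u)} (φ : hSheaf J U ⟶ F) (g : F ⟶ G) :
    secT U G (φ ≫ g) = g.hom.app (op U) (secT U F φ) := rfl

/-- An augmented simplicial sheaf of sets whose simplices are the tuples of vertices over the base. -/
structure SheafNerveLike (X : SimplicialObject.Augmented (Sheaf J (Type u))) : Prop where
  hom_ext : ∀ {n : ℕ} {T : Sheaf J (Type u)} (a b : T ⟶ X.left.obj (op ⦋n⦌)),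
    (∀ i, a ≫ X.left.map (SimplexCategory.const ⦋0⦌ ⦋n⦌ i).op =
      b ≫ X.left.map (SimplexCategory.const ⦋0⦌ ⦋n⦌ i).op) → a = b
  exists_lift : ∀ {n : ℕ} {T : Sheaf J (Type u)} (a : Fin (n + 1) → (T ⟶ X.left.obj (op ⦋0⦌))),
    (∀ i, a i ≫ X.hom.app (op ⦋0⦌) = a 0 ≫ X.hom.app (op ⦋0⦌)) →
    ∃ φ : T ⟶ X.left.obj (op ⦋n⦌), ∀ i, φ ≫ X.left.map (SimplexCategory.const ⦋0⦌ ⦋n⦌ i).op = a i

variable (X : SimplicialObject.Augmented (Sheaf J (Type u)))

/-- Sections over `U`. -/
noncomputable abbrev augAt (U : C) : SimplicialObject.Augmented (Type u) :=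
  ((SimplicialObject.Augmented.whiskering _ _).obj
    (sheafToPresheaf J (Type u) ⋙ (evaluation Cᵒᵖ (Type u)).obj (op U))).obj X

lemma vtx_augAt (U : C) {n : ℕ} (φ : hSheaf J U ⟶ X.left.obj (op ⦋n⦌)) (i : Fin (n + 1)) :
    vtx (augAt X U) (n := ⦋n⦌) (secT U _ φ) i =
      secT U _ (φ ≫ X.left.map (SimplexCategory.const ⦋0⦌ ⦋n⦌ i).op) := rfl

variable {X}

lemma SheafNerveLike.isNerveLike_augAt (hX : SheafNerveLike X) (U : C) : IsNerveLike (augAt X U) where
  ext {n} x y h := by
    obtain ⟨φ, rfl⟩ := (secT U (X.left.obj (op ⦋n⦌))).surjective x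
    obtain ⟨ψ, rfl⟩ := (secT U (X.left.obj (op ⦋n⦌))).surjective y
    refine congrArg _ (hX.hom_ext φ ψ fun i => (secT U _).injective ?_)
    exact (vtx_augAt X U φ i).symm.trans ((h i).trans (vtx_augAt X U ψ i))
  exists_simplex {n} g hg := by
    choose a ha using fun i => (secT U (X.left.obj (op ⦋0⦌))).surjective (g i)
    have hw : ∀ i, a i ≫ X.hom.app (op ⦋0⦌) = a 0 ≫ X.hom.app (op ⦋0⦌) := fun i =>
      (secT U _).injective (by
        have := hg i
        rw [← ha i, ← ha 0] at this
        exact this)
    obtain ⟨φ, hφ⟩ := hX.exists_lift a hw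
    exact ⟨secT U _ φ, fun i => (vtx_augAt X U φ i).trans ((congrArg _ (hφ i)).trans (ha i))⟩

variable (X)

/-- The free abelian presheaves on the augmented nerve. -/
noncomputable abbrev freePshNerve : SimplicialObject.Augmented (Cᵒᵖ ⥤ AddCommGrpCat.{u}) :=
  ((SimplicialObject.Augmented.whiskering _ _).obj
    (sheafToPresheaf J (Type u) ⋙ (Functor.whiskeringRight _ _ _).obj AddCommGrpCat.free.{u})).obj X

/-- The free abelian sheaves on the augmented nerve. -/
noncomputable abbrev freeShNerve : SimplicialObject.Augmented (Sheaf J AddCommGrpCat.{u}) :=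
  ((SimplicialObject.Augmented.whiskering _ _).obj
    (Sheaf.composeAndSheafify J AddCommGrpCat.free.{u})).obj X

/-- The complex of free abelian sheaves on the nerve. -/
noncomputable abbrev freeShChain : ChainComplex (Sheaf J AddCommGrpCat.{u}) ℕ :=
  AlternatingFaceMapComplex.obj (SimplicialObject.Augmented.drop.obj (freeShNerve X))

/-- The complex of free abelian presheaves on the nerve. -/
noncomputable abbrev freePshChain : ChainComplex (Cᵒᵖ ⥤ AddCommGrpCat.{u}) ℕ :=
  AlternatingFaceMapComplex.obj (SimplicialObject.Augmented.drop.obj (freePshNerve X))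

lemma evaluation_freePshChain (U : C) :
    (((evaluation Cᵒᵖ AddCommGrpCat.{u}).obj (op U)).mapHomologicalComplex _).obj (freePshChain X) =
      freeChain (augAt X U) :=
  Functor.congr_obj (map_alternatingFaceMapComplex ((evaluation Cᵒᵖ AddCommGrpCat.{u}).obj (op U)))
    (SimplicialObject.Augmented.drop.obj (freePshNerve X))

lemma sheafify_freePshChain :
    ((presheafToSheaf J AddCommGrpCat.{u}).mapHomologicalComplex _).obj (freePshChain X) =
      freeShChain X :=
  Functor.congr_obj (map_alternatingFaceMapComplex (presheafToSheaf J AddCommGrpCat.{u}))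
    (SimplicialObject.Augmented.drop.obj (freePshNerve X))

lemma exact_of_evaluation_op (S : ShortComplex (Cᵒᵖ ⥤ AddCommGrpCat.{u}))
    (h : ∀ U, (S.map ((evaluation Cᵒᵖ AddCommGrpCat.{u}).obj (op U))).Exact) : S.Exact := by
  rw [ShortComplex.exact_iff_isZero_homology]
  refine Functor.isZero _ fun T => ?_
  exact ((ShortComplex.exact_iff_isZero_homology _).1 (h T.unop)).of_iso
    (S.mapHomologyIso ((evaluation Cᵒᵖ AddCommGrpCat.{u}).obj T)).symm

variable {X}

theorem exactAt_freeShChain (hX : SheafNerveLike X) (n : ℕ) : (freeShChain X).ExactAt (n + 1) := by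
  rw [← sheafify_freePshChain]
  have h : ((freePshChain X).sc (n + 1)).Exact := exact_of_evaluation_op _ fun U => by
    have := (hX.isNerveLike_augAt U).exactAt_freeChain n
    rw [← evaluation_freePshChain] at this
    exact this
  exact h.map (presheafToSheaf J AddCommGrpCat.{u})

lemma d_comp_aug {A : Type*} [Category A] [Preadditive A] [HasZeroObject A]
    (X : SimplicialObject.Augmented A) :
    (AlternatingFaceMapComplex.obj (SimplicialObject.Augmented.drop.obj X)).d 1 0 ≫
      X.hom.app (op ⦋0⦌) = 0 := by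
  show (AlternatingFaceMapComplex.obj X.left).d 1 0 ≫ X.hom.app (op ⦋0⦌) = 0
  rw [AlternatingFaceMapComplex.obj_d_eq, Fin.sum_univ_two, Fin.val_zero, pow_zero, one_smul,
    Fin.val_one, pow_one, neg_smul, one_smul, Preadditive.add_comp, Preadditive.neg_comp]
  erw [X.hom.naturality, X.hom.naturality]
  exact add_neg_cancel _

variable (X) in
/-- The end of the augmented complex. -/
noncomputable abbrev freeShAugSc : ShortComplex (Sheaf J AddCommGrpCat.{u}) :=
  ShortComplex.mk ((freeShChain X).d 1 0) ((freeShNerve X).hom.app (op ⦋0⦌)) (d_comp_aug _)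

theorem exact_freeShAugSc (hX : SheafNerveLike X) : (freeShAugSc X).Exact := by
  let S : ShortComplex (Cᵒᵖ ⥤ AddCommGrpCat.{u}) :=
    ShortComplex.mk ((freePshChain X).d 1 0) ((freePshNerve X).hom.app (op ⦋0⦌)) (d_comp_aug _)
  have h : S.Exact := exact_of_evaluation_op _ fun U => (ShortComplex.ab_exact_iff _).2 fun x hx => by
    obtain ⟨y, hy⟩ := (hX.isNerveLike_augAt U).exact_freeChain_zero (x := x) hx
    have e : ((freePshChain X).d 1 0).app (op U) = (freeChain (augAt X U)).d 1 0 := by
      simp only [AlternatingFaceMapComplex.obj_d_eq, Fin.sum_univ_two]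
      rfl
    exact ⟨y, (congrArg (fun m => m.hom y) e).trans hy⟩
  have h' := h.map (presheafToSheaf J AddCommGrpCat.{u})
  have e : (presheafToSheaf J AddCommGrpCat.{u}).map ((freePshChain X).d 1 0) =
      (freeShChain X).d 1 0 := by
    simp only [AlternatingFaceMapComplex.obj_d_eq]
    refine (Functor.map_sum _ _ _).trans (Finset.sum_congr rfl fun i _ => ?_)
    exact Functor.map_zsmul _
  exact ShortComplex.exact_of_iso (S₁ := S.map (presheafToSheaf J AddCommGrpCat.{u})) (S₂ := freeShAugSc X)
    (ShortComplex.isoMk (Iso.refl _) (Iso.refl _) (Iso.refl _)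
      ((Category.id_comp _).trans (e.symm.trans (Category.comp_id _).symm))
      ((Category.id_comp _).trans (Category.comp_id _).symm)) h'

section Cech

variable {D : Type u} [SmallCategory D] {K₀ : GrothendieckTopology D}
  {K' K : Sheaf K₀ (Type u)} (f : K' ⟶ K)

/-- The augmented Cech nerve. -/
noncomputable abbrev nerve : SimplicialObject.Augmented (Sheaf K₀ (Type u)) :=
  (Arrow.mk f).augmentedCechNerve

/-- The map `K' ⟶ K'` seen as the zeroth fibre power. -/
noncomputable def toPbZero : K' ⟶ widePullback K (fun _ : Fin 1 => K') (fun _ => f) :=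
  WidePullback.lift (arrows := fun _ : Fin 1 => f) f (fun _ => 𝟙 _) (fun _ => Category.id_comp _)

lemma isIso_pbπ_zero : IsIso (WidePullback.π (fun _ : Fin 1 => f) 0) := by
  refine ⟨toPbZero f, ?_, WidePullback.lift_π _ _ _ _ _⟩
  refine WidePullback.hom_ext _ _ _ (fun j => ?_) ?_
  · obtain rfl : j = 0 := Subsingleton.elim j 0
    rw [Category.assoc, toPbZero, WidePullback.lift_π, Category.comp_id, Category.id_comp]
  · rw [Category.assoc, toPbZero, WidePullback.lift_base, Category.id_comp]
    exact WidePullback.π_arrow (fun _ : Fin 1 => f) 0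

/-- Left exact functors carry Cech nerves to nerve-like objects. -/
theorem sheafNerveLike_map (L : Sheaf K₀ (Type u) ⥤ Sheaf J (Type u)) [PreservesLimitsOfShape WalkingCospan L] :
    SheafNerveLike (((SimplicialObject.Augmented.whiskering _ _).obj L).obj (nerve f)) := by
  have := isIso_pbπ_zero f
  have hvtx : ∀ (n : ℕ) (i : Fin (n + 1)),
      L.map ((nerve f).left.map (SimplexCategory.const ⦋0⦌ ⦋n⦌ i).op) ≫
        L.map (WidePullback.π (fun _ : Fin 1 => f) 0) =
      L.map (WidePullback.π (fun _ : Fin (n + 1) => f) i) := fun n i =>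
    (L.map_comp _ _).symm.trans (congrArg L.map (WidePullback.lift_π _ _ _ _ _))
  have hbase : ∀ (n : ℕ) (i : Fin (n + 1)),
      L.map (WidePullback.base (fun _ : Fin (n + 1) => f)) =
        L.map (WidePullback.π (fun _ : Fin (n + 1) => f) i) ≫ L.map f := fun n i =>
    (congrArg L.map (WidePullback.π_arrow (fun _ : Fin (n + 1) => f) i).symm).trans (L.map_comp _ _)
  have := fun n : ℕ => preservesLimit_wideCospan f L n
  let lim := fun n : ℕ => isLimitOfPreserves L
    (limit.isLimit (WidePullbackShape.wideCospan K (fun _ : Fin (n + 1) => K') fun _ => f))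
  refine ⟨fun {n T} a b h => ?_, fun {n T} a hw => ?_⟩
  · have h' : ∀ i, a ≫ L.map (WidePullback.π (fun _ : Fin (n + 1) => f) i) =
        b ≫ L.map (WidePullback.π (fun _ : Fin (n + 1) => f) i) := fun i =>
      (congrArg (a ≫ ·) (hvtx n i).symm).trans ((Category.assoc _ _ _).symm.trans
        ((congrArg (· ≫ L.map (WidePullback.π (fun _ : Fin 1 => f) 0)) (h i)).trans
          ((Category.assoc _ _ _).trans (congrArg (b ≫ ·) (hvtx n i)))))
    refine (lim n).hom_ext fun j => ?_
    rcases j with _ | i
    · show a ≫ L.map (WidePullback.base (fun _ : Fin (n + 1) => f)) =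
        b ≫ L.map (WidePullback.base (fun _ : Fin (n + 1) => f))
      exact (congrArg (a ≫ ·) (hbase n 0)).trans ((Category.assoc _ _ _).symm.trans
        ((congrArg (· ≫ L.map f) (h' 0)).trans ((Category.assoc _ _ _).trans
          (congrArg (b ≫ ·) (hbase n 0).symm))))
    · exact h' i
  · let b : T ⟶ L.obj K := a 0 ≫ L.map ((nerve f).hom.app (op ⦋0⦌))
    let p : Fin (n + 1) → (T ⟶ L.obj K') := fun i => a i ≫ L.map (WidePullback.π (fun _ : Fin 1 => f) 0)
    have hp : ∀ i, p i ≫ L.map f = b := fun i =>
      (Category.assoc _ _ _).trans ((congrArg (a i ≫ ·) (hbase 0 0).symm).trans (hw i))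
    let c : Cone (WidePullbackShape.wideCospan K (fun _ : Fin (n + 1) => K') (fun _ => f) ⋙ L) :=
      { pt := T
        π :=
          { app := fun j => match j with
              | none => b
              | some i => p i
            naturality := fun j k g => by
              cases g with
              | id j =>
                erw [CategoryTheory.Functor.map_id, CategoryTheory.Functor.map_id]
                exact (Category.id_comp _).trans (Category.comp_id _).symm
              | term i => exact (Category.id_comp _).trans (hp i).symm } }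
    have hlift : ∀ i, (lim n).lift c ≫ L.map (WidePullback.π (fun _ : Fin (n + 1) => f) i) = p i :=
      fun i => (lim n).fac c (some i)
    refine ⟨(lim n).lift c, fun i => ?_⟩
    refine (cancel_mono (L.map (WidePullback.π (fun _ : Fin 1 => f) 0))).1 ?_
    refine ((Category.assoc _ _ _).trans (congrArg ((lim n).lift c ≫ ·) (hvtx n i))).trans ?_
    exact hlift i

/-- Cech nerves are nerve-like. -/
theorem sheafNerveLike_nerve : SheafNerveLike (nerve f) :=
  sheafNerveLike_map f (𝟭 _)

end Cech

variable {K' K : Sheaf J (Type u)} (f : K' ⟶ K)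

lemma epi_freeShNerve_aug [Epi f] : Epi ((freeShNerve (nerve f)).hom.app (op ⦋0⦌)) := by
  have h : Epi ((nerve f).hom.app (op ⦋0⦌)) := by
    let l : K' ⟶ (nerve f).left.obj (op ⦋0⦌) :=
      WidePullback.lift (arrows := fun _ : Fin 1 => f) f (fun _ => 𝟙 _) (fun _ => Category.id_comp _)
    have e : l ≫ (nerve f).hom.app (op ⦋0⦌) = f := WidePullback.lift_base _ _ _ _
    exact @epi_of_epi_fac _ _ _ _ _ l ((nerve f).hom.app (op ⦋0⦌)) f ‹Epi f› e
  exact (Sheaf.composeAndSheafify J AddCommGrpCat.free.{u}).map_epi _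

theorem quasiIso_freeShNerve [Epi f] :
    QuasiIso ((AlternatingFaceMapComplex.ε (C := Sheaf J AddCommGrpCat.{u})).app (freeShNerve (nerve f))) where
  quasiIsoAt n := by
    rcases n with _ | n
    · rw [ChainComplex.quasiIsoAt₀_iff,
        ShortComplex.quasiIso_iff_of_zeros' _ (by simp; rfl) (by simp; rfl) (by simp; rfl)]
      have e : ((AlternatingFaceMapComplex.ε (C := Sheaf J AddCommGrpCat.{u})).app (freeShNerve (nerve f))).f 0 =
          (freeShNerve (nerve f)).hom.app (op ⦋0⦌) := by
        simp only [AlternatingFaceMapComplex.ε]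
        exact ChainComplex.toSingle₀Equiv_symm_apply_f_zero (V := Sheaf J AddCommGrpCat.{u}) _ _
      refine ⟨(ShortComplex.exact_iff_of_iso (ShortComplex.isoMk (Iso.refl _) (Iso.refl _) (Iso.refl _)
        ((Category.id_comp _).trans (Category.comp_id _).symm) ?_)).1
          (exact_freeShAugSc (sheafNerveLike_nerve f)), ?_⟩
      · exact (Category.id_comp _).trans (e.trans (Category.comp_id _).symm)
      · have := epi_freeShNerve_aug f
        show Epi (((AlternatingFaceMapComplex.ε (C := Sheaf J AddCommGrpCat.{u})).app (freeShNerve (nerve f))).f 0)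
        rw [e]
        exact this
    · exact (quasiIsoAt_iff_exactAt' _ _ (ChainComplex.exactAt_succ_single_obj _ _)).2
        (exactAt_freeShChain (sheafNerveLike_nerve f) n)

end Groth.Agent.SiteBase
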