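import Groth.Agent.ModPull.Criterion
import Groth.Agent.ModTensor.FreeOn
import Mathlib.Algebra.Category.ModuleCat.Sheaf.Quasicoherent

/-!
# Local factorisation through free modules
-/

set_option autoImplicit false
set_option backward.isDefEq.respectTransparency false
set_option linter.style.haveILetI false
set_option linter.unusedSectionVars false

universe u

open CategoryTheory CategoryTheory.Limits Opposite
open Groth.Agent.ModTensor Groth.Agent.ModPull

noncomputable section

namespace Groth.Agent.LocalFactor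

section FreeCalculus

variable {C : Type u} [SmallCategory C] {J : GrothendieckTopology C} {O : Sheaf J CommRingCat.{u}} {ι : Type u}

variable (O) in
/-- The free module on a type. -/
abbrev fr (ι : Type u) : ModSite.Mod O := SheafOfModules.free (R := ModSite.ringSh O) ι

/-- A basis section of a free module. -/
def fsec (i : ι) (X : Cᵒᵖ) : ((fg O).obj (fr O ι)).obj X :=
  (SheafOfModules.freeSection (R := ModSite.ringSh O) i).val X

/-- The value of a global section. -/
def sval {M : ModSite.Mod O} (s : M.sections) (X : Cᵒᵖ) : ((fg O).obj M).obj X := s.val X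

/-- Maps out of free modules from sections. -/
abbrev fdesc {M : ModSite.Mod O} (f : ι → M.sections) : fr O ι ⟶ M := M.freeHomEquiv.symm f

lemma fdesc_fsec {M : ModSite.Mod O} (f : ι → M.sections) (i : ι) (X : Cᵒᵖ) :
    ((fg O).map (fdesc f)).app X (fsec i X) = (f i).val X :=
  congrArg (fun s : M.sections => s.val X) (SheafOfModules.sectionsMap_freeHomEquiv_symm_freeSection f i)

lemma rs_fsec (i : ι) {X Y : Cᵒᵖ} (g : X ⟶ Y) : rs ((fg O).obj (fr O ι)) g (fsec i X) = fsec i Y :=
  (SheafOfModules.freeSection (R := ModSite.ringSh O) i).property g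

/-- The unit section. -/
def oneSec : (ModSite.unit O).sections :=
  (ModSite.unit O).unitHomEquiv (𝟙 _)

lemma unitDesc_app {M : ModSite.Mod O} (s : M.sections) {X : Cᵒᵖ} (r : O.obj.obj X) :
    ((fg O).map (M.unitHomEquiv.symm s)).app X r = r • sval s X := by
  have h1 : ((fg O).map (M.unitHomEquiv.symm s)).app X (1 : O.obj.obj X) = sval s X :=
    (SheafOfModules.unitHomEquiv_apply_coe M (M.unitHomEquiv.symm s) X).symm.trans
      (congrArg (fun t : M.sections => t.val X) (M.unitHomEquiv.apply_symm_apply s))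
  have h2 := map_smul (((fg O).map (M.unitHomEquiv.symm s)).app X).hom r (1 : O.obj.obj X)
  refine Eq.trans ?_ (h2.trans (congrArg (fun t => r • t) h1))
  exact congrArg (((fg O).map (M.unitHomEquiv.symm s)).app X).hom (mul_one r).symm

variable [Fintype ι]

open Classical in
/-- A coordinate of a free module. -/
def pr (i : ι) : fr O ι ⟶ ModSite.unit O :=
  fdesc fun j => if j = i then oneSec else (ModSite.unit O).unitHomEquiv 0

lemma sum_pr : ∑ i : ι, pr (O := O) i ≫ (fr O ι).unitHomEquiv.symm (SheafOfModules.freeSection i) = 𝟙 (fr O ι) := by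
  classical
  refine (fr O ι).freeHomEquiv.injective (funext fun j => ?_)
  have key : ∀ i : ι, SheafOfModules.ιFree j ≫ pr (O := O) i =
      if j = i then 𝟙 (ModSite.unit O) else 0 := fun i => by
    refine (ModSite.unit O).unitHomEquiv.injective ?_
    refine (congrFun ((ModSite.unit O).freeHomEquiv.apply_symm_apply _) j).trans ?_
    by_cases h : j = i
    · rw [if_pos h, if_pos h]; rfl
    · rw [if_neg h, if_neg h]
  show (fr O ι).unitHomEquiv (SheafOfModules.ιFree j ≫ _) = (fr O ι).unitHomEquiv (SheafOfModules.ιFree j ≫ 𝟙 _)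
  refine congrArg _ ?_
  rw [Preadditive.comp_sum, Finset.sum_eq_single j]
  · rw [← Category.assoc, key j, if_pos rfl, Category.id_comp]
    exact (fr O ι).unitHomEquiv.symm_apply_apply _
  · intro i _ hi
    rw [← Category.assoc, key i, if_neg (Ne.symm hi), zero_comp]
  · exact fun h => absurd (Finset.mem_univ _) h

/-- A coordinate of a section of a free module. -/
def coord (i : ι) {X : Cᵒᵖ} (z : ((fg O).obj (fr O ι)).obj X) : O.obj.obj X :=
  ((fg O).map (pr i)).app X z

/-- Decomposition along the basis. -/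
lemma decomp {X : Cᵒᵖ} (z : ((fg O).obj (fr O ι)).obj X) : z = ∑ i, coord i z • fsec i X := by
  let E : (fr O ι ⟶ fr O ι) →+ ((fg O).obj (fr O ι)).obj X :=
    AddMonoidHom.mk' (fun k => ((fg O).map k).app X z) fun a b => rfl
  have h := congrArg E (sum_pr (O := O) (ι := ι))
  rw [map_sum] at h
  refine h.symm.trans (Finset.sum_congr rfl fun i _ => ?_)
  exact unitDesc_app _ _

lemma coord_fsec [DecidableEq ι] (i k : ι) (X : Cᵒᵖ) :
    coord i (fsec (O := O) k X) = if k = i then 1 else 0 := by
  refine (fdesc_fsec _ k X).trans ?_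
  by_cases hk : k = i
  · rw [if_pos hk, if_pos hk]; rfl
  · rw [if_neg hk, if_neg hk]; rfl

lemma coord_smul (i : ι) {X : Cᵒᵖ} (r : O.obj.obj X) (z : ((fg O).obj (fr O ι)).obj X) :
    coord i (r • z) = r * coord i z :=
  map_smul (((fg O).map (pr i)).app X).hom r z

lemma coord_sum (i : ι) {X : Cᵒᵖ} {κ : Type*} (s : Finset κ) (f : κ → ((fg O).obj (fr O ι)).obj X) :
    coord i (∑ k ∈ s, f k) = ∑ k ∈ s, coord i (f k) :=
  map_sum (((fg O).map (pr i)).app X).hom f s

lemma coord_rs (i : ι) {X Y : Cᵒᵖ} (g : X ⟶ Y) (z : ((fg O).obj (fr O ι)).obj X) :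
    coord i (rs ((fg O).obj (fr O ι)) g z) = (O.obj.map g).hom (coord i z) :=
  app_rs ((fg O).map (pr i)) g z

lemma coord_sum_smul (i : ι) {X : Cᵒᵖ} (c : ι → O.obj.obj X) :
    coord i (∑ k, c k • fsec (O := O) k X) = c i := by
  classical
  rw [coord_sum, Finset.sum_eq_single i]
  · rw [coord_smul, coord_fsec, if_pos rfl, mul_one]
  · intro k _ hk
    rw [coord_smul, coord_fsec, if_neg hk, mul_zero]
  · exact fun h => absurd (Finset.mem_univ _) h

end FreeCalculus

section Over

variable {C : Type u} [SmallCategory C] {J : GrothendieckTopology C}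

lemma Locally.of_over {U : C} (W : Over U) {P : ∀ ⦃V : Over U⦄, (V ⟶ W) → Prop}
    {Q : ∀ ⦃V : C⦄, (V ⟶ W.left) → Prop} (h : ModPull.Locally (J.over U) W P)
    (hPQ : ∀ ⦃V : Over U⦄ (g : V ⟶ W), P g → Q g.left) :
    ModPull.Locally J W.left Q := by
  obtain ⟨S, hS, hP⟩ := h
  refine ⟨Sieve.overEquiv W S, (J.mem_over_iff S).1 hS, fun V g hg => ?_⟩
  rw [Sieve.overEquiv_iff] at hg
  exact hPQ _ (hP _ hg)

end Over

variable {C : Type u} [SmallCategory C] {J : GrothendieckTopology C} (O : Sheaf J CommRingCat.{u})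

/-- Elementwise finite presentation data on an object. -/
structure Pres (F : ModSite.Mod O) (U : C) where
  /-- generators -/
  κ : Type
  /-- relations -/
  ρ : Type
  fκ : Fintype κ
  fρ : Fintype ρ
  /-- the generators -/
  s : κ → ((fg O).obj F).obj (op U)
  /-- the relation matrix -/
  A : ρ → κ → O.obj.obj (op U)
  rel : ∀ j, ∑ i, A j i • s i = 0
  gen : ∀ ⦃W : C⦄ (f : W ⟶ U) (t : ((fg O).obj F).obj (op W)),
    ModPull.Locally J W (fun V g => ∃ c : κ → O.obj.obj (op V),
      rs ((fg O).obj F) g.op t = ∑ i, c i • rs ((fg O).obj F) (g ≫ f).op (s i))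
  exact : ∀ ⦃W : C⦄ (f : W ⟶ U) (c : κ → O.obj.obj (op W)), ∑ i, c i • rs ((fg O).obj F) f.op (s i) = 0 →
    ModPull.Locally J W (fun V g => ∃ d : ρ → O.obj.obj (op V),
      ∀ i, (O.obj.map g.op).hom (c i) = ∑ j, d j * (O.obj.map (g ≫ f).op).hom (A j i))

attribute [local instance] Pres.fκ Pres.fρ

/-- Finite presentations give elementwise data on a covering. -/
theorem nonempty_pres (F : ModSite.Mod O) {U : C}
    (P : (SheafOfModules.over F U).Presentation) [P.IsFinite] : Nonempty (Pres O F U) := by
  classical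
  let OU := O.over U
  let π : fr OU P.generators.I ⟶ (ModSite.restr O U).obj F := P.generators.π
  haveI : Epi π := P.generators.epi
  haveI : Finite P.generators.I := inferInstance
  haveI : Finite P.relations.I := inferInstance
  let T : Over U := Over.mk (𝟙 U)
  let g' : fr OU P.relations.I ⟶ kernel π := P.relations.π
  haveI : Epi g' := P.relations.epi
  let θ : fr OU P.relations.I ⟶ fr OU P.generators.I := g' ≫ kernel.ι π
  obtain ⟨nκ, ⟨eκ⟩⟩ := Finite.exists_equiv_fin P.generators.I
  obtain ⟨nρ, ⟨eρ⟩⟩ := Finite.exists_equiv_fin P.relations.I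
  haveI : Fintype P.generators.I := Fintype.ofFinite _
  haveI : Fintype P.relations.I := Fintype.ofFinite _
  let s : P.generators.I → ((fg O).obj F).obj (op U) := fun i =>
    ((fg OU).map π).app (op T) (fsec i (op T))
  let A : P.relations.I → P.generators.I → O.obj.obj (op U) := fun j i =>
    coord (O := OU) i (((fg OU).map θ).app (op T) (fsec j (op T)))
  -- restriction of the generators
  have hs : ∀ (W : Over U) (i : P.generators.I), ((fg OU).map π).app (op W) (fsec i (op W)) =
      rs ((fg O).obj F) W.hom.op (s i) := fun W i => by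
    let h : W ⟶ T := Over.homMk W.hom
    rw [← rs_fsec (O := OU) i h.op, app_rs]
    rfl
  have hsum : ∀ (W : Over U) (c : P.generators.I → O.obj.obj (op W.left)),
      ((fg OU).map π).app (op W) (∑ i, (c i : OU.obj.obj (op W)) • fsec i (op W)) =
        ∑ i, c i • rs ((fg O).obj F) W.hom.op (s i) := fun W c => by
    refine (map_sum (((fg OU).map π).app (op W)).hom _ _).trans (Finset.sum_congr rfl fun i _ => ?_)
    exact (map_smul (((fg OU).map π).app (op W)).hom _ _).trans (congrArg (fun z => c i • z) (hs W i))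
  refine ⟨{ κ := Fin nκ, ρ := Fin nρ, fκ := inferInstance, fρ := inferInstance,
            s := fun i => s (eκ.symm i), A := fun j i => A (eρ.symm j) (eκ.symm i),
            rel := fun j => ?_, gen := fun W f t => ?_, exact := fun W f c hc => ?_ }⟩
  · refine (Equiv.sum_comp eκ.symm (fun i => A (eρ.symm j) i • s i)).trans ?_
    have h0 : ((fg OU).map π).app (op T) (((fg OU).map θ).app (op T) (fsec (eρ.symm j) (op T))) = 0 :=
      congrArg (fun k : fr OU P.relations.I ⟶ _ => ((fg OU).map k).app (op T) (fsec (eρ.symm j) (op T)))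
        ((Category.assoc g' (kernel.ι π) π).trans ((congrArg (g' ≫ ·) (kernel.condition π)).trans comp_zero))
    rw [decomp (((fg OU).map θ).app (op T) (fsec (eρ.symm j) (op T)))] at h0
    refine Eq.trans ?_ ((hsum T (fun i => A (eρ.symm j) i)).symm.trans h0)
    refine Finset.sum_congr rfl fun i _ => ?_
    exact congrArg (fun z => A (eρ.symm j) i • z) (rs_id (s i)).symm
  · let W' : Over U := Over.mk f
    refine Locally.of_over W' (locally_exists_app_eq (O := OU) π (W := W') t) fun V g hg => ?_
    obtain ⟨m, hm⟩ := hg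
    refine ⟨fun i => coord (O := OU) (eκ.symm i) m, ?_⟩
    rw [decomp m] at hm
    refine hm.symm.trans ((hsum V (fun i => coord (O := OU) i m)).trans ?_)
    refine (Equiv.sum_comp eκ.symm (fun i => (coord (O := OU) i m : O.obj.obj (op V.left)) • rs ((fg O).obj F) V.hom.op (s i))).symm.trans ?_
    refine Finset.sum_congr rfl fun i _ => congrArg (fun z => (coord (O := OU) (eκ.symm i) m : O.obj.obj (op V.left)) • z) ?_
    exact congrArg (fun q => rs ((fg O).obj F) q.op (s (eκ.symm i))) (Over.w g).symm
  · let W' : Over U := Over.mk f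
    let z : ((fg OU).obj (fr OU P.generators.I)).obj (op W') :=
      ∑ i, (c (eκ i) : OU.obj.obj (op W')) • fsec i (op W')
    have hz : ((fg OU).map π).app (op W') z = 0 := by
      refine (hsum W' (fun i => c (eκ i))).trans (Eq.trans ?_ hc)
      refine (Equiv.sum_comp eκ.symm (fun i => c (eκ i) • rs ((fg O).obj F) f.op (s i))).symm.trans ?_
      simp only [Equiv.apply_symm_apply]
    let SS := ShortComplex.mk (kernel.ι π) π (kernel.condition π)
    have hSS : SS.ShortExact :=
      { exact := ShortComplex.exact_of_f_is_kernel _ (kernelIsKernel π), epi_g := ‹Epi π› }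
    obtain ⟨w, hw⟩ := exists_app_eq_of_exact (O := OU) hSS (U := W') z hz
    refine Locally.of_over W' (locally_exists_app_eq (O := OU) g' (W := W') w) fun V g hg => ?_
    obtain ⟨p, hp⟩ := hg
    refine ⟨fun j => coord (O := OU) (eρ.symm j) p, fun i => ?_⟩
    have h1 : ((fg OU).map θ).app (op V) p = rs ((fg OU).obj (fr OU P.generators.I)) g.op z := by
      refine (congrArg (((fg OU).map (kernel.ι π)).app (op V)).hom hp).trans ?_
      refine (app_rs ((fg OU).map (kernel.ι π)) g.op w).trans ?_
      exact congrArg (fun q => rs ((fg OU).obj (fr OU P.generators.I)) g.op q) hw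
    let i₀ := eκ.symm i
    let co : P.relations.I → O.obj.obj (op V.left) := fun j => coord (O := OU) j p
    have h2 := congrArg (coord (O := OU) i₀) h1
    have hL : coord (O := OU) i₀ (rs ((fg OU).obj (fr OU P.generators.I)) g.op z) = (O.obj.map g.left.op).hom (c i) := by
      refine (coord_rs i₀ g.op z).trans ?_
      refine (congrArg (fun q => (OU.obj.map g.op).hom q) (coord_sum_smul i₀ _)).trans ?_
      exact congrArg (fun q => (O.obj.map g.left.op).hom (c q)) (Equiv.apply_symm_apply eκ i)
    have hR : coord (O := OU) i₀ (((fg OU).map θ).app (op V) p) =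
        ∑ j, co j * (O.obj.map V.hom.op).hom (A j i₀) := by
      refine (congrArg (fun q => coord (O := OU) i₀ (((fg OU).map θ).app (op V) q)) (decomp p)).trans ?_
      refine (congrArg (coord (O := OU) i₀) (map_sum (((fg OU).map θ).app (op V)).hom _ _)).trans ?_
      refine (coord_sum _ _ _).trans (Finset.sum_congr rfl fun j _ => ?_)
      refine (congrArg (coord (O := OU) i₀) (map_smul (((fg OU).map θ).app (op V)).hom _ _)).trans
        ((coord_smul _ _ _).trans ?_)
      refine congrArg (fun q : O.obj.obj (op V.left) => co j * q) ?_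
      let h : V ⟶ T := Over.homMk V.hom (Category.comp_id _)
      refine (congrArg (fun q => coord (O := OU) i₀ (((fg OU).map θ).app (op V) q)) (rs_fsec (O := OU) j h.op).symm).trans ?_
      refine (congrArg (coord (O := OU) i₀) (app_rs ((fg OU).map θ) h.op _)).trans ?_
      exact coord_rs i₀ h.op _
    have key := hL.symm.trans (h2.symm.trans hR)
    refine key.trans ((Equiv.sum_comp eρ.symm
      (fun j => co j * (O.obj.map V.hom.op).hom (A j i₀))).symm.trans ?_)
    refine Finset.sum_congr rfl fun j _ =>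
      congrArg (fun q : O.obj.obj (op V.left) => co (eρ.symm j) * q) ?_
    exact congrArg (fun q => (O.obj.map q.op).hom (A (eρ.symm j) i₀)) (Over.w g).symm

/-- Local factorisation through free modules. -/
theorem exists_factor {F H : ModSite.Mod O} (hH : ModSite.IsFlat H) (φ : F ⟶ H) {U : C} (P : Pres O F U)
    {Y : C} (h : Y ⟶ U) :
    ModPull.Locally J Y (fun V _ => ∃ (n : ℕ)
      (a : (ModSite.restr O V).obj F ⟶ SheafOfModules.free (ULift.{u} (Fin n)))
      (b : SheafOfModules.free (ULift.{u} (Fin n)) ⟶ (ModSite.restr O V).obj H),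
      a ≫ b = (ModSite.restr O V).map φ) := by
  classical
  let x : P.κ → ((fg O).obj H).obj (op Y) := fun i => ((fg O).map φ).app (op Y) (rs ((fg O).obj F) h.op (P.s i))
  let c : P.ρ → P.κ → O.obj.obj (op Y) := fun j i => (O.obj.map h.op).hom (P.A j i)
  have hc : ∀ j, ∑ i, c j i • x i = 0 := fun j => by
    have e : rs ((fg O).obj F) h.op (∑ i, P.A j i • P.s i) = 0 := by rw [P.rel j]; exact map_zero _
    have e' := congrArg (((fg O).map φ).app (op Y)).hom e
    rw [map_zero, rs_sum, map_sum] at e'
    refine Eq.trans (Finset.sum_congr rfl fun i _ => ?_) e'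
    rw [rs_smul]
    exact (map_smul (((fg O).map φ).app (op Y)).hom _ _).symm
  refine (exists_trivialisation hH c x hc).mono fun V g hg => ?_
  obtain ⟨n, N, t, hx, hN⟩ := hg
  let OV := O.over V
  let FV := (ModSite.restr O V).obj F
  let HV := (ModSite.restr O V).obj H
  let κu := ULift.{u} P.κ
  let sV : κu → FV.sections := fun i => (restrSectionsEquiv O V F).symm (rs ((fg O).obj F) (g ≫ h).op (P.s i.down))
  let π : fr OV κu ⟶ FV := fdesc sV
  let b : fr OV (ULift.{u} (Fin n)) ⟶ HV := fdesc fun l => (restrSectionsEquiv O V H).symm (t l.down)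
  let a₀ : fr OV κu ⟶ fr OV (ULift.{u} (Fin n)) := fdesc fun i =>
    (fr OV (ULift.{u} (Fin n))).unitHomEquiv (∑ l : ULift.{u} (Fin n),
      (ModSite.unit OV).unitHomEquiv.symm ((restrSectionsEquiv O V (ModSite.unit O)).symm (N l.down i.down)) ≫
        (fr OV (ULift.{u} (Fin n))).unitHomEquiv.symm (SheafOfModules.freeSection l))
  have hπsec : ∀ (W : Over V) (i : κu), ((fg OV).map π).app (op W) (fsec i (op W)) =
      rs ((fg O).obj F) (W.hom ≫ g ≫ h).op (P.s i.down) := fun W i =>
    (fdesc_fsec sV i (op W)).trans (rs_comp (P := (fg O).obj F) (g ≫ h).op W.hom.op (P.s i.down)).symm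
  have ha₀ : ∀ (W : Over V) (i : κu), ((fg OV).map a₀).app (op W) (fsec i (op W)) =
      ∑ l : ULift.{u} (Fin n), ((O.obj.map W.hom.op).hom (N l.down i.down) : OV.obj.obj (op W)) • fsec l (op W) := by
    intro W i
    refine (fdesc_fsec _ i (op W)).trans ?_
    refine (SheafOfModules.unitHomEquiv_apply_coe _ _ _).trans ?_
    let E : (ModSite.unit OV ⟶ fr OV (ULift.{u} (Fin n))) →+ ((fg OV).obj (fr OV (ULift.{u} (Fin n)))).obj (op W) :=
      AddMonoidHom.mk' (fun k => ((fg OV).map k).app (op W) (1 : OV.obj.obj (op W))) fun _ _ => rfl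
    refine (map_sum E _ _).trans (Finset.sum_congr rfl fun l _ => ?_)
    refine (congrArg (((fg OV).map ((fr OV (ULift.{u} (Fin n))).unitHomEquiv.symm
      (SheafOfModules.freeSection l))).app (op W)).hom (unitDesc_app _ (1 : OV.obj.obj (op W)))).trans ?_
    refine (unitDesc_app _ _).trans (congrArg (fun q : OV.obj.obj (op W) => q • fsec l (op W)) ?_)
    exact one_mul _
  haveI : Epi π := ⟨fun {Z} p q hpq => (fg OV).map_injective (PresheafOfModules.hom_ext fun W =>
    ModuleCat.hom_ext (LinearMap.ext fun z => ?_))⟩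
  swap
  · refine eq_of_locally' Z ?_
    have hl := P.gen (W.unop.hom ≫ g ≫ h) z
    obtain ⟨S, hS, hSp⟩ := hl
    refine ⟨(Sieve.overEquiv W.unop).symm S, (J.overEquiv_symm_mem_over W.unop S hS), fun W' k hk => ?_⟩
    rw [Sieve.overEquiv_symm_iff] at hk
    obtain ⟨cf, hcf⟩ := hSp k.left hk
    let m : ((fg OV).obj (fr OV κu)).obj (op W') := ∑ i : κu, (cf i.down : OV.obj.obj (op W')) • fsec i (op W')
    have hm : ((fg OV).map π).app (op W') m = rs ((fg OV).obj FV) k.op z := by
      refine (map_sum (((fg OV).map π).app (op W')).hom _ _).trans (Eq.trans ?_ hcf.symm)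
      refine Eq.trans ?_ (Equiv.sum_comp Equiv.ulift.{u} (fun i => cf i • rs ((fg O).obj F) (k.left ≫ W.unop.hom ≫ g ≫ h).op (P.s i)))
      refine Finset.sum_congr rfl fun i _ => ?_
      refine (map_smul (((fg OV).map π).app (op W')).hom _ _).trans ?_
      refine congrArg (fun q => cf i.down • q) ((hπsec W' i).trans ?_)
      exact congrArg (fun q => rs ((fg O).obj F) q.op (P.s i.down)) ((congrArg (· ≫ g ≫ h) (Over.w k).symm).trans (Category.assoc _ _ _))
    refine (app_rs ((fg OV).map p) k.op z).symm.trans (Eq.trans ?_ (app_rs ((fg OV).map q) k.op z))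
    refine (congrArg (((fg OV).map p).app (op W')).hom hm.symm).trans (Eq.trans ?_ (congrArg (((fg OV).map q).app (op W')).hom hm))
    exact congrArg (fun r : fr OV κu ⟶ Z => ((fg OV).map r).app (op W') m) hpq
  have hker : kernel.ι π ≫ a₀ = 0 := (fg OV).map_injective (PresheafOfModules.hom_ext fun W =>
    ModuleCat.hom_ext (LinearMap.ext fun z => ?_))
  swap
  · refine eq_of_locally' (fr OV (ULift.{u} (Fin n))) ?_
    let w : ((fg OV).obj (fr OV κu)).obj W := ((fg OV).map (kernel.ι π)).app W z
    have hw : ((fg OV).map π).app W w = 0 :=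
      congrArg (fun r : kernel π ⟶ FV => ((fg OV).map r).app W z) (kernel.condition π)
    rw [decomp w] at hw
    let cw : P.κ → O.obj.obj (op W.unop.left) := fun i => coord (O := OV) (⟨i⟩ : κu) w
    have hcw : ∑ i, cw i • rs ((fg O).obj F) (W.unop.hom ≫ g ≫ h).op (P.s i) = 0 := by
      refine Eq.trans ?_ hw
      refine Eq.trans ?_ (map_sum (((fg OV).map π).app W).hom _ _).symm
      refine Eq.trans (Equiv.sum_comp Equiv.ulift.{u} (fun i => cw i • rs ((fg O).obj F) (W.unop.hom ≫ g ≫ h).op (P.s i))).symm ?_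
      refine Finset.sum_congr rfl fun i _ => ?_
      exact ((map_smul (((fg OV).map π).app W).hom _ _).trans (congrArg (fun q => cw i.down • q) (hπsec W.unop i))).symm
    obtain ⟨S, hS, hSp⟩ := P.exact (W.unop.hom ≫ g ≫ h) cw hcw
    refine ⟨(Sieve.overEquiv W.unop).symm S, (J.overEquiv_symm_mem_over W.unop S hS), fun W' k hk => ?_⟩
    rw [Sieve.overEquiv_symm_iff] at hk
    obtain ⟨d, hd⟩ := hSp k.left hk
    refine Eq.trans ?_ ((congrArg (fun q => rs ((fg OV).obj (fr OV (ULift.{u} (Fin n)))) k.op q)
      (show ((fg OV).map (0 : kernel π ⟶ fr OV (ULift.{u} (Fin n)))).app W z = 0 from rfl)).trans (map_zero _)).symm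
    refine (app_rs ((fg OV).map (kernel.ι π ≫ a₀)) k.op z).symm.trans ?_
    show ((fg OV).map a₀).app (op W') (((fg OV).map (kernel.ι π)).app (op W') (rs _ k.op z)) = 0
    rw [app_rs]
    show ((fg OV).map a₀).app (op W') (rs _ k.op w) = 0
    rw [decomp w, rs_sum, map_sum]
    have hcoef : ∀ (l : Fin n) , ∑ i, (O.obj.map k.left.op).hom (cw i) * (O.obj.map W'.hom.op).hom (N l i) = 0 := by
      intro l
      calc ∑ i, (O.obj.map k.left.op).hom (cw i) * (O.obj.map W'.hom.op).hom (N l i)
          = ∑ i, ∑ j, d j * ((O.obj.map W'.hom.op).hom ((O.obj.map g.op).hom (c j i) * N l i)) := by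
            refine Finset.sum_congr rfl fun i _ => ?_
            rw [hd i, Finset.sum_mul]
            refine Finset.sum_congr rfl fun j _ => ?_
            rw [map_mul, mul_assoc]
            refine congrArg (fun q => d j * (q * _)) ?_
            have e1 : k.left ≫ W.unop.hom ≫ g ≫ h = W'.hom ≫ g ≫ h := by
              rw [← Category.assoc, Over.w k]
            rw [e1, op_comp, op_comp, Functor.map_comp, Functor.map_comp]
            rfl
        _ = ∑ j, d j * (O.obj.map W'.hom.op).hom (∑ i, (O.obj.map g.op).hom (c j i) * N l i) := by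
            rw [Finset.sum_comm]
            exact Finset.sum_congr rfl fun j _ => by rw [map_sum, Finset.mul_sum]
        _ = 0 := Finset.sum_eq_zero fun j _ => by rw [hN j l, map_zero, mul_zero]
    refine Eq.trans (Finset.sum_congr rfl (g := fun i : κu => ∑ l : ULift.{u} (Fin n),
      (((O.obj.map k.left.op).hom (cw i.down) * (O.obj.map W'.hom.op).hom (N l.down i.down) :
        O.obj.obj (op W'.left)) : OV.obj.obj (op W')) • fsec l (op W')) fun i _ => ?_) ?_
    · rw [rs_smul, rs_fsec]
      refine (map_smul (((fg OV).map a₀).app (op W')).hom _ _).trans ?_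
      refine (congrArg (fun q => ((O.obj.map k.left.op).hom (cw i.down) : OV.obj.obj (op W')) • q) (ha₀ W' i)).trans ?_
      rw [Finset.smul_sum]
      exact Finset.sum_congr rfl fun l _ => smul_smul _ _ _
    · rw [Finset.sum_comm]
      refine Finset.sum_eq_zero fun l _ => ?_
      rw [← Finset.sum_smul]
      refine (congrArg (fun q : OV.obj.obj (op W') => q • fsec l (op W')) ?_).trans (zero_smul _ _)
      exact (Equiv.sum_comp Equiv.ulift.{u} (fun i => (O.obj.map k.left.op).hom (cw i) * (O.obj.map W'.hom.op).hom (N l.down i))).trans (hcoef l.down)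
  let SV := ShortComplex.mk (kernel.ι π) π (kernel.condition π)
  have hSV : SV.Exact := ShortComplex.exact_of_f_is_kernel SV (kernelIsKernel π)
  haveI : Epi SV.g := ‹Epi π›
  refine ⟨n, hSV.desc a₀ hker, b, (cancel_epi π).1 ?_⟩
  refine (Category.assoc _ _ _).symm.trans ((congrArg (· ≫ b) (hSV.g_desc a₀ hker)).trans ?_)
  refine HV.freeHomEquiv.injective (funext fun i => (restrSectionsEquiv O V H).injective ?_)
  show ((fg OV).map (a₀ ≫ b)).app (op (Over.mk (𝟙 V))) (fsec i (op (Over.mk (𝟙 V)))) =
    ((fg OV).map (π ≫ (ModSite.restr O V).map φ)).app (op (Over.mk (𝟙 V))) (fsec i (op (Over.mk (𝟙 V))))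
  refine Eq.trans (congrArg (((fg OV).map b).app _).hom (ha₀ (Over.mk (𝟙 V)) i)) ?_
  refine Eq.trans ?_ (congrArg (((fg OV).map ((ModSite.restr O V).map φ)).app _).hom (hπsec (Over.mk (𝟙 V)) i)).symm
  rw [map_sum]
  refine Eq.trans ?_ (((congrArg (fun q => ((fg O).map φ).app (op V) (rs ((fg O).obj F) q.op (P.s i.down))) (Category.id_comp (g ≫ h))).trans
    ((congrArg (((fg O).map φ).app (op V)).hom (rs_comp (P := (fg O).obj F) h.op g.op (P.s i.down))).trans
      (app_rs ((fg O).map φ) g.op _))).symm)
  refine Eq.trans ?_ (hx i.down).symm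
  refine Eq.trans ?_ (Equiv.sum_comp Equiv.ulift.{u} (fun l => N l i.down • t l))
  refine Finset.sum_congr rfl fun l _ => ?_
  refine (map_smul (((fg OV).map b).app _).hom _ _).trans ?_
  refine congrArg₂ (fun (q : O.obj.obj (op V)) (r : ((fg O).obj H).obj (op V)) => q • r) ?_ ?_
  · exact ConcreteCategory.congr_hom (O.obj.map_id (op V)) _
  · exact (fdesc_fsec _ l _).trans (rs_id (t l.down))

/-- Local factorisation. -/
theorem exists_local_factorisation (F H : ModSite.Mod O) [F.IsFinitePresentation] (hH : ModSite.IsFlat H)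
    (φ : F ⟶ H) (X : C) :
    ∃ (ι : Type u) (Y : ι → C) (g : ∀ i, Y i ⟶ X), Sieve.ofArrows Y g ∈ J X ∧
      ∀ i, ∃ (n : ℕ) (a : (ModSite.restr O (Y i)).obj F ⟶ SheafOfModules.free (ULift.{u} (Fin n)))
        (b : SheafOfModules.free (ULift.{u} (Fin n)) ⟶ (ModSite.restr O (Y i)).obj H),
        a ≫ b = (ModSite.restr O (Y i)).map φ := by
  obtain ⟨q, hq⟩ := SheafOfModules.IsFinitePresentation.exists_quasicoherentData F
  have hloc : ModPull.Locally J X (fun V _ => ∃ i, Nonempty (V ⟶ q.X i)) :=
    ⟨_, q.coversTop X, fun V g hg => (Sieve.mem_ofObjects_iff ..).1 hg⟩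
  obtain ⟨S, hS, hSp⟩ := hloc.bind (Q := fun V (_ : V ⟶ X) => ∃ (n : ℕ)
      (a : (ModSite.restr O V).obj F ⟶ SheafOfModules.free (ULift.{u} (Fin n)))
      (b : SheafOfModules.free (ULift.{u} (Fin n)) ⟶ (ModSite.restr O V).obj H),
      a ≫ b = (ModSite.restr O V).map φ) fun V g hg => by
    obtain ⟨i, ⟨h⟩⟩ := hg
    have := hq.isFinite_presentation i
    exact exists_factor O hH φ (nonempty_pres O F (q.presentation i)).some h
  refine ⟨Σ V : C, {g : V ⟶ X // S g}, fun i => i.1, fun i => i.2.1,
    J.superset_covering ?_ hS, fun i => hSp i.2.1 i.2.2⟩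
  intro V g hg
  exact ⟨V, 𝟙 V, g, Presieve.ofArrows.mk (⟨V, g, hg⟩ : Σ V : C, {g : V ⟶ X // S g}), Category.id_comp g⟩

end Groth.Agent.LocalFactor
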