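import Groth.Agent.SiteBase.CechInst
import Groth.Agent.SiteBase.SieveAcyclic

/-!
# Cech cohomology of a presheaf as cohomology of the sieve generated by the family
-/

set_option autoImplicit false

universe u

open CategoryTheory CategoryTheory.Limits Opposite Abelian

namespace Groth.Agent.SiteBase.CechSieve

variable {C : Type u} [SmallCategory C] {D : Type u} [SmallCategory D] [HasFiniteProducts D]
  {Φ : D ⥤ C} {U : C} {ι : Type u} {Y : ι → D} (c : CechCtx Φ U Y)

/-- Presheaves, as sheaves for the trivial topology. -/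
abbrev Psh (C : Type u) [SmallCategory C] : Type (u + 1) := Sheaf (⊥ : GrothendieckTopology C) AddCommGrpCat.{u}

/-- The free abelian presheaf on the sieve. -/
noncomputable abbrev P : Psh C := freeOnPsh ⊥ c.sieve.functor

/-- The members of the family in the sieve. -/
noncomputable def g (i : ι) : CohCx.freeSheaf (⊥ : GrothendieckTopology C) (Φ.obj (Y i)) ⟶ P c :=
  freeOnPshMap ⊥ (yonedaEquiv (F := c.sieve.functor).symm ⟨c.s i, Sieve.ofArrows_mk _ _ i⟩)

/-- The value of a map out of the sieve at a member of the family. -/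
noncomputable def val (F : Psh C) (φ : P c ⟶ F) (i : ι) : F.obj.obj (op (Φ.obj (Y i))) :=
  secEquiv ⊥ _ F (g c i ≫ φ)

lemma val_eq (F : Psh C) (φ : P c ⟶ F) (i : ι) :
    val c F φ i = ((freeEquiv ⊥ c.sieve.functor F φ).app (op (Φ.obj (Y i)))) ⟨c.s i, Sieve.ofArrows_mk _ _ i⟩ := by
  have h : freeEquiv ⊥ (yoneda.obj (Φ.obj (Y i))) F (g c i ≫ φ) =
      (yonedaEquiv (F := c.sieve.functor)).symm ⟨c.s i, Sieve.ofArrows_mk _ _ i⟩ ≫ freeEquiv ⊥ _ F φ :=
    freeEquiv_precomp _ φ
  have h2 : freeEquiv ⊥ (yoneda.obj (Φ.obj (Y i))) F (g c i ≫ φ) =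
      (yonedaEquiv (F := F.obj ⋙ CategoryTheory.forget AddCommGrpCat.{u})).symm (val c F φ i) := by
    rw [← freeEquiv_secEquiv_symm, val, AddEquiv.symm_apply_apply]
  have h3 := congrArg (fun a => yonedaEquiv a) (h2.symm.trans h)
  simp only [Equiv.apply_symm_apply] at h3
  refine h3.trans ?_
  exact congrArg ((freeEquiv ⊥ c.sieve.functor F φ).app (op (Φ.obj (Y i))))
    ((yonedaEquiv (F := c.sieve.functor)).apply_symm_apply _)

/-- The degree zero cochain of a map out of the sieve. -/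
noncomputable def cochain (F : Psh C) : AddCommGrpCat.of (P c ⟶ F) ⟶ (cechCx Φ Y F).X 0 :=
  Pi.lift fun i : Fin 1 → ι => AddCommGrpCat.ofHom
    (((F.obj.map (Φ.map (Pi.π (fun k => Y (i k)) 0)).op).hom).comp
      (AddMonoidHom.mk' (fun φ => val c F φ (i 0)) fun φ ψ => by
        simp only [val, Preadditive.comp_add, map_add]))

lemma comp0_cochain (F : Psh C) (φ : P c ⟶ F) :
    comp0 Y (Φ.op ⋙ F.obj) ((cochain c F).hom φ) = val c F φ := by
  obtain ⟨x, hx⟩ := exists_comp0 Y (Φ.op ⋙ F.obj) (val c F φ)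
  have : (cochain c F).hom φ = x := cev_ext Y _ fun i => by
    rw [cev_zero_eq Y _ x i, hx]
    exact ConcreteCategory.congr_hom (Pi.lift_π (fun i : Fin 1 → ι => AddCommGrpCat.ofHom
      (((F.obj.map (Φ.map (Pi.π (fun k => Y (i k)) 0)).op).hom).comp
        (AddMonoidHom.mk' (fun φ => val c F φ (i 0)) fun φ ψ => by
          simp only [val, Preadditive.comp_add, map_add]))) i) φ
  rw [this, hx]

lemma nat_apply' {R : Cᵒᵖ ⥤ Type u} {G : Cᵒᵖ ⥤ AddCommGrpCat.{u}}
    (q : R ⟶ G ⋙ CategoryTheory.forget AddCommGrpCat.{u}) {V W : C} (k : W ⟶ V) (f : R.obj (op V)) :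
    (q.app (op W)) (R.map k.op f) = (G.map k.op).hom ((q.app (op V)) f) :=
  NatTrans.naturality_apply q k.op f

lemma cochain_d (F : Psh C) : cochain c F ≫ (cechCx Φ Y F).d 0 1 = 0 :=
  AddCommGrpCat.hom_ext (AddMonoidHom.ext fun φ => (d_zero_eq_zero_iff Y (Φ.op ⋙ F.obj) ((cochain c F).hom φ)).2 fun i => by
    rw [comp0_cochain, val_eq, val_eq]
    refine (nat_apply' (freeEquiv ⊥ c.sieve.functor F φ) _ _).symm.trans (Eq.trans ?_ (nat_apply' (freeEquiv ⊥ c.sieve.functor F φ) _ _))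
    exact congrArg _ (Subtype.ext (c.comm i)))

lemma cochain_injective (F : Psh C) : Function.Injective (cochain c F).hom := by
  intro φ ψ h
  have h' := congrArg (comp0 Y (Φ.op ⋙ F.obj)) h
  rw [comp0_cochain, comp0_cochain] at h'
  refine (freeEquiv ⊥ c.sieve.functor F).injective ?_
  ext ⟨W⟩ ⟨f, hf⟩
  obtain ⟨i, a, rfl⟩ := (Sieve.mem_ofArrows_iff _ _ _).1 hf
  have e := congrFun h' i
  rw [val_eq, val_eq] at e
  exact (nat_apply' (freeEquiv ⊥ c.sieve.functor F φ) a ⟨c.s i, Sieve.ofArrows_mk _ _ i⟩).trans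
    ((congrArg (F.obj.map a.op).hom e).trans (nat_apply' (freeEquiv ⊥ c.sieve.functor F ψ) a ⟨c.s i, Sieve.ofArrows_mk _ _ i⟩).symm)

lemma exists_cochain_eq (F : Psh C) (x : (cechCx Φ Y F).X 0) (hx : ((cechCx Φ Y F).d 0 1).hom x = 0) :
    ∃ φ, (cochain c F).hom φ = x := by
  rw [d_zero_eq_zero_iff] at hx
  let t := comp0 Y (Φ.op ⋙ F.obj) x
  have wd : ∀ {W : C} (i j : ι) (a : W ⟶ Φ.obj (Y i)) (b : W ⟶ Φ.obj (Y j)), a ≫ c.s i = b ≫ c.s j →
      (F.obj.map a.op).hom (t i) = (F.obj.map b.op).hom (t j) := fun i j a b hab => by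
    obtain ⟨k, hk₀, hk₁⟩ := c.fact ![i, j] a b hab
    have h' := congrArg (F.obj.map k.op).hom (hx ![i, j])
    change (F.obj.map a.op).hom _ = (F.obj.map b.op).hom _
    rw [← hk₀, ← hk₁]
    exact ((map_op_comp_apply F.obj k _ _).trans h').trans (map_op_comp_apply F.obj k _ _).symm
  choose idx arr harr using fun (W : C) (f : c.sieve.functor.obj (op W)) => (Sieve.mem_ofArrows_iff _ _ _).1 f.2
  let q : c.sieve.functor ⟶ F.obj ⋙ CategoryTheory.forget AddCommGrpCat.{u} :=
    { app := fun W => TypeCat.ofHom fun f => (F.obj.map (arr W.unop f).op).hom (t (idx W.unop f))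
      naturality := fun V W k => by
        ext f
        refine Eq.trans ?_ (map_op_comp_apply F.obj k.unop (arr V.unop f) (t (idx V.unop f)))
        refine wd _ _ _ _ ?_
        rw [Category.assoc, ← harr W.unop, ← harr V.unop]
        rfl }
  refine ⟨(freeEquiv ⊥ c.sieve.functor F).symm q, comp0_ext Y _ (funext fun i => ?_)⟩
  rw [comp0_cochain, val_eq, Equiv.apply_symm_apply]
  show (F.obj.map (arr _ _).op).hom (t (idx _ _)) = t i
  refine (wd _ i _ (𝟙 _) ?_).trans (by simp)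
  rw [Category.id_comp, ← harr]

/-- Maps out of the sieve give degree zero classes. -/
noncomputable def toH0Hom (F : Psh C) : AddCommGrpCat.of (P c ⟶ F) ⟶ (cechCx Φ Y F).homology 0 :=
  (cechCx Φ Y F).liftCycles (cochain c F) 1 (by simp) (cochain_d c F) ≫ (cechCx Φ Y F).homologyπ 0

/-- Maps out of the sieve give degree zero classes, as an additive map. -/
noncomputable def toH0 (F : Psh C) : (P c ⟶ F) →+ (cechCx Φ Y F).homology 0 := (toH0Hom c F).hom

lemma toH0_bijective (F : Psh C) : Function.Bijective (toH0 c F) := by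
  let K := cechCx Φ Y F
  have hiso : IsIso (K.homologyπ 0) := K.isIso_homologyπ _ 0 rfl (by simp)
  have hπ : Function.Bijective (K.homologyπ 0).hom := ConcreteCategory.bijective_of_isIso _
  have hi : ∀ t, (K.iCycles 0).hom ((K.liftCycles (cochain c F) 1 (by simp) (cochain_d c F)).hom t) =
      (cochain c F).hom t := fun t =>
    ConcreteCategory.congr_hom (K.liftCycles_i (cochain c F) 1 (by simp) (cochain_d c F)) t
  constructor
  · intro a b hab
    have h1 : (K.liftCycles (cochain c F) 1 (by simp) (cochain_d c F)).hom a =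
        (K.liftCycles (cochain c F) 1 (by simp) (cochain_d c F)).hom b := hπ.1 hab
    exact cochain_injective c F (by rw [← hi a, ← hi b, h1])
  · intro z
    obtain ⟨w, rfl⟩ := hπ.2 z
    obtain ⟨t, ht⟩ := exists_cochain_eq c F ((K.iCycles 0).hom w)
      (ConcreteCategory.congr_hom (K.iCycles_d 0 1) w)
    refine ⟨t, congrArg (K.homologyπ 0).hom ?_⟩
    refine (AddCommGrpCat.mono_iff_injective (K.iCycles 0)).1 (inferInstance : Mono (K.iCycles 0)) ?_
    exact (hi t).trans ht

lemma toH0_natural {F G : Psh C} (e : F ⟶ G) (φ : P c ⟶ F) :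
    (HomologicalComplex.homologyMap ((cechComplexFunctor Y).map (Functor.whiskerLeft Φ.op e.hom)) 0).hom
        (toH0 c F φ) = toH0 c G (φ ≫ e) := by
  let T : cechCx Φ Y F ⟶ cechCx Φ Y G := (cechComplexFunctor Y).map (Functor.whiskerLeft Φ.op e.hom)
  let m : AddCommGrpCat.of (P c ⟶ F) ⟶ AddCommGrpCat.of (P c ⟶ G) :=
    AddCommGrpCat.ofHom (AddMonoidHom.mk' (fun φ => φ ≫ e) fun _ _ => Preadditive.add_comp _ _ _ _ _ _)
  have h : cochain c F ≫ T.f 0 = m ≫ cochain c G :=
    AddCommGrpCat.hom_ext (AddMonoidHom.ext fun s => comp0_ext Y _ (funext fun i => by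
      refine (comp0_map Y _ _ _ i).trans ?_
      refine (congrArg _ (congrFun (comp0_cochain c F s) i)).trans ?_
      refine Eq.trans ?_ (congrFun (comp0_cochain c G _) i).symm
      refine (secEquiv_comp _ (g c i ≫ s) e).symm.trans ?_
      exact congrArg (secEquiv ⊥ _ G) (Category.assoc _ _ _)))
  have h' : toH0Hom c F ≫ HomologicalComplex.homologyMap T 0 = m ≫ toH0Hom c G := by
    simp only [toH0Hom, Category.assoc, HomologicalComplex.homologyπ_naturality]
    rw [← Category.assoc, ← Category.assoc]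
    congr 1
    rw [← cancel_mono ((cechCx Φ Y G).iCycles 0)]
    simp only [Category.assoc, HomologicalComplex.cyclesMap_i, HomologicalComplex.liftCycles_i,
      HomologicalComplex.liftCycles_i_assoc]
    exact h
  exact ConcreteCategory.congr_hom h' φ

section Ext

variable (Q : Psh C)

/-- The connecting map out of morphisms. -/
noncomputable def homδ {E : ShortComplex (Psh C)} (hE : E.ShortExact) : (Q ⟶ E.X₃) →+ Ext Q E.X₁ 1 :=
  AddMonoidHom.mk' (fun φ => (Ext.mk₀ φ).comp hE.extClass (zero_add 1))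
    (fun x y => by rw [Ext.mk₀_add, Ext.add_comp])

lemma homδ_eq_zero_iff {E : ShortComplex (Psh C)} (hE : E.ShortExact) (φ : Q ⟶ E.X₃) :
    homδ Q hE φ = 0 ↔ ∃ ψ, ψ ≫ E.g = φ := by
  constructor
  · intro hx
    obtain ⟨y, hy⟩ := Ext.covariant_sequence_exact₃ Q hE _ rfl hx
    obtain ⟨ψ, rfl⟩ := (Ext.mk₀_bijective _ _).2 y
    rw [Ext.mk₀_comp_mk₀] at hy
    exact ⟨ψ, (Ext.mk₀_bijective _ _).1 hy⟩
  · rintro ⟨ψ, rfl⟩
    show (Ext.mk₀ _).comp hE.extClass (zero_add 1) = 0
    rw [← Ext.mk₀_comp_mk₀, Ext.comp_assoc_of_second_deg_zero, hE.comp_extClass, Ext.comp_zero]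

lemma homδ_surjective {E : ShortComplex (Psh C)} (hE : E.ShortExact) [Injective E.X₂] :
    Function.Surjective (homδ Q hE) := by
  intro z
  obtain ⟨y, hy⟩ := Ext.covariant_sequence_exact₁ Q hE z ((Ext.subsingleton_of_injective Q E.X₂ 0).elim _ _)
    (n₀ := 0) rfl
  obtain ⟨φ, rfl⟩ := (Ext.mk₀_bijective _ _).2 y
  exact ⟨φ, hy⟩

lemma conn_bijective {E : ShortComplex (Psh C)} (hE : E.ShortExact) [Injective E.X₂] (p : ℕ) :
    Function.Bijective (hE.extClass.postcomp Q rfl : Ext Q E.X₃ (p + 1) →+ Ext Q E.X₁ (p + 1 + 1)) := by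
  refine ⟨(injective_iff_map_eq_zero _).2 fun x hx => ?_, fun z =>
    Ext.covariant_sequence_exact₁ _ hE z ((Ext.subsingleton_of_injective Q E.X₂ (p + 1)).elim _ _) rfl⟩
  obtain ⟨y, rfl⟩ := Ext.covariant_sequence_exact₃ _ hE x rfl hx
  rw [show y = 0 from (Ext.subsingleton_of_injective Q E.X₂ p).elim _ _, Ext.zero_comp]

end Ext

lemma sections_surjective_bot {E : ShortComplex (Psh C)} (hE : E.ShortExact) (W : C) :
    Function.Surjective (E.g.hom.app (op W)).hom := fun s => by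
  have hloc : Sheaf.IsLocallySurjective E.g := (Sheaf.isLocallySurjective_iff_epi' _ E.g).2 hE.epi_g
  have h : Presheaf.imageSieve E.g.hom s = ⊤ := GrothendieckTopology.bot_covering.1 (hloc.imageSieve_mem s)
  obtain ⟨t, ht⟩ : (Presheaf.imageSieve E.g.hom s).arrows (𝟙 W) := by rw [h]; trivial
  exact ⟨t, ht.trans (by simp)⟩

/-- Cech cohomology of a presheaf computes Ext out of the sieve. -/
theorem nonempty_cech_addEquiv_ext (hinj : InjAcyclic (⊥ : GrothendieckTopology C) Φ Y) (p : ℕ) :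
    ∀ F : Psh C, Nonempty ((cechCx Φ Y F).homology p ≃+ Ext (P c) F p) := by
  induction p with
  | zero => exact fun F => ⟨(AddEquiv.ofBijective (toH0 c F) (toH0_bijective c F)).symm.trans Ext.addEquiv₀.symm⟩
  | succ p ih =>
    suffices H : ∀ E : ShortComplex (Psh C), E.ShortExact → Injective E.X₂ →
        Nonempty ((cechCx Φ Y E.X₁).homology (p + 1) ≃+ Ext (P c) E.X₁ (p + 1)) from
      fun F => by
        obtain ⟨E, hE, hI, rfl⟩ : ∃ E : ShortComplex (Psh C), E.ShortExact ∧ Injective E.X₂ ∧ E.X₁ = F :=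
          ⟨injectiveSES F, injectiveSES_shortExact F, inferInstance, injectiveSES_X₁ F⟩
        exact H E hE hI
    intro E hE hI
    have hS : (cechSES Φ Y E).ShortExact := cechSES_shortExact Φ Y hE fun n i => sections_surjective_bot hE _
    rcases p with _ | p
    · have hepi : Function.Surjective (hS.δ 0 1 rfl).hom :=
        (AddCommGrpCat.epi_iff_surjective _).1 ((hS.homology_exact₁ 0 1 rfl).epi_f
          (((HomologicalComplex.exactAt_iff_isZero_homology _ _).1 (hinj E.X₂ hI 0)).eq_of_tgt _ _))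
      refine nonempty_addEquiv_of_surjective' ((hS.δ 0 1 rfl).hom.comp (toH0 c E.X₃))
        (homδ (P c) hE) (hepi.comp (toH0_bijective c E.X₃).2) (homδ_surjective (P c) hE) fun x => ?_
      refine Iff.trans ⟨fun hx => ?_, fun hx => ?_⟩ (homδ_eq_zero_iff (P c) hE x).symm
      · obtain ⟨w, hw⟩ := (ShortComplex.ab_exact_iff _).1 (hS.homology_exact₃ 0 1 rfl) (toH0 c E.X₃ x) hx
        obtain ⟨ψ, rfl⟩ := (toH0_bijective c E.X₂).2 w
        exact ⟨ψ, (toH0_bijective c E.X₃).1 ((toH0_natural c E.g ψ).symm.trans hw)⟩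
      · obtain ⟨ψ, rfl⟩ := hx
        exact (congrArg (hS.δ 0 1 rfl).hom (toH0_natural c E.g ψ).symm).trans
          (ConcreteCategory.congr_hom (hS.comp_δ 0 1 rfl) _)
    · obtain ⟨e₁⟩ := δ_bijective hS p (hinj E.X₂ hI)
      obtain ⟨e₂⟩ := ih E.X₃
      exact ⟨e₁.addCommGroupIsoToAddEquiv.symm.trans (e₂.trans
        (AddEquiv.ofBijective _ (conn_bijective (P c) hE p)))⟩

end Groth.Agent.SiteBase.CechSieve
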