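import Groth.Agent.ModPull.Criterion
import Groth.Agent.ModPull.TensorSec
import Groth.Agent.ModTensor.Proj

/-!
# Relations between sections in tensor products with flat modules
-/

set_option autoImplicit false
set_option backward.isDefEq.respectTransparency false
set_option linter.unusedSectionVars false

universe u

open CategoryTheory CategoryTheory.Limits Opposite MonoidalCategory
open Groth.Agent.ModTensor Groth.Agent.ModPull
open scoped TensorProduct

noncomputable section

namespace Groth.Agent.FlatRel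

variable {C : Type u} [SmallCategory C] {J : GrothendieckTopology C} {O : Sheaf J CommRingCat.{u}}

lemma rs_sum_smul {P : P₀ O} {V V' : C} (g : V' ⟶ V) {κ : Type*} [Fintype κ] (c : κ → O.obj.obj (op V))
    (x : κ → P.obj (op V)) :
    rs P g.op (∑ k, c k • x k) = ∑ k, (O.obj.map g.op).hom (c k) • rs P g.op (x k) :=
  (ModPull.rs_sum g.op Finset.univ _).trans (Finset.sum_congr rfl fun _ _ => rs_smul g.op _ _)

lemma shu_sum (P : P₀ O) {X : Cᵒᵖ} {κ : Type*} (s : Finset κ) (f : κ → P.obj X) :
    shu P (∑ k ∈ s, f k) = ∑ k ∈ s, shu P (f k) :=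
  map_sum (((shAdj O).unit.app P).app X).hom f s

section

variable {R : Cᵒᵖ ⥤ CommRingCat.{u}} {U : C} (G : PU R U)

unseal extObj projO in
lemma projO_add {V : Cᵒᵖ} (φ : V.unop ⟶ U) (a b : (extObj G).obj V) :
    projO G φ (a + b) = projO G φ a + projO G φ b :=
  map_add (proj G φ) a b

unseal extObj projO in
lemma projO_smul {V : Cᵒᵖ} (φ : V.unop ⟶ U) (r : R.obj V) (a : (extObj G).obj V) :
    projO G φ (r • a) = r • projO G φ a :=
  (proj G φ).map_smul r a

end

lemma trivialisation_of_tensor_eq_zero {M H : ModSite.Mod O} (hH : ModSite.IsFlat H) {W : C} {κ : Type}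
    [Fintype κ] (m : κ → ((fg O).obj M).obj (op W)) (h : κ → ((fg O).obj H).obj (op W))
    (hz : (∑ k, tm (R := O.obj) (m k) (h k) : ((fg O).obj M ⊗ (fg O).obj H : P₀ O).obj (op W)) = 0) :
    Locally J W (fun V g => ∃ (n : ℕ) (N : Fin n → κ → O.obj.obj (op V))
      (t : Fin n → ((fg O).obj H).obj (op V)),
      (∀ k, rs ((fg O).obj H) g.op (h k) = ∑ j, N j k • t j) ∧
        ∀ j, ∑ k, N j k • rs ((fg O).obj M) g.op (m k) = 0) := by
  classical
  let G := (resP O.obj W).obj ((fg O).obj M)
  let Z₀ : Over W := Over.mk (𝟙 W)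
  let x : κ → sec G Z₀ := fun k => toRes ((fg O).obj M) Z₀ (m k)
  let φ : sigFree O (cst W κ) ⟶ extObj G :=
    sigDesc fun y => inclO G (V := op W) Z₀ (𝟙 W) (x y.down)
  have hφ : ∀ {X : Cᵒᵖ} (y : κ) (a : X.unop ⟶ W),
      φ.app X (bs (cst W κ) ⟨y⟩ a) = inclO G Z₀ a (x y) := fun {X} y a => by
    refine (sigDesc_bs (U := cst W κ) _ ⟨y⟩ a).trans ?_
    exact rs_inclO_id G Z₀ a (x y)
  let q := Abelian.factorThruImage φ
  let ι := Abelian.image.ι φ
  let H' := (fg O).obj H
  let z : (sigFree O (cst W κ) ⊗ H' : P₀ O).obj (op W) :=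
    ∑ y, tm (R := O.obj) (bs (cst W κ) ⟨y⟩ (𝟙 W)) (h y)
  have e0 : q ▷ H' ≫ ι ▷ H' = φ ▷ H' := by rw [← comp_whiskerRight, Abelian.image.fac]
  have h1 : (φ ▷ H').app (op W) z = 0 := by
    refine (map_sum ((φ ▷ H').app (op W)).hom _ _).trans ?_
    let T := LinearMap.rTensor (H'.obj (op W)) (unitLin G Z₀)
    refine Eq.trans ?_ (((congrArg T hz).trans (map_zero T)))
    refine Eq.trans ?_ (map_sum T _ _).symm
    refine Finset.sum_congr rfl fun y _ => ?_
    refine (whiskerRight_tm φ _ _).trans ?_
    exact congrArg (fun p => tm (R := O.obj) p (h y)) (hφ y (𝟙 W))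
  have hz' : (ι ▷ H').app (op W) ((q ▷ H').app (op W) z) = 0 :=
    (congrArg (fun k => k.app (op W) z) e0).trans h1
  have : Epi q := inferInstance
  refine (locally_eq_zero_of_whiskerRight hH ι _ hz').mono fun V g hg => ?_
  obtain ⟨n, v, t, e, hv⟩ := exists_ker_repr (A := O.obj.obj (op V)) (q.app (op V)).hom
    (PresheafOfModules.surjective_of_epi q (X := op V)) _ ((app_rs (q ▷ H') g.op z).trans hg)
  refine ⟨n, fun j y => coef (U := cst W κ) (X := op V) ⟨y⟩ g (v j), t, fun y₀ => ?_, fun j => ?_⟩
  · have hr : rs (sigFree O (cst W κ) ⊗ H' : P₀ O) g.op z =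
        ∑ y, tm (R := O.obj) (bs (cst W κ) ⟨y⟩ g) (rs H' g.op (h y)) :=
      (ModPull.rs_sum g.op Finset.univ _).trans (Finset.sum_congr rfl fun y _ => (rs_tm g.op _ _).trans
        (congrArg (fun b => tm (R := O.obj) b (rs H' g.op (h y))) (rs_bs_id (cst W κ) ⟨y⟩ g)))
    let E := evl (Q := H') (coef (U := cst W κ) (X := op V) ⟨y₀⟩ g)
    have e' : ∑ y, E (tm (R := O.obj) (bs (cst W κ) ⟨y⟩ g) (rs H' g.op (h y))) =
        ∑ j, E (tm (R := O.obj) (v j) (t j)) :=
      ((map_sum E _ _).symm.trans (congrArg (fun w => E w) (hr.symm.trans e))).trans (map_sum E _ _)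
    refine Eq.trans ?_ (e'.trans (Finset.sum_congr rfl fun j _ => evl_tm _ _ _))
    refine Eq.symm ?_
    refine (Finset.sum_eq_single y₀ ?_ fun hy => absurd (Finset.mem_univ _) hy).trans ?_
    · intro y _ hy
      refine (evl_tm _ _ _).trans ?_
      rw [coef_bs_of_idx_ne (U := cst W κ) ⟨y₀⟩ g ⟨y⟩ g (fun e => hy (congrArg ULift.down e)), zero_smul]
    · refine (evl_tm _ _ _).trans ?_
      rw [coef_bs_self, one_smul]
  · have h0 : φ.app (op V) (v j) = 0 := by
      refine (congrArg (fun k => k.app (op V) (v j)) (Abelian.image.fac φ).symm).trans ?_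
      exact (congrArg (ι.app (op V)).hom (hv j)).trans (map_zero _)
    let P : ((extObj G).obj (op V)) →ₗ[O.obj.obj (op V)] ((fg O).obj M).obj (op V) :=
      { toFun := fun s => projO G (g ≫ Z₀.hom) s
        map_add' := fun a b => projO_add G (V := op V) (g ≫ Z₀.hom) a b
        map_smul' := fun r a => projO_smul G (V := op V) (g ≫ Z₀.hom) r a }
    have key : ∀ p : (sigFree O (cst W κ)).obj (op V), P (φ.app (op V) p) =
        ∑ y, coef (U := cst W κ) (X := op V) ⟨y⟩ g p • rs ((fg O).obj M) g.op (m y) := by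
      intro p
      induction p using sigFree_induction with
      | zero =>
        refine ((congrArg P (map_zero (φ.app (op V)).hom)).trans (map_zero P)).trans ?_
        exact (Finset.sum_eq_zero fun y _ => by rw [map_zero, zero_smul]).symm
      | add p p' hp hp' =>
        refine ((congrArg P (map_add (φ.app (op V)).hom p p')).trans (map_add P _ _)).trans ?_
        refine (congrArg₂ (· + ·) hp hp').trans ?_
        rw [← Finset.sum_add_distrib]
        exact Finset.sum_congr rfl fun y _ => by rw [map_add, add_smul]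
      | smul r y a =>
        refine ((congrArg P (map_smul (φ.app (op V)).hom r _)).trans (map_smul P r _)).trans ?_
        refine (congrArg (fun w => r • P w) (hφ y.down a)).trans ?_
        rw [Finset.sum_eq_single y.down _ (fun hy => absurd (Finset.mem_univ _) hy)]
        · by_cases ha : a = g
          · subst ha
            refine (congrArg (fun w => r • w) (projO_inclO_self G Z₀ a (x y.down))).trans ?_
            rw [map_smul, coef_bs_self, smul_eq_mul, mul_one]
            rfl
          · refine (congrArg (fun w => r • w) (projO_inclO_of_ne G (g ≫ Z₀.hom) Z₀ a (x y.down)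
              (fun e => ha ((Category.comp_id a).symm.trans (e.trans (Category.comp_id g)))))).trans ?_
            rw [map_smul, coef_bs_of_hom_ne (U := cst W κ) y g a ha, smul_zero, smul_zero, zero_smul]
        · intro y' _ hy'
          rw [map_smul, coef_bs_of_idx_ne (U := cst W κ) _ g y a (fun e => hy' (congrArg ULift.down e).symm),
            smul_zero, zero_smul]
    exact (key (v j)).symm.trans ((congrArg P h0).trans (map_zero P))

/-- Relations between sections in a tensor product with a flat module are locally trivial. -/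
theorem exists_trivialisation_mod {M H : ModSite.Mod O} (hH : ModSite.IsFlat H) {W : C} {κ : Type}
    [Fintype κ] (m : κ → ((fg O).obj M).obj (op W)) (h : κ → ((fg O).obj H).obj (op W))
    (hz : ∑ k, shT M H (m k) (h k) = 0) :
    Locally J W (fun V g => ∃ (n : ℕ) (N : Fin n → κ → O.obj.obj (op V))
      (t : Fin n → ((fg O).obj H).obj (op V)),
      (∀ k, rs ((fg O).obj H) g.op (h k) = ∑ j, N j k • t j) ∧
        ∀ j, ∑ k, N j k • rs ((fg O).obj M) g.op (m k) = 0) := by
  let P : P₀ O := (fg O).obj M ⊗ (fg O).obj H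
  have hz' : shu P (∑ k, tm (R := O.obj) (m k) (h k)) = shu P 0 := by
    rw [shu_sum, shu_zero]
    exact hz
  refine Locally.bind (locally_eq_of_shu_eq P _ 0 hz') fun V g hg => ?_
  have e : (∑ k, tm (R := O.obj) (rs ((fg O).obj M) g.op (m k)) (rs ((fg O).obj H) g.op (h k)) :
      P.obj (op V)) = 0 := by
    refine Eq.trans ?_ (hg.trans (map_zero _))
    exact ((ModPull.rs_sum g.op Finset.univ _).trans (Finset.sum_congr rfl fun k _ => rs_tm g.op _ _)).symm
  refine (trivialisation_of_tensor_eq_zero hH _ _ e).mono fun V' g' ⟨n, N, t, h₁, h₂⟩ => ?_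
  exact ⟨n, N, t, fun k => (rs_comp g.op g'.op (h k)).trans (h₁ k),
    fun j => Eq.trans (Finset.sum_congr rfl fun k _ =>
      congrArg (fun w => N j k • w) (rs_comp g.op g'.op (m k))) (h₂ j)⟩

end Groth.Agent.FlatRel
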