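import Groth.Agent.SiteBase.HHom
import Groth.Agent.SiteBase.FlatRel
import Groth.Agent.SiteBase.SecGen

/-!
# Internal hom from a finitely presented module, tensored with a flat module
-/

set_option autoImplicit false
set_option backward.isDefEq.respectTransparency false
set_option linter.style.haveILetI false
set_option linter.unusedSectionVars false
set_option linter.unusedVariables false

universe u

open CategoryTheory CategoryTheory.Limits Opposite MonoidalCategory
open Groth.Agent.ModTensor Groth.Agent.ModPull Groth.Agent.LocalFactor Groth.Agent.SecGen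
open Groth.Agent.SecGenOps Groth.Agent.LHomLib Groth.Agent.HHom

noncomputable section

namespace Groth.Agent.HomTensor

variable {C : Type u} [SmallCategory C] {J : GrothendieckTopology C} {O : Sheaf J CommRingCat.{u}}
variable {F G H : ModSite.Mod O}

attribute [local instance] Pres.fκ Pres.fρ

/-- A family, multiplied with a section. -/
def pair {X : Cᵒᵖ} (τ : LHom F G X.unop) (h : ((fg O).obj H).obj X) : LHom F (ten G H) X.unop where
  app W f :=
    { toFun := fun x => shT G H (τ.app f x) (rs ((fg O).obj H) f.op h)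
      map_add' := fun x y => by rw [map_add, shT_add_left]
      map_smul' := fun r x => by rw [map_smul, shT_smul_left]; rfl }
  nat W' W g f x := by
    show shT G H (τ.app (g ≫ f) (rs ((fg O).obj F) g.op x)) (rs ((fg O).obj H) (g ≫ f).op h) =
      rs ((fg O).obj (ten G H)) g.op (shT G H (τ.app f x) (rs ((fg O).obj H) f.op h))
    rw [rs_shT, τ.nat, op_comp, rs_comp]

lemma pair_app {X : Cᵒᵖ} (τ : LHom F G X.unop) (h : ((fg O).obj H).obj X) {W : C} (f : W ⟶ X.unop)
    (x : ((fg O).obj F).obj (op W)) :
    (pair τ h).app f x = shT G H (τ.app f x) (rs ((fg O).obj H) f.op h) := rfl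

/-- The multiplication, bilinearly. -/
def pairBil (F G H : ModSite.Mod O) (X : Cᵒᵖ) :
    ((fg O).obj (hMod F G)).obj X →ₗ[O.obj.obj X] ((fg O).obj H).obj X →ₗ[O.obj.obj X]
      ((fg O).obj (hMod F (ten G H))).obj X :=
  LinearMap.mk₂ (O.obj.obj X) (fun (τ : LHom F G X.unop) h => pair (X := X) τ h)
    (fun τ τ' h => LHom.hext fun W f x => shT_add_left _ _ _)
    (fun r τ h => LHom.hext fun W f x => shT_smul_left _ _ _)
    (fun τ h h' => LHom.hext fun W f x => by
      show shT G H _ (rs ((fg O).obj H) f.op (h + h')) = _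
      rw [rs_add, shT_add_right]
      rfl)
    (fun r τ h => LHom.hext fun W f x => by
      show shT G H _ (rs ((fg O).obj H) f.op (r • h)) = _
      rw [rs_smul, shT_smul_right]
      rfl)

/-- The comparison on presheaves. -/
def cmpPre (F G H : ModSite.Mod O) :
    ((fg O).obj (hMod F G) ⊗ (fg O).obj H : P₀ O) ⟶ (fg O).obj (hMod F (ten G H)) where
  app X := ModuleCat.ofHom (TensorProduct.lift (pairBil F G H X))
  naturality {X Y} g := ModuleCat.MonoidalCategory.tensor_ext fun τ h => LHom.hext fun W f x => by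
    show shT G H (LHom.app (show LHom F G X.unop from τ) (f ≫ g.unop) x)
        (rs ((fg O).obj H) f.op (rs ((fg O).obj H) g h)) =
      shT G H (LHom.app (show LHom F G X.unop from τ) (f ≫ g.unop) x) (rs ((fg O).obj H) (f ≫ g.unop).op h)
    rw [op_comp, rs_comp]
    rfl

/-- The comparison. -/
def cmp (F G H : ModSite.Mod O) : ten (hMod F G) H ⟶ hMod F (ten G H) :=
  ((shAdj O).homEquiv ((fg O).obj (hMod F G) ⊗ (fg O).obj H : P₀ O) (hMod F (ten G H))).symm (cmpPre F G H)

/-- Values of the comparison. -/
def val {X : Cᵒᵖ} (z : ((fg O).obj (ten (hMod F G) H)).obj X) : LHom F (ten G H) X.unop :=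
  ((fg O).map (cmp F G H)).app X z

lemma val_shT {X : Cᵒᵖ} (τ : LHom F G X.unop) (h : ((fg O).obj H).obj X) :
    val (shT (hMod F G) H τ h) = pair τ h := by
  refine (shu_desc (cmp F G H) (tm (R := O.obj) (P := (fg O).obj (hMod F G)) τ h)).trans ?_
  exact congrArg (fun k : ((fg O).obj (hMod F G) ⊗ (fg O).obj H : P₀ O) ⟶ (fg O).obj (hMod F (ten G H)) =>
      k.app X (tm (R := O.obj) (P := (fg O).obj (hMod F G)) τ h))
    (((shAdj O).homEquiv ((fg O).obj (hMod F G) ⊗ (fg O).obj H : P₀ O)
      (hMod F (ten G H))).apply_symm_apply (cmpPre F G H))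

seal cmp

lemma val_rs {U V : C} (g : V ⟶ U) (z : ((fg O).obj (ten (hMod F G) H)).obj (op U)) :
    val (rs ((fg O).obj (ten (hMod F G) H)) g.op z) = (val z).res g :=
  app_rs ((fg O).map (cmp F G H)) g.op z

/-- Evaluation of families at a section on their base. -/
def ev {M : ModSite.Mod O} {U : C} (x : ((fg O).obj F).obj (op U)) :
    LHom F M U →+ ((fg O).obj M).obj (op U) :=
  AddMonoidHom.mk' (fun τ => τ.app (𝟙 U) x) fun σ τ => add_app σ τ _ _

lemma sum_app {M : ModSite.Mod O} {U : C} {κ : Type*} (s : Finset κ) (τ : κ → LHom F M U)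
    (x : ((fg O).obj F).obj (op U)) : (∑ k ∈ s, τ k).app (𝟙 U) x = ∑ k ∈ s, (τ k).app (𝟙 U) x :=
  map_sum (ev x) τ s

lemma smul_app_id {M : ModSite.Mod O} {U : C} (r : O.obj.obj (op U)) (τ : LHom F M U)
    (x : ((fg O).obj F).obj (op U)) : (r • τ).app (𝟙 U) x = r • τ.app (𝟙 U) x := by
  rw [smul_app]
  exact congrArg (fun q : O.obj.obj (op U) => q • _) (ConcreteCategory.congr_hom (O.obj.map_id (op U)) r)

lemma res_app_id {M : ModSite.Mod O} {U V : C} (τ : LHom F M U) (g : V ⟶ U)
    (x : ((fg O).obj F).obj (op U)) :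
    (τ.res g).app (𝟙 V) (rs ((fg O).obj F) g.op x) = rs ((fg O).obj M) g.op (τ.app (𝟙 U) x) := by
  rw [LHom.res_app, Category.id_comp]
  have h := τ.nat g (𝟙 U) x
  rw [Category.comp_id] at h
  exact h

lemma pair_app_id {U : C} (τ : LHom F G U) (h : ((fg O).obj H).obj (op U)) (x : ((fg O).obj F).obj (op U)) :
    (pair (X := op U) τ h).app (𝟙 U) x = shT G H (τ.app (𝟙 U) x) h := by
  rw [pair_app, op_id, rs_id]

lemma shT_sum_left {M N : ModSite.Mod O} {X : Cᵒᵖ} {κ : Type*} (s : Finset κ) (f : κ → ((fg O).obj M).obj X)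
    (y : ((fg O).obj N).obj X) : shT M N (∑ k ∈ s, f k) y = ∑ k ∈ s, shT M N (f k) y :=
  map_sum (AddMonoidHom.mk' (fun x => shT M N x y) fun a b => shT_add_left a b y) f s

lemma shT_sum_right {M N : ModSite.Mod O} {X : Cᵒᵖ} {κ : Type*} (x : ((fg O).obj M).obj X) (s : Finset κ)
    (f : κ → ((fg O).obj N).obj X) : shT M N x (∑ k ∈ s, f k) = ∑ k ∈ s, shT M N x (f k) :=
  map_sum (AddMonoidHom.mk' (fun y => shT M N x y) fun a b => shT_add_right x a b) f s

/-- Rewriting a sum of products through a factorisation of the second factors. -/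
lemma regroup {M N : ModSite.Mod O} {X : Cᵒᵖ} {κ ν : Type*} [Fintype κ] [Fintype ν]
    (m : κ → ((fg O).obj M).obj X) (h : κ → ((fg O).obj N).obj X) (A : ν → κ → O.obj.obj X)
    (t : ν → ((fg O).obj N).obj X) (e : ∀ k, h k = ∑ l, A l k • t l) :
    ∑ k, shT M N (m k) (h k) = ∑ l, shT M N (∑ k, A l k • m k) (t l) := by
  simp only [e, shT_sum_right, shT_sum_left]
  rw [Finset.sum_comm]
  refine Finset.sum_congr rfl fun l _ => Finset.sum_congr rfl fun k _ => ?_
  rw [shT_smul_right, shT_smul_left]

/-- Sections of tensor products are locally finite sums of products. -/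
theorem locally_exists_sum {M N : ModSite.Mod O} {W : C} (z : ((fg O).obj (ten M N)).obj (op W)) :
    ModPull.Locally J W (fun V g => ∃ (n : ℕ) (x : Fin n → ((fg O).obj M).obj (op V))
      (y : Fin n → ((fg O).obj N).obj (op V)),
      rs ((fg O).obj (ten M N)) g.op z = ∑ k, shT M N (x k) (y k)) := by
  refine (locally_exists_shu ((fg O).obj M ⊗ (fg O).obj N : P₀ O) z).mono fun V g hg => ?_
  obtain ⟨p, hp⟩ := hg
  obtain ⟨S, hS⟩ := TensorProduct.exists_finset (R := O.obj.obj (op V)) p
  refine ⟨S.card, fun k => (S.equivFin.symm k).1.1, fun k => (S.equivFin.symm k).1.2, ?_⟩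
  refine hp.symm.trans ?_
  rw [hS]
  refine (FlatRel.shu_sum _ S _).trans ?_
  rw [← Finset.sum_coe_sort]
  exact (Equiv.sum_comp S.equivFin.symm
    (fun i : S => shT M N i.1.1 i.1.2)).symm

variable [F.IsFinitePresentation]

theorem mono_cmp (hH : ModSite.IsFlat H) : Mono (cmp F G H) := by
  classical
  refine mono_of_app_eq_zero _ fun W z hz => ?_
  have hz' : val z = 0 := hz
  refine eq_of_locally' _ ((locally_exists_pres F W).bind fun V g hg => ?_)
  obtain ⟨P⟩ := hg
  let z₁ := rs ((fg O).obj (ten (hMod F G) H)) g.op z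
  have key : ∀ I : Finset P.κ, ModPull.Locally J V (fun V' g' =>
      ∃ (n : ℕ) (τ : Fin n → LHom F G V') (h : Fin n → ((fg O).obj H).obj (op V')),
        rs ((fg O).obj (ten (hMod F G) H)) g'.op z₁ = ∑ k, shT (hMod F G) H (τ k) (h k) ∧
          ∀ i ∈ I, ∀ k, (τ k).app (𝟙 V') (rs ((fg O).obj F) g'.op (P.s i)) = 0) := by
    intro I
    induction I using Finset.induction_on with
    | empty =>
      refine (locally_exists_sum z₁).mono fun V' g' hg' => ?_
      obtain ⟨n, τ, h, e⟩ := hg'
      exact ⟨n, τ, h, e, fun i hi => absurd hi (Finset.notMem_empty i)⟩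
    | insert a s ha ih =>
      refine ih.bind fun V' g' hg' => ?_
      obtain ⟨n, τ, h, e, hk⟩ := hg'
      let x := rs ((fg O).obj F) g'.op (P.s a)
      have hzero : ∑ k, shT G H ((τ k).app (𝟙 V') x) (h k) = 0 := by
        have e' : val (∑ k, shT (hMod F G) H (τ k) (h k)) = 0 := by
          rw [← e, val_rs, val_rs, hz']
          exact LHom.hext fun _ _ _ => rfl
        have e'' : val (∑ k, shT (hMod F G) H (τ k) (h k)) = ∑ k, pair (X := op V') (τ k) (h k) :=
          (map_sum (((fg O).map (cmp F G H)).app (op V')).hom _ _).trans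
            (Finset.sum_congr rfl fun k _ => val_shT (X := op V') (τ k) (h k))
        have := congrArg (ev x) (e''.symm.trans e')
        rw [map_sum, map_zero] at this
        exact (Finset.sum_congr rfl fun k _ => (pair_app_id (τ k) (h k) x).symm).trans this
      refine (FlatRel.exists_trivialisation_mod hH _ _ hzero).mono fun V'' g'' hg'' => ?_
      obtain ⟨m, N, t, h₁, h₂⟩ := hg''
      refine ⟨m, fun l => ∑ k, N l k • (τ k).res g'', t, ?_, fun i hi l => ?_⟩
      · rw [rs_op_comp, e]
        refine (ModPull.rs_sum g''.op Finset.univ _).trans ?_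
        refine (Finset.sum_congr rfl fun k _ => rs_shT (M := hMod F G) (N := H) g''.op (τ k) (h k)).trans ?_
        exact regroup (M := hMod F G) _ _ N t h₁
      · rw [sum_app, rs_op_comp]
        simp only [smul_app_id, res_app_id]
        rcases Finset.mem_insert.1 hi with rfl | hi
        · exact h₂ l
        · exact Finset.sum_eq_zero fun k _ => by
            rw [hk i hi k]
            exact (congrArg (N l k • ·) (map_zero (((fg O).obj G).map g''.op).hom)).trans (smul_zero _)
  refine (key Finset.univ).mono fun V' g' hg' => ?_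
  obtain ⟨n, τ, h, e, hk⟩ := hg'
  have hτ : ∀ k, τ k = 0 := fun k =>
    app_eq_of_gens (s := (presPull P g').s) (presPull P g').gen fun i =>
      hk i (Finset.mem_univ i) k
  rw [rs_op_comp, e]
  refine (Finset.sum_eq_zero fun k _ => ?_).trans (map_zero _).symm
  rw [hτ k]
  exact shT_zero_left (M := hMod F G) (h k)

theorem locally_exists_val (hH : ModSite.IsFlat H) {W : C} (φ : LHom F (ten G H) W) :
    ModPull.Locally J W (fun V g => ∃ z, val (X := op V) z = φ.res g) := by
  classical
  refine (locally_exists_pres F W).bind fun V g hg => ?_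
  obtain ⟨P⟩ := hg
  let φ₁ := φ.res g
  have key : ∀ R : Finset P.ρ, ModPull.Locally J V (fun V' g' =>
      ∃ (κ : Type) (_ : Fintype κ) (y : P.κ → κ → ((fg O).obj G).obj (op V'))
        (h : κ → ((fg O).obj H).obj (op V')),
        (∀ i, rs ((fg O).obj (ten G H)) g'.op (φ₁.app (𝟙 V) (P.s i)) = ∑ k, shT G H (y i k) (h k)) ∧
          ∀ j ∈ R, ∀ k, ∑ i, (O.obj.map g'.op).hom (P.A j i) • y i k = 0) := by
    intro R
    induction R using Finset.induction_on with
    | empty =>
      refine (ModPull.Locally.forall_fintype fun i => locally_exists_sum (φ₁.app (𝟙 V) (P.s i))).mono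
        fun V' g' hg' => ?_
      choose n x h e using hg'
      refine ⟨Σ i, Fin (n i), inferInstance, fun i k => if k.1 = i then x k.1 k.2 else 0,
        fun k => h k.1 k.2, fun i => ?_, fun j hj => absurd hj (Finset.notMem_empty j)⟩
      rw [Fintype.sum_sigma, Finset.sum_eq_single i]
      · refine (e i).trans (Finset.sum_congr rfl fun k _ => ?_)
        show shT G H (x i k) (h i k) = shT G H (if i = i then x i k else 0) (h i k)
        rw [if_pos rfl]
      · intro i' _ hi'
        refine Finset.sum_eq_zero fun k _ => ?_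
        show shT G H (if i' = i then x i' k else 0) (h i' k) = 0
        rw [if_neg hi']
        exact shT_zero_left _
      · exact fun hh => absurd (Finset.mem_univ i) hh
    | insert a s ha ih =>
      refine ih.bind fun V' g' hg' => ?_
      obtain ⟨κ, _, y, h, e, hk⟩ := hg'
      have hzero : ∑ k, shT G H (∑ i, (O.obj.map g'.op).hom (P.A a i) • y i k) (h k) = 0 := by
        have h0 : ∑ i, P.A a i • φ₁.app (𝟙 V) (P.s i) = 0 := by
          refine Eq.trans ?_ ((congrArg (φ₁.app (𝟙 V)) (P.rel a)).trans (map_zero _))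
          rw [map_sum]
          simp only [map_smul]
        have h1 : rs ((fg O).obj (ten G H)) g'.op (∑ i, P.A a i • φ₁.app (𝟙 V) (P.s i)) = 0 :=
          (congrArg (rs ((fg O).obj (ten G H)) g'.op) h0).trans (map_zero _)
        refine Eq.trans ?_ h1
        rw [FlatRel.rs_sum_smul]
        simp only [e, Finset.smul_sum, shT_sum_left]
        rw [Finset.sum_comm]
        exact Finset.sum_congr rfl fun i _ => Finset.sum_congr rfl fun k _ => shT_smul_left _ _ _
      refine (FlatRel.exists_trivialisation_mod hH _ _ hzero).mono fun V'' g'' hg'' => ?_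
      obtain ⟨m, N, t, h₁, h₂⟩ := hg''
      refine ⟨Fin m, inferInstance, fun i l => ∑ k, N l k • rs ((fg O).obj G) g''.op (y i k), t,
        fun i => ?_, fun j hj l => ?_⟩
      · rw [rs_op_comp, e i]
        refine (ModPull.rs_sum g''.op Finset.univ _).trans ?_
        refine (Finset.sum_congr rfl fun k _ => rs_shT (M := G) (N := H) g''.op (y i k) (h k)).trans ?_
        exact regroup _ _ N t h₁
      · have hc : ∀ i, (O.obj.map (g'' ≫ g').op).hom (P.A j i) =
            (O.obj.map g''.op).hom ((O.obj.map g'.op).hom (P.A j i)) := fun i => by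
          rw [op_comp, Functor.map_comp]
          rfl
        simp only [hc, Finset.smul_sum]
        rw [Finset.sum_comm]
        have h3 : ∀ k, ∑ i, (O.obj.map g''.op).hom ((O.obj.map g'.op).hom (P.A j i)) •
              N l k • rs ((fg O).obj G) g''.op (y i k) =
            N l k • rs ((fg O).obj G) g''.op (∑ i, (O.obj.map g'.op).hom (P.A j i) • y i k) := fun k => by
          rw [FlatRel.rs_sum_smul, Finset.smul_sum]
          exact Finset.sum_congr rfl fun i _ => smul_comm _ _ _
        simp only [h3]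
        rcases Finset.mem_insert.1 hj with rfl | hj
        · exact h₂ l
        · exact Finset.sum_eq_zero fun k _ => by
            rw [hk j hj k]
            exact (congrArg (N l k • ·) (map_zero (((fg O).obj G).map g''.op).hom)).trans (smul_zero _)
  refine (key Finset.univ).mono fun V' g' hg' => ?_
  obtain ⟨κ, _, y, h, e, hk⟩ := hg'
  choose τ hτ using fun k => exists_lhom_of_pres (M := G) (presPull P g') (fun i => y i k)
    fun j => hk j (Finset.mem_univ j) k
  refine ⟨∑ k, shT (hMod F G) H (τ k) (h k), app_eq_of_gens (s := (presPull P g').s) (presPull P g').gen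
    fun i => ?_⟩
  have e'' : val (∑ k, shT (hMod F G) H (τ k) (h k)) = ∑ k, pair (X := op V') (τ k) (h k) :=
    (map_sum (((fg O).map (cmp F G H)).app (op V')).hom _ _).trans
      (Finset.sum_congr rfl fun k _ => val_shT (X := op V') (τ k) (h k))
  rw [e'', ← LHom.res_res]
  refine Eq.trans ?_ (res_app_id φ₁ g' (P.s i)).symm
  rw [e i]
  refine (sum_app _ _ _).trans (Finset.sum_congr rfl fun k _ => ?_)
  exact (pair_app_id (τ k) (h k) _).trans (congrArg (fun q => shT G H q (h k)) (hτ k i))

theorem epi_cmp (hH : ModSite.IsFlat H) : Epi (cmp F G H) := by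
  refine ⟨fun {Z} k₁ k₂ hk => (fg O).map_injective (PresheafOfModules.hom_ext fun X =>
    ModuleCat.hom_ext (LinearMap.ext fun φ => ?_))⟩
  refine eq_of_locally' Z ((locally_exists_val hH (W := X.unop) φ).mono fun V g hg => ?_)
  obtain ⟨z, hz⟩ := hg
  refine (app_rs ((fg O).map k₁) g.op φ).symm.trans (Eq.trans ?_ (app_rs ((fg O).map k₂) g.op φ))
  show ((fg O).map k₁).app (op V) (LHom.res φ g) = ((fg O).map k₂).app (op V) (LHom.res φ g)
  rw [← hz]
  have h1 := congrArg (fun k => k.app (op V) z) (congrArg (fg O).map hk)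
  rw [Functor.map_comp, Functor.map_comp] at h1
  exact h1

theorem isIso_cmp (hH : ModSite.IsFlat H) : IsIso (cmp F G H) :=
  have := mono_cmp (F := F) (G := G) hH
  have := epi_cmp (F := F) (G := G) hH
  isIso_of_mono_of_epi _

/-- The comparison isomorphism. -/
def cmpIso (F G H : ModSite.Mod O) [F.IsFinitePresentation] (hH : ModSite.IsFlat H) :
    ten (hMod F G) H ≅ hMod F (ten G H) :=
  @asIso _ _ _ _ (cmp F G H) (isIso_cmp hH)

end Groth.Agent.HomTensor
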