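import Groth.Agent.SiteBase.Sections
import Mathlib.CategoryTheory.Abelian.GrothendieckCategory.EnoughInjectives
import Mathlib.CategoryTheory.Sites.Abelian

/-!
Baer's criterion for a family of generators.
-/

set_option autoImplicit false

universe w v u

open CategoryTheory CategoryTheory.Limits Opposite

noncomputable section

namespace Groth.Agent.Baer

variable {A : Type u} [Category.{v} A] [Abelian A]

section

variable {I X Y : A} (f : X ⟶ Y) (φ : X ⟶ I)

/-- A subobject of `Y` containing `X` with an extension of `φ`. -/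
structure PExt where
  sub : Subobject Y
  base : X ⟶ (sub : A)
  ψ : (sub : A) ⟶ I
  hbase : base ≫ sub.arrow = f
  hψ : base ≫ ψ = φ

instance : Preorder (PExt f φ) where
  le P Q := ∃ h : P.sub ≤ Q.sub, Subobject.ofLE _ _ h ≫ Q.ψ = P.ψ
  le_refl P := ⟨le_rfl, by simp⟩
  le_trans P Q R := by
    rintro ⟨h₁, e₁⟩ ⟨h₂, e₂⟩
    exact ⟨h₁.trans h₂, by rw [← Subobject.ofLE_comp_ofLE _ _ _ h₁ h₂, Category.assoc, e₂, e₁]⟩

variable [IsGrothendieckAbelian.{w} A]

lemma bddAbove_of_directed {K : Type w} [Preorder K] [IsDirectedOrder K] [Nonempty K]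
    (el : K → PExt f φ) (hmono : Monotone el) : ∃ B, ∀ k, el k ≤ B := by
  let F : K ⥤ MonoOver Y :=
    { obj := fun k => MonoOver.mk (el k).sub.arrow
      map := fun {k l} h => MonoOver.homMk (Subobject.ofLE _ _ (hmono (leOfHom h)).choose)
        (Subobject.ofLE_arrow _) }
  let cY : Cocone (F ⋙ MonoOver.forget _ ⋙ Over.forget _) := Cocone.mk Y
    { app := fun k => (el k).sub.arrow
      naturality := fun {k l} h =>
        (Subobject.ofLE_arrow (hmono (leOfHom h)).choose).trans (Category.comp_id _).symm }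
  let cI : Cocone (F ⋙ MonoOver.forget _ ⋙ Over.forget _) := Cocone.mk I
    { app := fun k => (el k).ψ
      naturality := fun {k l} h =>
        (hmono (leOfHom h)).choose_spec.trans (Category.comp_id _).symm }
  let c' := colimit.cocone (F ⋙ MonoOver.forget _ ⋙ Over.forget _)
  let ic : ∀ k : K, ((el k).sub : A) ⟶ c'.pt := fun k => c'.ι.app k
  let fY : c'.pt ⟶ Y := (colimit.isColimit _).desc cY
  have hfY : ∀ k : K, ic k ≫ fY = (el k).sub.arrow := fun k =>
    (colimit.isColimit _).fac cY k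
  have : Mono fY :=
    IsGrothendieckAbelian.mono_of_isColimit_monoOver F (colimit.isColimit _) fY fun k => hfY k
  let ψ : c'.pt ⟶ I := (colimit.isColimit _).desc cI
  have hψ : ∀ k : K, ic k ≫ ψ = (el k).ψ := fun k => (colimit.isColimit _).fac cI k
  obtain ⟨k₀⟩ := (inferInstance : Nonempty K)
  refine ⟨⟨Subobject.mk fY, (el k₀).base ≫ ic k₀ ≫ (Subobject.underlyingIso fY).inv,
    (Subobject.underlyingIso fY).hom ≫ ψ, ?_, ?_⟩, fun k => ?_⟩
  · rw [Category.assoc, Category.assoc, Subobject.underlyingIso_arrow]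
    exact (congrArg (fun z => (el k₀).base ≫ z) (hfY k₀)).trans (el k₀).hbase
  · rw [Category.assoc, Category.assoc, Iso.inv_hom_id_assoc]
    exact (congrArg (fun z => (el k₀).base ≫ z) (hψ k₀)).trans (el k₀).hψ
  · have hle : (el k).sub ≤ Subobject.mk fY := Subobject.le_mk_of_comm (ic k) (hfY k)
    refine ⟨hle, ?_⟩
    have : Subobject.ofLE (el k).sub (Subobject.mk fY) hle =
        ic k ≫ (Subobject.underlyingIso fY).inv := by
      rw [← cancel_mono (Subobject.mk fY).arrow, Subobject.ofLE_arrow]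
      exact ((Category.assoc _ _ _).trans ((congrArg (fun z => ic k ≫ z)
        (Subobject.underlyingIso_arrow fY)).trans (hfY k))).symm
    show Subobject.ofLE (el k).sub (Subobject.mk fY) hle ≫
      ((Subobject.underlyingIso fY).hom ≫ ψ) = (el k).ψ
    rw [this]
    exact (Category.assoc _ _ _).trans ((congrArg (fun z => ic k ≫ z)
      (Iso.inv_hom_id_assoc _ _)).trans (hψ k))

lemma small_pExt : Small.{w} (PExt f φ) := by
  have : LocallySmall.{w} A := inferInstance
  let g : PExt f φ → Σ B : Subobject Y, ((B : A) ⟶ I) := fun P => ⟨P.sub, P.ψ⟩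
  refine small_of_injective (f := g) fun P Q h => ?_
  obtain ⟨s, b, p, hb, hp⟩ := P
  obtain ⟨s', b', p', hb', hp'⟩ := Q
  simp only [g, Sigma.mk.injEq] at h
  obtain ⟨rfl, h⟩ := h
  obtain rfl := eq_of_heq h
  obtain rfl : b = b' := by rw [← cancel_mono s.arrow, hb, hb']
  rfl

/-- A small copy of a set of partial extensions. -/
def Idx (c : Set (PExt f φ)) : Type w :=
  @Shrink.{w} c (@small_subtype.{w} _ (small_pExt.{w} f φ) _)

variable {f φ} in
def Idx.el {c : Set (PExt f φ)} (k : Idx.{w} f φ c) : PExt f φ :=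
  ((@equivShrink.{w} c (@small_subtype.{w} _ (small_pExt.{w} f φ) _)).symm k).1

instance (c : Set (PExt f φ)) : Preorder (Idx.{w} f φ c) := Preorder.lift Idx.el

lemma bddAbove_of_chain (c : Set (PExt f φ)) (hc : IsChain (· ≤ ·) c) (hne : c.Nonempty) :
    ∃ B, ∀ P ∈ c, P ≤ B := by
  let e := @equivShrink.{w} c (@small_subtype.{w} _ (small_pExt.{w} f φ) _)
  have : Nonempty (Idx.{w} f φ c) := ⟨e ⟨hne.choose, hne.choose_spec⟩⟩
  have : IsDirectedOrder (Idx.{w} f φ c) :=
    ⟨fun a b => (hc.total (e.symm a).2 (e.symm b).2).elim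
      (fun h => ⟨b, h, le_refl _⟩) fun h => ⟨a, le_refl _, h⟩⟩
  obtain ⟨B, hB⟩ := bddAbove_of_directed f φ (K := Idx.{w} f φ c) Idx.el fun _ _ h => h
  refine ⟨B, fun P hP => ?_⟩
  have := hB (e ⟨P, hP⟩)
  rwa [show Idx.el (e ⟨P, hP⟩) = P from congrArg Subtype.val (e.symm_apply_apply ⟨P, hP⟩)] at this

end

variable [IsGrothendieckAbelian.{w} A]

theorem injective_of_generators {ι : Type*} (G : ι → A)
    (hdet : ∀ {P Q : A} (p : P ⟶ Q) [Mono p], (∀ i (g : G i ⟶ Q), ∃ h, h ≫ p = g) → IsIso p)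
    (I : A) (h : ∀ i (S : A) (s : S ⟶ G i) [Mono s] (φ : S ⟶ I), ∃ ψ : G i ⟶ I, s ≫ ψ = φ) :
    Injective I := by
  refine ⟨fun {X Y} φ f _ => ?_⟩
  have : Nonempty (PExt f φ) :=
    ⟨⟨Subobject.mk f, (Subobject.underlyingIso f).inv, (Subobject.underlyingIso f).hom ≫ φ,
      Subobject.underlyingIso_arrow f, by simp⟩⟩
  obtain ⟨M, hM⟩ := exists_maximal_of_nonempty_chains_bounded
    (fun c hc hne => bddAbove_of_chain.{w} f φ c hc hne) (fun {a b c} h₁ h₂ => le_trans h₁ h₂)
  have : IsIso M.sub.arrow := by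
    refine hdet _ fun i g => ?_
    obtain ⟨e, he⟩ := h i _ (pullback.snd M.sub.arrow g) (pullback.fst M.sub.arrow g ≫ M.ψ)
    let B := pushout (pullback.fst M.sub.arrow g) (pullback.snd M.sub.arrow g)
    let p' : B ⟶ Y := pushout.desc M.sub.arrow g pullback.condition
    have : Mono p' := (IsPushout.of_hasPushout _ _).mono_of_isPullback_of_mono
      (IsPullback.of_hasPullback M.sub.arrow g) _ (pushout.inl_desc _ _ _) (pushout.inr_desc _ _ _)
    let ψB : B ⟶ I := pushout.desc M.ψ e he.symm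
    let M' : PExt f φ :=
      { sub := Subobject.mk p'
        base := M.base ≫ pushout.inl _ _ ≫ (Subobject.underlyingIso p').inv
        ψ := (Subobject.underlyingIso p').hom ≫ ψB
        hbase := by
          rw [Category.assoc, Category.assoc, Subobject.underlyingIso_arrow]
          exact (congrArg (fun z => M.base ≫ z) (pushout.inl_desc _ _ _)).trans M.hbase
        hψ := by
          rw [Category.assoc, Category.assoc, Iso.inv_hom_id_assoc]
          exact (congrArg (fun z => M.base ≫ z) (pushout.inl_desc _ _ _)).trans M.hψ }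
    have hle : M ≤ M' := by
      have hl : M.sub ≤ Subobject.mk p' :=
        Subobject.le_mk_of_comm (pushout.inl _ _) (pushout.inl_desc _ _ _)
      refine ⟨hl, ?_⟩
      have : Subobject.ofLE M.sub (Subobject.mk p') hl =
          pushout.inl _ _ ≫ (Subobject.underlyingIso p').inv := by
        rw [← cancel_mono (Subobject.mk p').arrow, Subobject.ofLE_arrow, Category.assoc,
          Subobject.underlyingIso_arrow]
        exact (pushout.inl_desc _ _ _).symm
      show Subobject.ofLE M.sub (Subobject.mk p') hl ≫ (Subobject.underlyingIso p').hom ≫ ψB = M.ψ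
      rw [this, Category.assoc, Iso.inv_hom_id_assoc]
      exact pushout.inl_desc _ _ _
    obtain ⟨hge, -⟩ := hM M' hle
    refine ⟨pushout.inr _ _ ≫ (Subobject.underlyingIso p').inv ≫ Subobject.ofLE _ _ hge, ?_⟩
    rw [Category.assoc, Category.assoc, Subobject.ofLE_arrow, Subobject.underlyingIso_arrow]
    exact pushout.inr_desc _ _ _
  exact ⟨inv M.sub.arrow ≫ M.ψ, by
    refine (congrArg (fun z => z ≫ inv M.sub.arrow ≫ M.ψ) M.hbase.symm).trans ?_
    rw [Category.assoc, IsIso.hom_inv_id_assoc, M.hψ]⟩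

section Sheaves

variable {C : Type u} [SmallCategory C] {J : GrothendieckTopology C}

theorem detects_iso {P Q : Sheaf J AddCommGrpCat.{u}} (p : P ⟶ Q) [Mono p]
    (h : ∀ (U : C) (g : CohCx.freeSheaf J U ⟶ Q), ∃ k, k ≫ p = g) : IsIso p := by
  have : Mono p.hom := (sheafToPresheaf J AddCommGrpCat.{u}).map_mono p
  have : ∀ U : Cᵒᵖ, IsIso (p.hom.app U) := fun U => by
    obtain ⟨U⟩ := U
    rw [ConcreteCategory.isIso_iff_bijective]
    refine ⟨(AddCommGrpCat.mono_iff_injective _).1 inferInstance, fun s => ?_⟩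
    obtain ⟨k, hk⟩ := h U ((Groth.Agent.SiteBase.secEquiv J U Q).symm s)
    refine ⟨Groth.Agent.SiteBase.secEquiv J U P k, ?_⟩
    have := Groth.Agent.SiteBase.secEquiv_comp U k p
    rw [hk, AddEquiv.apply_symm_apply] at this
    exact this.symm
  have : IsIso ((sheafToPresheaf J AddCommGrpCat.{u}).map p) := NatIso.isIso_of_isIso_app p.hom
  exact isIso_of_fully_faithful (sheafToPresheaf J AddCommGrpCat.{u}) p

end Sheaves

end Groth.Agent.Baer

end
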