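import Groth.Agent.SiteBase.FlatRelEquiv
import Groth.Prelude.Def_ModSite2
import Mathlib.CategoryTheory.Sites.Point.Conservative
import Mathlib.RingTheory.Flat.EquationalCriterion

/-!
# Flatness at points
-/

universe u

open CategoryTheory CategoryTheory.Limits Opposite
open Groth.Agent.ModTensor Groth.Agent.ModPull

namespace Groth.Agent.SiteBase

variable {C : Type u} [SmallCategory C] {J : GrothendieckTopology C} {O : Sheaf J CommRingCat.{u}}
  (p : GrothendieckTopology.Point.{u} J) {F : ModSite.Mod O}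

lemma germ_rs {X Y : C} (g : Y ⟶ X) (y : p.fiber.obj Y) (s : ((fg O).obj F).obj (op X)) :
    ModSite.germ p F Y y (rs ((fg O).obj F) g.op s) = ModSite.germ p F X (p.fiber.map g y) s :=
  p.toPresheafFiber_w_apply g y (ModSite.toAb F).obj s

lemma germRing_map {X Y : C} (g : Y ⟶ X) (y : p.fiber.obj Y) (r : O.obj.obj (op X)) :
    ModSite.germRing (O := O) p Y y ((O.obj.map g.op).hom r) = ModSite.germRing p X (p.fiber.map g y) r :=
  p.toPresheafFiber_w_apply g y O.obj r

/-- Finitely many germs are defined on a common neighbourhood. -/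
lemma exists_common_germ (X₀ : C) (x₀ : p.fiber.obj X₀) (n : ℕ) :
    ∀ (r : Fin n → ModSite.stalkRing p O) (m : Fin n → ModSite.stalkAb p F),
    ∃ (X : C) (a : X ⟶ X₀) (x : p.fiber.obj X) (r' : Fin n → O.obj.obj (op X))
      (m' : Fin n → ((fg O).obj F).obj (op X)),
      p.fiber.map a x = x₀ ∧ (∀ i, ModSite.germRing p X x (r' i) = r i) ∧
        ∀ i, ModSite.germ p F X x (m' i) = m i := by
  induction n with
  | zero => exact fun _ _ => ⟨X₀, 𝟙 _, x₀, fun i => i.elim0, fun i => i.elim0, by simp, fun i => i.elim0, fun i => i.elim0⟩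
  | succ n ih =>
    intro r m
    obtain ⟨X, a, x, r', m', ha, hr, hm⟩ := ih (fun i => r i.castSucc) (fun i => m i.castSucc)
    obtain ⟨X₁, x₁, r₁, hr₁⟩ := p.toPresheafFiber_jointly_surjective (P := O.obj) (r (Fin.last n))
    obtain ⟨X₂, x₂, m₂, hm₂⟩ := p.toPresheafFiber_jointly_surjective (P := (ModSite.toAb F).obj) (m (Fin.last n))
    let A := IsCofiltered.min (Functor.elementsMk p.fiber X x) (Functor.elementsMk p.fiber X₁ x₁)
    let W := IsCofiltered.min A (Functor.elementsMk p.fiber X₂ x₂)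
    let b := IsCofiltered.minToLeft A (Functor.elementsMk p.fiber X₂ x₂) ≫
      IsCofiltered.minToLeft (Functor.elementsMk p.fiber X x) (Functor.elementsMk p.fiber X₁ x₁)
    let b₁ := IsCofiltered.minToLeft A (Functor.elementsMk p.fiber X₂ x₂) ≫
      IsCofiltered.minToRight (Functor.elementsMk p.fiber X x) (Functor.elementsMk p.fiber X₁ x₁)
    let b₂ := IsCofiltered.minToRight A (Functor.elementsMk p.fiber X₂ x₂)
    refine ⟨W.1, b.1 ≫ a, W.2, Fin.snoc (α := fun _ => O.obj.obj (op W.1))
      (fun i => (O.obj.map b.1.op).hom (r' i)) ((O.obj.map b₁.1.op).hom r₁),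
      Fin.snoc (α := fun _ => ((fg O).obj F).obj (op W.1))
      (fun i => rs ((fg O).obj F) b.1.op (m' i)) (rs ((fg O).obj F) b₂.1.op m₂), ?_, fun i => ?_, fun i => ?_⟩
    · rw [← ha, Functor.map_comp]
      exact congrArg (fun t => p.fiber.map a t) b.2
    · refine Fin.lastCases ?_ (fun j => ?_) i
      · rw [Fin.snoc_last, germRing_map]
        exact (congrArg (fun t => ModSite.germRing p X₁ t r₁) b₁.2).trans hr₁
      · rw [Fin.snoc_castSucc, germRing_map]
        exact (congrArg (fun t => ModSite.germRing p X t (r' j)) b.2).trans (hr j)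
    · refine Fin.lastCases ?_ (fun j => ?_) i
      · rw [Fin.snoc_last, germ_rs]
        exact (congrArg (fun t => ModSite.germ p F X₂ t m₂) b₂.2).trans hm₂
      · rw [Fin.snoc_castSucc, germ_rs]
        exact (congrArg (fun t => ModSite.germ p F X t (m' j)) b.2).trans (hm j)

lemma germ_sum {X : C} (x : p.fiber.obj X) {κ : Type} [Fintype κ] (s : κ → ((fg O).obj F).obj (op X)) :
    ModSite.germ p F X x (∑ i, s i) = ∑ i, ModSite.germ p F X x (s i) :=
  map_sum (p.toPresheafFiber X x (ModSite.toAb F).obj).hom _ _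

lemma germRing_sum {X : C} (x : p.fiber.obj X) {κ : Type} [Fintype κ] (r : κ → O.obj.obj (op X)) :
    ModSite.germRing (O := O) p X x (∑ i, r i) = ∑ i, ModSite.germRing p X x (r i) :=
  map_sum (p.toPresheafFiber X x O.obj).hom _ _

lemma germRing_zero {X : C} (x : p.fiber.obj X) : ModSite.germRing (O := O) p X x 0 = 0 :=
  map_zero (p.toPresheafFiber X x O.obj).hom

lemma germRing_mul {X : C} (x : p.fiber.obj X) (a b : O.obj.obj (op X)) :
    ModSite.germRing (O := O) p X x (a * b) = ModSite.germRing p X x a * ModSite.germRing p X x b :=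
  map_mul (p.toPresheafFiber X x O.obj).hom a b

lemma germ_relation {X : C} (x : p.fiber.obj X) {κ : Type} [Fintype κ] (f : κ → O.obj.obj (op X))
    (s : κ → ((fg O).obj F).obj (op X)) :
    ModSite.germ p F X x (∑ i, f i • s i) = ∑ i, ModSite.germRing p X x (f i) • ModSite.germ p F X x (s i) :=
  (germ_sum p x _).trans (Finset.sum_congr rfl fun i _ => ModSite.germ_smul p F X x (f i) (s i))

/-- Stalks of flat modules are flat. -/
theorem flat_stalkMod (hF : ModSite.IsFlat F) : Module.Flat (ModSite.stalkRing p O) (ModSite.stalkMod p F) := by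
  rw [Module.Flat.iff_forall_isTrivialRelation]
  intro l f m h
  obtain ⟨E⟩ := p.isCofiltered.nonempty
  obtain ⟨X, -, x, f', m', -, hf, hm⟩ := exists_common_germ (O := O) (F := F) p E.1 E.2 l f m
  have h0 : ModSite.germ p F X x (∑ i, f' i • m' i) = ModSite.germ p F X x (0 : ((fg O).obj F).obj (op X)) := by
    rw [germ_relation]
    simp only [hf, hm]
    exact h.trans (map_zero (p.toPresheafFiber X x (ModSite.toAb F).obj).hom).symm
  obtain ⟨Y, g, y, hy, he⟩ := (p.toPresheafFiber_eq_iff' X x _ _).1 h0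
  have hrel : ∑ i, (O.obj.map g.op).hom (f' i) • rs ((fg O).obj F) g.op (m' i) = 0 := by
    refine Eq.trans ?_ (he.trans (map_zero (((fg O).obj F).map g.op).hom))
    exact ((rs_sum g.op Finset.univ _).trans (Finset.sum_congr rfl fun i _ => rs_smul g.op (f' i) (m' i))).symm
  obtain ⟨S, hS, hloc⟩ := relTrivial_of_isFlat hF Y l _ _ hrel
  obtain ⟨V, i, hi, v, hv⟩ := p.jointly_surjective S hS y
  obtain ⟨n, t, a, ht, ha⟩ := hloc i hi
  refine ⟨n, fun j k => ModSite.germRing p V v (a j k),
    fun k => ModSite.germ p F V v (t k), fun j => ?_, fun k => ?_⟩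
  · rw [← hm j, ← hy, ← hv, ← germ_rs, ← germ_rs, ht j]
    exact germ_relation p v _ _
  · have := congrArg (ModSite.germRing p V v) (ha k)
    rw [germRing_sum, germRing_zero] at this
    refine Eq.trans (Finset.sum_congr rfl fun j _ => ?_) this
    rw [germRing_mul, germRing_map, germRing_map, hv, hy, hf, mul_comm]

/-- A property of neighbourhoods holding near a point. -/
def NearPt {X : C} (x : p.fiber.obj X) (P : ∀ ⦃Y : C⦄, (Y ⟶ X) → Prop) : Prop :=
  ∃ (Y : C) (g : Y ⟶ X) (y : p.fiber.obj Y), p.fiber.map g y = x ∧ P g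

lemma nearPt_forall {X : C} (x : p.fiber.obj X) (n : ℕ) :
    ∀ (P : Fin n → ∀ ⦃Y : C⦄, (Y ⟶ X) → Prop),
    (∀ i ⦃Y Z : C⦄ (g : Y ⟶ X) (h : Z ⟶ Y), P i g → P i (h ≫ g)) → (∀ i, NearPt p x (P i)) →
      NearPt p x (fun _ g => ∀ i, P i g) := by
  induction n with
  | zero => exact fun P _ _ => ⟨X, 𝟙 _, x, by simp, fun i => i.elim0⟩
  | succ n ih =>
    intro P hmono h
    obtain ⟨Y, g, y, hy, hg⟩ := ih (fun i => P i.castSucc) (fun i => hmono _) (fun i => h _)
    obtain ⟨Y', g', y', hy', hg'⟩ := h (Fin.last n)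
    let α : Functor.elementsMk p.fiber Y y ⟶ Functor.elementsMk p.fiber X x := CategoryOfElements.homMk _ _ g hy
    let β : Functor.elementsMk p.fiber Y' y' ⟶ Functor.elementsMk p.fiber X x := CategoryOfElements.homMk _ _ g' hy'
    obtain ⟨W, a, b, e⟩ := IsCofiltered.cospan α β
    refine ⟨W.1, a.1 ≫ g, W.2, (a ≫ α).2, fun i => ?_⟩
    refine Fin.lastCases ?_ (fun j => hmono _ g a.1 (hg j)) i
    have e' : a.1 ≫ g = b.1 ≫ g' := congrArg Subtype.val e
    rw [e']
    exact hmono _ g' b.1 hg'

/-- A module is flat if its stalks at a conservative family of points are. -/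
theorem isFlat_of_stalks {P : ObjectProperty (GrothendieckTopology.Point.{u} J)}
    (hP : P.IsConservativeFamilyOfPoints)
    (h : ∀ p : GrothendieckTopology.Point.{u} J, P p → Module.Flat (ModSite.stalkRing p O) (ModSite.stalkMod p F)) :
    ModSite.IsFlat F := by
  refine isFlat_of_relTrivial fun U n f s hs => ?_
  let Good : ∀ ⦃V : C⦄, (V ⟶ U) → Prop := fun V g => ∃ (l : ℕ) (t : Fin l → ((fg O).obj F).obj (op V))
    (a : Fin n → Fin l → O.obj.obj (op V)),
    (∀ j, rs ((fg O).obj F) g.op (s j) = ∑ k, a j k • t k) ∧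
      ∀ k, ∑ j, a j k * (O.obj.map g.op).hom (f j) = 0
  let I := Σ V : C, { g : V ⟶ U // Good g }
  let T : Sieve U := Sieve.ofArrows (fun i : I => i.1) (fun i => i.2.1)
  refine ⟨T, (hP.jointly_reflect_ofArrows_mem _).2 fun Φ x => ?_, fun V g hg => ?_⟩
  · let p := Φ.obj
    have hflat := h p Φ.property
    have h0 : ∑ j, ModSite.germRing p U x (f j) • ModSite.germ p F U x (s j) = 0 := by
      exact (germ_relation p x f s).symm.trans ((congrArg (ModSite.germ p F U x) hs).trans
        (map_zero (p.toPresheafFiber U x (ModSite.toAb F).obj).hom))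
    obtain ⟨l, a, m, hm, ha⟩ := Module.Flat.iff_forall_isTrivialRelation.1 hflat h0
    let e : Fin n × Fin l ≃ Fin (n * l) := finProdFinEquiv
    obtain ⟨X, i, y, r₀, m₀, hi, hr₀, hm₀⟩ := exists_common_germ (O := O) (F := F) p U x (n * l + l)
      (Fin.append (fun q => a (e.symm q).1 (e.symm q).2) 0) (Fin.append 0 m)
    let r' : Fin n → Fin l → O.obj.obj (op X) := fun j k => r₀ (Fin.castAdd l (e (j, k)))
    let m' : Fin l → ((fg O).obj F).obj (op X) := fun k => m₀ (Fin.natAdd (n * l) k)
    have hr' : ∀ j k, ModSite.germRing p X y (r' j k) = a j k := fun j k => by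
      rw [hr₀, Fin.append_left, e.symm_apply_apply]
    have hm' : ∀ k, ModSite.germ p F X y (m' k) = m k := fun k => by rw [hm₀, Fin.append_right]
    obtain ⟨Y₀, g₀, y₀, hy₀, hrr⟩ := nearPt_forall p y n
      (fun j Y g => rs ((fg O).obj F) (g ≫ i).op (s j) =
        ∑ k, (O.obj.map g.op).hom (r' j k) • rs ((fg O).obj F) g.op (m' k))
      (fun j Y Z g k hk => by
        try dsimp only at hk ⊢
        rw [Category.assoc, op_comp, rs_comp, hk, rs_sum]
        refine Finset.sum_congr rfl fun q _ => ?_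
        rw [rs_smul, ringMap_comp, op_comp, rs_comp])
      (fun j => by
        have hj : ModSite.germ p F X y (rs ((fg O).obj F) i.op (s j)) =
            ModSite.germ p F X y (∑ k, r' j k • m' k) := by
          rw [germ_rs, hi, germ_relation]
          exact (hm j).trans (Finset.sum_congr rfl fun k _ => by rw [hr', hm'])
        obtain ⟨Y, g, z, hz, hgz⟩ := (p.toPresheafFiber_eq_iff' X y _ _).1 hj
        refine ⟨Y, g, z, hz, ?_⟩
        try dsimp only
        rw [op_comp, rs_comp]
        exact hgz.trans ((rs_sum g.op Finset.univ _).trans (Finset.sum_congr rfl fun q _ => rs_smul g.op _ _)))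
    obtain ⟨Y₁, g₁, y₁, hy₁, hcc⟩ := nearPt_forall p y₀ l
      (fun k Y g => ∑ j, (O.obj.map (g ≫ g₀ ≫ i).op).hom (f j) * (O.obj.map (g ≫ g₀).op).hom (r' j k) = 0)
      (fun k Y Z g b hb => by
        try dsimp only at hb ⊢
        have := congrArg (O.obj.map b.op).hom hb
        rw [map_sum, map_zero] at this
        refine Eq.trans (Finset.sum_congr rfl fun j _ => ?_) this
        rw [map_mul, ringMap_comp, ringMap_comp, Category.assoc, Category.assoc])
      (fun k => by
        have hk : ModSite.germRing p Y₀ y₀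
            (∑ j, (O.obj.map (g₀ ≫ i).op).hom (f j) * (O.obj.map g₀.op).hom (r' j k)) =
            ModSite.germRing (O := O) p Y₀ y₀ 0 := by
          rw [germRing_sum, germRing_zero]
          refine Eq.trans (Finset.sum_congr rfl fun j _ => ?_) (ha k)
          rw [germRing_mul, germRing_map, germRing_map, Functor.map_comp, ConcreteCategory.comp_apply, hy₀, hi, hr']
        obtain ⟨Y, g, z, hz, hgz⟩ := (p.toPresheafFiber_eq_iff' (P := O.obj) Y₀ y₀ _ _).1 hk
        refine ⟨Y, g, z, hz, ?_⟩
        have hgz' : (O.obj.map g.op).hom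
            (∑ j, (O.obj.map (g₀ ≫ i).op).hom (f j) * (O.obj.map g₀.op).hom (r' j k)) =
            (O.obj.map g.op).hom 0 := hgz
        try dsimp only
        rw [map_sum, map_zero] at hgz'
        refine Eq.trans (Finset.sum_congr rfl fun j _ => ?_) hgz'
        rw [map_mul, ringMap_comp, ringMap_comp])
    have hgood : Good (g₁ ≫ g₀ ≫ i) := by
      refine ⟨l, fun k => rs ((fg O).obj F) (g₁ ≫ g₀).op (m' k),
        fun j k => (O.obj.map (g₁ ≫ g₀).op).hom (r' j k), fun j => ?_, fun k => ?_⟩
      · rw [op_comp, rs_comp, hrr j, rs_sum]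
        refine Finset.sum_congr rfl fun k _ => ?_
        rw [rs_smul, ringMap_comp]
        exact (congrArg (fun z => (O.obj.map (g₁ ≫ g₀).op).hom (r' j k) • z)
          (rs_comp (P := (fg O).obj F) g₀.op g₁.op (m' k)).symm)
      · exact (Finset.sum_congr rfl fun j _ => mul_comm _ _).trans (hcc k)
    refine ⟨⟨Y₁, g₁ ≫ g₀ ≫ i, hgood⟩, y₁, ?_⟩
    rw [Functor.map_comp, Functor.map_comp, ConcreteCategory.comp_apply, ConcreteCategory.comp_apply, hy₁, hy₀, hi]
  · obtain ⟨_, b, _, ⟨i⟩, rfl⟩ := hg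
    obtain ⟨l, t, a, ht, ha⟩ := i.2.2
    refine ⟨l, fun k => rs ((fg O).obj F) b.op (t k), fun j k => (O.obj.map b.op).hom (a j k), fun j => ?_, fun k => ?_⟩
    · rw [op_comp, rs_comp, ht j, rs_sum]
      exact Finset.sum_congr rfl fun k _ => rs_smul _ _ _
    · have := congrArg (O.obj.map b.op).hom (ha k)
      rw [map_sum, map_zero] at this
      refine Eq.trans (Finset.sum_congr rfl fun j _ => ?_) this
      rw [map_mul, ringMap_comp]

theorem isFlat_iff_stalks {P : ObjectProperty (GrothendieckTopology.Point.{u} J)}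
    (hP : P.IsConservativeFamilyOfPoints) (F : ModSite.Mod O) :
    ModSite.IsFlat F ↔ ∀ p : GrothendieckTopology.Point.{u} J, P p →
      Module.Flat (ModSite.stalkRing p O) (ModSite.stalkMod p F) :=
  ⟨fun h p _ => flat_stalkMod p h, isFlat_of_stalks hP⟩

end Groth.Agent.SiteBase
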