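import Groth.Agent.SiteBase.LHom
import Groth.Agent.SiteBase.FlatStalk
import Mathlib.Topology.Sheaves.Points

/-!
# Surjectivity on a stalk spreads out for targets of finite type
-/

set_option autoImplicit false
set_option backward.isDefEq.respectTransparency false
set_option linter.style.haveILetI false
set_option linter.unusedSectionVars false

universe u

open CategoryTheory CategoryTheory.Limits Opposite TopologicalSpace
open Groth.Agent.ModTensor Groth.Agent.ModPull Groth.Agent.SecGen Groth.Agent.SecGenOps Groth.Agent.LHomLib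
open Groth.Agent.SiteBase

noncomputable section

namespace Groth.Agent.EpiNhds

variable {C : Type u} [SmallCategory C] {J : GrothendieckTopology C} {O : Sheaf J CommRingCat.{u}}
  (p : GrothendieckTopology.Point.{u} J) {G F : ModSite.Mod O} (φ : G ⟶ F)

lemma stalkMap_germ {X : C} (x : p.fiber.obj X) (y : ((fg O).obj G).obj (op X)) :
    (ModSite.stalkMap p φ).hom (ModSite.germ p G X x y) = ModSite.germ p F X x (ap φ y) :=
  GrothendieckTopology.Point.toPresheafFiber_naturality_apply p ((SheafOfModules.toSheaf (ModSite.ringSh O)).map φ).hom X x y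

theorem exists_preimage (hs : Function.Surjective (ModSite.stalkMap p φ).hom) {X : C} (x : p.fiber.obj X)
    (s : ((fg O).obj F).obj (op X)) :
    ∃ (W : C) (g : W ⟶ X) (w : p.fiber.obj W) (y : ((fg O).obj G).obj (op W)),
      p.fiber.map g w = x ∧ ap φ y = rs ((fg O).obj F) g.op s := by
  obtain ⟨m, hm⟩ := hs (ModSite.germ p F X x s)
  obtain ⟨W, a, w, -, m', hw, -, hm'⟩ := exists_common_germ (O := O) (F := G) p X x 1 (fun _ => 0) (fun _ => m)
  have e : ModSite.germ p F W w (ap φ (m' 0)) = ModSite.germ p F W w (rs ((fg O).obj F) a.op s) := by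
    rw [← stalkMap_germ, hm' 0, hm, germ_rs, hw]
  obtain ⟨W', b, w', hw', e'⟩ := (p.toPresheafFiber_eq_iff' _ _ _ _).1 e
  refine ⟨W', b ≫ a, w', rs ((fg O).obj G) b.op (m' 0), ?_, ?_⟩
  · rw [Functor.map_comp_apply, hw', hw]
  · rw [rs_op_comp, ap_rs]
    exact e'

theorem epi_restr {U : C} {κ : Type} [Fintype κ] (s : κ → ((fg O).obj F).obj (op U)) (hgen : Gens F s)
    (y : κ → ((fg O).obj G).obj (op U)) (hy : ∀ k, ap φ (y k) = s k) : Epi ((ModSite.restr O U).map φ) := by
  let OU := O.over U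
  refine ⟨fun {Z} α β h => (fg OU).map_injective (PresheafOfModules.hom_ext fun T =>
    ModuleCat.hom_ext (LinearMap.ext fun z => ?_))⟩
  refine eq_of_locally' Z ?_
  obtain ⟨S, hS, hSp⟩ := hgen T.unop.hom z
  refine ⟨(Sieve.overEquiv T.unop).symm S, (J.overEquiv_symm_mem_over T.unop S hS), fun W g hg => ?_⟩
  rw [Sieve.overEquiv_symm_iff] at hg
  obtain ⟨c, hc⟩ := hSp g.left hg
  let m : ((fg OU).obj ((ModSite.restr O U).obj G)).obj (op W) :=
    ∑ i, c i • rs ((fg O).obj G) W.hom.op (y i)
  have e : ((fg OU).map ((ModSite.restr O U).map φ)).app (op W) m =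
      rs ((fg OU).obj ((ModSite.restr O U).obj F)) g.op z := by
    refine (ap_sum φ c fun i => rs ((fg O).obj G) W.hom.op (y i)).trans (Eq.trans ?_ hc.symm)
    refine Finset.sum_congr rfl fun i _ => ?_
    rw [ap_rs, hy]
    exact congrArg (fun q => c i • rs ((fg O).obj F) q.op (s i)) (Over.w g).symm
  rw [← app_rs, ← app_rs]
  refine (congrArg (((fg OU).map α).app (op W)).hom e.symm).trans (Eq.trans ?_ (congrArg (((fg OU).map β).app (op W)).hom e))
  exact congrArg (fun r => ((fg OU).map r).app (op W) m) h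

theorem exists_epi_restr {X : TopCat.{u}} {O : TopCat.Sheaf CommRingCat.{u} X} {G F : ModSite.Mod O} (φ : G ⟶ F)
    [SheafOfModules.IsFiniteType (R := ModSite.ringSh O) F] (x : X)
    (hs : Function.Surjective (ModSite.stalkMap (Opens.pointGrothendieckTopology x) φ).hom) :
    ∃ U : Opens X, x ∈ U ∧ Epi ((ModSite.restr O U).map φ) := by
  classical
  obtain ⟨S, hS, hSp⟩ := locally_exists_gens F (⊤ : Opens X)
  obtain ⟨V, g, hg, hx⟩ := hS x trivial
  obtain ⟨n, s, hgen⟩ := hSp g hg
  have key : ∀ t : Finset (Fin n), ∃ (W : Opens X) (a : W ⟶ V), x ∈ W ∧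
      ∀ k ∈ t, ∃ y : ((fg O).obj G).obj (op W), ap φ y = rs ((fg O).obj F) a.op (s k) := by
    intro t
    induction t using Finset.induction_on with
    | empty => exact ⟨V, 𝟙 V, hx, fun k hk => absurd hk (Finset.notMem_empty k)⟩
    | insert k t _ ih =>
      obtain ⟨W, a, hxW, hW⟩ := ih
      obtain ⟨W', b, w', y, -, hy⟩ := exists_preimage (Opens.pointGrothendieckTopology x) φ hs (X := W) ⟨⟨hxW⟩⟩
        (rs ((fg O).obj F) a.op (s k))
      refine ⟨W', b ≫ a, w'.down.down, fun j hj => ?_⟩
      rcases Finset.mem_insert.1 hj with rfl | hj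
      · exact ⟨y, hy.trans (rs_op_comp b a _).symm⟩
      · obtain ⟨y', hy'⟩ := hW j hj
        exact ⟨rs ((fg O).obj G) b.op y', by rw [ap_rs, hy', rs_op_comp]⟩
  obtain ⟨W, a, hxW, hW⟩ := key Finset.univ
  choose y hy using fun k => hW k (Finset.mem_univ k)
  exact ⟨W, hxW, epi_restr φ _ (hgen.pull a) y hy⟩

end Groth.Agent.EpiNhds
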