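import Groth.Agent.SiteBase.LHom
import Mathlib.LinearAlgebra.Matrix.NonsingularInverse

/-!
# Bases of modules on the objects over an object
-/

set_option autoImplicit false
set_option backward.isDefEq.respectTransparency false
set_option linter.style.haveILetI false
set_option linter.unusedSectionVars false

universe u

open CategoryTheory CategoryTheory.Limits Opposite
open Groth.Agent.ModTensor Groth.Agent.ModPull Groth.Agent.LocalFactor Groth.Agent.SecGen Groth.Agent.SecGenOps Groth.Agent.LHomLib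

noncomputable section

namespace Groth.Agent.LocBasis

variable {C : Type u} [SmallCategory C] {J : GrothendieckTopology C} {O : Sheaf J CommRingCat.{u}}
  {F G : ModSite.Mod O} {U : C} {κ : Type} [Fintype κ]

/-- A family of sections which is a basis on every object over `U`. -/
def IsBasis (F : ModSite.Mod O) {U : C} (s : κ → ((fg O).obj F).obj (op U)) : Prop :=
  ∀ ⦃W : C⦄ (f : W ⟶ U) (z : ((fg O).obj F).obj (op W)),
    ∃! c : κ → O.obj.obj (op W), ∑ i, c i • rs ((fg O).obj F) f.op (s i) = z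

lemma IsBasis.pull {s : κ → ((fg O).obj F).obj (op U)} (h : IsBasis F s) {V : C} (a : V ⟶ U) :
    IsBasis F (fun i => rs ((fg O).obj F) a.op (s i)) := fun W f z => by
  simpa only [← rs_op_comp] using h (f ≫ a) z

lemma IsBasis.gens {s : κ → ((fg O).obj F).obj (op U)} (h : IsBasis F s) : Gens F s := fun W f t =>
  ModPull.Locally.of_id fun V g => by
    obtain ⟨c, hc, -⟩ := h (g ≫ f) (rs ((fg O).obj F) g.op t)
    exact ⟨c, hc.symm⟩

lemma IsBasis.eq_zero {s : κ → ((fg O).obj F).obj (op U)} (h : IsBasis F s) {W : C} (f : W ⟶ U)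
    (c : κ → O.obj.obj (op W)) (hc : ∑ i, c i • rs ((fg O).obj F) f.op (s i) = 0) : c = 0 := by
  obtain ⟨d, -, hu⟩ := h f 0
  rw [hu c hc, hu 0 (by simp)]

theorem exists_basis_of_iso (e : (ModSite.restr O U).obj F ≅ SheafOfModules.free (ULift.{u} κ)) :
    ∃ s : κ → ((fg O).obj F).obj (op U), IsBasis F s := by
  let OU := O.over U
  let T : Over U := Over.mk (𝟙 U)
  let s : κ → ((fg O).obj F).obj (op U) := fun i => ((fg OU).map e.inv).app (op T) (fsec ⟨i⟩ (op T))
  refine ⟨s, fun W f z => ?_⟩
  let W' : Over U := Over.mk f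
  have hs : ∀ c : κ → O.obj.obj (op W), ∑ i, c i • rs ((fg O).obj F) f.op (s i) =
      ((fg OU).map e.inv).app (op W') (∑ i : ULift.{u} κ, (c i.down : OU.obj.obj (op W')) • fsec i (op W')) := by
    intro c
    refine Eq.symm ((map_sum (((fg OU).map e.inv).app (op W')).hom _ _).trans ?_)
    refine Eq.trans ?_ (Equiv.sum_comp Equiv.ulift.{u} (fun i => c i • rs ((fg O).obj F) f.op (s i)))
    refine Finset.sum_congr rfl fun i _ => ?_
    refine (map_smul (((fg OU).map e.inv).app (op W')).hom _ _).trans (congrArg (fun q => c i.down • q) ?_)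
    rw [← rs_fsec (O := OU) i (Over.homMk f : W' ⟶ T).op]
    exact app_rs ((fg OU).map e.inv) (Over.homMk f : W' ⟶ T).op _
  have hinv : ∀ w, ((fg OU).map e.hom).app (op W') (((fg OU).map e.inv).app (op W') w) = w := fun w =>
    (congrArg (fun k => ((fg OU).map k).app (op W') w) e.inv_hom_id)
  have hhom : ∀ w, ((fg OU).map e.inv).app (op W') (((fg OU).map e.hom).app (op W') w) = w := fun w =>
    (congrArg (fun k => ((fg OU).map k).app (op W') w) e.hom_inv_id)
  refine ⟨fun i => coord (O := OU) ⟨i⟩ (((fg OU).map e.hom).app (op W') z), ?_, fun c hc => funext fun i => ?_⟩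
  · refine (hs _).trans (Eq.trans ?_ (hhom z))
    exact congrArg (((fg OU).map e.inv).app (op W')).hom (decomp (O := OU) _).symm
  · rw [← hc, hs c, hinv]
    exact (coord_sum_smul (O := OU) (X := op W') (⟨i⟩ : ULift.{u} κ) fun i => c i.down).symm

theorem app_eq_zero_of_epi [DecidableEq κ] (φ : F ⟶ G) [Epi φ] {s : κ → ((fg O).obj F).obj (op U)}
    (hs : IsBasis F s) {t : κ → ((fg O).obj G).obj (op U)} (ht : IsBasis G t)
    (z : ((fg O).obj F).obj (op U)) (hz : ap φ z = 0) : z = 0 := by
  obtain ⟨c, hc, -⟩ := hs (𝟙 U) z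
  have hA : ∀ i, ∃ a : κ → O.obj.obj (op U), ∑ j, a j • t j = ap φ (s i) := fun i => by
    obtain ⟨a, ha, -⟩ := ht (𝟙 U) (ap φ (s i))
    simp only [op_id, rs_id] at ha
    exact ⟨a, ha⟩
  choose A hA using hA
  simp only [op_id, rs_id] at hc
  refine eq_of_locally' F ((ModPull.Locally.forall_fintype fun j => locally_exists_app_eq φ (t j)).mono
    fun V g hg => ?_)
  choose y hy using hg
  have hN : ∀ j, ∃ a : κ → O.obj.obj (op V), ∑ i, a i • rs ((fg O).obj F) g.op (s i) = y j := fun j =>
    (hs g (y j)).exists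
  choose N hN using hN
  let A' : Matrix κ κ (O.obj.obj (op V)) := fun i j => (O.obj.map g.op).hom (A i j)
  let N' : Matrix κ κ (O.obj.obj (op V)) := fun j i => N j i
  have hφ : ∀ i, ap φ (rs ((fg O).obj F) g.op (s i)) = ∑ k, A' i k • rs ((fg O).obj G) g.op (t k) := fun i => by
    rw [ap_rs, ← hA i, rs_sum]
    exact Finset.sum_congr rfl fun k _ => rs_smul _ _ _
  have hcomb : ∀ a : κ → O.obj.obj (op V), ap φ (∑ i, a i • rs ((fg O).obj F) g.op (s i)) =
      ∑ k, (Matrix.vecMul a A') k • rs ((fg O).obj G) g.op (t k) := fun a => by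
    rw [ap_sum]
    simp only [hφ, Finset.smul_sum, smul_smul]
    rw [Finset.sum_comm]
    exact Finset.sum_congr rfl fun k _ => (Finset.sum_smul).symm
  have hNA : N' * A' = 1 := by
    refine Matrix.ext fun j k => ?_
    obtain ⟨d, -, hu⟩ := (ht.pull g) (𝟙 V) (rs ((fg O).obj G) g.op (t j))
    have e₁ := hu (fun k => (N' * A') j k) (by
      simp only [op_id, rs_id]
      refine Eq.trans ?_ ((hcomb (N j)).symm.trans ((congrArg (ap φ) (hN j)).trans (hy j)))
      exact Finset.sum_congr rfl fun k _ => rfl)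
    have e₂ := hu (fun k => (1 : Matrix κ κ (O.obj.obj (op V))) j k) (by
      simp [Matrix.one_apply, op_id, rs_id, ite_smul])
    exact congrFun (e₁.trans e₂.symm) k
  have hAN : A' * N' = 1 := mul_eq_one_comm.1 hNA
  let c' : κ → O.obj.obj (op V) := fun i => (O.obj.map g.op).hom (c i)
  have hz' : rs ((fg O).obj F) g.op z = ∑ i, c' i • rs ((fg O).obj F) g.op (s i) := by
    rw [← hc, rs_sum]
    exact Finset.sum_congr rfl fun i _ => rs_smul _ _ _
  have h0 : Matrix.vecMul c' A' = 0 := by
    refine (ht.pull g).eq_zero (𝟙 V) _ ?_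
    simp only [op_id, rs_id]
    rw [← hcomb c', ← hz', ap_rs, hz]
    exact map_zero _
  have hc0 : c' = 0 := by
    have := congrArg (fun v => Matrix.vecMul v N') h0
    simpa [Matrix.vecMul_vecMul, hAN] using this
  rw [hz', hc0]
  refine Eq.trans ?_ (map_zero (((fg O).obj F).map g.op).hom).symm
  simp

end Groth.Agent.LocBasis
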