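import Groth.Agent.ModPull.Criterion
import Mathlib.LinearAlgebra.DirectSum.Finsupp
import Mathlib.LinearAlgebra.TensorProduct.Finiteness

/-!
# The equational criterion of flatness for sheaves of modules
-/

universe v v' w u

open CategoryTheory CategoryTheory.Limits Opposite MonoidalCategory
open Groth.Agent.ModTensor Groth.Agent.ModPull
open scoped TensorProduct

namespace Groth.Agent.SiteBase

open Classical in
/-- A vanishing sum of elementary tensors comes from finitely many relations. -/
lemma exists_relations {R : Type u} [CommRing R] {B : Type v} {M : Type v'} [AddCommGroup B] [AddCommGroup M]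
    [Module R B] [Module R M] {ι : Type} [Fintype ι] (b : ι → B) (s : ι → M) (h : ∑ i, b i ⊗ₜ[R] s i = 0) :
    ∃ (Y : Finset M) (σ : ι → Y) (N : ℕ) (r : Fin N → Y → R) (c : Fin N → B),
      (∀ i, (σ i : M) = s i) ∧ (∀ q, ∑ y, r q y • (y : M) = 0) ∧
        ∀ y : Y, (∑ i, if (σ i : M) = (y : M) then b i else 0) = ∑ q, r q y • c q := by
  classical
  let π : (M →₀ R) →ₗ[R] M := Finsupp.linearCombination R (id : M → M)
  have hπ : Function.Surjective π := fun m => ⟨Finsupp.single m 1, by simp [π]⟩
  let w : B ⊗[R] (M →₀ R) := ∑ i, b i ⊗ₜ[R] Finsupp.single (s i) 1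
  have hw : LinearMap.lTensor B π w = 0 := by
    rw [map_sum]
    exact (Finset.sum_congr rfl fun i _ => by simp [π]).trans h
  have hex := LinearMap.exact_subtype_ker_map π
  obtain ⟨v, hv⟩ := ((lTensor_exact (M := LinearMap.ker π) B hex hπ) w).1 hw
  obtain ⟨S, rfl⟩ := TensorProduct.exists_finset v
  let e := S.equivFin
  let k : Fin S.card → (M →₀ R) := fun q => ((e.symm q).1.2 : M →₀ R)
  let c : Fin S.card → B := fun q => (e.symm q).1.1
  have hv' : ∑ q, c q ⊗ₜ[R] k q = w := by
    refine Eq.trans ?_ hv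
    rw [map_sum, ← Finset.sum_coe_sort S]
    exact Fintype.sum_equiv e.symm _ _ fun q => rfl
  let Y : Finset M := Finset.univ.image s ∪ Finset.univ.biUnion fun q => (k q).support
  refine ⟨Y, fun i => ⟨s i, Finset.mem_union_left _ (Finset.mem_image_of_mem _ (Finset.mem_univ i))⟩,
    S.card, fun q y => k q y.1, c, fun _ => rfl, fun q => ?_, fun y => ?_⟩
  · have hk : π (k q) = 0 := (e.symm q).1.2.2
    rw [Finsupp.linearCombination_apply] at hk
    refine Eq.trans ?_ hk
    rw [Finset.sum_coe_sort Y (fun m => k q m • m)]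
    exact (Finsupp.sum_of_support_subset _ (fun m hm => Finset.mem_union_right _
      (Finset.mem_biUnion.2 ⟨q, Finset.mem_univ q, hm⟩)) (fun m a => a • id m) (fun m _ => zero_smul R _)).symm
  · have := congrArg (fun t => TensorProduct.finsuppScalarRight R R B M t y.1) hv'
    simp only [w, map_sum, Finsupp.coe_finsetSum, Finset.sum_apply, TensorProduct.finsuppScalarRight_apply_tmul_apply] at this
    refine Eq.trans ?_ this.symm
    refine Finset.sum_congr rfl fun i _ => ?_
    rw [Finsupp.single_apply]
    split_ifs <;> simp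

variable {C : Type u} [SmallCategory C] {J : GrothendieckTopology C} {O : Sheaf J CommRingCat.{u}}

/-- Single relations are locally trivial. -/
def RelTrivial (F : ModSite.Mod O) : Prop :=
  ∀ (U : C) (n : ℕ) (f : Fin n → O.obj.obj (op U)) (s : Fin n → ((fg O).obj F).obj (op U)),
    ∑ j, f j • s j = 0 → Locally J U (fun V g => ∃ (l : ℕ) (t : Fin l → ((fg O).obj F).obj (op V))
      (a : Fin n → Fin l → O.obj.obj (op V)),
      (∀ j, rs ((fg O).obj F) g.op (s j) = ∑ k, a j k • t k) ∧
        ∀ k, ∑ j, a j k * (O.obj.map g.op).hom (f j) = 0)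

lemma ringMap_comp {X Y Z : C} (g : Y ⟶ X) (g' : Z ⟶ Y) (r : O.obj.obj (op X)) :
    (O.obj.map g'.op).hom ((O.obj.map g.op).hom r) = (O.obj.map (g' ≫ g).op).hom r := by
  rw [op_comp, O.obj.map_comp]
  rfl

/-- Finitely many relations are then locally trivial simultaneously. -/
lemma RelTrivial.forall_rel {F : ModSite.Mod O} (hF : RelTrivial F) (N : ℕ) :
    ∀ (U : C) (n : ℕ) (r : Fin N → Fin n → O.obj.obj (op U)) (s : Fin n → ((fg O).obj F).obj (op U)),
    (∀ q, ∑ j, r q j • s j = 0) → Locally J U (fun V g => ∃ (l : ℕ) (t : Fin l → ((fg O).obj F).obj (op V))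
      (a : Fin n → Fin l → O.obj.obj (op V)),
      (∀ j, rs ((fg O).obj F) g.op (s j) = ∑ k, a j k • t k) ∧
        ∀ q k, ∑ j, a j k * (O.obj.map g.op).hom (r q j) = 0) := by
  induction N with
  | zero =>
    intro U n r s _
    refine Locally.of_id fun V g => ⟨n, fun j => rs ((fg O).obj F) g.op (s j), fun j k => if j = k then 1 else 0,
      fun j => ?_, fun q => q.elim0⟩
    simp
  | succ N ih =>
    intro U n r s hr
    refine (ih U n (fun q => r q.castSucc) s fun q => hr _).bind fun V g ⟨l, t, a, ht, ha⟩ => ?_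
    let f : Fin l → O.obj.obj (op V) := fun k => ∑ j, a j k * (O.obj.map g.op).hom (r (Fin.last N) j)
    have hf : ∑ k, f k • t k = 0 := by
      have := congrArg (fun z => rs ((fg O).obj F) g.op z) (hr (Fin.last N))
      rw [rs_sum] at this
      refine Eq.trans ?_ (this.trans (map_zero (((fg O).obj F).map g.op).hom))
      simp only [f, Finset.sum_smul, rs_smul, ht, Finset.smul_sum, smul_smul]
      rw [Finset.sum_comm]
      exact Finset.sum_congr rfl fun j _ => Finset.sum_congr rfl fun k _ => by rw [mul_comm]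
    refine (hF V l f t hf).mono fun V' g' ⟨l', t', b, ht', hb⟩ => ?_
    refine ⟨l', t', fun j k' => ∑ k, (O.obj.map g'.op).hom (a j k) * b k k', fun j => ?_, fun q k' => ?_⟩
    · rw [op_comp, rs_comp, ht, rs_sum]
      simp only [rs_smul, ht', Finset.smul_sum, smul_smul, Finset.sum_smul]
      exact Finset.sum_comm
    · have key : ∑ j, (∑ k, (O.obj.map g'.op).hom (a j k) * b k k') * (O.obj.map (g' ≫ g).op).hom (r q j) =
          ∑ k, b k k' * (O.obj.map g'.op).hom (∑ j, a j k * (O.obj.map g.op).hom (r q j)) := by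
        simp only [Finset.sum_mul, map_sum, map_mul, ringMap_comp, Finset.mul_sum]
        rw [Finset.sum_comm]
        exact Finset.sum_congr rfl fun k _ => Finset.sum_congr rfl fun j _ => by ring
      refine key.trans ?_
      refine Fin.lastCases ?_ (fun q => ?_) q
      · exact hb k'
      · exact Finset.sum_eq_zero fun k _ => by rw [ha q k, map_zero, mul_zero]

/-- A module whose relations are locally trivial is flat. -/
theorem isFlat_of_relTrivial {F : ModSite.Mod O} (hF : RelTrivial F) : ModSite.IsFlat F := by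
  classical
  refine (isFlat_iff_mono F).2 fun A B g hg => ?_
  let F' := (fg O).obj F
  let γ := ((fg O).map g) ▷ F'
  show Mono ((sh O).map γ)
  refine mono_of_app_eq_zero _ fun W x hx => ?_
  refine eq_of_locally' _ ((locally_exists_shu _ x).bind fun V i ⟨z, hz⟩ => ?_)
  have hγ : shu _ (γ.app (op V) z) = shu ((fg O).obj B ⊗ F' : P₀ O) 0 := by
    refine (shu_naturality γ z).symm.trans ?_
    rw [hz, app_rs, hx, shu_zero]
    exact map_zero (((fg O).obj ((sh O).obj _)).map i.op).hom
  refine (locally_eq_of_shu_eq _ _ _ hγ).bind fun V' i' he => ?_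
  obtain ⟨S, hS⟩ := TensorProduct.exists_finset (R := O.obj.obj (op V')) (rs ((fg O).obj A ⊗ F' : P₀ O) i'.op z)
  let e := S.equivFin
  let a : Fin S.card → ((fg O).obj A).obj (op V') := fun q => (e.symm q).1.1
  let s : Fin S.card → F'.obj (op V') := fun q => (e.symm q).1.2
  have hS' : rs ((fg O).obj A ⊗ F' : P₀ O) i'.op z = ∑ q, tm (R := O.obj) (a q) (s q) := by
    rw [hS, ← Finset.sum_coe_sort S]
    exact Fintype.sum_equiv e _ _ fun q => by simp [a, s] <;> rfl
  have hb : ∑ q, (((fg O).map g).app (op V') (a q)) ⊗ₜ[O.obj.obj (op V')] (s q) = 0 := by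
    have h0 : γ.app (op V') (∑ q, tm (R := O.obj) (a q) (s q)) = 0 := by
      rw [← hS', app_rs]
      exact he.trans (map_zero (((fg O).obj B ⊗ F' : P₀ O).map i'.op).hom)
    refine Eq.trans ?_ h0
    rw [map_sum]
    exact Finset.sum_congr rfl fun q _ => rfl
  obtain ⟨Y, σ, N, r, c, hσ, hr, hbc⟩ := exists_relations _ _ hb
  let eY := Y.equivFin
  refine (hF.forall_rel N V' Y.card (fun q j => r q (eY.symm j)) (fun j => (eY.symm j).1) fun q => ?_).mono
    fun V'' i'' ⟨l, t, A', ht, hA⟩ => ?_
  · exact (Fintype.sum_equiv eY.symm _ (fun y => r q y • y.1) fun j => rfl).trans (hr q)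
  let coefA : Fin l → ((fg O).obj A).obj (op V'') := fun k =>
    ∑ q, A' (eY (σ q)) k • rs ((fg O).obj A) i''.op (a q)
  have hz0 : ∀ k, coefA k = 0 := fun k => by
    refine app_injective g (op V'') (Eq.trans ?_ (map_zero (((fg O).map g).app (op V'')).hom).symm)
    simp only [coefA, map_sum, map_smul, app_rs]
    calc ∑ q, A' (eY (σ q)) k • rs ((fg O).obj B) i''.op (((fg O).map g).app (op V') (a q))
        = ∑ y, A' (eY y) k • rs ((fg O).obj B) i''.op
            (∑ q, if (σ q : F'.obj (op V')) = y.1 then ((fg O).map g).app (op V') (a q) else 0) := by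
          simp only [rs_sum, Finset.smul_sum]
          rw [Finset.sum_comm]
          refine Finset.sum_congr rfl fun q _ => ?_
          rw [Finset.sum_eq_single (σ q) (fun y _ hy => by
            rw [if_neg (fun h => hy (Subtype.ext h.symm)),
              show rs ((fg O).obj B) i''.op 0 = 0 from map_zero (((fg O).obj B).map i''.op).hom, smul_zero])
            (fun h => absurd (Finset.mem_univ _) h), if_pos rfl]
      _ = ∑ q, (∑ y, A' (eY y) k * (O.obj.map i''.op).hom (r q y)) • rs ((fg O).obj B) i''.op (c q) := by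
          simp only [hbc, rs_sum, rs_smul, Finset.smul_sum, smul_smul, Finset.sum_smul]
          exact Finset.sum_comm
      _ = 0 := Finset.sum_eq_zero fun q _ => by
          rw [show (∑ y, A' (eY y) k * (O.obj.map i''.op).hom (r q y)) = 0 from
            (Fintype.sum_equiv eY _ (fun j => A' j k * (O.obj.map i''.op).hom (r q (eY.symm j)))
              fun y => by simp).trans (hA q k), zero_smul]
  have hz' : rs ((fg O).obj A ⊗ F' : P₀ O) i''.op (∑ q, tm (R := O.obj) (a q) (s q)) = 0 := by
    rw [rs_sum]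
    calc ∑ q, rs ((fg O).obj A ⊗ F' : P₀ O) i''.op (tm (R := O.obj) (a q) (s q))
        = ∑ q, ∑ k, tm (R := O.obj) (A' (eY (σ q)) k • rs ((fg O).obj A) i''.op (a q)) (t k) := by
          refine Finset.sum_congr rfl fun q _ => ?_
          have hs : rs F' i''.op (s q) = ∑ k, A' (eY (σ q)) k • t k := by
            rw [← hσ q]
            exact (congrArg (fun y => rs F' i''.op (y : Y).1) (eY.symm_apply_apply (σ q)).symm).trans (ht _)
          rw [rs_tm, hs, tm_sum_right]
          exact Finset.sum_congr rfl fun k _ => (TensorProduct.smul_tmul _ _ _).symm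
      _ = ∑ k, tm (R := O.obj) (coefA k) (t k) := by
          rw [Finset.sum_comm]
          exact Finset.sum_congr rfl fun k _ => (tm_sum_left _ Finset.univ _).symm
      _ = 0 := Finset.sum_eq_zero fun k _ => by
          rw [hz0 k]
          exact TensorProduct.zero_tmul _ _
  rw [op_comp, op_comp, rs_comp, rs_comp, ← hz, rs_shu, rs_shu, hS', hz', shu_zero]
  exact (map_zero (((fg O).obj ((sh O).obj ((fg O).obj A ⊗ F'))).map (i.op ≫ i'.op ≫ i''.op)).hom).symm

/-- Flat modules have locally trivial relations. -/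
theorem relTrivial_of_isFlat {F : ModSite.Mod O} (hF : ModSite.IsFlat F) : RelTrivial F := by
  intro U n f s h
  refine (exists_trivialisation (κ := Unit) hF (fun _ => f) s fun _ => h).mono fun V g ⟨l, N, t, ht, hN⟩ => ?_
  exact ⟨l, t, fun j k => N k j, ht, fun k => (Finset.sum_congr rfl fun j _ => mul_comm _ _).trans (hN () k)⟩

theorem isFlat_iff_relTrivial (F : ModSite.Mod O) : ModSite.IsFlat F ↔ RelTrivial F :=
  ⟨relTrivial_of_isFlat, isFlat_of_relTrivial⟩

end Groth.Agent.SiteBase
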