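import Groth.Agent.SiteBase.SecGen
import Mathlib.Topology.Sheaves.Sheaf
import Mathlib.Topology.Category.TopCat.Opens
import Mathlib.CategoryTheory.Sites.LocallySurjective

/-!
# Finite type modules on closed subspaces
-/

set_option autoImplicit false
set_option backward.isDefEq.respectTransparency false
set_option linter.style.haveILetI false
set_option linter.unusedSectionVars false
set_option linter.unusedVariables false

universe u

open CategoryTheory CategoryTheory.Limits Opposite TopologicalSpace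
open Groth.Agent.ModTensor Groth.Agent.ModPull Groth.Agent.SecGen

noncomputable section

namespace Groth.Agent.ClosedPushFT

variable {Z X : TopCat.{u}} (i : Z ⟶ X) {O_Z : TopCat.Sheaf CommRingCat.{u} Z} {O_X : TopCat.Sheaf CommRingCat.{u} X}
  (c : O_X ⟶ ((Opens.map i).sheafPushforwardContinuous CommRingCat.{u}
      (Opens.grothendieckTopology X) (Opens.grothendieckTopology Z)).obj O_Z)
  (hi : Topology.IsClosedEmbedding i) (F : ModSite.Mod O_Z)

lemma eq_of_isEmpty {W : Opens Z} (hW : ∀ z, z ∉ W) (a b : ((fg O_Z).obj F).obj (op W)) : a = b :=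
  eq_of_locally' (J := Opens.grothendieckTopology Z) F ⟨⊥, fun x hx => absurd hx (hW x), fun V g hg => hg.elim⟩

include hi in
lemma exists_open_eq (V : Opens Z) {W : Opens X} (h : V ≤ (Opens.map i).obj W) :
    ∃ W' : Opens X, W' ≤ W ∧ (Opens.map i).obj W' = V := by
  obtain ⟨A, hA, e⟩ := hi.isInducing.isOpen_iff.1 V.isOpen
  refine ⟨⟨A, hA⟩ ⊓ W, inf_le_right, Opens.ext (Set.ext fun z => ?_)⟩
  exact ⟨fun hz => (Set.ext_iff.1 e z).1 hz.1, fun hz => ⟨(Set.ext_iff.1 e z).2 hz, h hz⟩⟩

include hi in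
theorem isFiniteType_of_push
    [SheafOfModules.IsFiniteType (R := ModSite.ringSh O_X) ((ModSite.RMor.ofFlat (Opens.map i) c).push.obj F)] :
    SheafOfModules.IsFiniteType (R := ModSite.ringSh O_Z) F := by
  refine isFiniteType_of_gens F fun V₀ => ?_
  refine ⟨{ arrows := fun V _ => ∃ (U : Opens X) (n : ℕ)
              (s : Fin n → ((fg O_X).obj ((ModSite.RMor.ofFlat (Opens.map i) c).push.obj F)).obj (op U)),
              Gens ((ModSite.RMor.ofFlat (Opens.map i) c).push.obj F) s ∧ V ≤ (Opens.map i).obj U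
            downward_closed := fun {A B _} ⟨U, n, s, hs, hA⟩ k => ⟨U, n, s, hs, k.le.trans hA⟩ },
    fun z hz => ?_, fun V g hg => ?_⟩
  · obtain ⟨S, hS, hSp⟩ := locally_exists_gens ((ModSite.RMor.ofFlat (Opens.map i) c).push.obj F) (⊤ : Opens X)
    obtain ⟨U, g, hg, hzU⟩ := hS (i z) trivial
    obtain ⟨n, s, hs⟩ := hSp g hg
    exact ⟨V₀ ⊓ (Opens.map i).obj U, homOfLE inf_le_left, ⟨U, n, s, hs, inf_le_right⟩, hz, hzU⟩
  · obtain ⟨U, n, s, hs, hV⟩ := hg
    refine ⟨n, fun k => rs ((fg O_Z).obj F) (homOfLE hV).op (s k), fun W f t => ?_⟩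
    obtain ⟨W', hW', e⟩ := exists_open_eq i hi W (W := U) (f.le.trans hV)
    subst e
    obtain ⟨S, hS, hSp⟩ := hs (homOfLE hW') t
    refine ⟨Sieve.functorPushforward (Opens.map i) S, fun z hz => ?_, ?_⟩
    · obtain ⟨A, a, ha, hzA⟩ := hS (i z) hz
      exact ⟨(Opens.map i).obj A, (Opens.map i).map a, ⟨A, a, 𝟙 _, ha, (Category.id_comp _).symm⟩, hzA⟩
    · rintro A g ⟨B, b, k, hb, rfl⟩
      obtain ⟨a, ha⟩ := hSp b hb
      refine ⟨fun j => (O_Z.obj.map k.op).hom ((c.hom.app (op B)).hom (a j)), ?_⟩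
      have e1 : rs ((fg O_Z).obj F) ((Opens.map i).map b).op t =
          ∑ j, (c.hom.app (op B)).hom (a j) •
            rs ((fg O_Z).obj F) ((Opens.map i).map (b ≫ homOfLE hW')).op (s j) := ha
      rw [rs_op_comp, e1, rs_sum]
      refine Finset.sum_congr rfl fun j _ => ?_
      rw [rs_smul, ← rs_op_comp, ← rs_op_comp]
      congr 2

include hi in
theorem isFiniteType_push (hc : Sheaf.IsLocallySurjective c)
    [SheafOfModules.IsFiniteType (R := ModSite.ringSh O_Z) F] :
    SheafOfModules.IsFiniteType (R := ModSite.ringSh O_X) ((ModSite.RMor.ofFlat (Opens.map i) c).push.obj F) := by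
  refine isFiniteType_of_gens _ fun U₀ => ?_
  refine ⟨{ arrows := fun U _ => ∃ (V : Opens Z) (n : ℕ) (s : Fin n → ((fg O_Z).obj F).obj (op V)),
              Gens F s ∧ (Opens.map i).obj U ≤ V
            downward_closed := fun {A B _} ⟨V, n, s, hs, hA⟩ k => ⟨V, n, s, hs, le_trans (fun z hz => k.le hz) hA⟩ },
    fun x hx => ?_, fun U g hg => ?_⟩
  · by_cases h : x ∈ Set.range i
    · obtain ⟨z, rfl⟩ := h
      obtain ⟨S, hS, hSp⟩ := locally_exists_gens F (⊤ : Opens Z)
      obtain ⟨V, g, hg, hzV⟩ := hS z trivial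
      obtain ⟨n, s, hs⟩ := hSp g hg
      obtain ⟨U, -, hU⟩ := exists_open_eq i hi V (W := (⊤ : Opens X)) (fun z _ => trivial)
      refine ⟨U₀ ⊓ U, homOfLE inf_le_left, ⟨V, n, s, hs, fun w hw => ?_⟩, hx, ?_⟩
      · rw [← hU]; exact hw.2
      · have : z ∈ (Opens.map i).obj U := by rw [hU]; exact hzV
        exact this
    · refine ⟨U₀ ⊓ ⟨(Set.range i)ᶜ, hi.isClosed_range.isOpen_compl⟩, homOfLE inf_le_left,
        ⟨⊥, 0, Fin.elim0, fun W f t => ModPull.Locally.of_id fun V g => ⟨fun k => k.elim0, ?_⟩, fun w hw => ?_⟩, hx, h⟩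
      · exact eq_of_isEmpty F (fun z hz => (f.le (g.le hz) : z ∈ (⊥ : Opens Z))) _ _
      · exact absurd ⟨w, rfl⟩ hw.2
  · obtain ⟨V, n, s, hs, hU⟩ := hg
    refine ⟨n, fun k => rs ((fg O_Z).obj F) (homOfLE hU).op (s k), fun W f t => ?_⟩
    obtain ⟨S, hS, hSp⟩ := hs (homOfLE (le_trans (fun z hz => f.le hz) hU) : (Opens.map i).obj W ⟶ V) t
    refine ⟨{ arrows := fun A a => ∃ cc : Fin n → O_X.obj.obj (op A),
                rs ((fg O_X).obj ((ModSite.RMor.ofFlat (Opens.map i) c).push.obj F)) a.op t =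
                  ∑ j, cc j • rs ((fg O_X).obj ((ModSite.RMor.ofFlat (Opens.map i) c).push.obj F)) (a ≫ f).op
                    (rs ((fg O_Z).obj F) (homOfLE hU).op (s j))
              downward_closed := ?_ }, fun x hx => ?_, fun A a ha => ha⟩
    · rintro A B a ⟨cc, hcc⟩ k
      refine ⟨fun j => (O_X.obj.map k.op).hom (cc j), ?_⟩
      rw [rs_op_comp, hcc, rs_sum]
      exact Finset.sum_congr rfl fun j _ => by rw [rs_smul, ← rs_op_comp, Category.assoc]
    · by_cases h : x ∈ Set.range i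
      · obtain ⟨z, rfl⟩ := h
        obtain ⟨B, b, hb, hzB⟩ := hS z hx
        obtain ⟨a, ha⟩ := hSp b hb
        obtain ⟨W', hW', e⟩ := exists_open_eq i hi B (W := W) b.le
        subst e
        haveI : Presheaf.IsLocallySurjective (Opens.grothendieckTopology X) c.hom := hc
        have key : ∀ t : Finset (Fin n), ∃ (A : Opens X) (q : A ⟶ W'), i z ∈ A ∧
            ∀ j ∈ t, ∃ r : O_X.obj.obj (op A), (c.hom.app (op A)).hom r =
              (O_Z.obj.map ((Opens.map i).map q).op).hom (a j) := by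
          intro t
          induction t using Finset.induction_on with
          | empty => exact ⟨W', 𝟙 _, hzB, fun j hj => absurd hj (Finset.notMem_empty j)⟩
          | insert j t _ ih =>
            obtain ⟨A, q, hzA, hA⟩ := ih
            obtain ⟨A', q', ⟨r, hr⟩, hzA'⟩ := Presheaf.imageSieve_mem (Opens.grothendieckTopology X) c.hom
              (U := op A) ((O_Z.obj.map ((Opens.map i).map q).op).hom (a j)) (i z) hzA
            refine ⟨A', q' ≫ q, hzA', fun k hk => ?_⟩
            rcases Finset.mem_insert.1 hk with rfl | hk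
            · refine ⟨r, hr.trans ?_⟩
              exact (ConcreteCategory.congr_hom (O_Z.obj.map_comp ((Opens.map i).map q).op ((Opens.map i).map q').op) (a k)).symm
            · obtain ⟨r', hr'⟩ := hA k hk
              refine ⟨(O_X.obj.map q'.op).hom r', ?_⟩
              refine (ConcreteCategory.congr_hom (c.hom.naturality q'.op) r').trans ?_
              refine (congrArg _ hr').trans ?_
              exact (ConcreteCategory.congr_hom (O_Z.obj.map_comp ((Opens.map i).map q).op ((Opens.map i).map q').op) (a k)).symm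
        obtain ⟨A, q, hzA, hA⟩ := key Finset.univ
        choose r hr using fun j => hA j (Finset.mem_univ j)
        refine ⟨A, q ≫ homOfLE hW', ⟨r, ?_⟩, hzA⟩
        show rs ((fg O_Z).obj F) ((Opens.map i).map (q ≫ homOfLE hW')).op t =
          ∑ j, (c.hom.app (op A)).hom (r j) • rs ((fg O_Z).obj F) ((Opens.map i).map ((q ≫ homOfLE hW') ≫ f)).op
            (rs ((fg O_Z).obj F) (homOfLE hU).op (s j))
        rw [show (Opens.map i).map (q ≫ homOfLE hW') = (Opens.map i).map q ≫ b from Subsingleton.elim _ _,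
          rs_op_comp, ha, rs_sum]
        refine Finset.sum_congr rfl fun j _ => ?_
        rw [rs_smul, hr j, ← rs_op_comp, ← rs_op_comp]
        congr 2
      · refine ⟨W ⊓ ⟨(Set.range i)ᶜ, hi.isClosed_range.isOpen_compl⟩, homOfLE inf_le_left, ⟨fun _ => 0, ?_⟩, hx, h⟩
        exact eq_of_isEmpty F (W := (Opens.map i).obj (W ⊓ ⟨(Set.range i)ᶜ, hi.isClosed_range.isOpen_compl⟩))
          (fun z hz => hz.2 ⟨z, rfl⟩) _ _

end Groth.Agent.ClosedPushFT
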