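import Groth.Agent.SiteBase.SecGenOps
import Groth.Agent.SiteBase.FlatStalk
import Mathlib.Topology.Sheaves.Points

/-!
# Finitely presented modules with free stalks are free nearby
-/

set_option autoImplicit false
set_option backward.isDefEq.respectTransparency false
set_option linter.style.haveILetI false
set_option linter.unusedSectionVars false

universe u

open CategoryTheory CategoryTheory.Limits Opposite
open Groth.Agent.ModTensor Groth.Agent.ModPull Groth.Agent.LocalFactor Groth.Agent.SecGen Groth.Agent.SecGenOps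
open Groth.Agent.SiteBase

noncomputable section

namespace Groth.Agent.StalkFree

variable {C : Type u} [SmallCategory C] {J : GrothendieckTopology C} {O : Sheaf J CommRingCat.{u}}
  {F : ModSite.Mod O} (p : GrothendieckTopology.Point.{u} J)

attribute [local instance] Pres.fκ Pres.fρ

lemma omap_comp {W V U : C} (g : W ⟶ V) (h : V ⟶ U) (r : O.obj.obj (op U)) :
    (O.obj.map (g ≫ h).op).hom r = (O.obj.map g.op).hom ((O.obj.map h.op).hom r) := by
  rw [op_comp, Functor.map_comp]; rfl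

lemma rs_sum_smul {V U : C} (g : V ⟶ U) {κ : Type} [Fintype κ] (c : κ → O.obj.obj (op U))
    (s : κ → ((fg O).obj F).obj (op U)) :
    rs ((fg O).obj F) g.op (∑ i, c i • s i) = ∑ i, (O.obj.map g.op).hom (c i) • rs ((fg O).obj F) g.op (s i) := by
  rw [rs_sum]
  exact Finset.sum_congr rfl fun i _ => rs_smul _ _ _

lemma nearPt_fintype {X : C} (x : p.fiber.obj X) {κ : Type} [Fintype κ]
    (P : κ → ∀ ⦃Y : C⦄, (Y ⟶ X) → Prop) (hP : ∀ i ⦃Y Z : C⦄ (g : Y ⟶ X) (h : Z ⟶ Y), P i g → P i (h ≫ g))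
    (hn : ∀ i, NearPt p x (P i)) : NearPt p x (fun _ g => ∀ i, P i g) := by
  obtain ⟨Y, g, y, hy, h⟩ := nearPt_forall p x (Fintype.card κ)
    (fun k => P ((Fintype.equivFin κ).symm k)) (fun k => hP _) (fun k => hn _)
  exact ⟨Y, g, y, hy, fun i => (Fintype.equivFin κ).symm_apply_apply i ▸ h (Fintype.equivFin κ i)⟩

lemma nearPt_of_locally {X : C} (x : p.fiber.obj X) {P : ∀ ⦃Y : C⦄, (Y ⟶ X) → Prop}
    (h : ModPull.Locally J X P) : NearPt p x P := by
  obtain ⟨S, hS, hSp⟩ := h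
  obtain ⟨Y, g, hg, y, hy⟩ := p.jointly_surjective S hS x
  exact ⟨Y, g, y, hy, hSp g hg⟩

theorem exists_free_nhd {U : C} (P : Pres O F U) (x : p.fiber.obj U) {r : ℕ}
    (e : ModSite.stalkMod p F ≃ₗ[ModSite.stalkRing p O] (Fin r → ModSite.stalkRing p O)) :
    ∃ (W : C) (_ : p.fiber.obj W) (t : Fin r → ((fg O).obj F).obj (op W)), Gens F t ∧
      ∀ ⦃V : C⦄ (f : V ⟶ W) (c : Fin r → O.obj.obj (op V)),
        ∑ l, c l • rs ((fg O).obj F) f.op (t l) = 0 → c = 0 := by
  classical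
  let m : Fin r → ModSite.stalkAb p F := fun l => e.symm (Pi.single l 1)
  obtain ⟨W₀, a₀, w₀, -, t₀, hw₀, -, ht₀⟩ := exists_common_germ (O := O) (F := F) p U x r (fun _ => 0) m
  have hind : ∀ {V : C} (g : V ⟶ W₀) (v : p.fiber.obj V), p.fiber.map g v = w₀ → ∀ c : Fin r → O.obj.obj (op V),
      e (ModSite.germ p F V v (∑ l, c l • rs ((fg O).obj F) g.op (t₀ l))) =
        fun l => ModSite.germRing p V v (c l) := by
    intro V g v hv c
    rw [germ_relation, map_sum]
    funext k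
    rw [Finset.sum_apply]
    have hl : ∀ l, e (ModSite.germRing p V v (c l) • ModSite.germ p F V v (rs ((fg O).obj F) g.op (t₀ l))) k =
        if l = k then ModSite.germRing p V v (c l) else 0 := fun l => by
      rw [germ_rs, hv, ht₀, map_smul, LinearEquiv.apply_symm_apply]
      simp [Pi.single_apply, eq_comm]
    simp only [hl, Finset.sum_ite_eq', Finset.mem_univ, if_true]
  -- the generators generate the basis
  obtain ⟨W₁, g₁, w₁, hw₁, hB⟩ := nearPt_fintype p w₀ (κ := Fin r)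
    (fun l Y g => ∃ c : P.κ → O.obj.obj (op Y),
      rs ((fg O).obj F) g.op (t₀ l) = ∑ i, c i • rs ((fg O).obj F) (g ≫ a₀).op (P.s i))
    (fun l Y Z g h ⟨c, hc⟩ => ⟨fun i => (O.obj.map h.op).hom (c i), by
      rw [rs_op_comp, hc, rs_sum_smul]; simp only [← rs_op_comp, Category.assoc]⟩)
    (fun l => nearPt_of_locally p w₀ (P.gen a₀ (t₀ l)))
  choose B hB using hB
  -- the basis generates the generators
  obtain ⟨W₂, g₂, w₂, hw₂, hC⟩ := nearPt_fintype p w₁ (κ := P.κ)
    (fun i Y g => ∃ c : Fin r → O.obj.obj (op Y),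
      rs ((fg O).obj F) (g ≫ g₁ ≫ a₀).op (P.s i) = ∑ l, c l • rs ((fg O).obj F) (g ≫ g₁).op (t₀ l))
    (fun i Y Z g h ⟨c, hc⟩ => ⟨fun l => (O.obj.map h.op).hom (c l), by
      rw [Category.assoc, rs_op_comp, hc, rs_sum_smul]; simp only [← rs_op_comp, Category.assoc]⟩)
    (fun i => by
      let v := ModSite.germ p F W₁ w₁ (rs ((fg O).obj F) (g₁ ≫ a₀).op (P.s i))
      obtain ⟨V, h, y, c, -, hy, hc, -⟩ := exists_common_germ (O := O) (F := F) p W₁ w₁ r (fun l => e v l) (fun _ => 0)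
      have hyv : p.fiber.map (h ≫ g₁) y = w₀ := by rw [Functor.map_comp_apply, hy, hw₁]
      have key : ModSite.germ p F V y (rs ((fg O).obj F) h.op (rs ((fg O).obj F) (g₁ ≫ a₀).op (P.s i))) =
          ModSite.germ p F V y (∑ l, c l • rs ((fg O).obj F) (h ≫ g₁).op (t₀ l)) := by
        refine e.injective ((hind (h ≫ g₁) y hyv c).trans ?_).symm
        rw [germ_rs, hy]
        exact funext fun l => hc l
      obtain ⟨V', k, y', hy', hk⟩ := (p.toPresheafFiber_eq_iff' V y _ _).1 key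
      refine ⟨V', k ≫ h, y', by rw [Functor.map_comp_apply, hy', hy], fun l => (O.obj.map k.op).hom (c l), ?_⟩
      have hk' : rs ((fg O).obj F) k.op (rs ((fg O).obj F) h.op (rs ((fg O).obj F) (g₁ ≫ a₀).op (P.s i))) =
          rs ((fg O).obj F) k.op (∑ l, c l • rs ((fg O).obj F) (h ≫ g₁).op (t₀ l)) := hk
      rw [rs_sum_smul] at hk'
      simp only [← rs_op_comp, Category.assoc] at hk' ⊢
      exact hk')
  choose Cc hC using hC
  let b : Fin r → P.κ → O.obj.obj (op W₂) := fun l i => (O.obj.map g₂.op).hom (B l i)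
  let A' : P.ρ → P.κ → O.obj.obj (op W₂) := fun j i => (O.obj.map (g₂ ≫ g₁ ≫ a₀).op).hom (P.A j i)
  let t₂ : Fin r → ((fg O).obj F).obj (op W₂) := fun l => rs ((fg O).obj F) (g₂ ≫ g₁).op (t₀ l)
  let s₂ : P.κ → ((fg O).obj F).obj (op W₂) := fun i => rs ((fg O).obj F) (g₂ ≫ g₁ ≫ a₀).op (P.s i)
  have hb : ∀ l, t₂ l = ∑ i, b l i • s₂ i := fun l => by
    show rs ((fg O).obj F) (g₂ ≫ g₁).op (t₀ l) = _
    rw [rs_op_comp, hB l, rs_sum_smul]
    refine Finset.sum_congr rfl fun i _ => ?_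
    rw [← rs_op_comp]
  have hs : ∀ i, s₂ i = ∑ l, Cc i l • t₂ l := hC
  have hsub : ∀ (a : P.κ → O.obj.obj (op W₂)), ∑ i, a i • s₂ i = ∑ k, (∑ i, a i * Cc i k) • t₂ k := fun a => by
    simp only [hs, Finset.smul_sum, smul_smul, Finset.sum_smul]
    exact Finset.sum_comm
  have h20 : p.fiber.map (g₂ ≫ g₁) w₂ = w₀ := by rw [Functor.map_comp_apply, hw₂, hw₁]
  have near_eq : ∀ (a c : Fin r → O.obj.obj (op W₂)), ∑ k, a k • t₂ k = ∑ k, c k • t₂ k →
      NearPt p w₂ (fun Y g => ∀ k, (O.obj.map g.op).hom (a k) = (O.obj.map g.op).hom (c k)) := by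
    intro a c h
    refine nearPt_fintype p w₂ (fun k Y g => (O.obj.map g.op).hom (a k) = (O.obj.map g.op).hom (c k))
      (fun k Y Z g q hq => by rw [omap_comp, omap_comp, hq]) fun k => ?_
    have hk := congrFun ((hind (g₂ ≫ g₁) w₂ h20 a).symm.trans
      ((congrArg (fun z => e (ModSite.germ p F W₂ w₂ z)) h).trans (hind (g₂ ≫ g₁) w₂ h20 c))) k
    obtain ⟨V, q, y, hy, hq⟩ := (p.toPresheafFiber_eq_iff' (P := O.obj) W₂ w₂ _ _).1 hk
    exact ⟨V, q, y, hy, hq⟩
  let δ : Fin r → Fin r → O.obj.obj (op W₂) := fun l k => if k = l then 1 else 0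
  have hδ : ∀ l, t₂ l = ∑ k, δ l k • t₂ k := fun l => by simp [δ, ite_smul]
  obtain ⟨W₃, g₃, w₃, -, hBC⟩ := nearPt_fintype p w₂ (κ := Fin r ⊕ P.ρ)
    (fun q Y g => Sum.elim
      (fun l => ∀ k, (O.obj.map g.op).hom (∑ i, b l i * Cc i k) = (O.obj.map g.op).hom (δ l k))
      (fun j => ∀ k, (O.obj.map g.op).hom (∑ i, A' j i * Cc i k) = (O.obj.map g.op).hom 0) q)
    (fun q Y Z g h hq => by
      rcases q with l | j
      · intro k; rw [omap_comp, omap_comp, hq k]
      · intro k; rw [omap_comp, omap_comp, hq k])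
    (fun q => by
      rcases q with l | j
      · exact near_eq _ _ ((hsub (b l)).symm.trans ((hb l).symm.trans (hδ l)))
      · refine near_eq _ (fun _ => 0) ((hsub (A' j)).symm.trans ?_)
        rw [Finset.sum_eq_zero (fun k _ => zero_smul _ (t₂ k))]
        refine Eq.trans ?_ (map_zero (((fg O).obj F).map (g₂ ≫ g₁ ≫ a₀).op).hom)
        refine Eq.trans ?_ (congrArg (rs ((fg O).obj F) (g₂ ≫ g₁ ≫ a₀).op) (P.rel j))
        exact (rs_sum_smul _ _ _).symm)
  refine ⟨W₃, w₃, fun l => rs ((fg O).obj F) g₃.op (t₂ l), fun V f z => ?_, fun V f c hc => ?_⟩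
  · refine (P.gen (f ≫ g₃ ≫ g₂ ≫ g₁ ≫ a₀) z).mono fun V' q ⟨a, ha⟩ => ?_
    refine ⟨fun k => ∑ i, a i * (O.obj.map (q ≫ f ≫ g₃).op).hom (Cc i k), ha.trans ?_⟩
    have e1 : ∀ i, rs ((fg O).obj F) (q ≫ f ≫ g₃ ≫ g₂ ≫ g₁ ≫ a₀).op (P.s i) =
        ∑ k, (O.obj.map (q ≫ f ≫ g₃).op).hom (Cc i k) • rs ((fg O).obj F) (q ≫ f ≫ g₃).op (t₂ k) := fun i => by
      rw [← rs_sum_smul, ← hs i, ← rs_op_comp]
      simp only [Category.assoc]
    simp only [e1, Finset.smul_sum, smul_smul, Finset.sum_smul]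
    rw [Finset.sum_comm]
    refine Finset.sum_congr rfl fun k _ => Finset.sum_congr rfl fun i _ => ?_
    simp only [t₂, ← rs_op_comp, Category.assoc]
  · funext k
    refine eq_of_locally' (ModSite.unit O) ?_
    have hc' : ∑ i, (∑ l, c l * (O.obj.map (f ≫ g₃).op).hom (b l i)) •
        rs ((fg O).obj F) (f ≫ g₃ ≫ g₂ ≫ g₁ ≫ a₀).op (P.s i) = 0 := by
      refine Eq.trans ?_ hc
      simp only [Finset.sum_smul, ← smul_smul]
      rw [Finset.sum_comm]
      refine Finset.sum_congr rfl fun l _ => ?_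
      rw [← Finset.smul_sum, ← rs_op_comp, hb l, rs_sum_smul]
      refine congrArg (fun z => c l • z) (Finset.sum_congr rfl fun i _ => ?_)
      rw [← rs_op_comp, Category.assoc]
    refine (P.exact _ _ hc').mono fun V' q ⟨d, hd⟩ => ?_
    show (O.obj.map q.op).hom (c k) = (O.obj.map q.op).hom 0
    rw [map_zero]
    have hBC' : ∀ l, (O.obj.map (q ≫ f).op).hom ((O.obj.map g₃.op).hom (∑ i, b l i * Cc i k)) =
        (O.obj.map (q ≫ f).op).hom ((O.obj.map g₃.op).hom (δ l k)) := fun l =>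
      congrArg _ (hBC (Sum.inl l) k)
    have hAC' : ∀ j, (O.obj.map (q ≫ f).op).hom ((O.obj.map g₃.op).hom (∑ i, A' j i * Cc i k)) = 0 := fun j => by
      rw [hBC (Sum.inr j) k, map_zero, map_zero]
    have h1 : ∀ (u : O.obj.obj (op W₂)), (O.obj.map q.op).hom ((O.obj.map (f ≫ g₃).op).hom u) =
        (O.obj.map (q ≫ f).op).hom ((O.obj.map g₃.op).hom u) := fun u => by
      simp only [← omap_comp, Category.assoc]
    calc (O.obj.map q.op).hom (c k)
        = ∑ l, (O.obj.map q.op).hom (c l) *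
            (O.obj.map (q ≫ f).op).hom ((O.obj.map g₃.op).hom (∑ i, b l i * Cc i k)) := by
          rw [Finset.sum_congr rfl (fun l _ => by rw [hBC' l])]
          rw [Finset.sum_eq_single k]
          · simp only [δ, if_true, map_one, mul_one]
          · intro l _ hl
            simp only [δ, if_neg (Ne.symm hl), map_zero, mul_zero]
          · intro h
            exact absurd (Finset.mem_univ k) h
      _ = ∑ i, (O.obj.map q.op).hom (∑ l, c l * (O.obj.map (f ≫ g₃).op).hom (b l i)) *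
            (O.obj.map (q ≫ f).op).hom ((O.obj.map g₃.op).hom (Cc i k)) := by
          simp only [map_sum, map_mul, Finset.mul_sum, Finset.sum_mul, h1, mul_assoc]
          exact Finset.sum_comm
      _ = ∑ j, d j * (O.obj.map (q ≫ f).op).hom ((O.obj.map g₃.op).hom (∑ i, A' j i * Cc i k)) := by
          simp only [hd, map_sum, map_mul, Finset.mul_sum, Finset.sum_mul, A']
          rw [Finset.sum_comm]
          refine Finset.sum_congr rfl fun j _ => Finset.sum_congr rfl fun i _ => ?_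
          simp only [← omap_comp, Category.assoc, mul_assoc]
      _ = 0 := Finset.sum_eq_zero fun j _ => by rw [hAC', mul_zero]

/-- A family of sections generating and independent on every object over `U` gives a trivialisation. -/
theorem nonempty_iso_free {U : C} {κ : Type} [Fintype κ] (t : κ → ((fg O).obj F).obj (op U)) (hg : Gens F t)
    (hi : ∀ ⦃V : C⦄ (f : V ⟶ U) (c : κ → O.obj.obj (op V)), ∑ l, c l • rs ((fg O).obj F) f.op (t l) = 0 → c = 0) :
    Nonempty ((ModSite.restr O U).obj F ≅ SheafOfModules.free (ULift.{u} κ)) := by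
  let OU := O.over U
  haveI := epi_genMap hg
  haveI : Mono (genMap F t) := mono_of_app_eq_zero (O := OU) _ fun T z hz => by
    rw [decomp (O := OU) z] at hz ⊢
    have h0 := hi T.hom (fun l => coord (O := OU) (⟨l⟩ : ULift.{u} κ) z)
      ((genMap_sum t T (fun l => coord (O := OU) (⟨l⟩ : ULift.{u} κ) z)).symm.trans hz)
    refine Finset.sum_eq_zero fun i _ => ?_
    rw [show coord (O := OU) i z = 0 from congrFun h0 i.down]
    exact zero_smul _ _
  haveI : IsIso (genMap F t) := isIso_of_mono_of_epi _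
  exact ⟨(asIso (genMap F t)).symm⟩

end Groth.Agent.StalkFree
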