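import Groth.Agent.SiteBase.StalkFree
import Groth.Agent.SiteBase.LocBasis
import Mathlib.Topology.Sheaves.Stalks
import Mathlib.Topology.Sheaves.Points
import Mathlib.RingTheory.LocalRing.Module
import Mathlib.LinearAlgebra.Dimension.Free

/-!
# Direct summands of finite free modules on locally ringed spaces
-/

set_option autoImplicit false
set_option backward.isDefEq.respectTransparency false
set_option linter.style.haveILetI false
set_option linter.unusedSectionVars false

universe u

open CategoryTheory CategoryTheory.Limits Opposite TopologicalSpace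
open Groth.Agent.ModTensor Groth.Agent.ModPull Groth.Agent.LocalFactor Groth.Agent.SecGen Groth.Agent.SecGenOps
open Groth.Agent.LocBasis Groth.Agent.SiteBase

noncomputable section

namespace Groth.Agent.RetractFree

section Site

variable {C : Type u} [SmallCategory C] {J : GrothendieckTopology C} {O : Sheaf J CommRingCat.{u}}
  {F H : ModSite.Mod O}

lemma ap_comp' {M N P : ModSite.Mod O} (φ : M ⟶ N) (ψ : N ⟶ P) {W : C} (x : ((fg O).obj M).obj (op W)) :
    ap ψ (ap φ x) = ap (φ ≫ ψ) x := by
  show ((fg O).map ψ).app _ (((fg O).map φ).app _ x) = ((fg O).map (φ ≫ ψ)).app _ x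
  rw [Functor.map_comp]
  rfl

lemma ap_id' {M : ModSite.Mod O} {W : C} (x : ((fg O).obj M).obj (op W)) : ap (𝟙 M) x = x := by
  show ((fg O).map (𝟙 M)).app _ x = x
  rw [CategoryTheory.Functor.map_id]
  rfl

variable (i : F ⟶ H) (p : H ⟶ F) (hip : i ≫ p = 𝟙 F)

include hip in
theorem nonempty_pres {U : C} {n : ℕ} (t : Fin n → ((fg O).obj H).obj (op U)) (ht : IsBasis H t) :
    Nonempty (Pres O F U) := by
  classical
  choose A hA using fun j => (ht (𝟙 U) (ap i (ap p (t j)))).exists
  simp only [op_id, rs_id] at hA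
  have hpi : ∀ {W : C} (x : ((fg O).obj F).obj (op W)), ap p (ap i x) = x := fun x => by
    rw [ap_comp', hip, ap_id']
  let R : Fin n → Fin n → O.obj.obj (op U) := fun j k => A j k - if k = j then 1 else 0
  refine ⟨{ κ := Fin n, ρ := Fin n, fκ := inferInstance, fρ := inferInstance,
            s := fun j => ap p (t j), A := R, rel := fun j => ?_, gen := fun W f z => ?_,
            exact := fun W f c hc => ?_ }⟩
  · have e := congrArg (ap p) (hA j)
    rw [ap_sum, hpi] at e
    simp only [R, sub_smul, Finset.sum_sub_distrib, e, ite_smul, one_smul, zero_smul, Finset.sum_ite_eq',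
      Finset.mem_univ, if_true, sub_self]
  · refine ModPull.Locally.of_id fun V g => ?_
    obtain ⟨c, hc, -⟩ := ht (g ≫ f) (ap i (rs ((fg O).obj F) g.op z))
    refine ⟨c, ?_⟩
    rw [← hpi (rs ((fg O).obj F) g.op z), ← hc, ap_sum]
    exact Finset.sum_congr rfl fun k _ => by rw [ap_rs]
  · refine ModPull.Locally.of_id fun V g => ⟨fun j => -(O.obj.map g.op).hom (c j), fun k => ?_⟩
    have h0 : ∑ l, (∑ j, c j * (O.obj.map f.op).hom (A j l)) • rs ((fg O).obj H) f.op (t l) = 0 := by
      refine Eq.trans ?_ ((congrArg (ap i) hc).trans (map_zero (((fg O).map i).app (op W)).hom))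
      simp only [Finset.sum_smul, ← smul_smul]
      rw [Finset.sum_comm, ap_sum]
      refine Finset.sum_congr rfl fun j _ => ?_
      rw [← Finset.smul_sum, ap_rs, ← hA j, StalkFree.rs_sum_smul]
    have h1 := congrFun (ht.eq_zero f _ h0) k
    have h2 := congrArg (O.obj.map g.op).hom h1
    rw [Pi.zero_apply, map_zero, map_sum] at h2
    simp only [map_mul, ← StalkFree.omap_comp] at h2
    simp only [R, map_sub, apply_ite (O.obj.map (g ≫ f).op).hom, map_one, map_zero, mul_sub, neg_mul,
      Finset.sum_sub_distrib, mul_ite, mul_one, mul_zero, Finset.sum_neg_distrib, Finset.sum_ite_eq,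
      Finset.mem_univ, if_true, h2]
    simp

variable (P : GrothendieckTopology.Point.{u} J)

lemma stalkMap_germ' {M N : ModSite.Mod O} (φ : M ⟶ N) {X : C} (x : P.fiber.obj X) (y : ((fg O).obj M).obj (op X)) :
    (ModSite.stalkMap P φ).hom (ModSite.germ P M X x y) = ModSite.germ P N X x (ap φ y) :=
  GrothendieckTopology.Point.toPresheafFiber_naturality_apply P ((SheafOfModules.toSheaf (ModSite.ringSh O)).map φ).hom X x y

theorem finite_free_stalk {U : C} {n : ℕ} (t : Fin n → ((fg O).obj H).obj (op U)) (ht : IsBasis H t)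
    (x : P.fiber.obj U) :
    Function.Bijective (Fintype.linearCombination (ModSite.stalkRing P O)
      (fun l => (ModSite.germ P H U x (t l) : ModSite.stalkMod P H))) := by
  constructor
  · rw [← LinearMap.ker_eq_bot, LinearMap.ker_eq_bot']
    intro a ha
    obtain ⟨V, g, v, c, -, hv, hc, -⟩ := exists_common_germ (O := O) (F := H) P U x n a (fun _ => 0)
    have e : ModSite.germ P H V v (∑ l, c l • rs ((fg O).obj H) g.op (t l)) = ModSite.germ P H V v 0 := by
      rw [germ_relation]
      refine Eq.trans ?_ (ha.trans (map_zero (P.toPresheafFiber V v (ModSite.toAb H).obj).hom).symm)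
      rw [Fintype.linearCombination_apply]
      exact Finset.sum_congr rfl fun l _ => by rw [hc, germ_rs, hv]
    obtain ⟨V', q, v', hv', e'⟩ := (P.toPresheafFiber_eq_iff' V v _ _).1 e
    have e'' : rs ((fg O).obj H) q.op (∑ l, c l • rs ((fg O).obj H) g.op (t l)) = 0 :=
      e'.trans (map_zero (((fg O).obj H).map q.op).hom)
    rw [StalkFree.rs_sum_smul] at e''
    simp only [← rs_op_comp] at e''
    have h := ht.eq_zero (q ≫ g) _ e''
    funext l
    rw [Pi.zero_apply, ← hc l, ← hv', ← germRing_map]
    rw [show (O.obj.map q.op).hom (c l) = 0 from congrFun h l]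
    exact germRing_zero P v'
  · intro m
    obtain ⟨V, g, v, -, z, hv, -, hz⟩ := exists_common_germ (O := O) (F := H) P U x 1 (fun _ => 0) (fun _ => m)
    obtain ⟨c, hc, -⟩ := ht g (z 0)
    refine ⟨fun l => ModSite.germRing P V v (c l), ?_⟩
    rw [Fintype.linearCombination_apply, ← hz 0, ← hc, germ_relation]
    exact Finset.sum_congr rfl fun l _ => by rw [germ_rs, hv]

include hip in
theorem exists_free_nhd {U : C} {n : ℕ} (t : Fin n → ((fg O).obj H).obj (op U)) (ht : IsBasis H t)
    (x : P.fiber.obj U) [IsLocalRing (ModSite.stalkRing P O)] :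
    ∃ (m : ℕ) (W : C) (_ : P.fiber.obj W), Nonempty ((ModSite.restr O W).obj F ≅ SheafOfModules.free (ULift.{u} (Fin m))) := by
  let R := ModSite.stalkRing P O
  let eH : (Fin n → R) ≃ₗ[R] ModSite.stalkMod P H := LinearEquiv.ofBijective _ (finite_free_stalk P t ht x)
  haveI : Module.Finite R (ModSite.stalkMod P H) := Module.Finite.equiv eH
  haveI : Module.Projective R (ModSite.stalkMod P H) := Module.Projective.of_equiv eH
  have hcomp : ∀ m : ModSite.stalkMod P F, (ModSite.stalkMap P p).hom ((ModSite.stalkMap P i).hom m) = m := by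
    intro m
    obtain ⟨V, v, z, rfl⟩ := P.toPresheafFiber_jointly_surjective (P := (ModSite.toAb F).obj) m
    have h1 := stalkMap_germ' P i v z
    have h2 := stalkMap_germ' P p v (ap i z)
    rw [ap_comp', hip, ap_id'] at h2
    exact (congrArg (ModSite.stalkMap P p).hom h1).trans h2
  haveI : Module.Finite R (ModSite.stalkMod P F) :=
    Module.Finite.of_surjective (ModSite.stalkMap P p).hom fun m => ⟨_, hcomp m⟩
  haveI : Module.Projective R (ModSite.stalkMod P F) :=
    Module.Projective.of_split (ModSite.stalkMap P i).hom (ModSite.stalkMap P p).hom (LinearMap.ext hcomp)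
  haveI : Module.Free R (ModSite.stalkMod P F) := Module.free_of_flat_of_isLocalRing
  obtain ⟨Q⟩ := nonempty_pres i p hip t ht
  obtain ⟨W, w, s, hs, hi⟩ := StalkFree.exists_free_nhd P Q x (Module.finBasis R (ModSite.stalkMod P F)).equivFun
  exact ⟨_, W, w, StalkFree.nonempty_iso_free s hs hi⟩

end Site

theorem isLocalRing_stalkRing {X : TopCat.{u}} (O : TopCat.Sheaf CommRingCat.{u} X) (x : X)
    [IsLocalRing (O.presheaf.stalk x)] :
    IsLocalRing (ModSite.stalkRing (Opens.pointGrothendieckTopology x) O) := by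
  let P := Opens.pointGrothendieckTopology x
  haveI : Nontrivial (ModSite.stalkRing P O) := by
    refine ⟨⟨0, 1, fun h => ?_⟩⟩
    have e : ModSite.germRing (O := O) P (⊤ : Opens X) ⟨⟨trivial⟩⟩ 0 = ModSite.germRing P (⊤ : Opens X) ⟨⟨trivial⟩⟩ 1 :=
      (map_zero (P.toPresheafFiber (⊤ : Opens X) ⟨⟨trivial⟩⟩ O.obj).hom).trans
        (h.trans (map_one (P.toPresheafFiber (⊤ : Opens X) ⟨⟨trivial⟩⟩ O.obj).hom).symm)
    obtain ⟨V, g, v, -, e'⟩ := (P.toPresheafFiber_eq_iff' (P := O.obj) _ _ _ _).1 e
    have e'' : (O.obj.map g.op).hom 0 = (O.obj.map g.op).hom 1 := e'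
    rw [map_zero, map_one] at e''
    have := congrArg (O.presheaf.germ V x v.down.down).hom e''
    rw [map_zero, map_one] at this
    exact zero_ne_one this
  have key : ∀ (W : Opens X) (w : P.fiber.obj W) (r : O.obj.obj (op W)),
      IsUnit (O.presheaf.germ W x w.down.down r) → IsUnit (ModSite.germRing (O := O) P W w r) := by
    intro W w r hr
    obtain ⟨b, hb⟩ := hr.exists_right_inv
    obtain ⟨V, hV, s, rfl⟩ := O.presheaf.exists_germ_eq b
    have e : O.presheaf.germ (W ⊓ V) x ⟨w.down.down, hV⟩
        ((O.obj.map (homOfLE inf_le_left : W ⊓ V ⟶ W).op).hom r * (O.obj.map (homOfLE inf_le_right : W ⊓ V ⟶ V).op).hom s) =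
        O.presheaf.germ (W ⊓ V) x ⟨w.down.down, hV⟩ 1 := by
      rw [map_mul, map_one]
      refine Eq.trans ?_ hb
      exact congrArg₂ (· * ·) (O.presheaf.germ_res_apply _ x _ r) (O.presheaf.germ_res_apply _ x _ s)
    obtain ⟨V', hV', iU, iV, e'⟩ := O.presheaf.germ_eq x _ _ _ _ e
    have e'' : (O.obj.map iU.op).hom ((O.obj.map (homOfLE inf_le_left : W ⊓ V ⟶ W).op).hom r *
        (O.obj.map (homOfLE inf_le_right : W ⊓ V ⟶ V).op).hom s) = (O.obj.map iV.op).hom 1 := e'
    rw [map_mul, map_one] at e''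
    have hu : IsUnit ((O.obj.map iU.op).hom ((O.obj.map (homOfLE inf_le_left : W ⊓ V ⟶ W).op).hom r)) :=
      IsUnit.of_mul_eq_one _ e''
    have := hu.map (P.toPresheafFiber V' ⟨⟨hV'⟩⟩ O.obj).hom
    rw [← StalkFree.omap_comp] at this
    exact (germRing_map P (iU ≫ homOfLE inf_le_left : V' ⟶ W) ⟨⟨hV'⟩⟩ r) ▸ this
  refine IsLocalRing.of_isUnit_or_isUnit_one_sub_self fun a => ?_
  obtain ⟨W, w, r, rfl⟩ := P.toPresheafFiber_jointly_surjective (P := O.obj) a
  rcases IsLocalRing.isUnit_or_isUnit_one_sub_self (O.presheaf.germ W x w.down.down r) with h | h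
  · exact Or.inl (key W w r h)
  · refine Or.inr ?_
    have h' : IsUnit (O.presheaf.germ W x w.down.down (1 - r)) := by rwa [map_sub, map_one]
    have := key W w (1 - r) h'
    rwa [show ModSite.germRing (O := O) P W w (1 - r) = 1 - ModSite.germRing P W w r from
      (map_sub (P.toPresheafFiber W w O.obj).hom 1 r).trans (by rw [map_one])] at this

end Groth.Agent.RetractFree
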