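import Groth.Agent.SiteBase.TensorPerm
import Mathlib.Topology.Category.TopCat.Opens

/-! Restricting local data to smaller opens, and tensoring them. -/

set_option autoImplicit false
universe u

open CategoryTheory Limits TopologicalSpace

namespace Groth.Agent.SiteBase.TensorPerm

variable {X : TopCat.{u}} {O : TopCat.Sheaf CommRingCat.{u} X}

/-- Restriction of a presentation to a smaller open. -/
noncomputable def presRes {M : ModSite.Mod O} {U W : Opens X} (h : W ≤ U)
    (P : (SheafOfModules.over (R := ModSite.ringSh O) M U).Presentation) :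
    (SheafOfModules.over (R := ModSite.ringSh O) M W).Presentation :=
  (P.map (SheafOfModules.overMap (ModSite.ringSh O) (homOfLE h))
    (SheafOfModules.overMapUnitIso (homOfLE h)).symm).ofIsIso
      ((SheafOfModules.overFunctorMap (ModSite.ringSh O) (homOfLE h)).app M).hom

/-- Restriction of generating sections to a smaller open. -/
noncomputable def genRes {M : ModSite.Mod O} {U W : Opens X} (h : W ≤ U)
    (σ : (SheafOfModules.over (R := ModSite.ringSh O) M U).GeneratingSections) :
    (SheafOfModules.over (R := ModSite.ringSh O) M W).GeneratingSections :=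
  (σ.map (SheafOfModules.overMap (ModSite.ringSh O) (homOfLE h))
    (SheafOfModules.overMapUnitIso (homOfLE h)).symm).ofEpi
      ((SheafOfModules.overFunctorMap (ModSite.ringSh O) (homOfLE h)).app M).hom

variable {F G : ModSite.Mod O}

/-- Generators of a tensor product over an intersection. -/
noncomputable def genBoth {U V : Opens X}
    (σ : (SheafOfModules.over (R := ModSite.ringSh O) F U).GeneratingSections)
    (τ : (SheafOfModules.over (R := ModSite.ringSh O) G V).GeneratingSections) :
    (SheafOfModules.over (R := ModSite.ringSh O) (ten F G) (U ⊓ V)).GeneratingSections :=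
  SheafOfModules.GeneratingSections.ofEpi
    (genTensor (O := O.over (U ⊓ V)) (genRes inf_le_left σ) (genRes inf_le_right τ))
    (ModTensor.restrTensorIso O (U ⊓ V) F G).inv

/-- A presentation of a tensor product over an intersection. -/
noncomputable def presBoth {U V : Opens X}
    (P : (SheafOfModules.over (R := ModSite.ringSh O) F U).Presentation)
    (Q : (SheafOfModules.over (R := ModSite.ringSh O) G V).Presentation) :
    (SheafOfModules.over (R := ModSite.ringSh O) (ten F G) (U ⊓ V)).Presentation :=
  SheafOfModules.Presentation.ofIsIso (ModTensor.restrTensorIso O (U ⊓ V) F G).inv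
    (presTensor (O := O.over (U ⊓ V)) (presRes inf_le_left P) (presRes inf_le_right Q))

theorem genBoth_isFiniteType {U V : Opens X}
    (σ : (SheafOfModules.over (R := ModSite.ringSh O) F U).GeneratingSections)
    (τ : (SheafOfModules.over (R := ModSite.ringSh O) G V).GeneratingSections)
    [hσ : σ.IsFiniteType] [hτ : τ.IsFiniteType] : (genBoth σ τ).IsFiniteType := by
  haveI := hσ.finite
  haveI := hτ.finite
  exact ⟨inferInstanceAs (Finite (σ.I × τ.I))⟩

set_option backward.isDefEq.respectTransparency false in
theorem genRes_isIso {M : ModSite.Mod O} {U W : Opens X} (h : W ≤ U)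
    (σ : (SheafOfModules.over (R := ModSite.ringSh O) M U).GeneratingSections)
    (hσ : IsIso σ.π) : IsIso (genRes h σ).π := by
  rw [genRes, SheafOfModules.GeneratingSections.ofEpi_π,
    SheafOfModules.GeneratingSections.map_π_eq]
  haveI : IsIso ((SheafOfModules.overMap (ModSite.ringSh O) (homOfLE h)).map σ.π) :=
    @Functor.map_isIso _ _ _ _ _ _ _ _ hσ
  exact @IsIso.comp_isIso _ _ _ _ _ _ _ (@IsIso.comp_isIso _ _ _ _ _ _ _ inferInstance this) inferInstance

set_option backward.isDefEq.respectTransparency false in
theorem genBoth_isIso {U V : Opens X}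
    (σ : (SheafOfModules.over (R := ModSite.ringSh O) F U).GeneratingSections)
    (τ : (SheafOfModules.over (R := ModSite.ringSh O) G V).GeneratingSections)
    (hσ : IsIso σ.π) (hτ : IsIso τ.π) : IsIso (genBoth σ τ).π := by
  have h1 := genRes_isIso (inf_le_left : U ⊓ V ≤ U) σ hσ
  have h2 := genRes_isIso (inf_le_right : U ⊓ V ≤ V) τ hτ
  have h3 := @genTensor_isIso _ _ _ (O.over (U ⊓ V)) _ _
    (genRes (inf_le_left : U ⊓ V ≤ U) σ) (genRes (inf_le_right : U ⊓ V ≤ V) τ) h1 h2
  rw [genBoth, SheafOfModules.GeneratingSections.ofEpi_π]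
  exact @IsIso.comp_isIso _ _ _ _ _ _ _ h3 inferInstance

theorem presRes_isFinite {M : ModSite.Mod O} {U W : Opens X} (h : W ≤ U)
    (P : (SheafOfModules.over (R := ModSite.ringSh O) M U).Presentation) (hP : P.IsFinite) :
    (presRes h P).IsFinite := by
  haveI := hP
  haveI := (SheafOfModules.Presentation.IsFinite.isFiniteType_generators (p := P)).finite
  haveI := (SheafOfModules.Presentation.IsFinite.isFiniteType_relations (p := P)).finite
  exact ⟨⟨inferInstanceAs (Finite P.generators.I)⟩, ⟨inferInstanceAs (Finite P.relations.I)⟩⟩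

theorem presBoth_isFinite {U V : Opens X}
    (P : (SheafOfModules.over (R := ModSite.ringSh O) F U).Presentation)
    (Q : (SheafOfModules.over (R := ModSite.ringSh O) G V).Presentation)
    (hP : P.IsFinite) (hQ : Q.IsFinite) : (presBoth P Q).IsFinite := by
  have h1 := presRes_isFinite (inf_le_left : U ⊓ V ≤ U) P hP
  have h2 := presRes_isFinite (inf_le_right : U ⊓ V ≤ V) Q hQ
  have h3 := @presTensor_isFinite _ _ _ (O.over (U ⊓ V)) _ _
    (presRes (inf_le_left : U ⊓ V ≤ U) P) (presRes (inf_le_right : U ⊓ V ≤ V) Q) h1 h2
  exact ⟨⟨h3.isFiniteType_generators.finite⟩, ⟨h3.isFiniteType_relations.finite⟩⟩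

theorem coversTop_inf {I K : Type*} {U : I → Opens X} {V : K → Opens X}
    (hU : (Opens.grothendieckTopology X).CoversTop U)
    (hV : (Opens.grothendieckTopology X).CoversTop V) :
    (Opens.grothendieckTopology X).CoversTop (fun p : I × K => U p.1 ⊓ V p.2) := by
  intro W
  refine GrothendieckTopology.superset_covering _ ?_
    ((Opens.grothendieckTopology X).intersection_covering (hU W) (hV W))
  intro Z g ⟨⟨i, ⟨a⟩⟩, ⟨k, ⟨b⟩⟩⟩
  exact ⟨(i, k), ⟨homOfLE (le_inf a.le b.le)⟩⟩

/-- Local generators of a tensor product. -/
noncomputable def locTensor (p : SheafOfModules.LocalGeneratorsData.{u} (R := ModSite.ringSh O) F)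
    (q : SheafOfModules.LocalGeneratorsData.{u} (R := ModSite.ringSh O) G) :
    SheafOfModules.LocalGeneratorsData.{u} (R := ModSite.ringSh O) (ten F G) where
  I := p.I × q.I
  X k := p.X k.1 ⊓ q.X k.2
  coversTop := coversTop_inf p.coversTop q.coversTop
  generators k := genBoth (p.generators k.1) (q.generators k.2)

/-- Quasi-coherent data of a tensor product. -/
noncomputable def qcTensor (p : SheafOfModules.QuasicoherentData.{u} (R := ModSite.ringSh O) F)
    (q : SheafOfModules.QuasicoherentData.{u} (R := ModSite.ringSh O) G) :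
    SheafOfModules.QuasicoherentData.{u} (R := ModSite.ringSh O) (ten F G) where
  I := p.I × q.I
  X k := p.X k.1 ⊓ q.X k.2
  coversTop := coversTop_inf p.coversTop q.coversTop
  presentation k := presBoth (p.presentation k.1) (q.presentation k.2)

theorem locTensor_isFiniteType (p : SheafOfModules.LocalGeneratorsData.{u} (R := ModSite.ringSh O) F)
    (q : SheafOfModules.LocalGeneratorsData.{u} (R := ModSite.ringSh O) G)
    (hp : p.IsFiniteType) (hq : q.IsFiniteType) : (locTensor p q).IsFiniteType := by
  constructor
  intro k
  haveI := (hp.isFiniteType k.1).finite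
  haveI := (hq.isFiniteType k.2).finite
  exact ⟨inferInstanceAs (Finite ((p.generators k.1).I × (q.generators k.2).I))⟩

theorem locTensor_isLocallyFree (p : SheafOfModules.LocalGeneratorsData.{u} (R := ModSite.ringSh O) F)
    (q : SheafOfModules.LocalGeneratorsData.{u} (R := ModSite.ringSh O) G)
    (hp : p.IsLocallyFreeData) (hq : q.IsLocallyFreeData) : (locTensor p q).IsLocallyFreeData := by
  constructor
  intro k
  dsimp only [locTensor]
  exact genBoth_isIso (p.generators k.1) (q.generators k.2) (hp.isIso k.1) (hq.isIso k.2)

theorem qcTensor_isFinitePresentation (p : SheafOfModules.QuasicoherentData.{u} (R := ModSite.ringSh O) F)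
    (q : SheafOfModules.QuasicoherentData.{u} (R := ModSite.ringSh O) G)
    (hp : p.IsFinitePresentation) (hq : q.IsFinitePresentation) :
    (qcTensor p q).IsFinitePresentation := by
  constructor
  intro k
  dsimp only [qcTensor]
  exact presBoth_isFinite (p.presentation k.1) (q.presentation k.2)
    (hp.isFinite_presentation k.1) (hq.isFinite_presentation k.2)

end Groth.Agent.SiteBase.TensorPerm
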