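import Groth.Agent.ModTensor.Assoc
import Groth.Agent.ModTensor.ProjSheaf

/-!
# Invertible modules on a ringed site
-/

universe u

open CategoryTheory CategoryTheory.Limits MonoidalCategory

namespace Groth.Agent.SiteBase

variable {C : Type u} [SmallCategory C] {J : GrothendieckTopology C} {O : Sheaf J CommRingCat.{u}}

/-- The symmetry of the tensor product. -/
noncomputable def tensorComm (M N : ModSite.Mod O) :
    ((ModSite.tensorBi O).obj M).obj N ≅ ((ModSite.tensorBi O).obj N).obj M :=
  (ModTensor.sh O).mapIso (β_ ((ModTensor.fg O).obj M) ((ModTensor.fg O).obj N))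

/-- Tensoring on the right is tensoring on the left. -/
noncomputable def tensorFlipIso (M : ModSite.Mod O) :
    (ModSite.tensorBi O).flip.obj M ≅ (ModSite.tensorBi O).obj M :=
  NatIso.ofComponents (fun N => tensorComm N M) fun {N N'} g => by
    show (ModTensor.sh O).map _ ≫ (ModTensor.sh O).map _ = (ModTensor.sh O).map _ ≫ (ModTensor.sh O).map _
    rw [← Functor.map_comp, ← Functor.map_comp]
    exact congrArg (fun t => (ModTensor.sh O).map t) (BraidedCategory.braiding_naturality_left _ _)

/-- Tensoring with a tensor product is the composite. -/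
noncomputable def tensorObjIso (M N : ModSite.Mod O) :
    (ModSite.tensorBi O).obj (((ModSite.tensorBi O).obj M).obj N) ≅
      (ModSite.tensorBi O).obj N ⋙ (ModSite.tensorBi O).obj M :=
  NatIso.ofComponents (fun Z => (((ModTensor.tensorAssoc O).app M).app N).app Z)
    fun g => (((ModTensor.tensorAssoc O).app M).app N).hom.naturality g

/-- A tensor product of invertible modules is invertible. -/
theorem isEquivalence_tensor {M N : ModSite.Mod O} (hM : ((ModSite.tensorBi O).obj M).IsEquivalence)
    (hN : ((ModSite.tensorBi O).obj N).IsEquivalence) :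
    ((ModSite.tensorBi O).obj (((ModSite.tensorBi O).obj M).obj N)).IsEquivalence :=
  Functor.isEquivalence_of_iso (tensorObjIso M N).symm

/-- A module with an inverse is invertible. -/
theorem isEquivalence_of_tensor_iso_unit {M N : ModSite.Mod O}
    (e : ((ModSite.tensorBi O).obj M).obj N ≅ ModSite.unit O) :
    ((ModSite.tensorBi O).obj M).IsEquivalence := by
  let T := fun P : ModSite.Mod O => (ModSite.tensorBi O).obj P
  let i₁ : 𝟭 _ ≅ T M ⋙ T N :=
    ((ModSite.tensorBi O).mapIso (tensorComm N M ≪≫ e) ≪≫ ModTensor.unitTensorIso O).symm ≪≫ tensorObjIso N M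
  let i₂ : T N ⋙ T M ≅ 𝟭 _ :=
    (tensorObjIso M N).symm ≪≫ (ModSite.tensorBi O).mapIso e ≪≫ ModTensor.unitTensorIso O
  exact (CategoryTheory.Equivalence.mk (T M) (T N) i₁ i₂).isEquivalence_functor

/-- An invertible module has an inverse. -/
theorem exists_tensor_iso_unit {M : ModSite.Mod O} (h : ((ModSite.tensorBi O).obj M).IsEquivalence) :
    ∃ N, Nonempty (((ModSite.tensorBi O).obj M).obj N ≅ ModSite.unit O) :=
  ⟨((ModSite.tensorBi O).obj M).objPreimage (ModSite.unit O),
    ⟨((ModSite.tensorBi O).obj M).objObjPreimageIso (ModSite.unit O)⟩⟩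

end Groth.Agent.SiteBase
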