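import Groth.Agent.SiteBase.RetractFree
import Groth.Agent.SiteBase.Invertible
import Groth.Agent.ModPull.TensorSec

/-!
# Invertible modules on locally ringed spaces
-/

set_option autoImplicit false
set_option backward.isDefEq.respectTransparency false
set_option linter.style.haveILetI false
set_option linter.unusedSectionVars false

universe u

open CategoryTheory CategoryTheory.Limits Opposite TopologicalSpace MonoidalCategory
open Groth.Agent.ModTensor Groth.Agent.ModPull Groth.Agent.SecGen Groth.Agent.SecGenOps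
open Groth.Agent.LocBasis Groth.Agent.SiteBase

noncomputable section

namespace Groth.Agent.InvertibleLocal

variable {C : Type u} [SmallCategory C] {J : GrothendieckTopology C} {O : Sheaf J CommRingCat.{u}}
  {L N : ModSite.Mod O} (e : ten L N ≅ ModSite.unit O)

/-- The value of the pairing. -/
def pair {W : C} (a : ((fg O).obj L).obj (op W)) (b : ((fg O).obj N).obj (op W)) : O.obj.obj (op W) :=
  ((fg O).map e.hom).app (op W) (shT L N a b)

lemma pair_add_left {W : C} (a a' : ((fg O).obj L).obj (op W)) (b : ((fg O).obj N).obj (op W)) :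
    pair e (a + a') b = pair e a b + pair e a' b := by
  unfold pair
  rw [shT_add_left]
  exact map_add (((fg O).map e.hom).app (op W)).hom _ _

lemma pair_add_right {W : C} (a : ((fg O).obj L).obj (op W)) (b b' : ((fg O).obj N).obj (op W)) :
    pair e a (b + b') = pair e a b + pair e a b' := by
  unfold pair
  rw [shT_add_right]
  exact map_add (((fg O).map e.hom).app (op W)).hom _ _

lemma pair_smul_left {W : C} (r : O.obj.obj (op W)) (a : ((fg O).obj L).obj (op W))
    (b : ((fg O).obj N).obj (op W)) : pair e (r • a) b = r * pair e a b := by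
  unfold pair
  rw [shT_smul_left]
  exact map_smul (((fg O).map e.hom).app (op W)).hom r _

lemma pair_smul_right {W : C} (r : O.obj.obj (op W)) (a : ((fg O).obj L).obj (op W))
    (b : ((fg O).obj N).obj (op W)) : pair e a (r • b) = r * pair e a b := by
  unfold pair
  rw [shT_smul_right]
  exact map_smul (((fg O).map e.hom).app (op W)).hom r _

lemma pair_rs {V W : C} (g : V ⟶ W) (a : ((fg O).obj L).obj (op W)) (b : ((fg O).obj N).obj (op W)) :
    pair e (rs ((fg O).obj L) g.op a) (rs ((fg O).obj N) g.op b) = (O.obj.map g.op).hom (pair e a b) := by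
  unfold pair
  rw [← rs_shT]
  exact app_rs ((fg O).map e.hom) g.op _

lemma shT_eq_zero {W : C} (a : ((fg O).obj L).obj (op W)) (b : ((fg O).obj N).obj (op W)) (h : pair e a b = 0) :
    shT L N a b = 0 :=
  app_injective e.hom (op W) (h.trans (map_zero (((fg O).map e.hom).app (op W)).hom).symm)

/-- A pair with value one gives a basis. -/
theorem isBasis_of_pair_eq_one {V : C} (l : ((fg O).obj L).obj (op V)) (n : ((fg O).obj N).obj (op V))
    (h : pair e l n = 1) : IsBasis L (fun _ : Fin 1 => l) := by
  intro W f z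
  have h1 : ∀ {W' : C} (g : W' ⟶ V), pair e (rs ((fg O).obj L) g.op l) (rs ((fg O).obj N) g.op n) = 1 := fun g => by
    rw [pair_rs, h, map_one]
  let a := pair e z (rs ((fg O).obj N) f.op n)
  refine ⟨fun _ => a, ?_, fun c hc => funext fun i => ?_⟩
  · show ∑ _i : Fin 1, a • rs ((fg O).obj L) f.op l = z
    rw [Fin.sum_univ_one]
    let k := z + (-a) • rs ((fg O).obj L) f.op l
    have hk : pair e k (rs ((fg O).obj N) f.op n) = 0 := by
      rw [pair_add_left, pair_smul_left, h1, mul_one]
      exact add_neg_cancel a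
    have hk0 : k = 0 := by
      refine eq_of_locally' L ((locally_eq_of_shu_eq ((fg O).obj L ⊗ (fg O).obj N : P₀ O)
        (tm (R := O.obj) k (rs ((fg O).obj N) f.op n)) 0 ((shT_eq_zero e _ _ hk).trans (shu_zero _).symm)).mono
        fun W' g hg => ?_)
      let Φ : ((fg O).obj L).obj (op W') →ₗ[O.obj.obj (op W')] ((fg O).obj N).obj (op W') →ₗ[O.obj.obj (op W')]
          ((fg O).obj L).obj (op W') :=
        LinearMap.mk₂ _ (fun x y => pair e (rs ((fg O).obj L) (g ≫ f).op l) y • x)
          (fun x x' y => smul_add _ _ _) (fun r x y => smul_comm _ _ _)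
          (fun x y y' => by rw [pair_add_right, add_smul])
          (fun r x y => by rw [pair_smul_right, mul_smul])
      have hg' : tm (R := O.obj) (rs ((fg O).obj L) g.op k) (rs ((fg O).obj N) g.op (rs ((fg O).obj N) f.op n)) = 0 := by
        rw [← rs_tm]
        exact hg.trans (map_zero _)
      have := congrArg (TensorProduct.lift Φ) hg'
      rw [map_zero] at this
      have e2 : TensorProduct.lift Φ (tm (R := O.obj) (rs ((fg O).obj L) g.op k)
          (rs ((fg O).obj N) g.op (rs ((fg O).obj N) f.op n))) =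
          pair e (rs ((fg O).obj L) (g ≫ f).op l) (rs ((fg O).obj N) g.op (rs ((fg O).obj N) f.op n)) •
            rs ((fg O).obj L) g.op k := TensorProduct.lift.tmul _ _
      rw [e2, ← rs_op_comp, h1, one_smul] at this
      exact this.trans (map_zero (((fg O).obj L).map g.op).hom).symm
    have := eq_neg_of_add_eq_zero_left hk0
    rw [this, neg_smul, neg_neg]
  · have := congrArg (fun q => pair e q (rs ((fg O).obj N) f.op n)) hc
    simp only [Fin.sum_univ_one, pair_smul_left, h1, mul_one] at this
    rw [Fin.fin_one_eq_zero i]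
    exact this

theorem exists_pair_decomp {W : C} (z : (((fg O).obj L ⊗ (fg O).obj N : P₀ O)).obj (op W)) :
    ∃ (m : ℕ) (a : Fin m → ((fg O).obj L).obj (op W)) (b : Fin m → ((fg O).obj N).obj (op W)),
      ((fg O).map e.hom).app (op W) (shu _ z) = ∑ k, pair e (a k) (b k) := by
  induction z using TensorProduct.induction_on with
  | zero =>
    refine ⟨0, Fin.elim0, Fin.elim0, ?_⟩
    rw [Finset.univ_eq_empty, Finset.sum_empty]
    exact (congrArg _ (shu_zero _)).trans (map_zero _)
  | tmul x y => exact ⟨1, fun _ => x, fun _ => y, (Fin.sum_univ_one (fun _ => pair e x y)).symm⟩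
  | add z z' hz hz' =>
    obtain ⟨m, a, b, h⟩ := hz
    obtain ⟨m', a', b', h'⟩ := hz'
    refine ⟨m + m', Fin.append a a', Fin.append b b', ?_⟩
    rw [Fin.sum_univ_add]
    simp only [Fin.append_left, Fin.append_right]
    rw [← h, ← h']
    exact (congrArg _ (shu_add ((fg O).obj L ⊗ (fg O).obj N : P₀ O) (X := op W) z z')).trans (map_add _ _ _)

include e in
theorem exists_basis_nhd (P : GrothendieckTopology.Point.{u} J) [IsLocalRing (ModSite.stalkRing P O)] {U : C}
    (x : P.fiber.obj U) :
    ∃ (V : C) (g : V ⟶ U) (v : P.fiber.obj V) (l : ((fg O).obj L).obj (op V)),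
      P.fiber.map g v = x ∧ IsBasis L (fun _ : Fin 1 => l) := by
  classical
  let one : ((fg O).obj (ModSite.unit O)).obj (op U) := (1 : O.obj.obj (op U))
  let t := ((fg O).map e.inv).app (op U) one
  obtain ⟨W, g₁, w, hw, z, hz⟩ := StalkFree.nearPt_of_locally P x
    (locally_exists_shu ((fg O).obj L ⊗ (fg O).obj N : P₀ O) t)
  obtain ⟨m, a, b, hab⟩ := exists_pair_decomp e z
  have h1 : ∑ k, pair e (a k) (b k) = 1 := by
    rw [← hab]
    refine (congrArg (((fg O).map e.hom).app (op W)).hom hz).trans ?_
    refine (app_rs ((fg O).map e.hom) g₁.op t).trans ?_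
    refine (congrArg (rs ((fg O).obj (ModSite.unit O)) g₁.op) (congrArg (fun k => ((fg O).map k).app (op U) one) e.inv_hom_id)).trans ?_
    exact map_one (O.obj.map g₁.op).hom
  have hunit : ∃ k, IsUnit (ModSite.germRing (O := O) P W w (pair e (a k) (b k))) := by
    by_contra hne
    push Not at hne
    have hm : ModSite.germRing (O := O) P W w (∑ k, pair e (a k) (b k)) ∈
        IsLocalRing.maximalIdeal (ModSite.stalkRing P O) := by
      rw [germRing_sum]
      exact Submodule.sum_mem _ fun k _ => hne k
    rw [h1] at hm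
    exact hm (by rw [show ModSite.germRing (O := O) P W w 1 = 1 from map_one (P.toPresheafFiber W w O.obj).hom]; exact isUnit_one)
  obtain ⟨k, hk⟩ := hunit
  obtain ⟨c, hc⟩ := hk.exists_right_inv
  obtain ⟨V, g₂, v, r, -, hv, hr, -⟩ := exists_common_germ (O := O) (F := L) P W w 1 (fun _ => c) (fun _ => 0)
  have e' : ModSite.germRing (O := O) P V v ((O.obj.map g₂.op).hom (pair e (a k) (b k)) * r 0) =
      ModSite.germRing P V v 1 := by
    rw [germRing_mul, germRing_map, hv, hr, hc]
    exact (map_one (P.toPresheafFiber V v O.obj).hom).symm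
  obtain ⟨V', q, v', hv', he⟩ := (P.toPresheafFiber_eq_iff' (P := O.obj) _ _ _ _).1 e'
  have he' : (O.obj.map q.op).hom ((O.obj.map g₂.op).hom (pair e (a k) (b k)) * r 0) = 1 :=
    (show (O.obj.map q.op).hom _ = (O.obj.map q.op).hom 1 from he).trans (map_one _)
  refine ⟨V', q ≫ g₂ ≫ g₁, v', (O.obj.map q.op).hom (r 0) • rs ((fg O).obj L) (q ≫ g₂).op (a k), ?_,
    isBasis_of_pair_eq_one e _ (rs ((fg O).obj N) (q ≫ g₂).op (b k)) ?_⟩
  · rw [Functor.map_comp_apply, Functor.map_comp_apply, hv', hv, hw]
  · rw [pair_smul_left, pair_rs, StalkFree.omap_comp, mul_comm, ← map_mul]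
    exact he'

theorem germ_notMem_iff (P : GrothendieckTopology.Point.{u} J) [IsLocalRing (ModSite.stalkRing P O)] {V : C}
    (v : P.fiber.obj V) {l : ((fg O).obj L).obj (op V)} (hl : IsBasis L (fun _ : Fin 1 => l)) (c : O.obj.obj (op V)) :
    (ModSite.germ P L V v (c • l) ∉ IsLocalRing.maximalIdeal (ModSite.stalkRing P O) •
        (⊤ : Submodule (ModSite.stalkRing P O) (ModSite.stalkAb P L)) ↔ IsUnit (ModSite.germRing P V v c)) ∧
    (IsUnit (ModSite.germRing (O := O) P V v c) →
      Function.Bijective (fun a : ModSite.stalkRing P O => a • ModSite.germ P L V v (c • l))) := by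
  let R := ModSite.stalkRing P O
  have hbij := RetractFree.finite_free_stalk P (fun _ : Fin 1 => l) hl v
  let m₀ : ModSite.stalkAb P L := ModSite.germ P L V v l
  have hb : Function.Bijective (fun r : R => r • m₀) := by
    have h1 : Function.Bijective (fun r : R => (fun _ : Fin 1 => r)) :=
      ⟨fun r r' h => congrFun h 0, fun g => ⟨g 0, funext fun i => by rw [Fin.fin_one_eq_zero i]⟩⟩
    convert hbij.comp h1 using 1
    funext r
    simp [Fintype.linearCombination_apply, m₀]
  have hgerm : ModSite.germ P L V v (c • l) = ModSite.germRing P V v c • m₀ := ModSite.germ_smul P L V v c l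
  refine ⟨⟨fun h => ?_, fun h hmem => ?_⟩, fun h => ?_⟩
  · by_contra hne
    exact h (hgerm ▸ Submodule.smul_mem_smul ((IsLocalRing.mem_maximalIdeal _).2 hne) Submodule.mem_top)
  · have key : ∀ y ∈ IsLocalRing.maximalIdeal R • (⊤ : Submodule R (ModSite.stalkAb P L)),
        ∃ r ∈ IsLocalRing.maximalIdeal R, r • m₀ = y := fun y hy => by
      refine Submodule.smul_induction_on hy (fun r hr z _ => ?_) fun y y' ⟨r, hr, h⟩ ⟨r', hr', h'⟩ => ?_
      · obtain ⟨s, rfl⟩ := hb.2 z
        exact ⟨r * s, Ideal.mul_mem_right s _ hr, mul_smul r s m₀⟩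
      · exact ⟨r + r', Ideal.add_mem _ hr hr', by rw [add_smul, h, h']⟩
    obtain ⟨r, hr, hr'⟩ := key _ hmem
    rw [hgerm] at hr'
    rw [hb.1 hr'] at hr
    exact hr h
  · obtain ⟨u, hu⟩ := h
    have : (fun a : R => a • ModSite.germ P L V v (c • l)) = (fun r : R => r • m₀) ∘ (fun a => a * ↑u) := by
      funext a
      rw [hgerm, ← hu]
      exact (mul_smul a (u : R) m₀).symm
    rw [this]
    exact hb.comp u.mulRight.bijective

end Groth.Agent.InvertibleLocal
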