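import Groth.Agent.SiteBase.LocBasis
import Mathlib.Topology.Sheaves.Stalks
import Mathlib.Topology.LocallyConstant.Basic
import Mathlib.LinearAlgebra.InvariantBasisNumber
import Mathlib.SetTheory.Cardinal.Finite
import Mathlib.Algebra.Category.ModuleCat.Sheaf.LocallyFree

/-!
# The rank of a locally free module
-/

set_option autoImplicit false
set_option backward.isDefEq.respectTransparency false
set_option linter.style.haveILetI false
set_option linter.unusedSectionVars false

universe u

open CategoryTheory CategoryTheory.Limits Opposite TopologicalSpace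
open Groth.Agent.ModTensor Groth.Agent.ModPull Groth.Agent.LocalFactor Groth.Agent.SecGen Groth.Agent.SecGenOps Groth.Agent.LocBasis

noncomputable section

namespace Groth.Agent.LocRank

section Site

variable {C : Type u} [SmallCategory C] {J : GrothendieckTopology C} {O : Sheaf J CommRingCat.{u}}

/-- Finitely many members of a basis have coordinates. -/
theorem exists_coords {F : ModSite.Mod O} {U : C} {I : Type u}
    (e : (ModSite.restr O U).obj F ≅ SheafOfModules.free I) {m : ℕ} (a : Fin m → I) (ha : Function.Injective a) :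
    ∃ (s : Fin m → ((fg O).obj F).obj (op U))
      (ρ : ∀ ⦃W : C⦄, (W ⟶ U) → ((fg O).obj F).obj (op W) →ₗ[O.obj.obj (op W)] (Fin m → O.obj.obj (op W))),
      ∀ ⦃W : C⦄ (f : W ⟶ U) (j : Fin m), ρ f (rs ((fg O).obj F) f.op (s j)) = Pi.single j 1 := by
  classical
  let OU := O.over U
  let T : Over U := Over.mk (𝟙 U)
  let R : fr OU I ⟶ fr OU (ULift.{u} (Fin m)) := fdesc fun i =>
    if h : ∃ k, a k = i then SheafOfModules.freeSection (R := ModSite.ringSh OU) (⟨h.choose⟩ : ULift.{u} (Fin m))
    else (fr OU (ULift.{u} (Fin m))).unitHomEquiv 0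
  let s : Fin m → ((fg O).obj F).obj (op U) := fun j => ((fg OU).map e.inv).app (op T) (fsec (a j) (op T))
  refine ⟨s, fun W f => LinearMap.pi fun k =>
    { toFun := fun x => coord (O := OU) (X := op (Over.mk f)) (⟨k⟩ : ULift.{u} (Fin m))
        (((fg OU).map R).app (op (Over.mk f)) (((fg OU).map e.hom).app (op (Over.mk f)) x))
      map_add' := fun x y => by
        erw [map_add, map_add]
        exact map_add (((fg OU).map (pr (O := OU) (⟨k⟩ : ULift.{u} (Fin m)))).app (op (Over.mk f))).hom _ _
      map_smul' := fun r x => by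
        erw [map_smul, map_smul]
        exact coord_smul (O := OU) _ _ _ }, fun W f j => funext fun k => ?_⟩
  let W' : Over U := Over.mk f
  show coord (O := OU) (X := op W') (⟨k⟩ : ULift.{u} (Fin m)) (((fg OU).map R).app (op W')
    (((fg OU).map e.hom).app (op W') (rs ((fg O).obj F) f.op (s j)))) = _
  have e1 : ((fg OU).map e.hom).app (op W') (rs ((fg O).obj F) f.op (s j)) = fsec (a j) (op W') := by
    refine (congrArg (((fg OU).map e.hom).app (op W')).hom
      (app_rs ((fg OU).map e.inv) (Over.homMk f : W' ⟶ T).op (fsec (a j) (op T))).symm).trans ?_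
    rw [rs_fsec]
    exact congrArg (fun k => ((fg OU).map k).app (op W') (fsec (a j) (op W'))) e.inv_hom_id
  rw [e1]
  have hk : ∃ l, a l = a j := ⟨j, rfl⟩
  have hc : hk.choose = j := ha hk.choose_spec
  refine (congrArg (coord (O := OU) _) ((fdesc_fsec (O := OU) _ (a j) (op W')).trans ?_)).trans
    ((coord_fsec (O := OU) (⟨k⟩ : ULift.{u} (Fin m)) ⟨j⟩ (op W')).trans ?_)
  · rw [dif_pos hk, hc]
    rfl
  · by_cases h : j = k
    · subst h
      rw [if_pos rfl, Pi.single_eq_same]
    · rw [if_neg (fun h' => h (congrArg ULift.down h')), Pi.single_eq_of_ne (Ne.symm h)]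

theorem card_le {F : ModSite.Mod O} {U U' W : C} (f : W ⟶ U) (f' : W ⟶ U') [Nontrivial (O.obj.obj (op W))]
    {n : ℕ} (e : (ModSite.restr O U).obj F ≅ SheafOfModules.free (ULift.{u} (Fin n))) {I : Type u}
    (e' : (ModSite.restr O U').obj F ≅ SheafOfModules.free I) {m : ℕ} (a : Fin m → I) (ha : Function.Injective a) :
    m ≤ n := by
  classical
  obtain ⟨s, hs⟩ := exists_basis_of_iso (κ := Fin n) e
  obtain ⟨t, ρ, hρ⟩ := exists_coords e' a ha
  choose B hB using fun j => (hs f (rs ((fg O).obj F) f'.op (t j))).exists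
  let L : (Fin n → O.obj.obj (op W)) →ₗ[O.obj.obj (op W)] (Fin m → O.obj.obj (op W)) :=
    (ρ f').comp (∑ i : Fin n, (LinearMap.proj i : (Fin n → O.obj.obj (op W)) →ₗ[O.obj.obj (op W)] O.obj.obj (op W)).smulRight
      (rs ((fg O).obj F) f.op (s i)))
  refine le_of_fin_surjective (R := O.obj.obj (op W)) L fun v => ⟨fun i => ∑ j, v j * B j i, ?_⟩
  show ρ f' ((∑ i : Fin n, (LinearMap.proj i : (Fin n → O.obj.obj (op W)) →ₗ[O.obj.obj (op W)] O.obj.obj (op W)).smulRight
      (rs ((fg O).obj F) f.op (s i))) (fun i => ∑ j, v j * B j i)) = v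
  rw [LinearMap.sum_apply]
  simp only [LinearMap.smulRight_apply, LinearMap.proj_apply, Finset.sum_smul, ← smul_smul]
  rw [Finset.sum_comm]
  simp only [← Finset.smul_sum, hB, map_sum, map_smul, hρ]
  funext k
  simp [Pi.single_apply]

theorem enat_card_le {F : ModSite.Mod O} {U U' W : C} (f : W ⟶ U) (f' : W ⟶ U') [Nontrivial (O.obj.obj (op W))]
    {I' I : Type u} (e : (ModSite.restr O U).obj F ≅ SheafOfModules.free I')
    (e' : (ModSite.restr O U').obj F ≅ SheafOfModules.free I) : ENat.card I ≤ ENat.card I' := by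
  classical
  rcases finite_or_infinite I' with h | h
  swap
  · rw [ENat.card_eq_top_of_infinite (α := I')]
    exact le_top
  obtain ⟨n, ⟨q⟩⟩ := Finite.exists_equiv_fin I'
  let q' : I' ≃ ULift.{u} (Fin n) := q.trans Equiv.ulift.symm
  let e₁ : (ModSite.restr O U).obj F ≅ SheafOfModules.free (ULift.{u} (Fin n)) :=
    e ≪≫ (SheafOfModules.freeFunctor (R := ModSite.ringSh (O.over U))).mapIso q'.toIso
  have key : ∀ (m : ℕ) (a : Fin m → I), Function.Injective a → m ≤ n := fun m a ha => card_le f f' e₁ e' a ha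
  rw [ENat.card_eq_coe_natCard I', Nat.card_congr q, Nat.card_eq_fintype_card, Fintype.card_fin]
  rcases finite_or_infinite I with hI | hI
  · obtain ⟨m, ⟨r⟩⟩ := Finite.exists_equiv_fin I
    rw [ENat.card_eq_coe_natCard I, Nat.card_congr r, Nat.card_eq_fintype_card, Fintype.card_fin]
    exact_mod_cast key m r.symm r.symm.injective
  · exact absurd (key (n + 1) (fun k => (Infinite.natEmbedding I) k)
      ((Infinite.natEmbedding I).injective.comp Fin.val_injective)) (Nat.not_succ_le_self n)

end Site

variable {X : TopCat.{u}}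

theorem exists_rank (O : TopCat.Sheaf CommRingCat.{u} X) (hO : ∀ x : X, Nontrivial (O.presheaf.stalk x))
    (F : ModSite.Mod O) [SheafOfModules.IsLocallyFree (R := ModSite.ringSh O) F] :
    ∃ rk : X → ℕ∞, IsLocallyConstant rk ∧
      ∀ (x : X) (U : Opens X) (I : Type u), x ∈ U →
        Nonempty ((ModSite.restr O U).obj F ≅ SheafOfModules.free I) → ENat.card I = rk x := by
  obtain ⟨q, hq⟩ := SheafOfModules.IsLocallyFree.exists_isLocallyFreeData (R := ModSite.ringSh O) (M := F)
  have h : ∀ x : X, ∃ (U : Opens X) (I : Type u), x ∈ U ∧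
      Nonempty ((ModSite.restr O U).obj F ≅ SheafOfModules.free I) := fun x => by
    obtain ⟨V, g, hg, hx⟩ := q.coversTop (⊤ : Opens X) x trivial
    obtain ⟨i, ⟨a⟩⟩ := (Sieve.mem_ofObjects_iff ..).1 hg
    haveI := hq.isIso i
    exact ⟨q.X i, (q.generators i).I, a.le hx, ⟨(asIso (q.generators i).π).symm⟩⟩
  choose U I hxU e using h
  have key : ∀ (x : X) (V : Opens X) (K : Type u), x ∈ V →
      Nonempty ((ModSite.restr O V).obj F ≅ SheafOfModules.free K) → ENat.card K = ENat.card (I x) := by
    intro x V K hx e'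
    have hW : x ∈ V ⊓ U x := ⟨hx, hxU x⟩
    haveI : Nontrivial (O.obj.obj (op (V ⊓ U x))) :=
      haveI := hO x
      (O.presheaf.germ (V ⊓ U x) x hW).hom.domain_nontrivial
    exact le_antisymm
      (enat_card_le (W := V ⊓ U x) (homOfLE inf_le_right) (homOfLE inf_le_left) (e x).some e'.some)
      (enat_card_le (W := V ⊓ U x) (homOfLE inf_le_left) (homOfLE inf_le_right) e'.some (e x).some)
  refine ⟨fun x => ENat.card (I x), (IsLocallyConstant.iff_exists_open _).2 fun x => ?_, key⟩
  exact ⟨U x, (U x).isOpen, hxU x, fun y hy => (key y (U x) (I x) hy (e x)).symm⟩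

end Groth.Agent.LocRank
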