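import Groth.Agent.SiteBase.RelLiftFlat
import Groth.Agent.SiteBase.FlatStalk
import Groth.Agent.SiteBase.Invertible

/-!
# Pulling back and tensoring with a module flat over the base
-/

universe u

open CategoryTheory CategoryTheory.Limits Opposite MonoidalCategory
open Groth.Agent.ModTensor Groth.Agent.ModPull

namespace Groth.Agent.SiteBase

variable {C D : Type u} [SmallCategory C] [SmallCategory D] {J : GrothendieckTopology C}
  {K : GrothendieckTopology D} {O_C : Sheaf J CommRingCat.{u}} {O_D : Sheaf K CommRingCat.{u}}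
  (f : ModSite.RMor O_C O_D) (A : ModSite.Mod O_C)

/-- Restriction of scalars to the pulled back ring. -/
noncomputable abbrev resInv : ModSite.Mod O_C ⥤ ModSite.Mod f.invRing :=
  SheafOfModules.restrictScalars ((sheafCompose J (forget₂ CommRingCat.{u} RingCat.{u})).map f.invSharp)

/-- Pulling back, then tensoring with `A`. -/
noncomputable abbrev pullT : ModSite.Mod O_D ⥤ ModSite.Mod O_C := f.pull ⋙ (ModSite.tensorBi O_C).obj A

theorem preservesFiniteColimits_pullT : PreservesFiniteColimits (pullT f A) := comp_preservesFiniteColimits _ _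

theorem additive_pullT : (pullT f A).Additive := by
  have := additive_pull f
  have : ((ModSite.tensorBi O_C).obj A).Additive := Functor.additive_of_iso (tensorFlipIso A)
  infer_instance

variable {A}

/-- If `A` is flat over `f⁻¹O_D`, relations in `A` lift. -/
theorem relLift_of_isFlat_restrict (hf : ModSite.IsFlat ((resInv f).obj A)) : RelLift f A := by
  classical
  intro W V h σ Y _ _ c a hrel
  let a₀ : σ → ((fg O_C).obj A).obj (op W) := a
  let a₁ : σ → ((fg f.invRing).obj ((resInv f).obj A)).obj (op W) := a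
  have hrel' : ∀ y, ∑ l, repR f h (c l y) • a₁ l = 0 := fun y => by
    refine Eq.trans (Finset.sum_congr rfl fun l _ => ?_) (hrel y)
    show (f.invSharp.hom.app (op W)).hom (repR f h (c l y)) • a₀ l = (O_C.obj.map h.op).hom (shp f (c l y)) • a₀ l
    rw [invSharp_repR]
  refine (exists_trivialisation (κ := Y) (Y := σ) hf (fun y l => repR f h (c l y)) a₁ hrel').bind
    fun W₁ g ⟨n, N, t, ht, hN⟩ => ?_
  let e := Fintype.equivFin (Fin n × σ)
  let eY := Fintype.equivFin (Fin n × Y)
  refine (locally_common f _ W₁ V (g ≫ h) (fun i => N (e.symm i).1 (e.symm i).2)).bind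
    fun W₂ g₂ ⟨V₁, d, h₁, x, e₁, hx⟩ => ?_
  let x' : Fin n → σ → O_D.obj.obj (op V₁) := fun j l => x (e (j, l))
  have hx' : ∀ j l, (f.invRing.obj.map g₂.op).hom (N j l) = repR f h₁ (x' j l) := fun j l => by
    have := hx (e (j, l))
    rwa [e.symm_apply_apply] at this
  refine (locally_common_zero f _ W₂ V₁ h₁
    (fun i => ∑ l, x' (eY.symm i).1 l * (O_D.obj.map d.op).hom (c l (eY.symm i).2)) fun i => ?_).mono
    fun W₃ g₃ ⟨V₂, a₂, h₂, e₂, hzero⟩ => ?_
  · rw [map_sum]
    have hn := congrArg (f.invRing.obj.map g₂.op).hom (hN (eY.symm i).2 (eY.symm i).1)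
    rw [map_sum, map_zero] at hn
    refine Eq.trans (Finset.sum_congr rfl fun l _ => ?_) hn
    rw [map_mul, map_mul, ← hx', map_repR, map_repR, ← repR_map f d (g₂ ≫ g ≫ h) h₁ e₁, mul_comm]
  · refine ⟨V₂, a₂ ≫ d, h₂, n, fun l j => (O_D.obj.map a₂.op).hom (x' j l),
      fun j => rs ((fg O_C).obj A) (g₃ ≫ g₂).op (t j), ?_, fun l => ?_, fun j y => ?_⟩
    · rw [f.fn.map_comp, reassoc_of% e₂, e₁]
      simp only [Category.assoc]
    · have hl : rs ((fg O_C).obj A) g.op (a₀ l) =
          ∑ j, (f.invSharp.hom.app (op W₁)).hom (N j l) • (show ((fg O_C).obj A).obj (op W₁) from t j) := ht l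
      rw [op_comp, rs_comp]
      refine (congrArg (fun z => rs ((fg O_C).obj A) (g₃ ≫ g₂).op z) hl).trans ((rs_sum _ Finset.univ _).trans ?_)
      refine Finset.sum_congr rfl fun j _ => (rs_smul _ _ _).trans ?_
      refine congrArg (fun r : O_C.obj.obj (op W₃) => r • rs ((fg O_C).obj A) (g₃ ≫ g₂).op (t j)) ?_
      rw [← invSharp_repR, ← repR_map f a₂ (g₃ ≫ h₁) h₂ e₂, ← map_repR, ← hx', ringMap_comp]
      exact (NatTrans.naturality_apply f.invSharp.hom (g₃ ≫ g₂).op (N j l)).symm
    · have := hzero (eY (j, y))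
      rw [eY.symm_apply_apply, map_sum] at this
      refine Eq.trans (Finset.sum_congr rfl fun l _ => ?_) this
      rw [map_mul, ringMap_comp]

theorem shortExact_pullTensor {S : ShortComplex (ModSite.Mod O_D)} (hS : S.ShortExact) (hR : RelLift f A)
    [(pullT f A).PreservesZeroMorphisms] : (S.map (pullT f A)).ShortExact := by
  have := preservesFiniteColimits_pullT f A
  have := hS.mono_f
  have := hS.epi_g
  let q := coverHom S.X₂
  let π := q ≫ S.g
  let κ := kernel.ι π
  have hπ : (ShortComplex.mk κ π (kernel.condition π)).ShortExact :=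
    { exact := ShortComplex.exact_of_f_is_kernel _ (kernelIsKernel π) }
  have hmono : Mono ((pullT f A).map κ) := mono_tensor_pull' f κ π (kernel.condition π) hπ A hR
  let j : kernel π ⟶ S.X₁ := hS.exact.lift (κ ≫ q) (by rw [Category.assoc]; exact kernel.condition π)
  have hj : j ≫ S.f = κ ≫ q := hS.exact.lift_f _ _
  let l : kernel q ⟶ kernel π := kernel.lift π (kernel.ι q) (by
    show kernel.ι q ≫ q ≫ S.g = 0
    rw [kernel.condition_assoc, zero_comp])
  have hl : l ≫ κ = kernel.ι q := kernel.lift_ι _ _ _
  have hlj : l ≫ j = 0 := (cancel_mono S.f).1 (by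
    rw [Category.assoc, hj, ← Category.assoc, hl, kernel.condition, zero_comp])
  have hepi : Epi j := by
    rw [epi_iff_surjective_up_to_refinements]
    intro T z
    obtain ⟨T', π₀, h₀, y, hy⟩ := surjective_up_to_refinements_of_epi q (z ≫ S.f)
    refine ⟨T', π₀, h₀, kernel.lift π y ?_, (cancel_mono S.f).1 ?_⟩
    · show y ≫ q ≫ S.g = 0
      rw [← Category.assoc, ← hy, Category.assoc, Category.assoc, S.zero, comp_zero, comp_zero]
    · simp only [Category.assoc]
      refine hy.trans (Eq.trans ?_ (congrArg (fun t => kernel.lift π y _ ≫ t) hj).symm)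
      exact (kernel.lift_ι_assoc _ _ _ _).symm
  have : (pullT f A).PreservesEpimorphisms := inferInstance
  let S₀ := ShortComplex.mk (kernel.ι q) q (kernel.condition q)
  have hS₀ : S₀.Exact := ShortComplex.exact_of_f_is_kernel _ (kernelIsKernel q)
  have hE : (S₀.map (pullT f A)).Exact := hS₀.map_of_epi_of_preservesCokernel (pullT f A) inferInstance inferInstance
  have e0 : (pullT f A).map l ≫ (pullT f A).map κ = (pullT f A).map (kernel.ι q) := by rw [← Functor.map_comp, hl]
  have hw : ((pullT f A).map l ≫ (pullT f A).map κ) ≫ (pullT f A).map q = 0 := by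
    rw [e0, ← Functor.map_comp, kernel.condition, Functor.map_zero]
  have hf : Mono ((pullT f A).map S.f) :=
    mono_of_common_kernel ((pullT f A).map l) ((pullT f A).map j) ((pullT f A).map κ) ((pullT f A).map q) ((pullT f A).map S.f)
      (by rw [← Functor.map_comp, hj, Functor.map_comp]) hw (by rw [← Functor.map_comp, hlj, Functor.map_zero])
      ((ShortComplex.exact_iff_of_iso (ShortComplex.isoMk (S₁ := S₀.map (pullT f A))
        (S₂ := ShortComplex.mk ((pullT f A).map l ≫ (pullT f A).map κ) ((pullT f A).map q) hw) (Iso.refl _) (Iso.refl _) (Iso.refl _)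
        ((Category.id_comp _).trans (e0.trans (Category.comp_id _).symm)) ((Category.id_comp _).trans (Category.comp_id _).symm))).1 hE)
  exact ShortComplex.ShortExact.mk' (hS.exact.map_of_epi_of_preservesCokernel (pullT f A) inferInstance inferInstance)
    hf ((pullT f A).map_epi S.g)

variable (A) in
theorem preservesFiniteLimits_pullT (hR : RelLift f A) : PreservesFiniteLimits (pullT f A) := by
  have := additive_pullT f A
  exact (Functor.preservesFiniteLimits_iff_forall_exact_map_and_mono (pullT f A)).2 fun S hS =>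
    ⟨(shortExact_pullTensor f hS hR).exact, (shortExact_pullTensor f hS hR).mono_f⟩

/-- The action of a pulled back stalk on the stalk of a restriction. -/
theorem stalk_smul_resInv (p : GrothendieckTopology.Point.{u} J) (r : ModSite.stalkRing p f.invRing)
    (m : ModSite.stalkAb p ((resInv f).obj A)) :
    r • m = (show ModSite.stalkAb p ((resInv f).obj A) from
      ((p.sheafFiber (A := CommRingCat.{u})).map f.invSharp).hom r • (show ModSite.stalkAb p A from m)) := by
  obtain ⟨E⟩ := p.isCofiltered.nonempty
  obtain ⟨X, _, x, r', m', -, hr, hm⟩ := exists_common_germ (O := f.invRing) (F := (resInv f).obj A) p E.1 E.2 1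
    (fun _ => r) (fun _ => m)
  have e : ((p.sheafFiber (A := CommRingCat.{u})).map f.invSharp).hom r =
      ModSite.germRing p X x ((f.invSharp.hom.app (op X)).hom (r' 0)) := by
    rw [← hr 0]
    exact p.toPresheafFiber_naturality_apply f.invSharp.hom X x (r' 0)
  rw [← hm 0, ← hr 0, ← ModSite.germ_smul, hr 0, e]
  exact ModSite.germ_smul p A X x _ _

end Groth.Agent.SiteBase
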