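import Mathlib.Topology.Sheaves.SheafCondition.UniqueGluing
import Mathlib.Algebra.Category.Grp.Limits
import Mathlib.Algebra.Category.Grp.FilteredColimits
import Mathlib.Order.Zorn

/-!
Lifting sections through surjections of sheaves of groups with flasque kernel.
-/

set_option autoImplicit false

universe u

open CategoryTheory TopologicalSpace Opposite TopCat

namespace Groth.Agent.FlasqueGrp

variable {X : TopCat.{u}} {F G H : TopCat.Presheaf GrpCat.{u} X}

lemma res_res (P : TopCat.Presheaf GrpCat.{u} X) {A B C : Opens X} (i : B ⟶ A) (j : C ⟶ B)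
    (k : C ⟶ A) (x : P.obj (op A)) : P.map j.op (P.map i.op x) = P.map k.op x := by
  rw [Subsingleton.elim k (j ≫ i), op_comp, Functor.map_comp]
  rfl

lemma res_app {P Q : TopCat.Presheaf GrpCat.{u} X} (φ : P ⟶ Q) {A B : Opens X} (i : B ⟶ A)
    (x : P.obj (op A)) : Q.map i.op (φ.app (op A) x) = φ.app (op B) (P.map i.op x) :=
  (ConcreteCategory.congr_hom (φ.naturality i.op) x).symm

variable (β : G ⟶ H) {U : Opens X} (s : H.obj (op U))

/-- A lift of a section over an open subset. -/
structure PLift' where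
  V : Opens X
  le : V ≤ U
  g : G.obj (op V)
  spec : β.app (op V) g = H.map (homOfLE le).op s

instance : Preorder (PLift' β s) where
  le a b := ∃ h : a.V ≤ b.V, G.map (homOfLE h).op b.g = a.g
  le_refl a := ⟨le_rfl, by simp⟩
  le_trans a b c := by
    rintro ⟨h₁, e₁⟩ ⟨h₂, e₂⟩
    exact ⟨h₁.trans h₂, by rw [← res_res G (homOfLE h₂) (homOfLE h₁) _, e₂, e₁]⟩

theorem surjective (hG : G.IsSheaf) (hH : H.IsSheaf) (α : F ⟶ G)
    (hex : ∀ (U : Opens X) (g : G.obj (op U)),
      (β.app (op U)).hom g = 1 ↔ g ∈ Set.range (α.app (op U)).hom)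
    (hβ : ∀ (U : Opens X) (s : H.obj (op U)) (x : X), x ∈ U →
      ∃ (V : Opens X) (hV : V ≤ U), x ∈ V ∧
        ∃ g : G.obj (op V), (β.app (op V)).hom g = (H.map (homOfLE hV).op).hom s)
    (hfl : ∀ (U V : Opens X) (hUV : V ≤ U), Function.Surjective (F.map (homOfLE hUV).op).hom) :
    ∃ g : G.obj (op U), β.app (op U) g = s := by
  have glue : ∀ {ι : Type u} (W : ι → Opens X) (_ : ∀ i, W i ≤ U) (sf : ∀ i, G.obj (op (W i))),
      TopCat.Presheaf.IsCompatible G W sf →
      (∀ i (h : W i ≤ U), β.app (op (W i)) (sf i) = H.map (homOfLE h).op s) →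
      ∃ a : PLift' β s, ∀ i, ∃ h : W i ≤ a.V, G.map (homOfLE h).op a.g = sf i := by
    intro ι W hW sf hc hs
    obtain ⟨t, ht, -⟩ := TopCat.Sheaf.existsUnique_gluing ⟨G, hG⟩ W sf hc
    refine ⟨⟨iSup W, iSup_le hW, t, ?_⟩, fun i => ⟨le_iSup W i, ht i⟩⟩
    refine TopCat.Sheaf.eq_of_locally_eq ⟨H, hH⟩ W _ _ fun i => ?_
    show H.map (Opens.leSupr W i).op _ = H.map (Opens.leSupr W i).op _
    rw [res_app, show G.map (Opens.leSupr W i).op t = sf i from ht i, hs i (hW i)]
    exact (res_res H _ _ _ _).symm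
  have hb : ∀ c : Set (PLift' β s), IsChain (· ≤ ·) c → BddAbove c := by
    intro c hc
    have hcomp : TopCat.Presheaf.IsCompatible G (fun a : c => a.1.V) fun a => a.1.g := by
      rintro ⟨a, ha⟩ ⟨b, hb⟩
      show G.map _ a.g = G.map _ b.g
      rcases hc.total ha hb with ⟨h, e⟩ | ⟨h, e⟩
      · rw [← e]
        exact res_res G _ _ (Opens.infLERight a.V b.V) b.g
      · rw [← e]
        exact (res_res G _ _ (Opens.infLELeft a.V b.V) a.g).symm
    obtain ⟨t, ht⟩ := glue (fun a : c => a.1.V) (fun a => a.1.le) (fun a => a.1.g) hcomp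
      fun a h => a.1.spec
    exact ⟨t, fun a ha => ht ⟨a, ha⟩⟩
  obtain ⟨m, hm⟩ := zorn_le hb
  have hU : U ≤ m.V := by
    intro x hx
    obtain ⟨W, hW, hxW, g', hg'⟩ := hβ U s x hx
    let a := G.map (Opens.infLELeft m.V W).op m.g
    let b := G.map (Opens.infLERight m.V W).op g'
    have hab : β.app (op (m.V ⊓ W)) (a * b⁻¹) = 1 := by
      rw [map_mul, map_inv, mul_inv_eq_one, ← res_app β, ← res_app β, m.spec]
      refine (res_res H _ _ (homOfLE (inf_le_left.trans m.le)) s).trans ?_
      exact Eq.trans (res_res H _ _ (homOfLE (inf_le_left.trans m.le)) s).symm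
        (congrArg (H.map (Opens.infLERight m.V W).op) hg'.symm)
    obtain ⟨f, hf⟩ := (hex _ _).1 hab
    obtain ⟨f', hf'⟩ := hfl W (m.V ⊓ W) inf_le_right f
    let g'' := α.app (op W) f' * g'
    have hg'' : G.map (Opens.infLERight m.V W).op g'' = a := by
      rw [map_mul, res_app α]
      show α.app (op (m.V ⊓ W)) (F.map (homOfLE inf_le_right).op f') * b = a
      rw [show F.map (homOfLE inf_le_right).op f' = f from hf',
        show α.app (op (m.V ⊓ W)) f = a * b⁻¹ from hf, inv_mul_cancel_right]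
    have hs'' : β.app (op W) g'' = H.map (homOfLE hW).op s := by
      rw [map_mul, show β.app (op W) (α.app (op W) f') = 1 from (hex _ _).2 ⟨f', rfl⟩, one_mul]
      exact hg'
    let Ws : ULift.{u} Bool → Opens X := fun q => if q.down then W else m.V
    let sf : ∀ q : ULift.{u} Bool, G.obj (op (Ws q)) := fun ⟨q⟩ => match q with
      | true => g''
      | false => m.g
    obtain ⟨t, ht⟩ := glue Ws (fun ⟨q⟩ => by cases q <;> [exact m.le; exact hW]) sf (by
      rintro ⟨p⟩ ⟨q⟩
      cases p <;> cases q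
      · rfl
      · exact hg''.symm
      · show G.map (Opens.infLELeft W m.V).op g'' = G.map (Opens.infLERight W m.V).op m.g
        refine (res_res G (Opens.infLERight m.V W) (homOfLE (inf_comm W m.V).le) _ g'').symm.trans ?_
        exact (congrArg (G.map (homOfLE (inf_comm W m.V).le).op) hg'').trans (res_res G _ _ _ m.g)
      · rfl) (by
      rintro ⟨q⟩ h
      cases q
      · exact m.spec
      · exact hs'')
    have hmt : m ≤ t := ht ⟨false⟩
    obtain ⟨hle, -⟩ := hm hmt
    obtain ⟨hWt, -⟩ := ht ⟨true⟩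
    exact hle (hWt hxW)
  refine ⟨G.map (homOfLE hU).op m.g, ?_⟩
  rw [← res_app β, m.spec]
  exact (res_res H _ _ (𝟙 U) s).trans (by simp)

end Groth.Agent.FlasqueGrp
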