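import Groth.Agent.SiteBase.DerivedKernel
import Mathlib.AlgebraicTopology.AlternatingFaceMapComplex
import Mathlib.Algebra.Homology.HomologicalComplexAbelian
import Mathlib.Algebra.Homology.HomologySequenceLemmas

/-!
# Derived limits over the simplex category

The derived functors of the limit over the simplex category are computed by the alternating coface
complex.
-/

set_option autoImplicit false
set_option backward.isDefEq.respectTransparency false
set_option linter.unusedSectionVars false

universe v u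

open CategoryTheory CategoryTheory.Limits AlgebraicTopology Simplicial

namespace Groth.Agent.SiteBase.DerivedLimSimplex

/-- Prepend the first vertex. -/
def prepend {n : ℕ} {m : SimplexCategory} (f : ⦋n⦌ ⟶ m) : ⦋n + 1⦌ ⟶ m :=
  SimplexCategory.Hom.mk
    ⟨Fin.cases (motive := fun _ => Fin (m.len + 1)) 0 (fun i => f.toOrderHom i), fun a b hab => by
      induction a using Fin.cases with
      | zero => exact Fin.zero_le _
      | succ a =>
        induction b using Fin.cases with
        | zero => exact absurd (Fin.le_zero_iff.1 hab) (Fin.succ_ne_zero a)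
        | succ b =>
          simp only [Fin.cases_succ]
          exact f.toOrderHom.monotone (Fin.succ_le_succ_iff.1 hab)⟩

lemma δ_zero_prepend {n : ℕ} {m : SimplexCategory} (f : ⦋n⦌ ⟶ m) :
    SimplexCategory.δ 0 ≫ prepend f = f := by
  apply SimplexCategory.Hom.ext
  ext i
  simp [prepend, SimplexCategory.δ]

lemma δ_succ_prepend {n : ℕ} {m : SimplexCategory} (f : ⦋n + 1⦌ ⟶ m) (j : Fin (n + 2)) :
    SimplexCategory.δ j.succ ≫ prepend f = prepend (SimplexCategory.δ j ≫ f) := by
  apply SimplexCategory.Hom.ext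
  ext i
  induction i using Fin.cases with
  | zero => simp [prepend, SimplexCategory.δ, Fin.succ_succAbove_zero]
  | succ i => simp [prepend, SimplexCategory.δ, Fin.succ_succAbove_succ]

/-- The alternating coface complex as a functor on diagrams. -/
noncomputable abbrev cx (B : Type*) [Category* B] [Preadditive B] : (SimplexCategory ⥤ B) ⥤ CochainComplex B ℕ :=
  alternatingCofaceMapComplex B

lemma d_eq {B : Type*} [Category* B] [Preadditive B] (F : SimplexCategory ⥤ B) (n : ℕ) :
    ((cx B).obj F).d n (n + 1) =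
      ∑ i : Fin (n + 2), (-1 : ℤ) ^ (i : ℕ) • F.map (SimplexCategory.δ i) := by
  simp [cx, alternatingCofaceMapComplex, AlternatingCofaceMapComplex.obj, CosimplicialObject.δ]

variable {B : Type u} [Category.{v} B] [Abelian B]

section Cofree

variable [∀ T : Type, HasProductsOfShape T B] (E : SimplexCategory → B)

/-- The cofree diagram on a family. -/
noncomputable def cofree : SimplexCategory ⥤ B where
  obj k := ∏ᶜ fun p : Σ m, (k ⟶ m) => E p.1
  map {k k'} v := Pi.lift fun p : Σ m, (k' ⟶ m) =>
    Pi.π (fun p : Σ m, (k ⟶ m) => E p.1) ⟨p.1, v ≫ p.2⟩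
  map_id k := Pi.hom_ext _ _ fun p => by
    simp only [Pi.lift_π, Category.id_comp]
    rw [Category.id_comp]
  map_comp {k k' k''} v w := Pi.hom_ext _ _ fun p => by
    simp only [Pi.lift_π, Category.assoc]
    rw [Category.assoc]

/-- The projections of the cofree diagram. -/
noncomputable abbrev pr (k : SimplexCategory) {m : SimplexCategory} (f : k ⟶ m) :
    (cofree E).obj k ⟶ E m :=
  Pi.π (fun p : Σ m, (k ⟶ m) => E p.1) ⟨m, f⟩

lemma map_pr {k k' : SimplexCategory} (v : k ⟶ k') {m : SimplexCategory} (f : k' ⟶ m) :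
    (cofree E).map v ≫ pr E k' f = pr E k (v ≫ f) :=
  Pi.lift_π _ _

/-- The contraction of the cofree complex. -/
noncomputable def contr (n : ℕ) : (cofree E).obj ⦋n + 1⦌ ⟶ (cofree E).obj ⦋n⦌ :=
  Pi.lift fun p : Σ m, (⦋n⦌ ⟶ m) => pr E ⦋n + 1⦌ (prepend p.2)

lemma contr_pr (n : ℕ) {m : SimplexCategory} (f : ⦋n⦌ ⟶ m) :
    contr E n ≫ pr E ⦋n⦌ f = pr E ⦋n + 1⦌ (prepend f) :=
  Pi.lift_π _ _

lemma contr_spec (n : ℕ) :
    (∑ i : Fin (n + 3), (-1 : ℤ) ^ (i : ℕ) • (cofree E).map (SimplexCategory.δ i)) ≫ contr E (n + 1) +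
      contr E n ≫ (∑ i : Fin (n + 2), (-1 : ℤ) ^ (i : ℕ) • (cofree E).map (SimplexCategory.δ i)) = 𝟙 _ := by
  refine Pi.hom_ext _ _ ?_
  rintro ⟨m, f⟩
  rw [Preadditive.add_comp, Category.assoc, Category.assoc, Category.id_comp]
  rw [show Pi.π (fun p : Σ m, (⦋n + 1⦌ ⟶ m) => E p.1) ⟨m, f⟩ = pr E ⦋n + 1⦌ f from rfl]
  rw [contr_pr, Preadditive.sum_comp, Preadditive.sum_comp, Preadditive.comp_sum]
  simp only [Preadditive.zsmul_comp, Preadditive.comp_zsmul, map_pr, contr_pr]
  rw [Fin.sum_univ_succ (n := n + 2), δ_zero_prepend]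
  simp only [δ_succ_prepend, Fin.val_zero, pow_zero, one_zsmul, Fin.val_succ, pow_succ, mul_neg,
    mul_one, neg_smul, Finset.sum_neg_distrib]
  abel

theorem exactAt_cofree (n : ℕ) :
    ((cx B).obj (cofree E)).ExactAt (n + 1) := by
  rw [HomologicalComplex.exactAt_iff' _ n (n + 1) (n + 2) (by simp) (by simp),
    ShortComplex.exact_iff_exact_up_to_refinements]
  intro A (x : A ⟶ (cofree E).obj ⦋n + 1⦌) (hx : x ≫ ((cx B).obj (cofree E)).d (n + 1) (n + 2) = 0)
  refine ⟨A, 𝟙 A, inferInstance, x ≫ contr E n, ?_⟩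
  show 𝟙 A ≫ x = (x ≫ contr E n) ≫ ((cx B).obj (cofree E)).d n (n + 1)
  rw [d_eq] at hx ⊢
  rw [Category.id_comp]
  have h := x ≫= contr_spec E n
  rw [Preadditive.comp_add, Category.comp_id, ← Category.assoc] at h
  erw [hx] at h
  rw [zero_comp, zero_add] at h
  exact h.symm.trans (Category.assoc _ _ _).symm

variable [EnoughInjectives B]

/-- Embedding of a diagram into a cofree one. -/
noncomputable def toCofree (F : SimplexCategory ⥤ B) : F ⟶ cofree (fun m => Injective.under (F.obj m)) where
  app k := Pi.lift fun p : Σ m, (k ⟶ m) => F.map p.2 ≫ Injective.ι _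
  naturality k k' v := Pi.hom_ext _ _ fun p => by
    simp [cofree]

instance mono_toCofree_app (F : SimplexCategory ⥤ B) (k : SimplexCategory) : Mono ((toCofree F).app k) :=
  ⟨fun {Z} a b e => by
    have := congrArg (· ≫ Pi.π (fun p : Σ m, (k ⟶ m) => Injective.under (F.obj p.1)) ⟨k, 𝟙 k⟩) e
    simp [toCofree] at this
    exact (cancel_mono (Injective.ι (F.obj k))).1 this⟩

theorem isZero_homology_injective (I : SimplexCategory ⥤ B) [Injective I] (n : ℕ) :
    IsZero (((cx B).obj I).homology (n + 1)) := by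
  have : Mono (toCofree I) := NatTrans.mono_of_mono_app _
  let r := Injective.factorThru (𝟙 I) (toCofree I)
  let K := cx B
  rw [IsZero.iff_id_eq_zero, ← HomologicalComplex.homologyMap_id, ← K.map_id,
    ← show toCofree I ≫ r = 𝟙 I from Injective.comp_factorThru _ _, K.map_comp,
    HomologicalComplex.homologyMap_comp,
    ((HomologicalComplex.exactAt_iff_isZero_homology _ _).1 (exactAt_cofree _ n)).eq_of_tgt
      (HomologicalComplex.homologyMap (K.map (toCofree I)) (n + 1)) 0, zero_comp]

end Cofree

/-! ### Degree zero -/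

section Zero

variable [HasLimitsOfShape SimplexCategory B]

lemma δ_zero_one : SimplexCategory.δ (0 : Fin 2) = SimplexCategory.const ⦋0⦌ ⦋1⦌ 1 := SimplexCategory.δ_zero_eq_const

lemma comp_map_const {F : SimplexCategory ⥤ B} {Z : B} (s : Z ⟶ F.obj ⦋0⦌)
    (hs : s ≫ F.map (SimplexCategory.δ (0 : Fin 2)) = s ≫ F.map (SimplexCategory.δ (1 : Fin 2)))
    {k : SimplexCategory} (i : Fin (k.len + 1)) :
    s ≫ F.map (SimplexCategory.const ⦋0⦌ k 0) = s ≫ F.map (SimplexCategory.const ⦋0⦌ k i) := by
  let e : ⦋1⦌ ⟶ k := SimplexCategory.Hom.mk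
    ⟨fun j : Fin 2 => if j = 0 then (0 : Fin (k.len + 1)) else i, fun a b hab => by
      fin_cases a <;> fin_cases b <;> simp at hab ⊢⟩
  have h0 : SimplexCategory.δ (1 : Fin 2) ≫ e = SimplexCategory.const ⦋0⦌ k 0 := by
    apply SimplexCategory.Hom.ext
    ext j
    fin_cases j
    rfl
  have h1 : SimplexCategory.δ (0 : Fin 2) ≫ e = SimplexCategory.const ⦋0⦌ k i := by
    apply SimplexCategory.Hom.ext
    ext j
    fin_cases j
    rfl
  rw [← h0, ← h1, F.map_comp, F.map_comp, ← Category.assoc, ← Category.assoc, hs]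

lemma d_zero (F : SimplexCategory ⥤ B) :
    ((cx B).obj F).d 0 1 =
      F.map (SimplexCategory.δ (0 : Fin 2)) - F.map (SimplexCategory.δ (1 : Fin 2)) := by
  rw [d_eq F 0, Fin.sum_univ_two]
  simp [sub_eq_add_neg]

/-- The limit maps to the zero cycles. -/
noncomputable def limToCycles (F : SimplexCategory ⥤ B) :
    limit F ⟶ ((cx B).obj F).cycles 0 :=
  ((cx B).obj F).liftCycles (limit.π F ⦋0⦌) 1 (by simp) (by
    rw [d_zero, Preadditive.comp_sub, limit.w, limit.w, sub_self])

lemma limToCycles_iCycles (F : SimplexCategory ⥤ B) :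
    limToCycles F ≫ ((cx B).obj F).iCycles 0 = limit.π F ⦋0⦌ :=
  HomologicalComplex.liftCycles_i _ _ _ _ _

theorem isIso_limToCycles (F : SimplexCategory ⥤ B) : IsIso (limToCycles F) := by
  let K := (cx B).obj F
  let s : K.cycles 0 ⟶ F.obj ⦋0⦌ := K.iCycles 0
  have hs : s ≫ F.map (SimplexCategory.δ (0 : Fin 2)) = s ≫ F.map (SimplexCategory.δ (1 : Fin 2)) := by
    rw [← sub_eq_zero, ← Preadditive.comp_sub, ← d_zero]
    exact K.iCycles_d 0 1
  let c : Cone F :=
    { pt := K.cycles 0
      π :=
        { app := fun k => s ≫ F.map (SimplexCategory.const ⦋0⦌ k 0)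
          naturality := fun k k' v => by
            simp only [Functor.const_obj_obj, Functor.const_obj_map, Category.id_comp, Category.assoc]
            rw [← F.map_comp, SimplexCategory.const_comp]
            exact comp_map_const s hs _ } }
  refine ⟨limit.lift F c, limit.hom_ext fun k => ?_, ?_⟩
  · rw [Category.assoc, limit.lift_π, Category.id_comp]
    refine ((Category.assoc _ _ _).symm.trans (congrArg (· ≫ F.map _) (limToCycles_iCycles F))).trans ?_
    exact limit.w F _
  · rw [← cancel_mono (K.iCycles 0), Category.assoc, limToCycles_iCycles, limit.lift_π, Category.id_comp]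
    show s ≫ F.map (SimplexCategory.const ⦋0⦌ ⦋0⦌ 0) = s
    rw [SimplexCategory.const_eq_id, F.map_id, Category.comp_id]

/-- The limit is the zeroth homology of the alternating coface complex. -/
noncomputable def homologyZeroIso :
    cx B ⋙ HomologicalComplex.homologyFunctor B (ComplexShape.up ℕ) 0 ≅
      (lim : (SimplexCategory ⥤ B) ⥤ B) :=
  NatIso.ofComponents (fun F =>
      (CochainComplex.isoHomologyπ₀ ((cx B).obj F)).symm ≪≫
        (@asIso _ _ _ _ (limToCycles F) (isIso_limToCycles F)).symm) (fun {F G} φ => by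
    have hc : lim.map φ ≫ limToCycles G =
        limToCycles F ≫ HomologicalComplex.cyclesMap ((cx B).map φ) 0 := by
      rw [← cancel_mono (((cx B).obj G).iCycles 0), Category.assoc,
        limToCycles_iCycles, Category.assoc, HomologicalComplex.cyclesMap_i, ← Category.assoc,
        limToCycles_iCycles]
      exact limMap_π φ ⦋0⦌
    simp only [Functor.comp_map, HomologicalComplex.homologyFunctor_map, Iso.trans_hom, Iso.symm_hom,
      asIso_inv, Category.assoc]
    rw [CochainComplex.isoHomologyπ₀_inv_naturality_assoc]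
    refine congrArg (_ ≫ ·) ?_
    rw [IsIso.comp_inv_eq, Category.assoc, hc, IsIso.inv_hom_id_assoc])

end Zero

/-! ### Higher degrees -/

section Main

variable [∀ T : Type, HasProductsOfShape T B] [EnoughInjectives B]
  [EnoughInjectives (SimplexCategory ⥤ B)]

instance : (cx B).PreservesZeroMorphisms where
  map_zero X Y := by ext i; simp [cx, alternatingCofaceMapComplex]

theorem shortExact_complex {S : ShortComplex (SimplexCategory ⥤ B)} (hS : S.ShortExact) :
    (S.map (cx B)).ShortExact :=
  HomologicalComplex.shortExact_of_degreewise_shortExact _ fun i =>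
    (hS.map_of_exact ((evaluation SimplexCategory B).obj ⦋i⦌) :)

/-- The homology of the coface complex is presented by the previous degree. -/
noncomputable def cofaceStepPres (q : ℕ) :
    StepPres (cx B ⋙ HomologicalComplex.homologyFunctor B (ComplexShape.up ℕ) q)
      (cx B ⋙ HomologicalComplex.homologyFunctor B (ComplexShape.up ℕ) (q + 1)) where
  d P := (shortExact_complex (effSES_shortExact P)).δ q (q + 1) rfl
  w P := (shortExact_complex (effSES_shortExact P)).comp_δ q (q + 1) rfl
  isColimit P := @ShortComplex.Exact.gIsCokernel _ _ _ _ _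
    ((shortExact_complex (effSES_shortExact P)).homology_exact₃ q (q + 1) rfl)
    (((shortExact_complex (effSES_shortExact P)).homology_exact₁ q (q + 1) rfl).epi_f
      ((isZero_homology_injective (effSES P).X₂ q).eq_of_tgt _ _))
  nat {P P'} φ :=
    (HomologicalComplex.HomologySequence.δ_naturality ((cx B).mapShortComplex.map φ)
      (shortExact_complex (effSES_shortExact P)) (shortExact_complex (effSES_shortExact P')) q (q + 1) rfl).symm

variable [HasLimitsOfShape SimplexCategory B] [(lim : (SimplexCategory ⥤ B) ⥤ B).Additive]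

theorem nonempty_rightDerived_iso (n : ℕ) :
    Nonempty ((lim : (SimplexCategory ⥤ B) ⥤ B).rightDerived n ≅
      cx B ⋙ HomologicalComplex.homologyFunctor B (ComplexShape.up ℕ) n) := by
  induction n with
  | zero => exact ⟨(lim : (SimplexCategory ⥤ B) ⥤ B).rightDerivedZeroIsoSelf ≪≫ homologyZeroIso.symm⟩
  | succ n ih =>
    obtain ⟨e⟩ := ih
    exact nonempty_iso_of_stepPres (derivedStepPres (lim : (SimplexCategory ⥤ B) ⥤ B) n) (cofaceStepPres n) e

end Main

end Groth.Agent.SiteBase.DerivedLimSimplex
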