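import Groth.Agent.SiteBase.SplitResolution
import Groth.Agent.ModTensor.FreeOn
import Groth.Agent.ModTensor.Flat

/-!
# Direct sums of free modules on objects
-/

set_option autoImplicit false
set_option backward.isDefEq.respectTransparency false

universe u

open CategoryTheory CategoryTheory.Limits Opposite

noncomputable section

namespace Groth.Agent.FreeSums

variable {C : Type u} [SmallCategory C] {J : GrothendieckTopology C} (O : Sheaf J CommRingCat.{u})

/-- Isomorphic to a direct sum of free modules on objects. -/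
def IsFreeSum (X : ModSite.Mod O) : Prop :=
  ∃ (ι : Type u) (U : ι → C), Nonempty (X ≅ ∐ fun j => ModSite.freeOn O (U j))

theorem goodClass : SplitResolution.GoodClass (IsFreeSum O) where
  of_iso := fun e ⟨ι, U, ⟨e'⟩⟩ => ⟨ι, U, ⟨e.symm ≪≫ e'⟩⟩
  zero := fun {X} hX => ⟨PEmpty, PEmpty.elim, ⟨hX.iso (by
    rw [IsZero.iff_id_eq_zero]
    exact Sigma.hom_ext _ _ fun j => j.elim)⟩⟩
  biprod := by
    rintro X Y ⟨ι, U, ⟨a⟩⟩ ⟨κ, V, ⟨b⟩⟩
    let W : ι ⊕ κ → C := Sum.elim U V
    let S := ∐ fun k => ModSite.freeOn O (W k)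
    refine ⟨ι ⊕ κ, W, ⟨
      { hom := biprod.desc
          (a.hom ≫ Sigma.desc fun j => Sigma.ι (fun k => ModSite.freeOn O (W k)) (Sum.inl j))
          (b.hom ≫ Sigma.desc fun j => Sigma.ι (fun k => ModSite.freeOn O (W k)) (Sum.inr j))
        inv := Sigma.desc fun k => match k with
          | Sum.inl j => Sigma.ι (fun j => ModSite.freeOn O (U j)) j ≫ a.inv ≫ biprod.inl
          | Sum.inr j => Sigma.ι (fun j => ModSite.freeOn O (V j)) j ≫ b.inv ≫ biprod.inr
        hom_inv_id := ?_
        inv_hom_id := ?_ }⟩⟩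
    · apply biprod.hom_ext'
      · rw [biprod.inl_desc_assoc, Category.comp_id, Category.assoc, ← cancel_epi a.inv, Iso.inv_hom_id_assoc]
        refine Sigma.hom_ext _ _ fun j => ?_
        rw [Sigma.ι_desc_assoc, Sigma.ι_desc]
      · rw [biprod.inr_desc_assoc, Category.comp_id, Category.assoc, ← cancel_epi b.inv, Iso.inv_hom_id_assoc]
        refine Sigma.hom_ext _ _ fun j => ?_
        rw [Sigma.ι_desc_assoc, Sigma.ι_desc]
    · refine Sigma.hom_ext _ _ fun k => ?_
      rw [Sigma.ι_desc_assoc, Category.comp_id]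
      rcases k with j | j
      · simp
      · simp
  enough := fun M => by
    let I := Σ U : C, (ModTensor.secFunctor O U).obj M
    let π : (∐ fun i : I => ModSite.freeOn O i.1) ⟶ M :=
      Sigma.desc fun i => (ModTensor.freeOnCorepr O i.1).homEquiv.symm i.2
    refine ⟨_, π, ⟨I, fun i => i.1, ⟨Iso.refl _⟩⟩, ⟨fun {Z} a b hab => ?_⟩⟩
    refine ModTensor.isSeparating_freeOn (Set.univ : Set C) (fun X => ⟨PUnit.{u + 1}, fun _ => X, fun _ => 𝟙 X, ?_,
      fun _ => trivial⟩) a b ?_
    · refine J.superset_covering ?_ (J.top_mem X)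
      intro V g _
      exact ⟨X, g, 𝟙 X, Presieve.ofArrows.mk PUnit.unit, Category.comp_id g⟩
    · intro G hG f
      obtain ⟨⟨U, hU⟩⟩ := hG
      have e : f = Sigma.ι (fun i : I => ModSite.freeOn O i.1) ⟨U, (ModTensor.freeOnCorepr O U).homEquiv f⟩ ≫ π := by
        rw [Sigma.ι_desc, Equiv.symm_apply_apply]
      rw [e, Category.assoc, Category.assoc, hab]

end Groth.Agent.FreeSums
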