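import Groth.Agent.H9Misc.RestrExt
import Groth.Prelude.Def_AlgSpPerf

/-!
# Maps out of summands of finite free modules lift locally along epimorphisms
-/

universe u

open CategoryTheory CategoryTheory.Limits Opposite

namespace Groth.Agent.SuppCore

variable {C : Type u} [SmallCategory C] {J : GrothendieckTopology C} {O : Sheaf J CommRingCat.{u}}

/-- The global section over `C/W` of a section over `W`. -/
noncomputable def overSection (G : ModSite.Mod O) {W : C} (t : ModSite.sect G W) :
    ((ModSite.restr O W).obj G).sections :=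
  ⟨fun V => res G V.unop.hom t, fun {V V'} f => by
    show res G f.unop.left (res G V.unop.hom t) = res G V'.unop.hom t
    rw [← res_comp, Over.w]⟩

/-- A section over `W` gives a map from the structure sheaf over `C/W`. -/
noncomputable def overUnitHom (G : ModSite.Mod O) {W : C} (t : ModSite.sect G W) :
    ModSite.unit (O.over W) ⟶ (ModSite.restr O W).obj G :=
  ((ModSite.restr O W).obj G).unitHomEquiv.symm (overSection G t)

lemma overUnitHom_comp {G F : ModSite.Mod O} (p : G ⟶ F) {W : C} (t : ModSite.sect G W) :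
    overUnitHom G t ≫ (ModSite.restr O W).map p = overUnitHom F ((p.val.app (op W)).hom t) := by
  refine (SheafOfModules.unitHomEquiv_symm_comp (overSection G t) _).trans (congrArg _ (Subtype.ext (funext fun V => ?_)))
  exact (res_app p V.unop.hom t).symm

/-- A map out of the structure sheaf, restricted to `C/W`. -/
lemma restr_map_unitHom {F : ModSite.Mod O} (φ : ModSite.unit O ⟶ F) (W : C) :
    (ModSite.restr O W).map φ = overUnitHom F ((F.unitHomEquiv φ).val (op W)) := by
  refine ((ModSite.restr O W).obj F).unitHomEquiv.injective (Eq.trans ?_ (Equiv.apply_symm_apply _ _).symm)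
  refine Subtype.ext (funext fun V => ?_)
  exact ((F.unitHomEquiv φ).property V.unop.hom.op).symm

set_option maxHeartbeats 1000000 in
theorem exists_local_lift_free {n : ℕ} {F G : ModSite.Mod O} (p : G ⟶ F) [Epi p]
    (φ : SheafOfModules.free (R := ModSite.ringSh O) (ULift.{u} (Fin n)) ⟶ F) (V : C) :
    ∃ R ∈ J V, ∀ ⦃W : C⦄ (g : W ⟶ V), R g →
      ∃ l : (ModSite.restr O W).obj (SheafOfModules.free (R := ModSite.ringSh O) (ULift.{u} (Fin n))) ⟶
          (ModSite.restr O W).obj G,
        l ≫ (ModSite.restr O W).map p = (ModSite.restr O W).map φ := by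
  classical
  let s : ULift.{u} (Fin n) → ModSite.sect F V := fun k =>
    (F.unitHomEquiv (SheafOfModules.ιFree k ≫ φ)).val (op V)
  choose S hS hlift using fun k => exists_cover_lift p (s k)
  refine ⟨Finset.univ.inf S, ?_, fun W g hg => ?_⟩
  · refine Finset.inf_induction (p := fun R : Sieve V => R ∈ J V) (J.top_mem V)
      (fun a ha b hb => J.intersection_covering ha hb) fun k _ => hS k
  have hk : ∀ k, (S k).arrows g := fun k => by
    have h : Finset.univ.inf S ≤ S k := Finset.inf_le (Finset.mem_univ k)
    first | exact h _ hg | exact h hg | exact h W g hg | exact h g hg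
  choose t ht using fun k => hlift k g (hk k)
  have : PreservesFiniteColimits (ModSite.restr O W) := preservesFiniteColimits_restr W
  let hc := isColimitCofanMkObjOfIsColimit (ModSite.restr O W) _ _
    (SheafOfModules.isColimitFreeCofan (R := ModSite.ringSh O) (ULift.{u} (Fin n)))
  refine ⟨Cofan.IsColimit.desc hc fun k => overUnitHom G (t k), Cofan.IsColimit.hom_ext hc _ _ fun k => ?_⟩
  refine (Category.assoc _ _ _).symm.trans ((congrArg (· ≫ _) (Cofan.IsColimit.fac hc _ k)).trans ?_)
  refine Eq.trans ?_ (Functor.map_comp _ _ _)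
  refine (overUnitHom_comp p (t k)).trans (Eq.trans ?_ (restr_map_unitHom _ W).symm)
  refine congrArg _ ((ht k).trans ?_)
  exact (F.unitHomEquiv (SheafOfModules.ιFree k ≫ φ)).property g.op

theorem exists_local_lift_summand {E F G : ModSite.Mod O}
    (hE : DCoh.IsFinFreeSummandMod (ModSite.ringSh O) E) (p : G ⟶ F) [Epi p] (φ : E ⟶ F) (V : C) :
    ∃ R ∈ J V, ∀ ⦃W : C⦄ (g : W ⟶ V), R g →
      ∃ l : (ModSite.restr O W).obj E ⟶ (ModSite.restr O W).obj G,
        l ≫ (ModSite.restr O W).map p = (ModSite.restr O W).map φ := by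
  obtain ⟨n, i, r, hir⟩ := hE
  obtain ⟨R, hR, h⟩ := exists_local_lift_free p (r ≫ φ) V
  refine ⟨R, hR, fun W g hg => ?_⟩
  obtain ⟨l, hl⟩ := h g hg
  refine ⟨(ModSite.restr O W).map i ≫ l, ?_⟩
  rw [Category.assoc, hl, ← Functor.map_comp, ← Category.assoc, hir, Category.id_comp]

end Groth.Agent.SuppCore
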