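import Groth.Agent.SiteBase.SumGenShift
import Groth.Agent.SiteBase.QcSum
import Groth.Agent.SiteBase.ColimCollection
import Groth.Agent.SiteBase.DLimA.ModData
import Mathlib.CategoryTheory.Limits.Constructions.Filtered
import Mathlib.CategoryTheory.Abelian.GrothendieckCategory.HasExt

/-!
# `j_! O_U` for a collection with finite coverings
-/

set_option autoImplicit false
set_option backward.isDefEq.respectTransparency false
set_option linter.style.haveILetI false

universe u

open CategoryTheory CategoryTheory.Limits Opposite CategoryTheory.Abelian Groth.Agent.SiteBase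

noncomputable section

namespace Groth.Agent.CollectionCompact

variable {C : Type u} [SmallCategory C] {J : GrothendieckTopology C} (O : Sheaf J CommRingCat.{u})

/-- The two free modules on an object agree. -/
def freeOnAtIso (U : C) : ModSite.freeOn O U ≅ (DLimA.freeAt O).obj U :=
  (ModTensor.freeOnCorepr O U).uniqueUpToIso
    ({ homEquiv := fun {M} => ((DLimA.modData O).e U M).toEquiv
       homEquiv_comp := fun {_ _} g f => (DLimA.modData O).e_comp U f g } :
      (ModTensor.secFunctor O U).CorepresentableBy ((DLimA.freeAt O).obj U))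

variable [HasExt.{u} (ModSite.Mod O)]

/-- Ext out of `j_! O_U` is cohomology. -/
theorem subsingleton_ext_iff (U : C) (M : ModSite.Mod O) (k : ℕ) :
    Subsingleton (Ext (ModSite.freeOn O U) M k) ↔
      Subsingleton (Ext (CohCx.freeSheaf J U) (ModSite.toAb M) k) := by
  obtain ⟨e⟩ := nonempty_ext_freeMod_addEquiv (R := ModSite.ringSh O) (hSheaf J U) M k
  refine Iff.trans ?_ (e.toEquiv.subsingleton_congr.trans (hkRepEquiv U (ModSite.toAb M) k).toEquiv.subsingleton_congr)
  let i := freeOnAtIso O U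
  constructor
  · intro h
    exact subsingleton_of_forall_eq 0 fun x => by
      let x' : Ext.{u} ((DLimA.freeAt O).obj U) M k := x
      show x' = 0
      rw [← Ext.mk₀_id_comp x', ← i.inv_hom_id, ← Ext.mk₀_comp_mk₀_assoc,
        @Subsingleton.elim _ h ((Ext.mk₀ i.hom).comp x' (zero_add k)) 0, Ext.comp_zero]
  · intro h
    exact subsingleton_of_forall_eq 0 fun x => by
      rw [← Ext.mk₀_id_comp x, ← i.hom_inv_id, ← Ext.mk₀_comp_mk₀_assoc,
        @Subsingleton.elim (Ext.{u} ((DLimA.freeAt O).obj U) M k) h ((Ext.mk₀ i.inv).comp x (zero_add k)) 0,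
        Ext.comp_zero]

variable [HasPullbacks C] (B : Set C) (Cov : ∀ (U : C) (ι : Type u), (ι → Over U) → Prop)
  (h1 : ∀ (U : C) (ι : Type u) (Y : ι → Over U), Cov U ι Y → Finite ι ∧ U ∈ B ∧
    Sieve.ofArrows (fun i => (Y i).left) (fun i => (Y i).hom) ∈ J U ∧
    ∀ (p : ℕ) (a : Fin (p + 1) → ι), (∏ᶜ fun k => Y (a k)).left ∈ B)
  (h2 : ∀ U ∈ B, ∀ T ∈ J U, ∃ (ι : Type u) (Y : ι → Over U), Cov U ι Y ∧ ∀ i, T.arrows (Y i).hom)

include h1 h2 in
/-- Higher Ext of direct sums of injective modules vanishes. -/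
theorem subsingleton_ext_sigma {ι : Type u} (I : ι → ModSite.Mod O) (hI : ∀ j, Injective (I j)) {U : C} (hU : U ∈ B)
    (n : ℕ) : Subsingleton (Ext (ModSite.freeOn O U) (∐ I) (n + 1)) := by
  haveI := HasFiniteBiproducts.of_hasFiniteProducts (C := ModSite.Mod O)
  rw [subsingleton_ext_iff]
  let F := SheafOfModules.toSheaf (ModSite.ringSh O)
  haveI : PreservesColimitsOfSize.{u, u} F := ModTensor.preservesColimits_toSheaf O
  let L : Finset (Discrete ι) ⥤ ModSite.Mod O := CoproductsFromFiniteFiltered.liftToFinsetObj (Discrete.functor I)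
  let hL := isColimitOfPreserves F (CoproductsFromFiniteFiltered.isColimitFiniteSubproductsCocone I)
  let D : Finset (Discrete ι) ⥤ Sheaf J AddCommGrpCat.{u} := L ⋙ F
  let e : colimit D ≅ F.obj (∐ I) := (colimit.isColimit D).coconePointUniqueUpToIso hL
  refine subsingleton_of_forall_eq 0 fun x => ?_
  obtain ⟨i, y, hy⟩ := (ColimCollection.comm_all (Λ := Finset (Discrete ι)) B Cov h1 h2 hU (n + 1) D).surj
    (x.comp (Ext.mk₀ e.inv) (add_zero (n + 1)))
  haveI : ∀ k : i, Injective ((Discrete.functor I).obj k.1) := fun k => hI _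
  haveI : Injective (L.obj i) :=
    Injective.of_iso (biproduct.isoCoproduct fun k : i => (Discrete.functor I).obj k.1) inferInstance
  have hy0 : y = 0 := @Subsingleton.elim _ ((subsingleton_ext_iff O U (L.obj i) (n + 1)).1
    (Ext.subsingleton_of_injective (ModSite.freeOn O U) (L.obj i) n)) _ _
  have h : (x.comp (Ext.mk₀ e.inv) (add_zero (n + 1))).comp (Ext.mk₀ e.hom) (add_zero (n + 1)) = 0 := by
    rw [← hy, hy0, Ext.zero_comp, Ext.zero_comp]
  rwa [Ext.comp_assoc_of_third_deg_zero, Ext.mk₀_comp_mk₀, Iso.inv_hom_id, Ext.comp_mk₀_id] at h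

include h1 h2 in
theorem sumGen_freeOn {U : C} (hU : U ∈ B) (ι : Type u) :
    CompactDevissage.SumGen ι (ModSite.freeOn O U) := by
  haveI := HasFiniteBiproducts.of_hasFiniteProducts (C := ModSite.Mod O)
  haveI : AB4OfSize.{u} (ModSite.Mod O) := AB4.of_AB5 _
  refine CompactDevissage.sumGen_of_acyclic _ (fun H φ => QcSum.exists_finset_hom' O H U (fun T hT => ?_) φ)
    (fun I hI n => subsingleton_ext_sigma O B Cov h1 h2 I hI hU n)
  obtain ⟨κ, Y, hY, hYT⟩ := h2 U hU T hT
  exact ⟨κ, (h1 U κ Y hY).1, fun i => (Y i).left, fun i => (Y i).hom, hYT, (h1 U κ Y hY).2.2.1⟩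

end Groth.Agent.CollectionCompact
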