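import Groth.Prelude.Def_ModSite
import Groth.Prelude.Def_AlgSpPerf
import Mathlib.CategoryTheory.Idempotents.Basic
import Mathlib.RingTheory.Finiteness.Projective
import Mathlib.LinearAlgebra.Finsupp.Pi
import Mathlib.CategoryTheory.Preadditive.Biproducts

/-!
# Sections over a terminal object of summands of finite free modules
-/

universe u

open CategoryTheory CategoryTheory.Limits Opposite

namespace Groth.Agent.SiteBase

variable {C : Type u} [SmallCategory C] {J : GrothendieckTopology C} {O : Sheaf J CommRingCat.{u}}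
  {X : C} (hX : IsTerminal X)

/-- The global section of a section over a terminal object. -/
noncomputable def termSection (M : ModSite.Mod O) (x : M.val.obj (op X)) : M.sections :=
  ⟨fun V => M.val.presheaf.map (hX.from V.unop).op x, fun {V W} g => by
    have e : (hX.from V.unop).op ≫ g = (hX.from W.unop).op := Quiver.Hom.unop_inj (hX.hom_ext _ _)
    show M.val.presheaf.map g (M.val.presheaf.map (hX.from V.unop).op x) = _
    rw [← ConcreteCategory.comp_apply, ← M.val.presheaf.map_comp, e]⟩

lemma termSection_val (M : ModSite.Mod O) (x : M.val.obj (op X)) : (termSection hX M x).val (op X) = x := by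
  show M.val.presheaf.map (hX.from X).op x = x
  rw [hX.hom_ext (hX.from X) (𝟙 X), op_id, M.val.presheaf.map_id]
  rfl

lemma sections_eq_of_val {M : ModSite.Mod O} (hX : IsTerminal X) {s t : M.sections}
    (h : s.val (op X) = t.val (op X)) : s = t := by
  refine Subtype.ext (funext fun V => ?_)
  rw [← s.2 (hX.from V.unop).op, ← t.2 (hX.from V.unop).op]
  exact congrArg _ h

variable (X) (O) in
/-- The basic sections of a finite free module. -/
noncomputable abbrev basicSec (n : ℕ) (k : ULift.{u} (Fin n)) :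
    (SheafOfModules.free (R := ModSite.ringSh O) (ULift.{u} (Fin n))).val.obj (op X) :=
  (SheafOfModules.freeSection (R := ModSite.ringSh O) k).val (op X)

lemma free_hom_ext_term {n : ℕ} {M : ModSite.Mod O} (hX : IsTerminal X)
    {φ ψ : SheafOfModules.free (R := ModSite.ringSh O) (ULift.{u} (Fin n)) ⟶ M}
    (h : ∀ k, (φ.val.app (op X)).hom (basicSec O X n k) = (ψ.val.app (op X)).hom (basicSec O X n k)) : φ = ψ :=
  M.freeHomEquiv.injective (funext fun k => sections_eq_of_val hX (h k))

variable {n : ℕ}

/-- The coordinates of a finite free module. -/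
noncomputable def coordHom (k : ULift.{u} (Fin n)) :
    SheafOfModules.free (R := ModSite.ringSh O) (ULift.{u} (Fin n)) ⟶ ModSite.unit O :=
  (ModSite.unit O).freeHomEquiv.symm fun j => (ModSite.unit O).unitHomEquiv (if j = k then 𝟙 _ else 0)

lemma ιFree_coordHom (j k : ULift.{u} (Fin n)) :
    SheafOfModules.ιFree (R := ModSite.ringSh O) j ≫ coordHom k = if j = k then 𝟙 _ else 0 := by
  rw [← SheafOfModules.unitHomEquiv_symm_freeHomEquiv_apply]
  unfold coordHom
  rw [Equiv.apply_symm_apply, Equiv.symm_apply_apply]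

lemma sum_coordHom : ∑ k, coordHom (O := O) k ≫ SheafOfModules.ιFree k =
    𝟙 (SheafOfModules.free (R := ModSite.ringSh O) (ULift.{u} (Fin n))) := by
  refine Cofan.IsColimit.hom_ext (SheafOfModules.isColimitFreeCofan _) _ _ fun j => ?_
  show SheafOfModules.ιFree j ≫ _ = SheafOfModules.ιFree j ≫ 𝟙 _
  rw [Preadditive.comp_sum, Category.comp_id]
  refine (Finset.sum_eq_single j (fun k _ hk => ?_) fun h => absurd (Finset.mem_univ _) h).trans ?_
  · rw [← Category.assoc, ιFree_coordHom, if_neg (Ne.symm hk), zero_comp]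
  · rw [← Category.assoc, ιFree_coordHom, if_pos rfl, Category.id_comp]

lemma eq_sum_basicSec (X : C) (z : (SheafOfModules.free (R := ModSite.ringSh O) (ULift.{u} (Fin n))).val.obj (op X)) :
    z = ∑ k, (show (ModSite.ringSh O).obj.obj (op X) from ((coordHom k).val.app (op X)).hom z) • basicSec O X n k := by
  let E := SheafOfModules.forget (ModSite.ringSh O) ⋙ PresheafOfModules.evaluation _ (op X)
  have : E.Additive := inferInstance
  have h := congrArg (fun t => (E.map t).hom z) (sum_coordHom (O := O) (n := n))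
  simp only [E.map_sum] at h
  refine Eq.trans ?_ ((Eq.symm h).trans ?_).symm.symm
  · simp
  · rw [ModuleCat.hom_sum, LinearMap.sum_apply]
    refine Finset.sum_congr rfl fun k _ => ?_
    show ((SheafOfModules.ιFree k).val.app (op X)).hom (((coordHom k).val.app (op X)).hom z) = _
    have h1 : basicSec O X n k = ((SheafOfModules.ιFree (R := ModSite.ringSh O) k).val.app (op X)).hom
        (1 : (ModSite.ringSh O).obj.obj (op X)) := by
      show ((SheafOfModules.free (ULift.{u} (Fin n))).unitHomEquiv (SheafOfModules.ιFree k ≫ 𝟙 _)).val (op X) = _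
      rw [Category.comp_id]
      rfl
    rw [h1, ← map_smul]
    exact congrArg _ (mul_one (M := (ModSite.ringSh O).obj.obj (op X)) _).symm

lemma linear_ext_basic {N : Type u} [AddCommGroup N] [Module ((ModSite.ringSh O).obj.obj (op X)) N]
    {α β : (SheafOfModules.free (R := ModSite.ringSh O) (ULift.{u} (Fin n))).val.obj (op X) →ₗ[(ModSite.ringSh O).obj.obj (op X)] N}
    (h : ∀ k, α (basicSec O X n k) = β (basicSec O X n k)) : α = β := by
  refine LinearMap.ext fun z => ?_
  rw [eq_sum_basicSec X z, map_sum, map_sum]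
  exact Finset.sum_congr rfl fun k _ => by rw [map_smul, map_smul, h k]

include hX in
theorem exists_free_hom {M : ModSite.Mod O}
    (ψ : (SheafOfModules.free (R := ModSite.ringSh O) (ULift.{u} (Fin n))).val.obj (op X) ⟶ M.val.obj (op X)) :
    ∃ φ : SheafOfModules.free (R := ModSite.ringSh O) (ULift.{u} (Fin n)) ⟶ M, φ.val.app (op X) = ψ := by
  refine ⟨M.freeHomEquiv.symm fun k => termSection hX M (ψ.hom (basicSec O X n k)), ?_⟩
  refine ModuleCat.hom_ext (linear_ext_basic fun k => ?_)
  have := SheafOfModules.sectionsMap_freeHomEquiv_symm_freeSection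
    (fun k => termSection hX M (ψ.hom (basicSec O X n k))) k
  exact (congrArg (fun s : M.sections => s.val (op X)) this).trans (termSection_val hX M _)

include hX in
theorem bijective_app {E E' : ModSite.Mod O} (hE : DCoh.IsFinFreeSummandMod (ModSite.ringSh O) E) :
    Function.Bijective (fun φ : E ⟶ E' => φ.val.app (op X)) := by
  obtain ⟨n, i, p, hip⟩ := hE
  have : IsSplitEpi p := ⟨⟨⟨i, hip⟩⟩⟩
  refine ⟨fun φ φ' h => ?_, fun ψ => ?_⟩
  · refine (cancel_epi p).1 (free_hom_ext_term hX fun k => ?_)
    exact congrArg (fun t => t.hom ((p.val.app (op X)).hom (basicSec O X n k))) h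
  · obtain ⟨Φ, hΦ⟩ := exists_free_hom hX (p.val.app (op X) ≫ ψ)
    refine ⟨i ≫ Φ, ?_⟩
    show i.val.app (op X) ≫ Φ.val.app (op X) = ψ
    rw [hΦ, ← Category.assoc]
    have e : i.val.app (op X) ≫ p.val.app (op X) = 𝟙 _ := congrArg (fun t => t.val.app (op X)) hip
    rw [e, Category.id_comp]

/-- Linear maps from coordinates. -/
noncomputable def fromCoords (n : ℕ) (X : C) :
    (ULift.{u} (Fin n) → (ModSite.ringSh O).obj.obj (op X)) →ₗ[(ModSite.ringSh O).obj.obj (op X)]
      (SheafOfModules.free (R := ModSite.ringSh O) (ULift.{u} (Fin n))).val.obj (op X) :=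
  ∑ k, (LinearMap.proj k).smulRight (basicSec O X n k)

/-- Coordinates. -/
noncomputable def toCoords (n : ℕ) (X : C) :
    (SheafOfModules.free (R := ModSite.ringSh O) (ULift.{u} (Fin n))).val.obj (op X) →ₗ[(ModSite.ringSh O).obj.obj (op X)]
      (ULift.{u} (Fin n) → (ModSite.ringSh O).obj.obj (op X)) :=
  LinearMap.pi fun k => ((coordHom k).val.app (op X)).hom

lemma fromCoords_toCoords (n : ℕ) (X : C) (z) : fromCoords (O := O) n X (toCoords n X z) = z := by
  simp only [fromCoords, LinearMap.sum_apply, LinearMap.smulRight_apply, LinearMap.proj_apply]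
  exact (eq_sum_basicSec X z).symm

lemma toCoords_basicSec (n : ℕ) (X : C) (k : ULift.{u} (Fin n)) :
    toCoords (O := O) n X (basicSec O X n k) = Pi.single k 1 := by
  refine funext fun j => ?_
  show ((SheafOfModules.ιFree k ≫ 𝟙 _) ≫ coordHom j).val.app (op X) (1 : (ModSite.ringSh O).obj.obj (op X)) = _
  rw [Category.comp_id, ιFree_coordHom]
  by_cases h : k = j
  · subst h
    rw [if_pos rfl, Pi.single_eq_same]
    rfl
  · rw [if_neg h, Pi.single_eq_of_ne (Ne.symm h)]
    rfl

omit hX in
theorem finite_projective_sections {E : ModSite.Mod O} (hE : DCoh.IsFinFreeSummandMod (ModSite.ringSh O) E) :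
    Module.Finite ((ModSite.ringSh O).obj.obj (op X)) (E.val.obj (op X)) ∧
      Module.Projective ((ModSite.ringSh O).obj.obj (op X)) (E.val.obj (op X)) := by
  obtain ⟨n, i, p, hip⟩ := hE
  have e : ∀ z, (p.val.app (op X)).hom ((i.val.app (op X)).hom z) = z := fun z =>
    congrArg (fun t : E ⟶ E => (t.val.app (op X)).hom z) hip
  let s := (toCoords (O := O) n X).comp (i.val.app (op X)).hom
  let q := (p.val.app (op X)).hom.comp (fromCoords (O := O) n X)
  have hqs : q.comp s = LinearMap.id := LinearMap.ext fun z => by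
    show (p.val.app (op X)).hom (fromCoords n X (toCoords n X ((i.val.app (op X)).hom z))) = z
    rw [fromCoords_toCoords, e]
  exact ⟨Module.Finite.of_surjective q fun z => ⟨s z, LinearMap.congr_fun hqs z⟩,
    Module.Projective.of_split s q hqs⟩

include hX in
theorem exists_summand (M : ModuleCat.{u} ((ModSite.ringSh O).obj.obj (op X)))
    (hfin : Module.Finite ((ModSite.ringSh O).obj.obj (op X)) M)
    (hproj : Module.Projective ((ModSite.ringSh O).obj.obj (op X)) M) :
    ∃ E : ModSite.Mod O, DCoh.IsFinFreeSummandMod (ModSite.ringSh O) E ∧ Nonempty (E.val.obj (op X) ≅ M) := by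
  obtain ⟨n, q₀, hq₀⟩ := Module.Finite.exists_fin' ((ModSite.ringSh O).obj.obj (op X)) M
  obtain ⟨s₀, hs₀⟩ := Module.projective_lifting_property q₀ LinearMap.id hq₀
  let r := LinearEquiv.funCongrLeft ((ModSite.ringSh O).obj.obj (op X)) ((ModSite.ringSh O).obj.obj (op X))
    (Equiv.ulift.{u} (α := Fin n))
  let q : (SheafOfModules.free (R := ModSite.ringSh O) (ULift.{u} (Fin n))).val.obj (op X) →ₗ[_] M :=
    (q₀.comp r.symm.toLinearMap).comp (toCoords n X)
  let s : M →ₗ[_] (SheafOfModules.free (R := ModSite.ringSh O) (ULift.{u} (Fin n))).val.obj (op X) :=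
    (fromCoords n X).comp (r.toLinearMap.comp s₀)
  have hct : ∀ v, toCoords (O := O) n X (fromCoords n X v) = v := fun v => by
    conv_rhs => rw [← Finset.univ_sum_single v]
    simp only [fromCoords, LinearMap.sum_apply, LinearMap.smulRight_apply, LinearMap.proj_apply, map_sum, map_smul,
      toCoords_basicSec]
    exact Finset.sum_congr rfl fun k _ => by rw [← Pi.single_smul', smul_eq_mul, mul_one]
  have hqs : ∀ m, q (s m) = m := fun m => by
    show q₀ (r.symm (toCoords n X (fromCoords n X (r (s₀ m))))) = m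
    rw [hct, LinearEquiv.symm_apply_apply]
    exact LinearMap.congr_fun hs₀ m
  obtain ⟨Φ, hΦ⟩ := exists_free_hom hX (M := SheafOfModules.free (ULift.{u} (Fin n))) (ModuleCat.ofHom (s.comp q))
  have hΦ' : ∀ z, (Φ.val.app (op X)).hom z = s (q z) := fun z => congrArg (fun t => t.hom z) hΦ
  have hidem : Φ ≫ Φ = Φ := free_hom_ext_term hX fun k => by
    show (Φ.val.app (op X)).hom ((Φ.val.app (op X)).hom _) = _
    rw [hΦ', hΦ', hqs]
  obtain ⟨E, i, p, hip, hpi⟩ := IsIdempotentComplete.idempotents_split _ Φ hidem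
  refine ⟨E, ⟨n, i, p, hip⟩, ⟨LinearEquiv.toModuleIso
    (LinearEquiv.ofLinearMap (q.comp (i.val.app (op X)).hom) ((p.val.app (op X)).hom.comp s) ?_ ?_)⟩⟩
  · refine LinearMap.ext fun m => ?_
    have e : (i.val.app (op X)).hom ((p.val.app (op X)).hom (s m)) = s (q (s m)) :=
      (congrArg (fun t : SheafOfModules.free (R := ModSite.ringSh O) (ULift.{u} (Fin n)) ⟶ _ => (t.val.app (op X)).hom (s m)) hpi).trans
        (hΦ' _)
    show q ((i.val.app (op X)).hom ((p.val.app (op X)).hom (s m))) = m
    rw [e, hqs, hqs]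
  · refine LinearMap.ext fun z => ?_
    show (p.val.app (op X)).hom (s (q ((i.val.app (op X)).hom z))) = z
    rw [← hΦ', ← hpi]
    show ((i ≫ p) ≫ (i ≫ p)).val.app (op X) z = z
    rw [hip, Category.id_comp]
    rfl

end Groth.Agent.SiteBase
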