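import Groth.Agent.SiteBase.SerreCorefl
import Groth.Agent.SiteBase.Sections
import Groth.Agent.TriCat.KInjCriterion
import Groth.Agent.SiteBase.DLim.Rlim
import Groth.Prelude.Def_SiteCmp
import Mathlib.Algebra.FreeAbelianGroup.Finsupp
import Mathlib.GroupTheory.OrderOfElement

/-!
# Torsion abelian sheaves
-/

set_option autoImplicit false
set_option synthInstance.maxSize 2048
set_option synthInstance.maxHeartbeats 200000

universe u

open CategoryTheory CategoryTheory.Limits Opposite

namespace Groth.Agent.SiteBase.TorsionSh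

variable {C : Type u} [SmallCategory C] (J : GrothendieckTopology C)

/-- Sections locally killed by a positive integer. -/
def torsSec (F : Sheaf J AddCommGrpCat.{u}) (U : Cᵒᵖ) : AddSubgroup (F.obj.obj U) where
  carrier := {s | ∃ S ∈ J U.unop, ∀ ⦃V : C⦄ (g : V ⟶ U.unop), S g →
    IsOfFinAddOrder ((F.obj.map g.op).hom s)}
  zero_mem' := ⟨⊤, J.top_mem _, fun V g _ => by rw [map_zero]; exact IsOfFinAddOrder.zero⟩
  add_mem' := by
    rintro s t ⟨S, hS, hs⟩ ⟨T, hT, ht⟩
    exact ⟨S ⊓ T, J.intersection_covering hS hT, fun V g hg => by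
      rw [map_add]; exact (hs g hg.1).add (ht g hg.2)⟩
  neg_mem' := by
    rintro s ⟨S, hS, hs⟩
    exact ⟨S, hS, fun V g hg => by rw [map_neg]; exact (hs g hg).neg⟩

variable {J}

lemma torsSec_map (F : Sheaf J AddCommGrpCat.{u}) {U V : Cᵒᵖ} (i : U ⟶ V) {s : F.obj.obj U}
    (hs : s ∈ torsSec J F U) : (F.obj.map i).hom s ∈ torsSec J F V := by
  obtain ⟨S, hS, h⟩ := hs
  refine ⟨S.pullback i.unop, J.pullback_stable _ hS, fun W g hg => ?_⟩
  have e : (F.obj.map g.op).hom ((F.obj.map i).hom s) = (F.obj.map (g ≫ i.unop).op).hom s := by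
    rw [op_comp, Functor.map_comp]
    rfl
  rw [e]
  exact h _ hg

lemma torsSec_hom {F G : Sheaf J AddCommGrpCat.{u}} (φ : F ⟶ G) {U : Cᵒᵖ} {s : F.obj.obj U}
    (hs : s ∈ torsSec J F U) : (φ.hom.app U).hom s ∈ torsSec J G U := by
  obtain ⟨S, hS, h⟩ := hs
  refine ⟨S, hS, fun W g hg => ?_⟩
  rw [show (G.obj.map g.op).hom ((φ.hom.app U).hom s) = (φ.hom.app (op W)).hom ((F.obj.map g.op).hom s)
    from (ConcreteCategory.congr_hom (φ.hom.naturality g.op) s).symm]
  exact AddMonoidHom.isOfFinAddOrder (φ.hom.app (op W)).hom (h g hg)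

/-- The presheaf of torsion sections. -/
noncomputable def torsPre (F : Sheaf J AddCommGrpCat.{u}) : Cᵒᵖ ⥤ AddCommGrpCat.{u} where
  obj U := AddCommGrpCat.of (torsSec J F U)
  map i := AddCommGrpCat.ofHom
    { toFun := fun s => ⟨(F.obj.map i).hom s.1, torsSec_map F i s.2⟩
      map_zero' := Subtype.ext (map_zero _)
      map_add' := fun s t => Subtype.ext (map_add _ _ _) }
  map_id U := by
    ext s
    show (F.obj.map (𝟙 U)).hom s.1 = s.1
    rw [CategoryTheory.Functor.map_id]
    rfl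
  map_comp i k := by
    ext s
    show (F.obj.map (i ≫ k)).hom s.1 = (F.obj.map k).hom ((F.obj.map i).hom s.1)
    rw [Functor.map_comp]
    rfl

lemma isSheaf_torsPre (F : Sheaf J AddCommGrpCat.{u}) : Presheaf.IsSheaf J (torsPre F) := by
  have hF := ((isSheaf_iff_isSheaf_of_type J _).1
    ((Presheaf.isSheaf_iff_isSheaf_forget J F.obj (forget AddCommGrpCat.{u})).1 F.2))
  refine (Presheaf.isSheaf_iff_isSheaf_forget J _ (forget AddCommGrpCat.{u})).2
    ((isSheaf_iff_isSheaf_of_type J _).2 fun U R hR x hx => ?_)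
  let y : Presieve.FamilyOfElements (F.obj ⋙ forget AddCommGrpCat.{u}) R.arrows :=
    fun V f hf => (show ↥(torsSec J F (op V)) from x f hf).1
  have hy : y.Compatible := fun Y₁ Y₂ Z g₁ g₂ f₁ f₂ h₁ h₂ e => congrArg Subtype.val (hx g₁ g₂ h₁ h₂ e)
  obtain ⟨s, hs, huniq⟩ := hF R hR y hy
  have ht : s ∈ torsSec J F (op U) := by
    have hloc : ∀ (V : C) (f : V ⟶ U) (hf : R f), ∃ S ∈ J V, ∀ ⦃W : C⦄ (g : W ⟶ V), S g →
        IsOfFinAddOrder ((F.obj.map g.op).hom (y f hf)) := fun V f hf => (x f hf).2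
    choose S hS hfin using hloc
    refine ⟨_, J.bind_covering hR fun V f hf => hS V f hf, ?_⟩
    rintro W _ ⟨V, g, f, hf, hg, rfl⟩
    have e : (F.obj.map (g ≫ f).op).hom s = (F.obj.map g.op).hom (y f hf) := by
      rw [← hs f hf, op_comp, Functor.map_comp]
      rfl
    rw [e]
    exact hfin V f hf g hg
  refine ⟨⟨s, ht⟩, fun V f hf => Subtype.ext (hs f hf), fun z hz => Subtype.ext (huniq _ ?_)⟩
  exact fun V f hf => congrArg Subtype.val (hz f hf)

/-- The torsion subsheaf. -/
noncomputable def tors (F : Sheaf J AddCommGrpCat.{u}) : Sheaf J AddCommGrpCat.{u} :=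
  ⟨torsPre F, isSheaf_torsPre F⟩

lemma isTorsion_tors (F : Sheaf J AddCommGrpCat.{u}) : SiteCmp.torsionSh J (tors F) := fun U s => by
  obtain ⟨S, hS, h⟩ := (show ↥(torsSec J F (op U)) from s).2
  refine ⟨S, hS, fun V g hg => ?_⟩
  obtain ⟨n, hn, e⟩ := isOfFinAddOrder_iff_nsmul_eq_zero.1 (h g hg)
  exact isOfFinAddOrder_iff_nsmul_eq_zero.2 ⟨n, hn, Subtype.ext e⟩

/-- The inclusion of the torsion subsheaf. -/
noncomputable def incl (F : Sheaf J AddCommGrpCat.{u}) : tors F ⟶ F :=
  ⟨{ app := fun U => AddCommGrpCat.ofHom (torsSec J F U).subtype }⟩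

/-- Restriction to torsion sections. -/
noncomputable def restrict {T F : Sheaf J AddCommGrpCat.{u}} (hT : SiteCmp.torsionSh J T) (φ : T ⟶ F) :
    T ⟶ tors F :=
  ⟨{ app := fun U => AddCommGrpCat.ofHom
      { toFun := fun s => ⟨(φ.hom.app U).hom s, torsSec_hom φ (hT U.unop s)⟩
        map_zero' := Subtype.ext (map_zero _)
        map_add' := fun s t => Subtype.ext (map_add _ _ _) }
     naturality := fun U V i => by
      ext s
      exact Subtype.ext (ConcreteCategory.congr_hom (φ.hom.naturality i) s) }⟩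

lemma restrict_incl {T F : Sheaf J AddCommGrpCat.{u}} (hT : SiteCmp.torsionSh J T) (φ : T ⟶ F) :
    restrict hT φ ≫ incl F = φ := rfl

instance mono_incl (F : Sheaf J AddCommGrpCat.{u}) : Mono (incl F) := by
  refine ⟨fun {Z} a b e => CategoryTheory.Sheaf.hom_ext (NatTrans.ext (funext fun U => ?_))⟩
  ext s
  exact Subtype.ext (congrArg (fun q => (q.hom.app U).hom s) e)

variable (J) in
/-- The torsion part. -/
noncomputable def torsFunctor : Sheaf J AddCommGrpCat.{u} ⥤ (SiteCmp.torsionSh J).FullSubcategory where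
  obj F := ⟨tors F, isTorsion_tors F⟩
  map {F G} φ := ObjectProperty.homMk (restrict (isTorsion_tors F) (incl F ≫ φ))
  map_id F := ObjectProperty.hom_ext _ ((cancel_mono (incl F)).1
    ((restrict_incl (isTorsion_tors F) (incl F ≫ 𝟙 F)).trans ((Category.comp_id _).trans (Category.id_comp _).symm)))
  map_comp {F G H} φ ψ := ObjectProperty.hom_ext _ ((cancel_mono (incl H)).1 rfl)

variable (J) in
/-- Torsion sheaves are coreflective. -/
noncomputable def torsAdj : (SiteCmp.torsionSh J).ι ⊣ torsFunctor J :=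
  Adjunction.mkOfHomEquiv
    { homEquiv := fun T F =>
        { toFun := fun φ => ObjectProperty.homMk (restrict T.property φ)
          invFun := fun ψ => ψ.hom ≫ incl F
          left_inv := fun φ => restrict_incl T.property φ
          right_inv := fun ψ => ObjectProperty.hom_ext _ ((cancel_mono (incl F)).1 rfl) }
      homEquiv_naturality_left_symm := fun {T' T F} f g => by
        show (f ≫ g).hom ≫ incl F = f.hom ≫ g.hom ≫ incl F
        exact Category.assoc f.hom g.hom (incl F)
      homEquiv_naturality_right := fun {T F F'} f g =>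
        ObjectProperty.hom_ext _ ((cancel_mono (incl F')).1 rfl) }

instance torsFunctor_additive : (torsFunctor J).Additive where
  map_add {F G a b} := ObjectProperty.hom_ext _ (CategoryTheory.Sheaf.hom_ext (NatTrans.ext (funext fun U => by
    ext s
    exact Subtype.ext rfl)))

lemma counit_app (F : Sheaf J AddCommGrpCat.{u}) : (torsAdj J).counit.app F = incl F :=
  Category.id_comp (incl F)

lemma nsmul_injective_free {X : Type u} (n : ℕ) (hn : n ≠ 0) :
    Function.Injective (fun x : FreeAbelianGroup X => n • x) := fun x y e => by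
  apply (FreeAbelianGroup.equivFinsupp X).injective
  have e' := congrArg (FreeAbelianGroup.equivFinsupp X) e
  simp only [map_nsmul] at e'
  exact nsmul_right_injective hn e'

/-- Sections of injective sheaves are divisible. -/
lemma exists_nsmul_eq {I : Sheaf J AddCommGrpCat.{u}} [Injective I] (n : ℕ) (hn : n ≠ 0) (U : C)
    (s : I.obj.obj (op U)) : ∃ t : I.obj.obj (op U), n • t = s := by
  let P := yoneda.obj U ⋙ AddCommGrpCat.free.{u}
  have : Mono (n • 𝟙 P : P ⟶ P) := by
    have : ∀ W, Mono ((n • 𝟙 P : P ⟶ P).app W) := fun W => by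
      exact ConcreteCategory.mono_of_injective _ fun x y e => nsmul_injective_free n hn e
    exact NatTrans.mono_of_mono_app _
  have : Mono (n • 𝟙 (CohCx.freeSheaf J U)) := by
    have e : (presheafToSheaf J AddCommGrpCat.{u}).map (n • 𝟙 P) = n • 𝟙 (CohCx.freeSheaf J U) := by
      rw [Functor.map_nsmul, CategoryTheory.Functor.map_id]
    rw [← e]
    infer_instance
  let φ := (secEquiv J U I).symm s
  refine ⟨secEquiv J U I (Injective.factorThru φ (n • 𝟙 _)), ?_⟩
  have e := Injective.comp_factorThru φ (n • 𝟙 (CohCx.freeSheaf J U))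
  rw [Preadditive.nsmul_comp, Category.id_comp] at e
  rw [← map_nsmul, e, AddEquiv.apply_symm_apply]

lemma nsmul_app {F : Sheaf J AddCommGrpCat.{u}} (n : ℕ) (U : Cᵒᵖ) (s : F.obj.obj U) :
    ((n • 𝟙 F : F ⟶ F).hom.app U).hom s = n • s := rfl

lemma exact_sections {S : ShortComplex (Sheaf J AddCommGrpCat.{u})} (hS : S.ShortExact) (U : C)
    (x : S.X₂.obj.obj (op U)) (hx : (S.g.hom.app (op U)).hom x = 0) :
    ∃ a, (S.f.hom.app (op U)).hom a = x := by
  have := hS.mono_f
  let φ := (secEquiv J U S.X₂).symm x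
  have h0 : φ ≫ S.g = 0 := (secEquiv J U S.X₃).injective (by
    rw [secEquiv_comp, AddEquiv.apply_symm_apply, hx, map_zero])
  refine ⟨secEquiv J U S.X₁ (hS.exact.lift φ h0), ?_⟩
  rw [← secEquiv_comp, hS.exact.lift_f, AddEquiv.apply_symm_apply]

/-- The quotient of an injective sheaf by its torsion is uniquely divisible. -/
lemma isIso_nsmul {S : ShortComplex (Sheaf J AddCommGrpCat.{u})} (hS : S.ShortExact) [Injective S.X₂]
    (hT : SiteCmp.torsionSh J S.X₁) (hsat : ∀ (U : C) (x : S.X₂.obj.obj (op U)), x ∈ torsSec J S.X₂ (op U) →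
      ∃ a, (S.f.hom.app (op U)).hom a = x)
    (n : ℕ) (hn : n ≠ 0) : IsIso (n • 𝟙 S.X₃) := by
  have := hS.epi_g
  have : Sheaf.IsLocallySurjective S.g := (Sheaf.isLocallySurjective_iff_epi' _ S.g).2 inferInstance
  have key : ∀ (U : C) (s : S.X₃.obj.obj (op U)), n • s = 0 → s = 0 := by
    intro U s hs
    refine DLim.sections_separated _ (Presheaf.imageSieve_mem J S.g.hom (U := op U) s) s 0
      fun V f ⟨x, (hx : (S.g.hom.app (op V)).hom x = (S.X₃.obj.map f.op).hom s)⟩ => ?_
    have h0 : (S.g.hom.app (op V)).hom (n • x) = 0 := by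
      rw [map_nsmul, hx, ← map_nsmul, hs, map_zero]
    obtain ⟨a, ha⟩ := exact_sections hS V _ h0
    obtain ⟨b, hb⟩ := hsat V x (by
      have hmem : n • x ∈ torsSec J S.X₂ (op V) := by
        rw [← ha]
        exact torsSec_hom S.f (hT V a)
      obtain ⟨R, hR, h⟩ := hmem
      refine ⟨R, hR, fun W g hg => ?_⟩
      have := h g hg
      rw [map_nsmul] at this
      exact IsOfFinAddOrder.of_nsmul this hn)
    rw [← hx, ← hb, map_zero]
    exact congrArg (fun q => (q.hom.app (op V)).hom b) S.zero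
  have hm : Mono (n • 𝟙 S.X₃) := by
    refine Preadditive.mono_of_cancel_zero _ fun {Z} φ hφ => ?_
    rw [Preadditive.comp_nsmul, Category.comp_id] at hφ
    refine CategoryTheory.Sheaf.hom_ext (NatTrans.ext (funext fun U => ?_))
    ext x
    exact key U.unop _ (congrArg (fun q => (q.hom.app U).hom x) hφ)
  have hI : Epi (n • 𝟙 S.X₂) := (Sheaf.isLocallySurjective_iff_epi' _ _).1 ⟨fun {U} s => by
    refine J.superset_covering (fun V f _ => ?_) (J.top_mem U)
    obtain ⟨t, ht⟩ := exists_nsmul_eq n hn V ((S.X₂.obj.map f.op).hom s)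
    exact ⟨t, ht⟩⟩
  have he : Epi (n • 𝟙 S.X₃) := by
    have e : (n • 𝟙 S.X₂) ≫ S.g = S.g ≫ (n • 𝟙 S.X₃) := by
      rw [Preadditive.nsmul_comp, Preadditive.comp_nsmul, Category.id_comp, Category.comp_id]
    have : Epi (S.g ≫ (n • 𝟙 S.X₃)) := e ▸ epi_comp _ _
    exact epi_of_epi S.g _
  exact isIso_of_mono_of_epi _

lemma isZero_of_isIso_nsmul {F : Sheaf J AddCommGrpCat.{u}} (hF : SiteCmp.torsionSh J F)
    (h : ∀ n : ℕ, n ≠ 0 → IsIso (n • 𝟙 F)) : IsZero F := by
  refine (IsZero.iff_id_eq_zero F).2 (CategoryTheory.Sheaf.hom_ext (NatTrans.ext (funext fun U => ?_)))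
  ext s
  show s = 0
  obtain ⟨S, hS, hs⟩ := hF U.unop s
  refine DLim.sections_separated F hS s 0 fun V g hg => ?_
  rw [map_zero]
  obtain ⟨n, hn, e⟩ := isOfFinAddOrder_iff_nsmul_eq_zero.1 (hs g hg)
  have := h n (by omega)
  exact (DLim.sections_bijective_of_isIso (n • 𝟙 F) V).1 (e.trans (map_zero _).symm)

lemma quasiIso_counit [(SiteCmp.torsionSh J).IsSerreClass]
    (I : CochainComplex (Sheaf J AddCommGrpCat.{u}) ℤ) (hI : ∀ n, Injective (I.X n))
    (hH : ∀ n, SiteCmp.torsionSh J (I.homology n)) :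
    QuasiIso (SerreCorefl.counitCx (torsAdj J) I) := by
  let c := SerreCorefl.counitCx (torsAdj J) I
  have : ∀ n, Mono (c.f n) := fun n => by
    show Mono ((torsAdj J).counit.app (I.X n))
    rw [counit_app]
    exact mono_incl _
  have : Mono c := HomologicalComplex.mono_of_mono_f c inferInstance
  let S := ShortComplex.mk c (cokernel.π c) (cokernel.condition c)
  have hS : S.ShortExact := TriCat.shortExact_cokernel c
  have hiso : ∀ (n : ℕ), n ≠ 0 → ∀ i, IsIso (n • 𝟙 (S.X₃.X i)) := fun n hn i => by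
    have hi : (S.map (HomologicalComplex.eval _ _ i)).ShortExact := hS.map_of_exact _
    have : Injective (S.map (HomologicalComplex.eval _ _ i)).X₂ := hI i
    refine isIso_nsmul hi (isTorsion_tors (I.X i)) (fun U x hx => ⟨⟨x, hx⟩, ?_⟩) n hn
    show (((torsAdj J).counit.app (I.X i)).hom.app (op U)).hom _ = x
    rw [counit_app]
    rfl
  refine TriCat.quasiIso_f_of_acyclic hS fun i => ?_
  rw [HomologicalComplex.exactAt_iff_isZero_homology]
  refine isZero_of_isIso_nsmul ?_ fun n hn => ?_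
  · exact (SiteCmp.torsionSh J).prop_X₂_of_exact (hS.homology_exact₃ i (i + 1) (by simp))
      (hH i) (SerreCorefl.prop_homology (SiteCmp.torsionSh J) (fun X => X.property) _ _)
  · have := hiso n hn
    have : ∀ k, IsIso ((n • 𝟙 S.X₃ : S.X₃ ⟶ S.X₃).f k) := fun k => by
      have e : (n • 𝟙 S.X₃ : S.X₃ ⟶ S.X₃).f k = n • 𝟙 (S.X₃.X k) :=
        map_nsmul (HomologicalComplex.eval (Sheaf J AddCommGrpCat.{u}) (ComplexShape.up ℤ) k).mapAddHom n (𝟙 S.X₃)
      rw [e]; exact this k
    have : IsIso (n • 𝟙 S.X₃) := HomologicalComplex.Hom.isIso_of_components _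
    have e : (HomologicalComplex.homologyFunctor (Sheaf J AddCommGrpCat.{u}) (ComplexShape.up ℤ) i).map
        (n • 𝟙 S.X₃) = n • 𝟙 (S.X₃.homology i) := by
      rw [Functor.map_nsmul, CategoryTheory.Functor.map_id]
      rfl
    rw [← e]
    exact @Functor.map_isIso _ _ _ _ _ _ (HomologicalComplex.homologyFunctor _ _ i) (n • 𝟙 S.X₃)
      (HomologicalComplex.Hom.isIso_of_components _)

end Groth.Agent.SiteBase.TorsionSh
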