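import Groth.Agent.SiteBase.HHom
import Mathlib.CategoryTheory.Abelian.Basic

/-!
# The internal hom out of a finitely presented module commutes with filtered colimits
-/

set_option autoImplicit false
set_option backward.isDefEq.respectTransparency false
set_option linter.style.haveILetI false
set_option linter.unusedSectionVars false
set_option linter.unusedVariables false

universe u

open CategoryTheory CategoryTheory.Limits Opposite
open Groth.Agent.ModTensor Groth.Agent.ModPull Groth.Agent.SecGen Groth.Agent.SecGenOps Groth.Agent.LHomLib Groth.Agent.HHom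

noncomputable section

namespace Groth.Agent.HHomColim

variable {C : Type u} [SmallCategory C] {J : GrothendieckTopology C} {O : Sheaf J CommRingCat.{u}}
  {Λ : Type u} [SmallCategory Λ] [IsFiltered Λ]

theorem preservesColimit_hFunctor (F : ModSite.Mod O) [SheafOfModules.IsFinitePresentation (R := ModSite.ringSh O) F]
    (D : Λ ⥤ ModSite.Mod O) : PreservesColimit D (hFunctor F) := by
  refine ⟨fun {c} hc => ?_⟩
  let E := D ⋙ hFunctor F
  let q : colimit E ⟶ hMod F c.pt := colimit.desc E ((hFunctor F).mapCocone c)
  have hq : ∀ {W : C} (l : Λ) (y : LHom F (D.obj l) W),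
      ap q (ap (colimit.ι E l) y) = (y.post (c.ι.app l) : LHom F c.pt W) := fun {W} l y => by
    rw [ap_comp, colimit.ι_desc]
    exact hMap_app (c.ι.app l) y
  haveI : Mono q := ModPull.mono_of_app_eq_zero q fun W x hx => by
    refine eq_of_locally' (colimit E) (ModPull.Locally.bind
      (ColimSec.locally_exists_rep (colimit.isColimit E) x) fun V g hg => ?_)
    obtain ⟨l, y, hy⟩ := hg
    change LHom F (D.obj l) V at y
    have hy' : ap (colimit.ι E l) y = rs ((fg O).obj (colimit E)) g.op x := hy
    have hy0 : y.post (c.ι.app l) = LHom.zero F c.pt V := by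
      rw [← hq l y]
      refine (congrArg (ap q) hy).trans ((ap_rs q g x).trans ?_)
      refine (congrArg (fun t => rs ((fg O).obj (hMod F c.pt)) g.op t) hx).trans ?_
      exact map_zero _
    refine (locally_exists_gens F V).bind fun V₁ g₁ hg₁ => ?_
    obtain ⟨n, s, hs⟩ := hg₁
    refine (locally_zero hc hs (y.res g₁) ?_).mono fun V₂ g₂ hg₂ => ?_
    · rw [← LHom.post_res, hy0]
      rfl
    obtain ⟨l', t, ht⟩ := hg₂
    rw [LHom.res_res] at ht
    have e : rs ((fg O).obj (E.obj l)) (g₂ ≫ g₁).op y = (y.res (g₂ ≫ g₁) : LHom F (D.obj l) V₂) := rfl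
    have key : ap (colimit.ι E l') ((y.res (g₂ ≫ g₁)).post (D.map t)) =
        rs ((fg O).obj (colimit E)) ((g₂ ≫ g₁) ≫ g).op x := by
      rw [rs_op_comp (g₂ ≫ g₁) g x, ← hy', ← ap_rs, e, ← colimit.w E t, ← ap_comp]
      exact congrArg (ap (colimit.ι E l')) (hMap_app (D.map t) _).symm
    rw [ht] at key
    refine key.symm.trans ((map_zero (((fg O).map (colimit.ι E l')).app (op V₂)).hom).trans ?_)
    exact (map_zero (((fg O).obj (colimit E)).map ((g₂ ≫ g₁) ≫ g).op).hom).symm
  haveI : Epi q := ⟨fun {Z} a b hab => (fg O).map_injective (PresheafOfModules.hom_ext fun X =>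
    ModuleCat.hom_ext (LinearMap.ext fun τ => by
      refine eq_of_locally' Z (ModPull.Locally.bind (locally_exists_pres F X.unop) fun V g hg => ?_)
      refine (locally_lift hc hg.some ((show LHom F c.pt X.unop from τ).res g)).mono fun V' k hk => ?_
      obtain ⟨l, ψ, hψ⟩ := hk
      have e : rs ((fg O).obj (hMod F c.pt)) (k ≫ g).op τ = ap q (ap (colimit.ι E l) ψ) := by
        rw [hq, hψ, LHom.res_res]
        rfl
      show rs _ _ (ap a τ) = rs _ _ (ap b τ)
      rw [← ap_rs, ← ap_rs, e]
      exact (ap_comp q a _).trans ((congrArg (fun r : colimit E ⟶ Z => ap r (ap (colimit.ι E l) ψ)) hab).trans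
        (ap_comp q b _).symm)))⟩
  haveI : IsIso q := isIso_of_mono_of_epi q
  exact ⟨@IsColimit.ofPointIso _ _ _ _ _ (colimit.cocone E) ((hFunctor F).mapCocone c) (colimit.isColimit E) ‹IsIso q›⟩

/-- The internal hom out of a finitely presented module commutes with filtered colimits. -/
theorem preservesColimit_sheafHom (F : ModSite.Mod O) [ModSite.HasSheafHom F]
    [SheafOfModules.IsFinitePresentation (R := ModSite.ringSh O) F] (D : Λ ⥤ ModSite.Mod O) :
    PreservesColimit D (ModSite.sheafHom F) :=
  haveI := preservesColimit_hFunctor F D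
  preservesColimit_of_natIso D (sheafHomIso F)

end Groth.Agent.HHomColim
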