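import Groth.Agent.ModTensor.ExtZero
import Groth.Prelude.Def_ModSite2
import Mathlib.CategoryTheory.Sites.Point.Over
import Mathlib.Algebra.Category.ModuleCat.Presheaf.Sheafification

/-!
# Stalks of an extension by zero
-/

universe u

open CategoryTheory CategoryTheory.Limits Opposite
open scoped DirectSum

namespace Groth.Agent.SiteBase

open Groth.Agent.ModTensor

variable {C : Type u} [SmallCategory C] {J : GrothendieckTopology C} {R : Cᵒᵖ ⥤ CommRingCat.{u}} {U : C}
  (G : PU R U) (p : GrothendieckTopology.Point.{u} J)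

/-- The stalk of the summand at a point over the base point. -/
noncomputable abbrev overFib (x : p.fiber.obj U) : AddCommGrpCat.{u} :=
  (p.over x).presheafFiber.obj G.presheaf

/-- The inclusion of a summand, additively. -/
noncomputable def inclHom (Z : Over U) : G.presheaf.obj (op Z) ⟶ (extObj G).presheaf.obj (op Z.left) :=
  AddCommGrpCat.ofHom (AddMonoidHom.mk' (fun s => inclO G Z (𝟙 Z.left) s) fun a b => inclO_add G Z _ a b)

lemma inclHom_map {Z Z' : Over U} (h : Z' ⟶ Z) :
    G.presheaf.map h.op ≫ inclHom G Z' = inclHom G Z ≫ (extObj G).presheaf.map h.left.op := by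
  refine ConcreteCategory.hom_ext _ _ fun s => ?_
  show inclO G (V := op Z'.left) Z' (𝟙 Z'.left) (rsO G h s) =
    rs (extObj G) h.left.op (inclO G (V := op Z.left) Z (𝟙 Z.left) s)
  rw [inclO_rsO, rs_inclO]
  exact congrArg (fun t => inclO G Z t s) ((Category.id_comp _).trans (Category.comp_id _).symm)

/-- The map of the stalk of a summand to the stalk of the sum. -/
noncomputable def fibIncl (x : p.fiber.obj U) : overFib G p x ⟶ p.presheafFiber.obj (extObj G).presheaf :=
  (p.over x).presheafFiberDesc
    (fun Z z => inclHom G Z ≫ p.toPresheafFiber Z.left z.1 (extObj G).presheaf) (by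
      intro Z Z' h z
      rw [← Category.assoc, inclHom_map, Category.assoc]
      exact congrArg (inclHom G Z' ≫ ·) (p.toPresheafFiber_w h.left z.1 _))

lemma toPresheafFiber_fibIncl (x : p.fiber.obj U) (Z : Over U) (z : (p.over x).fiber.obj Z) :
    (p.over x).toPresheafFiber Z z G.presheaf ≫ fibIncl G p x =
      inclHom G Z ≫ p.toPresheafFiber Z.left z.1 (extObj G).presheaf :=
  GrothendieckTopology.Point.toPresheafFiber_presheafFiberDesc _ _ _ _ _

section

unseal extObj inclO

variable {G p} {T : AddCommGrpCat.{u}} (f : ∀ x : p.fiber.obj U, overFib G p x ⟶ T)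

/-- An element of the fibre of a slice point. -/
abbrev overEl (Z : Over U) (z : p.fiber.obj Z.left) : (p.over (p.fiber.map Z.hom z)).fiber.obj Z := ⟨z, rfl⟩

lemma f_eq (Z : Over U) (x : p.fiber.obj U) (z : (p.over x).fiber.obj Z) (s : G.presheaf.obj (op Z)) :
    f x ((p.over x).toPresheafFiber Z z G.presheaf s) =
      f (p.fiber.map Z.hom z.1) ((p.over (p.fiber.map Z.hom z.1)).toPresheafFiber Z (overEl Z z.1) G.presheaf s) := by
  obtain ⟨z, hz⟩ := z
  obtain rfl : p.fiber.map Z.hom z = x := hz
  rfl

/-- The map out of the sum at a neighbourhood. -/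
noncomputable def descAt (V : C) (v : p.fiber.obj V) : (extObj G).presheaf.obj (op V) ⟶ T :=
  open Classical in
  AddCommGrpCat.ofHom (DirectSum.toAddMonoid fun φ : (op V).unop ⟶ U =>
    (f (p.fiber.map φ v)).hom.comp
      ((p.over (p.fiber.map φ v)).toPresheafFiber (Over.mk φ) (overEl (Over.mk φ) v) G.presheaf).hom)

lemma descAt_incl (Z : Over U) (V : C) (α : V ⟶ Z.left) (v : p.fiber.obj V) (s : G.presheaf.obj (op Z)) :
    descAt f V v (inclO G (V := op V) Z α s) = f (p.fiber.map Z.hom (p.fiber.map α v))
      ((p.over _).toPresheafFiber Z (overEl Z (p.fiber.map α v)) G.presheaf s) := by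
  classical
  refine (DirectSum.toAddMonoid_of _ (α ≫ Z.hom) _).trans ?_
  let h : Over.mk (α ≫ Z.hom) ⟶ Z := Over.homMk α rfl
  let x := p.fiber.map (α ≫ Z.hom) v
  show f x ((p.over x).toPresheafFiber _ (overEl (Over.mk (α ≫ Z.hom)) v) G.presheaf (G.presheaf.map h.op s)) = _
  rw [GrothendieckTopology.Point.toPresheafFiber_w_apply, f_eq f Z x]
  rfl

lemma descAt_map {V W : C} (g : V ⟶ W) (v : p.fiber.obj V) :
    (extObj G).presheaf.map g.op ≫ descAt f V v = descAt f W (p.fiber.map g v) := by
  refine ConcreteCategory.hom_ext _ _ fun s => ?_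
  refine DFunLike.congr_fun (extSec_hom_ext G (V := op W)
    (f := ((extObj G).presheaf.map g.op ≫ descAt f V v).hom)
    (g := (descAt f W (p.fiber.map g v)).hom) fun Z α y => ?_) s
  show descAt f V v (rs (extObj G) g.op (inclO G Z α y)) = descAt f W (p.fiber.map g v) (inclO G Z α y)
  rw [rs_inclO, descAt_incl, descAt_incl]
  have e : p.fiber.map (g.op.unop ≫ α) v = p.fiber.map α (p.fiber.map g v) :=
    ConcreteCategory.congr_hom (p.fiber.map_comp g α) v
  generalize p.fiber.map (g.op.unop ≫ α) v = w at e
  subst e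
  rfl

lemma fib_hom_ext {a b : p.presheafFiber.obj (extObj G).presheaf ⟶ T}
    (h : ∀ x, fibIncl G p x ≫ a = fibIncl G p x ≫ b) : a = b := by
  refine p.presheafFiber_hom_ext fun V v => ConcreteCategory.hom_ext _ _ fun s => ?_
  refine DFunLike.congr_fun (extSec_hom_ext G (V := op V)
    (f := (p.toPresheafFiber V v (extObj G).presheaf ≫ a).hom)
    (g := (p.toPresheafFiber V v (extObj G).presheaf ≫ b).hom) fun Z α y => ?_) s
  show a (p.toPresheafFiber V v (extObj G).presheaf (inclO G Z α y)) =
    b (p.toPresheafFiber V v (extObj G).presheaf (inclO G Z α y))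
  have e : p.toPresheafFiber V v (extObj G).presheaf (inclO G Z α y) =
      fibIncl G p (p.fiber.map Z.hom (p.fiber.map α v))
        ((p.over _).toPresheafFiber Z (overEl Z (p.fiber.map α v)) G.presheaf y) := by
    refine Eq.trans ?_ (ConcreteCategory.congr_hom (toPresheafFiber_fibIncl G p _ Z (overEl Z (p.fiber.map α v))) y).symm
    show _ = p.toPresheafFiber Z.left (p.fiber.map α v) (extObj G).presheaf (inclO G Z (𝟙 Z.left) y)
    rw [← rs_inclO_id G Z α y]
    exact GrothendieckTopology.Point.toPresheafFiber_w_apply (Φ := p) α v (extObj G).presheaf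
      (inclO G (V := op Z.left) Z (𝟙 Z.left) y)
  rw [e]
  exact ConcreteCategory.congr_hom (h _) _

/-- The stalk of the sum is the sum of the stalks of the summands. -/
noncomputable def fibIsColimit : IsColimit (Cofan.mk (p.presheafFiber.obj (extObj G).presheaf) (fibIncl G p)) :=
  Cofan.IsColimit.mk _
    (fun s => p.presheafFiberDesc (fun V v => descAt s.inj V v) (fun _ _ g v => descAt_map s.inj g v))
    (fun s x => by
      refine (p.over x).presheafFiber_hom_ext fun Z z => ConcreteCategory.hom_ext _ _ fun y => ?_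
      show (ConcreteCategory.hom (p.presheafFiberDesc (fun V v => descAt s.inj V v) (fun _ _ g v => descAt_map s.inj g v))) (fibIncl G p x ((p.over x).toPresheafFiber Z z G.presheaf y)) = _
      rw [show fibIncl G p x ((p.over x).toPresheafFiber Z z G.presheaf y) =
        p.toPresheafFiber Z.left z.1 (extObj G).presheaf (inclO G Z (𝟙 Z.left) y) from
        ConcreteCategory.congr_hom (toPresheafFiber_fibIncl G p x Z z) y]
      refine (ConcreteCategory.congr_hom (p.toPresheafFiber_presheafFiberDesc (fun V v => descAt s.inj V v)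
        (fun _ _ g v => descAt_map s.inj g v) Z.left z.1) _).trans ?_
      rw [descAt_incl]
      refine Eq.trans ?_ (f_eq s.inj Z x z y).symm
      have e : p.fiber.map (𝟙 Z.left) z.1 = z.1 := ConcreteCategory.congr_hom (p.fiber.map_id _) _
      generalize p.fiber.map (𝟙 Z.left) z.1 = w at e
      subst e
      rfl)
    (fun s m hm => fib_hom_ext fun x => (hm x).trans (by
      refine (p.over x).presheafFiber_hom_ext fun Z z => ConcreteCategory.hom_ext _ _ fun y => ?_
      show _ = (ConcreteCategory.hom (p.presheafFiberDesc (fun V v => descAt s.inj V v) (fun _ _ g v => descAt_map s.inj g v))) (fibIncl G p x ((p.over x).toPresheafFiber Z z G.presheaf y))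
      rw [show fibIncl G p x ((p.over x).toPresheafFiber Z z G.presheaf y) =
        p.toPresheafFiber Z.left z.1 (extObj G).presheaf (inclO G Z (𝟙 Z.left) y) from
        ConcreteCategory.congr_hom (toPresheafFiber_fibIncl G p x Z z) y]
      refine Eq.trans ?_ (ConcreteCategory.congr_hom (p.toPresheafFiber_presheafFiberDesc (fun V v => descAt s.inj V v)
        (fun _ _ g v => descAt_map s.inj g v) Z.left z.1) _).symm
      rw [descAt_incl]
      refine (f_eq s.inj Z x z y).trans ?_
      have e : p.fiber.map (𝟙 Z.left) z.1 = z.1 := ConcreteCategory.congr_hom (p.fiber.map_id _) _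
      generalize p.fiber.map (𝟙 Z.left) z.1 = w at e
      subst e
      rfl))

end

theorem nonempty_stalk_extZero_iso (O : Sheaf J CommRingCat.{u}) (U : C) (G : ModSite.Mod (O.over U)) :
    Nonempty (ModSite.stalkAb p ((ModSite.extZero O U).obj G) ≅
      ∐ fun x : p.fiber.obj U => ModSite.stalkAb (p.over x) G) := by
  let G₀ := (fg (O.over U)).obj G
  let P := extObj G₀
  let e₁ : ModSite.stalkAb p ((ModSite.extZero O U).obj G) ≅
      (p.sheafFiber (A := AddCommGrpCat.{u})).obj ((presheafToSheaf J AddCommGrpCat.{u}).obj P.presheaf) :=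
    (SheafOfModules.toSheaf _ ⋙ p.sheafFiber).mapIso ((extZeroIso O U).app G) ≪≫
      p.sheafFiber.mapIso ((PresheafOfModules.sheafificationCompToSheaf (𝟙 (ModSite.ringSh O).obj)).app P)
  have : IsIso (p.presheafFiber.map (toSheafify J P.presheaf)) :=
    p.W_isInvertedBy_presheafFiber' _ (J.W_toSheafify P.presheaf)
  let e₂ := (asIso (p.presheafFiber.map (toSheafify J P.presheaf))).symm
  exact ⟨e₁ ≪≫ e₂ ≪≫ (fibIsColimit (G := G₀) (p := p)).coconePointUniqueUpToIso (coproductIsCoproduct _)⟩

end Groth.Agent.SiteBase
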