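import Groth.Agent.SiteBase.FreeOnPres
import Mathlib.CategoryTheory.InducedCategory
import Mathlib.CategoryTheory.Comma.Over.Basic
import Mathlib.CategoryTheory.Filtered.Basic

/-!
# Modules as filtered colimits of finitely presented modules, for quasi-compact generators
-/

set_option autoImplicit false
set_option backward.isDefEq.respectTransparency false
set_option linter.style.haveILetI false
set_option linter.unusedSectionVars false

universe u

open CategoryTheory CategoryTheory.Limits Opposite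
open Groth.Agent.ModTensor Groth.Agent.ModPull Groth.Agent.FreeOnPres

noncomputable section

namespace Groth.Agent.FreeOnColim

variable {C : Type u} [SmallCategory C] {J : GrothendieckTopology C} {O : Sheaf J CommRingCat.{u}} {B : Set C}

lemma exists_fin_reindex {P : ModSite.Mod O} (h : IsFree O B P) :
    ∃ (n : ℕ) (U : Fin n → C), (∀ i, U i ∈ B) ∧ Nonempty (P ≅ ∐ fun i => ModSite.freeOn O (U i)) := by
  obtain ⟨ι, hι, U, hU, ⟨e⟩⟩ := h
  obtain ⟨n, ⟨σ⟩⟩ := Finite.exists_equiv_fin ι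
  exact ⟨n, fun i => U (σ.symm i), fun i => hU _,
    ⟨e ≪≫ Sigma.whiskerEquiv σ (fun j => eqToIso (congrArg (fun x => ModSite.freeOn O (U x)) (σ.symm_apply_apply j)))⟩⟩

lemma isFree_fin {n : ℕ} (U : Fin n → C) (hU : ∀ i, U i ∈ B) :
    IsFree O B (∐ fun i => ModSite.freeOn O (U i)) :=
  ⟨ULift.{u} (Fin n), inferInstance, fun i => U i.down, fun i => hU _,
    ⟨Sigma.whiskerEquiv (f := fun i : Fin n => ModSite.freeOn O (U i))
      (g := fun j : ULift.{u} (Fin n) => ModSite.freeOn O (U j.down)) Equiv.ulift.symm (fun _ => Iso.refl _)⟩⟩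

variable (O B) in
/-- The finite form of a finite presentation. -/
def Pres' (F : ModSite.Mod O) : Prop :=
  ∃ (m' n' : ℕ) (V' : Fin m' → C) (U' : Fin n' → C)
    (ψ : (∐ fun j => ModSite.freeOn O (V' j)) ⟶ ∐ fun i => ModSite.freeOn O (U' i)),
    (∀ j, V' j ∈ B) ∧ (∀ i, U' i ∈ B) ∧ Nonempty (F ≅ cokernel ψ)

theorem pres'_of_fp {X : ModSite.Mod O} (h : FreePres.Fp (IsFree O B) X) : Pres' O B X := by
  obtain ⟨Q, R, ψ, hQ, hR, ⟨e⟩⟩ := FreePres.exists_iso_cokernel h
  obtain ⟨n, U, hU, ⟨a⟩⟩ := exists_fin_reindex hQ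
  obtain ⟨m, V, hV, ⟨b⟩⟩ := exists_fin_reindex hR
  exact ⟨m, n, V, U, b.inv ≫ ψ ≫ a.hom, hV, hU, ⟨e ≪≫ cokernel.mapIso ψ (b.inv ≫ ψ ≫ a.hom) b a (by simp)⟩⟩

theorem fp_of_pres' {X : ModSite.Mod O} (h : Pres' O B X) : FreePres.Fp (IsFree O B) X := by
  obtain ⟨m, n, V, U, ψ, hV, hU, ⟨e⟩⟩ := h
  exact FreePres.fp_of_iso (FreePres.fp_cokernel_map (isFree_fin U hU) (isFree_fin V hV) ψ) e.symm

theorem fp_kernel_of_fin
    (hker : ∀ (m n : ℕ) (V : Fin m → C) (U : Fin n → C)
      (φ : (∐ fun j => ModSite.freeOn O (V j)) ⟶ ∐ fun i => ModSite.freeOn O (U i)),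
      (∀ j, V j ∈ B) → (∀ i, U i ∈ B) → Pres' O B (kernel φ))
    {Q R : ModSite.Mod O} (φ : R ⟶ Q) (hR : IsFree O B R) (hQ : IsFree O B Q) :
    FreePres.Fp (IsFree O B) (kernel φ) := by
  obtain ⟨n, U, hU, ⟨a⟩⟩ := exists_fin_reindex hQ
  obtain ⟨m, V, hV, ⟨b⟩⟩ := exists_fin_reindex hR
  exact FreePres.fp_of_iso (fp_of_pres' (hker m n V U (b.inv ≫ φ ≫ a.hom) hV hU))
    (kernel.mapIso φ (b.inv ≫ φ ≫ a.hom) b a (by simp)).symm

variable (F : ModSite.Mod O) (B)

/-- A finite presentation with a map to `F`. -/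
structure Pt : Type u where
  m : ℕ
  n : ℕ
  V : Fin m → C
  U : Fin n → C
  hV : ∀ j, V j ∈ B
  hU : ∀ i, U i ∈ B
  ψ : (∐ fun j => ModSite.freeOn O (V j)) ⟶ ∐ fun i => ModSite.freeOn O (U i)
  f : cokernel ψ ⟶ F

/-- The index category. -/
abbrev Idx : Type u := InducedCategory (Over F) (fun p : Pt B F => Over.mk p.f)

/-- The diagram. -/
def diag : Idx B F ⥤ ModSite.Mod O := inducedFunctor _ ⋙ Over.forget F

/-- The canonical cocone. -/
def canon : diag B F ⟶ (Functor.const (Idx B F)).obj F where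
  app p := p.f
  naturality _ _ g := (Over.w g.hom).trans (Category.comp_id _).symm

variable {B F}

/-- The morphism given by a map over `F`. -/
def mkHom {p q : Idx B F} (a : cokernel p.ψ ⟶ cokernel q.ψ) (h : a ≫ q.f = p.f) : p ⟶ q :=
  InducedCategory.homMk (Over.homMk a h)

lemma exists_pt {X : ModSite.Mod O} (hX : FreePres.Fp (IsFree O B) X) (f : X ⟶ F) :
    ∃ (p : Idx B F) (e : X ≅ cokernel p.ψ), e.hom ≫ p.f = f := by
  obtain ⟨m, n, V, U, ψ, hV, hU, ⟨e⟩⟩ := pres'_of_fp hX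
  exact ⟨⟨m, n, V, U, hV, hU, ψ, e.inv ≫ f⟩, e, e.hom_inv_id_assoc f⟩

variable (hB₁ : ∀ X : C, ∃ (κ : Type u) (Y : κ → C) (g : ∀ k, Y k ⟶ X), Sieve.ofArrows Y g ∈ J X ∧ ∀ k, Y k ∈ B)
    (hB₂ : ∀ U ∈ B, CohCx.IsQcObject ((presheafToSheaf J (Type u)).obj (yoneda.obj U)))

include hB₁ hB₂

theorem isFiltered : IsFiltered (Idx B F) := by
  have hg := gen (O := O) B hB₁ hB₂
  haveI : Nonempty (Idx B F) := ⟨⟨0, 0, Fin.elim0, Fin.elim0, fun j => j.elim0, fun i => i.elim0, 0, 0⟩⟩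
  haveI : IsFilteredOrEmpty (Idx B F) :=
    { cocone_objs := fun p q => by
        obtain ⟨r, e, he⟩ := exists_pt (FreePres.fp_biprod hg
          (FreePres.fp_cokernel_map (isFree_fin p.U p.hU) (isFree_fin p.V p.hV) p.ψ)
          (FreePres.fp_cokernel_map (isFree_fin q.U q.hU) (isFree_fin q.V q.hV) q.ψ)) (biprod.desc p.f q.f)
        exact ⟨r, mkHom (biprod.inl ≫ e.hom) (by rw [Category.assoc, he, biprod.inl_desc]),
          mkHom (biprod.inr ≫ e.hom) (by rw [Category.assoc, he, biprod.inr_desc]), trivial⟩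
      cocone_maps := fun {p q} a b => by
        have ha : a.hom.left ≫ q.f = p.f := Over.w a.hom
        have hb : b.hom.left ≫ q.f = p.f := Over.w b.hom
        let d : cokernel p.ψ ⟶ cokernel q.ψ := a.hom.left - b.hom.left
        have hd : d ≫ q.f = 0 := by
          show (a.hom.left - b.hom.left) ≫ q.f = 0
          rw [Preadditive.sub_comp, ha, hb, sub_self]
        obtain ⟨r, e, he⟩ := exists_pt (FreePres.fp_cokernel hg d
          (FreePres.fg_of_fp (FreePres.fp_cokernel_map (isFree_fin p.U p.hU) (isFree_fin p.V p.hV) p.ψ))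
          (FreePres.fp_cokernel_map (isFree_fin q.U q.hU) (isFree_fin q.V q.hV) q.ψ)) (cokernel.desc d q.f hd)
        refine ⟨r, mkHom (cokernel.π d ≫ e.hom) (by rw [Category.assoc, he, cokernel.π_desc]), ?_⟩
        apply InducedCategory.hom_ext
        apply Over.OverMorphism.ext
        show a.hom.left ≫ cokernel.π d ≫ e.hom = b.hom.left ≫ cokernel.π d ≫ e.hom
        rw [← sub_eq_zero, ← Preadditive.sub_comp]
        exact cokernel.condition_assoc d e.hom |>.trans zero_comp }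
  exact ⟨⟩

/-- Every module is the colimit of the finitely presented modules over it. -/
theorem nonempty_isColimit : Nonempty (IsColimit (Cocone.mk F (canon B F))) := by
  classical
  have hg := gen (O := O) B hB₁ hB₂
  let I := Σ U : B, ((fg O).obj F).obj (op (U : C))
  have hs : ∀ {M N : ModSite.Mod O} (a b : M ⟶ N),
      (∀ (U : B) (φ : ModSite.freeOn O (U : C) ⟶ M), φ ≫ a = φ ≫ b) → a = b := fun {M N} a b h =>
    isSeparating_freeOn B hB₁ a b fun G hG φ => by
      obtain ⟨U⟩ := hG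
      exact h U φ
  let π : fsum O (fun i : I => (i.1 : C)) ⟶ F := Sigma.desc fun i => toHom i.2
  have hπι : ∀ (U : B) (φ : ModSite.freeOn O (U : C) ⟶ F),
      φ = Sigma.ι (fun i : I => ModSite.freeOn O (i.1 : C)) ⟨U, sec φ⟩ ≫ π := fun U φ => by
    rw [Sigma.ι_desc]
    exact ((freeOnCorepr O (U : C)).homEquiv.symm_apply_apply φ).symm
  haveI : Epi π := ⟨fun a b h => hs a b fun U φ => by
    rw [hπι U φ, Category.assoc, Category.assoc, h]⟩
  have hfree : ∀ U : B, IsFree O B (ModSite.freeOn O (U : C)) := fun U =>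
    ⟨PUnit.{u + 1}, inferInstance, fun _ => (U : C), fun _ => U.2,
      ⟨(coproductUniqueIso fun _ : PUnit.{u + 1} => ModSite.freeOn O (U : C)).symm⟩⟩
  choose px ex hex using fun i : I => exists_pt (FreePres.fp_self hg (hfree i.1)) (toHom i.2)
  let T : ∀ s : Cocone (diag B F), fsum O (fun i : I => (i.1 : C)) ⟶ s.pt :=
    fun s => Sigma.desc fun i => (ex i).hom ≫ s.ι.app (px i)
  have hT : ∀ (s : Cocone (diag B F)) (i : I) (p : Idx B F) (a : ModSite.freeOn O (i.1 : C) ⟶ cokernel p.ψ),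
      a ≫ p.f = toHom i.2 → Sigma.ι (fun i : I => ModSite.freeOn O (i.1 : C)) i ≫ T s = a ≫ s.ι.app p := fun s i p a ha => by
    rw [Sigma.ι_desc, ← cancel_epi (ex i).inv, Iso.inv_hom_id_assoc]
    have hw : ((ex i).inv ≫ a) ≫ p.f = (px i).f := by
      rw [Category.assoc, ha, ← hex i, Iso.inv_hom_id_assoc]
    exact (s.w (mkHom ((ex i).inv ≫ a) hw)).symm.trans (Category.assoc _ _ _)
  have hker : ∀ s : Cocone (diag B F), kernel.ι π ≫ T s = 0 := fun s => hs _ _ fun U φ => by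
    rw [comp_zero, ← Category.assoc]
    let φ' := φ ≫ kernel.ι π
    have h0 : φ' ≫ π = 0 := by rw [Category.assoc, kernel.condition, comp_zero]
    obtain ⟨t, a, hta⟩ := QcSum.exists_finset_hom O (fun i : I => ModSite.freeOn O (i.1 : C)) (U : C) (hB₂ _ U.2) φ'
    let G : t → ModSite.Mod O := fun i => ModSite.freeOn O (i.1.1 : C)
    let w : (∐ G) ⟶ fsum O (fun i : I => (i.1 : C)) := Sigma.desc fun i => Sigma.ι (fun i : I => ModSite.freeOn O (i.1 : C)) i.1
    let a' : ModSite.freeOn O (U : C) ⟶ ∐ G := ∑ i : t, a i.1 ≫ Sigma.ι G i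
    have haw : a' ≫ w = φ' := by
      rw [hta, Preadditive.sum_comp, ← Finset.sum_coe_sort t (fun i => a i ≫ Sigma.ι (fun i : I => ModSite.freeOn O (i.1 : C)) i)]
      simp only [w, Category.assoc, Sigma.ι_desc]
    have hG : IsFree O B (∐ G) := ⟨t, inferInstance, fun i => (i.1.1 : C), fun i => i.1.1.2, ⟨Iso.refl _⟩⟩
    have hd : a' ≫ w ≫ π = 0 := by rw [reassoc_of% haw]; exact h0
    obtain ⟨p, e, he⟩ := exists_pt (FreePres.fp_cokernel_map hG (hfree U) a') (cokernel.desc a' (w ≫ π) hd)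
    have hwT : w ≫ T s = cokernel.π a' ≫ e.hom ≫ s.ι.app p := Sigma.hom_ext _ _ fun i => by
      rw [Sigma.ι_desc_assoc, hT s i.1 p (Sigma.ι G i ≫ cokernel.π a' ≫ e.hom)
        (by simp [he, w, π])]
      simp only [Category.assoc]
    show φ' ≫ T s = 0
    rw [← haw, Category.assoc, hwT, cokernel.condition_assoc, zero_comp]
  have hfac : ∀ (s : Cocone (diag B F)) (p : Idx B F) (d : F ⟶ s.pt), π ≫ d = T s → p.f ≫ d = s.ι.app p :=
    fun s p d hd => coequalizer.hom_ext <| Sigma.hom_ext _ _ fun j => by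
      let x := Sigma.ι (fun i => ModSite.freeOn O (p.U i)) j ≫ cokernel.π p.ψ ≫ p.f
      have := hT s ⟨⟨p.U j, p.hU j⟩, sec x⟩ p (Sigma.ι (fun i => ModSite.freeOn O (p.U i)) j ≫ cokernel.π p.ψ)
        ((Category.assoc _ _ _).trans ((freeOnCorepr O (p.U j)).homEquiv.symm_apply_apply x).symm)
      rw [← hd, ← Category.assoc, ← hπι ⟨p.U j, p.hU j⟩ x] at this
      simpa [x] using this
  refine ⟨{ desc := fun s => Abelian.epiDesc π (T s) (hker s)
            fac := fun s p => hfac s p _ (Abelian.comp_epiDesc π (T s) (hker s))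
            uniq := fun s d hd => ?_ }⟩
  refine (cancel_epi π).1 (Eq.trans ?_ (Abelian.comp_epiDesc π (T s) (hker s)).symm)
  refine Sigma.hom_ext _ _ fun i => ?_
  rw [Sigma.ι_desc_assoc, Sigma.ι_desc, ← hex i, Category.assoc]
  exact congrArg (fun t => (ex i).hom ≫ t) (hd (px i))

end Groth.Agent.FreeOnColim
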