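import Mathlib

/-!
# Sections of constant sheaves of modules and tensor products
-/

set_option autoImplicit false
universe u

open CategoryTheory CategoryTheory.Limits Opposite TensorProduct

noncomputable section

namespace Groth.Agent.ConstTensor

variable {C : Type u} [SmallCategory C] (J : GrothendieckTopology C) (Λ : Type u) [CommRing Λ]
  (U : C)

/-- Sections over `U` of the constant sheaf of a module. -/
abbrev E : ModuleCat.{u} Λ ⥤ ModuleCat.{u} Λ :=
  constantSheaf J (ModuleCat.{u} Λ) ⋙ sheafToPresheaf J (ModuleCat.{u} Λ) ⋙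
    (evaluation Cᵒᵖ (ModuleCat.{u} Λ)).obj (op U)

instance additive_constantSheaf : (constantSheaf J (ModuleCat.{u} Λ)).Additive := by
  unfold constantSheaf
  infer_instance

instance additive_E : (E J Λ U).Additive := inferInstance

/-- Sections of constant sheaves commute with scalars. -/
theorem map_smul (a : Λ) {M N : ModuleCat.{u} Λ} (f : M ⟶ N) :
    (E J Λ U).map (a • f) = a • (E J Λ U).map f := by
  have key : (presheafToSheaf J (ModuleCat.{u} Λ)).map (a • (Functor.const Cᵒᵖ).map f) =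
      a • (presheafToSheaf J (ModuleCat.{u} Λ)).map ((Functor.const Cᵒᵖ).map f) := by
    apply ((sheafificationAdjunction J (ModuleCat.{u} Λ)).homEquiv _ _).injective
    rw [Adjunction.homEquiv_unit, Adjunction.homEquiv_unit]
    refine ((sheafificationAdjunction J (ModuleCat.{u} Λ)).unit.naturality
      (a • (Functor.const Cᵒᵖ).map f)).symm.trans ?_
    change (a • (Functor.const Cᵒᵖ).map f) ≫ _ = _ ≫ (a • _)
    rw [Linear.smul_comp, Linear.comp_smul]
    exact congrArg (a • ·) ((sheafificationAdjunction J (ModuleCat.{u} Λ)).unit.naturality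
      ((Functor.const Cᵒᵖ).map f))
  exact congrArg (fun φ : (constantSheaf J (ModuleCat.{u} Λ)).obj M ⟶
    (constantSheaf J (ModuleCat.{u} Λ)).obj N => φ.hom.app (op U)) key

/-- Sections of constant sheaves preserve surjections. -/
theorem map_surjective {M N : ModuleCat.{u} Λ} (g : M ⟶ N) (hg : Function.Surjective g.hom) :
    Function.Surjective ((E J Λ U).map g).hom := by
  let σ : (forget (ModuleCat.{u} Λ)).obj N ⟶ (forget (ModuleCat.{u} Λ)).obj M :=
    ↾(Function.surjInv hg)
  have hσ : σ ≫ (forget (ModuleCat.{u} Λ)).map g = 𝟙 _ := by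
    ext y
    exact Function.surjInv_eq hg y
  let T : Type u ⥤ Type u := constantSheaf J (Type u) ⋙ sheafToPresheaf J (Type u) ⋙
    (evaluation Cᵒᵖ (Type u)).obj (op U)
  let φ : E J Λ U ⋙ forget (ModuleCat.{u} Λ) ≅ forget (ModuleCat.{u} Λ) ⋙ T :=
    Functor.isoWhiskerRight (constantCommuteCompose J (forget (ModuleCat.{u} Λ)))
      (sheafToPresheaf J (Type u) ⋙ (evaluation Cᵒᵖ (Type u)).obj (op U))
  have h : (φ.hom.app N ≫ T.map σ ≫ φ.inv.app M) ≫ (forget (ModuleCat.{u} Λ)).map ((E J Λ U).map g) =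
      𝟙 _ := by
    rw [Category.assoc, Category.assoc]
    have n : φ.inv.app M ≫ (forget (ModuleCat.{u} Λ)).map ((E J Λ U).map g) =
        T.map ((forget (ModuleCat.{u} Λ)).map g) ≫ φ.inv.app N := (φ.inv.naturality g).symm
    rw [n, ← T.map_comp_assoc, hσ, T.map_id, Category.id_comp, Iso.hom_inv_id_app]
  exact fun y => ⟨(φ.hom.app N ≫ T.map σ ≫ φ.inv.app M) y, ConcreteCategory.congr_hom h y⟩

instance preservesEpis_E : (E J Λ U).PreservesEpimorphisms :=
  ⟨fun g _ => (ModuleCat.epi_iff_surjective _).2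
    (map_surjective J Λ U g ((ModuleCat.epi_iff_surjective g).1 inferInstance))⟩

instance preservesFiniteLimits_E : PreservesFiniteLimits (E J Λ U) := by
  haveI : PreservesLimitsOfSize.{0, 0} (Functor.const Cᵒᵖ : ModuleCat.{u} Λ ⥤ _) := inferInstance
  haveI : PreservesFiniteLimits (presheafToSheaf J (ModuleCat.{u} Λ)) := inferInstance
  haveI : PreservesFiniteLimits (constantSheaf J (ModuleCat.{u} Λ)) :=
    comp_preservesFiniteLimits (Functor.const Cᵒᵖ) (presheafToSheaf J (ModuleCat.{u} Λ))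
  exact comp_preservesFiniteLimits _ _

instance preservesHomology_E : (E J Λ U).PreservesHomology :=
  Functor.preservesHomology_of_preservesEpis_and_kernels _

/-- Sections of constant sheaves preserve injections. -/
theorem map_injective {M N : ModuleCat.{u} Λ} (g : M ⟶ N) (hg : Function.Injective g.hom) :
    Function.Injective ((E J Λ U).map g).hom := by
  haveI : Mono g := (ModuleCat.mono_iff_injective g).2 hg
  exact (ModuleCat.mono_iff_injective _).1 inferInstance

/-- Sections of constant sheaves preserve exact sequences. -/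
theorem map_exact {A B D : ModuleCat.{u} Λ} (f : A ⟶ B) (g : B ⟶ D)
    (h : Function.Exact f.hom g.hom) :
    Function.Exact ((E J Λ U).map f).hom ((E J Λ U).map g).hom := by
  let S := ShortComplex.mk f g (ModuleCat.hom_ext (h.linearMap_comp_eq_zero))
  have hS : S.Exact := (ShortComplex.ShortExact.moduleCat_exact_iff_function_exact S).2 h
  exact (ShortComplex.ShortExact.moduleCat_exact_iff_function_exact _).1 (hS.map (E J Λ U))

variable (M : Type u) [AddCommGroup M] [Module Λ M]

/-- Tensoring on the right with a fixed element. -/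
abbrev fl (Q : Type u) [AddCommGroup Q] [Module Λ Q] :
    Q →ₗ[Λ] (M →ₗ[Λ] M ⊗[Λ] Q) := (TensorProduct.mk Λ M Q).flip

/-- The comparison map. -/
def mu (Q : Type u) [AddCommGroup Q] [Module Λ Q] :
    ((E J Λ U).obj (ModuleCat.of Λ M)) ⊗[Λ] Q →ₗ[Λ] (E J Λ U).obj (ModuleCat.of Λ (M ⊗[Λ] Q)) :=
  TensorProduct.lift (LinearMap.flip
    { toFun := fun q => ((E J Λ U).map (ModuleCat.ofHom (fl Λ M Q q))).hom
      map_add' := fun q q' => by
        rw [← ModuleCat.hom_add, ← (E J Λ U).map_add]
        exact congrArg (fun φ => ((E J Λ U).map φ).hom)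
          (ModuleCat.hom_ext (_root_.map_add (fl Λ M Q) q q'))
      map_smul' := fun a q => by
        rw [RingHom.id_apply, ← ModuleCat.hom_smul, ← map_smul]
        exact congrArg (fun φ => ((E J Λ U).map φ).hom)
          (ModuleCat.hom_ext (_root_.map_smul (fl Λ M Q) a q)) })

@[simp] theorem mu_tmul (Q : Type u) [AddCommGroup Q] [Module Λ Q]
    (s : (E J Λ U).obj (ModuleCat.of Λ M)) (q : Q) :
    mu J Λ U M Q (s ⊗ₜ q) = ((E J Λ U).map (ModuleCat.ofHom (fl Λ M Q q))).hom s := rfl

theorem mu_natural {Q Q' : Type u} [AddCommGroup Q] [Module Λ Q] [AddCommGroup Q'] [Module Λ Q']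
    (f : Q →ₗ[Λ] Q') :
    (((E J Λ U).map (ModuleCat.ofHom (f.lTensor M))).hom) ∘ₗ mu J Λ U M Q =
      mu J Λ U M Q' ∘ₗ f.lTensor _ := by
  ext s q
  have e : ModuleCat.ofHom (fl Λ M Q q) ≫ ModuleCat.ofHom (f.lTensor M) =
      ModuleCat.ofHom (fl Λ M Q' (f q)) := rfl
  change ((E J Λ U).map (ModuleCat.ofHom (f.lTensor M))).hom
    (((E J Λ U).map (ModuleCat.ofHom (fl Λ M Q q))).hom s) = _
  rw [← LinearMap.comp_apply, ← ModuleCat.hom_comp, ← Functor.map_comp, e]
  rfl

theorem mu_bijective_free (n : ℕ) : Function.Bijective (mu J Λ U M (Fin n → Λ)) := by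
  let p : Fin n → ((M ⊗[Λ] (Fin n → Λ)) →ₗ[Λ] M) := fun j =>
    (TensorProduct.rid Λ M).toLinearMap ∘ₗ (LinearMap.proj j).lTensor M
  let inv : ((E J Λ U).obj (ModuleCat.of Λ (M ⊗[Λ] (Fin n → Λ)))) →ₗ[Λ]
      ((E J Λ U).obj (ModuleCat.of Λ M)) ⊗[Λ] (Fin n → Λ) :=
    ∑ j, (((TensorProduct.mk Λ _ (Fin n → Λ)).flip (Pi.single j 1)) ∘ₗ
      ((E J Λ U).map (ModuleCat.ofHom (p j))).hom)
  refine Function.bijective_iff_has_inverse.2 ⟨inv, fun x => ?_, fun y => ?_⟩
  · induction x with
    | zero => rw [map_zero, map_zero]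
    | add x y hx hy => rw [_root_.map_add, _root_.map_add, hx, hy]
    | tmul s q =>
      have e : ∀ j, ((E J Λ U).map (ModuleCat.ofHom (p j))).hom
          (mu J Λ U M (Fin n → Λ) (s ⊗ₜ q)) = q j • s := fun j => by
        rw [mu_tmul, ← LinearMap.comp_apply, ← ModuleCat.hom_comp, ← Functor.map_comp]
        have e' : ModuleCat.ofHom (fl Λ M (Fin n → Λ) q) ≫ ModuleCat.ofHom (p j) =
            q j • 𝟙 (ModuleCat.of Λ M) := by
          ext m
          simp [p]
        rw [e', map_smul]
        exact congrArg (fun φ : (E J Λ U).obj (ModuleCat.of Λ M) ⟶ _ => q j • φ.hom s)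
          ((E J Λ U).map_id _)
      simp only [inv, LinearMap.sum_apply, LinearMap.comp_apply, e, LinearMap.flip_apply,
        TensorProduct.mk_apply, TensorProduct.smul_tmul, ← TensorProduct.tmul_sum]
      congr 1
      exact (pi_eq_sum_univ' q).symm
  · have e : ∑ j, ModuleCat.ofHom (p j) ≫ ModuleCat.ofHom (fl Λ M (Fin n → Λ) (Pi.single j 1)) =
        𝟙 (ModuleCat.of Λ (M ⊗[Λ] (Fin n → Λ))) := by
      refine ModuleCat.hom_ext (TensorProduct.ext' fun m q => ?_)
      simp only [ModuleCat.hom_sum, LinearMap.sum_apply]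
      simp [p, ← TensorProduct.tmul_smul, ← TensorProduct.tmul_sum, ← pi_eq_sum_univ']
    refine Eq.trans ?_ (congrArg (fun φ => ((E J Λ U).map φ).hom y) e |>.trans ?_)
    · simp only [inv, LinearMap.sum_apply, _root_.map_sum, LinearMap.comp_apply, LinearMap.flip_apply,
        TensorProduct.mk_apply, mu_tmul, Functor.map_sum, ModuleCat.hom_sum, Functor.map_comp,
        ModuleCat.hom_comp]
    · rw [CategoryTheory.Functor.map_id]; rfl

theorem mu_bijective (Q : Type u) [AddCommGroup Q] [Module Λ Q] [Module.FinitePresentation Λ Q] :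
    Function.Bijective (mu J Λ U M Q) := by
  obtain ⟨n, m, g, f, hg, hfg⟩ := Module.FinitePresentation.exists_fin' Λ Q
  have hsurj : Function.Surjective ((E J Λ U).map (ModuleCat.ofHom (g.lTensor M))).hom :=
    map_surjective J Λ U _ (LinearMap.lTensor_surjective M hg)
  have hng : ∀ z, ((E J Λ U).map (ModuleCat.ofHom (g.lTensor M))).hom (mu J Λ U M _ z) =
      mu J Λ U M Q (g.lTensor _ z) := fun z => LinearMap.congr_fun (mu_natural J Λ U M g) z
  refine ⟨(injective_iff_map_eq_zero _).2 fun x hx => ?_, fun y => ?_⟩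
  · obtain ⟨x', rfl⟩ := LinearMap.lTensor_surjective _ hg x
    rw [← hng] at hx
    obtain ⟨z, hz⟩ := (map_exact J Λ U (ModuleCat.ofHom (f.lTensor M))
      (ModuleCat.ofHom (g.lTensor M)) (lTensor_exact M hfg hg) _).1 hx
    obtain ⟨y', rfl⟩ := (mu_bijective_free J Λ U M m).2 z
    have h2 : mu J Λ U M _ (f.lTensor _ y') = mu J Λ U M _ x' :=
      (LinearMap.congr_fun (mu_natural J Λ U M f) y').symm.trans hz
    rw [← (mu_bijective_free J Λ U M n).1 h2]
    exact (lTensor_exact _ hfg hg _).2 ⟨y', rfl⟩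
  · obtain ⟨z, rfl⟩ := hsurj y
    obtain ⟨x, rfl⟩ := (mu_bijective_free J Λ U M n).2 z
    exact ⟨g.lTensor _ x, (hng x).symm⟩

theorem flat_E (hΛ : ∀ I : Ideal Λ, I.FG → Module.FinitePresentation Λ I) [Module.Flat Λ M] :
    Module.Flat Λ ((E J Λ U).obj (ModuleCat.of Λ M)) := by
  rw [Module.Flat.iff_lTensor_injective]
  intro I hI
  haveI := hΛ I hI
  have hinj : Function.Injective ((E J Λ U).map (ModuleCat.ofHom (I.subtype.lTensor M))).hom :=
    map_injective J Λ U _ (Module.Flat.lTensor_preserves_injective_linearMap _ I.injective_subtype)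
  intro x y hxy
  apply (mu_bijective J Λ U M I).1
  apply hinj
  have h := fun z => LinearMap.congr_fun (mu_natural J Λ U M I.subtype) z
  exact (h x).trans ((congrArg _ hxy).trans (h y).symm)

end Groth.Agent.ConstTensor
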