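import Groth.Agent.SiteBase.LHom
import Groth.Prelude.Def_CohCx
import Mathlib.CategoryTheory.Sites.EpiMono
import Mathlib.CategoryTheory.Yoneda
import Mathlib.CategoryTheory.Limits.Shapes.Terminal

/-!
# Maps out of finitely presented modules commute with filtered colimits
-/

set_option autoImplicit false
set_option backward.isDefEq.respectTransparency false
set_option linter.style.haveILetI false
set_option linter.unusedSectionVars false
set_option linter.unusedVariables false
set_option linter.deprecated false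

universe u

open CategoryTheory CategoryTheory.Limits Opposite
open Groth.Agent.ModTensor Groth.Agent.ModPull Groth.Agent.SecGen Groth.Agent.SecGenOps Groth.Agent.LHomLib

noncomputable section

namespace Groth.Agent.HomColim

variable {C : Type u} [SmallCategory C] {J : GrothendieckTopology C}

section Qc

variable {K : Sheaf J (Type u)}

variable (J) in
/-- The sheaf of a representable. -/
abbrev hs (U : C) : Sheaf J (Type u) := (presheafToSheaf J (Type u)).obj (yoneda.obj U)

variable (J) in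
/-- Its canonical section. -/
def gen (U : C) : (hs J U).obj.obj (op U) := (toSheafify J (yoneda.obj U)).app (op U) (𝟙 U)

/-- The map given by a section. -/
def secMap {U : C} (κ : K.obj.obj (op U)) : hs J U ⟶ K :=
  ((sheafificationAdjunction J (Type u)).homEquiv _ _).symm (yonedaEquiv.symm κ)

lemma secMap_toSheafify {U V : C} (κ : K.obj.obj (op U)) (h : V ⟶ U) :
    (secMap κ).hom.app (op V) ((toSheafify J (yoneda.obj U)).app (op V) h) = K.obj.map h.op κ := by
  have e : toSheafify J (yoneda.obj U) ≫ (secMap κ).hom = yonedaEquiv.symm κ :=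
    (((sheafificationAdjunction J (Type u)).homEquiv_unit _ _ (secMap κ)).symm).trans (Equiv.apply_symm_apply _ _)
  exact (ConcreteCategory.congr_hom (NatTrans.congr_app e (op V)) h).trans rfl

lemma secMap_gen {U : C} (κ : K.obj.obj (op U)) : (secMap κ).hom.app (op U) (gen J U) = κ := by
  rw [gen, secMap_toSheafify, op_id, FunctorToTypes.map_id_apply]

lemma map_comp_op {U V W : C} (g : V ⟶ U) (k : W ⟶ V) (s : K.obj.obj (op U)) :
    K.obj.map (k ≫ g).op s = K.obj.map k.op (K.obj.map g.op s) :=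
  FunctorToTypes.map_comp_apply K.obj g.op k.op s

/-- Quasi-compactness in terms of sections. -/
theorem qc_sections (hK : CohCx.IsQcObject K) (P : ∀ W : C, K.obj.obj (op W) → Prop)
    (hloc : ∀ (U : C) (s : K.obj.obj (op U)), ModPull.Locally J U (fun V g => P V (K.obj.map g.op s))) :
    ∃ (n : Type u) (_ : Finite n) (W : n → C) (κ : ∀ i, K.obj.obj (op (W i))), (∀ i, P (W i) (κ i)) ∧
      ∀ (U : C) (s : K.obj.obj (op U)), ModPull.Locally J U (fun V g =>
        ∃ (i : n) (h : V ⟶ W i), K.obj.map h.op (κ i) = K.obj.map g.op s) := by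
  let I := Σ W : C, {κ : K.obj.obj (op W) // P W κ}
  have hj : CohCx.JointlySurjective (fun i : I => secMap i.2.1) := fun U s => by
    obtain ⟨S, hS, hSp⟩ := hloc U s
    exact ⟨S, hS, fun V g hg => ⟨⟨V, _, hSp g hg⟩, gen J V, secMap_gen _⟩⟩
  obtain ⟨t, ht⟩ := hK I _ _ hj
  refine ⟨t, inferInstance, fun i => i.1.1, fun i => i.1.2.1, fun i => i.1.2.2, fun U s => ?_⟩
  obtain ⟨T, hT, hTp⟩ := ht U s
  refine ModPull.Locally.bind (P := fun V g => T g) ⟨T, hT, fun V g hg => hg⟩ fun V g hg => ?_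
  obtain ⟨i, x, hx⟩ := hTp V g hg
  refine ⟨_, Presheaf.imageSieve_mem J (toSheafify J (yoneda.obj i.1.1)) (U := op V) x, fun V' k hk => ?_⟩
  obtain ⟨h, hh⟩ := hk
  refine ⟨i, h, ?_⟩
  rw [map_comp_op, ← hx, ← secMap_toSheafify i.1.2.1 h, hh]
  exact NatTrans.naturality_apply (secMap i.1.2.1).hom k.op x

/-- A criterion for quasi-compactness. -/
theorem isQc_of_finite {n : Type u} [Finite n] (W : n → C) (κ : ∀ i, K.obj.obj (op (W i)))
    (hcov : ∀ (U : C) (s : K.obj.obj (op U)), ModPull.Locally J U (fun V g =>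
        ∃ (i : n) (h : V ⟶ W i), K.obj.map h.op (κ i) = K.obj.map g.op s))
    (hfin : ∀ i, ∀ T ∈ J (W i), ∃ (m : Type u) (_ : Finite m) (Y : m → C) (f : ∀ j, Y j ⟶ W i),
      (∀ j, (T : Sieve (W i)) (f j)) ∧ Sieve.ofArrows Y f ∈ J (W i)) : CohCx.IsQcObject K := by
  classical
  intro I L G hG
  choose T hT hTp using fun i => hG (W i) (κ i)
  choose m hm Y f hf hY using fun i => hfin i (T i) (hT i)
  choose a x hx using fun i j => hTp i (Y i j) (f i j) (hf i j)
  haveI := fun i => hm i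
  haveI : Fintype (Σ i, m i) := Fintype.ofFinite _
  refine ⟨Finset.univ.image (fun s : Σ i, m i => a s.1 s.2), fun U s => ?_⟩
  obtain ⟨S, hS, hSp⟩ := (hcov U s).bind (Q := fun V g => ∃ (i : n) (j : m i) (h : V ⟶ Y i j),
      K.obj.map (h ≫ f i j).op (κ i) = K.obj.map g.op s) fun V g hg => by
    obtain ⟨i, h, hh⟩ := hg
    refine ⟨(Sieve.ofArrows (Y i) (f i)).pullback h, J.pullback_stable h (hY i), fun V' k hk => ?_⟩
    obtain ⟨_, q, _, ⟨j⟩, e⟩ := hk
    refine ⟨i, j, q, ?_⟩
    rw [e, map_comp_op, hh, ← map_comp_op]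
  refine ⟨S, hS, fun V g hg => ?_⟩
  obtain ⟨i, j, h, hh⟩ := hSp g hg
  refine ⟨⟨a i j, Finset.mem_image.2 ⟨⟨i, j⟩, Finset.mem_univ _, rfl⟩⟩, (L (a i j)).obj.map h.op (x i j), ?_⟩
  rw [← hh, map_comp_op, ← hx i j]
  exact NatTrans.naturality_apply (G (a i j)).hom h.op (x i j)

/-- A factor of a quasi-compact square is quasi-compact, in terms of sections. -/
theorem qc_sections_of_prod (hK : CohCx.IsQcObject (K ⨯ K)) (P : ∀ W : C, K.obj.obj (op W) → Prop)
    (hloc : ∀ (U : C) (s : K.obj.obj (op U)), ModPull.Locally J U (fun V g => P V (K.obj.map g.op s))) :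
    ∃ (n : Type u) (_ : Finite n) (W : n → C) (κ : ∀ i, K.obj.obj (op (W i))), (∀ i, P (W i) (κ i)) ∧
      ∀ (U : C) (s : K.obj.obj (op U)), ModPull.Locally J U (fun V g =>
        ∃ (i : n) (h : V ⟶ W i), K.obj.map h.op (κ i) = K.obj.map g.op s) := by
  let p₁ : K ⨯ K ⟶ K := prod.fst
  obtain ⟨n, hn, W, p, hp, hcov⟩ := qc_sections hK (fun W p => P W (p₁.hom.app (op W) p)) fun U s =>
    (hloc U (p₁.hom.app (op U) s)).mono fun V g hg => by
      rw [NatTrans.naturality_apply p₁.hom g.op s]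
      exact hg
  refine ⟨n, hn, W, fun i => p₁.hom.app _ (p i), hp, fun U s => ?_⟩
  let d : K ⟶ K ⨯ K := prod.lift (𝟙 K) (𝟙 K)
  have hd : ∀ {V : C} (y : K.obj.obj (op V)), p₁.hom.app (op V) (d.hom.app (op V) y) = y := fun {V} y =>
    ConcreteCategory.congr_hom (congrArg (fun q : K ⟶ K => q.hom.app (op V))
      (prod.lift_fst (𝟙 K) (𝟙 K) : d ≫ p₁ = 𝟙 K)) y
  refine (hcov U (d.hom.app (op U) s)).mono fun V g hg => ?_
  obtain ⟨i, h, hh⟩ := hg
  refine ⟨i, h, ?_⟩
  rw [← NatTrans.naturality_apply p₁.hom h.op (p i), hh, NatTrans.naturality_apply p₁.hom g.op, hd]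

lemma exists_pair {U : C} (κ₁ κ₂ : K.obj.obj (op U)) : ∃ p : (K ⨯ K).obj.obj (op U),
    (prod.fst : K ⨯ K ⟶ K).hom.app (op U) p = κ₁ ∧ (prod.snd : K ⨯ K ⟶ K).hom.app (op U) p = κ₂ := by
  refine ⟨(prod.lift (secMap κ₁) (secMap κ₂)).hom.app (op U) (gen J U), ?_, ?_⟩
  · exact (ConcreteCategory.congr_hom (congrArg (fun q : hs J U ⟶ K => q.hom.app (op U))
      (prod.lift_fst (secMap κ₁) (secMap κ₂))) (gen J U)).trans (secMap_gen κ₁)
  · exact (ConcreteCategory.congr_hom (congrArg (fun q : hs J U ⟶ K => q.hom.app (op U))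
      (prod.lift_snd (secMap κ₁) (secMap κ₂))) (gen J U)).trans (secMap_gen κ₂)

lemma terminal_ext {U : C} (s t : (⊤_ Sheaf J (Type u)).obj.obj (op U)) : s = t := by
  rw [← secMap_gen s, ← secMap_gen t, terminal.hom_ext (secMap s) (secMap t)]

lemma locally_nonempty_of_epi (hK : Epi (terminal.from K)) (U : C) :
    ModPull.Locally J U (fun V _ => Nonempty (K.obj.obj (op V))) := by
  haveI : Presheaf.IsLocallySurjective J (terminal.from K).hom :=
    (Sheaf.isLocallySurjective_iff_epi' (A := Type u) _).2 hK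
  exact ⟨_, Presheaf.imageSieve_mem J (terminal.from K).hom (U := op U)
    ((terminal.from (hs J U)).hom.app (op U) (gen J U)), fun V g hg => ⟨hg.choose⟩⟩

lemma epi_of_locally_nonempty (h : ∀ U : C, ModPull.Locally J U (fun V _ => Nonempty (K.obj.obj (op V)))) :
    Epi (terminal.from K) := by
  refine (Sheaf.isLocallySurjective_iff_epi' (A := Type u) _).1 ⟨fun {U} s => ?_⟩
  obtain ⟨S, hS, hSp⟩ := h U
  exact J.superset_covering (fun V g hg => ⟨(hSp g hg).some, terminal_ext _ _⟩) hS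

end Qc

variable {O : Sheaf J CommRingCat.{u}} {F : ModSite.Mod O} {Λ : Type u} [SmallCategory Λ] [IsFiltered Λ]
  {D : Λ ⥤ ModSite.Mod O} {c : Cocone D}

variable (S : Set (Sheaf J (Type u)))
  (hSa : ∀ G : Sheaf J (Type u), Epi (terminal.from G) → ∃ K ∈ S, Epi (terminal.from K) ∧ Nonempty (K ⟶ G))
  (hSb : ∀ K ∈ S, CohCx.IsQcObject (K ⨯ K))

include hSa hSb in
/-- Injectivity. -/
theorem exists_comp_eq_zero [SheafOfModules.IsFiniteType (R := ModSite.ringSh O) F] (hc : IsColimit c) {l : Λ}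
    (φ : F ⟶ D.obj l) (hφ : φ ≫ c.ι.app l = 0) : ∃ (l' : Λ) (t : l ⟶ l'), φ ≫ D.map t = 0 := by
  classical
  haveI : Epi (terminal.from (⊤_ Sheaf J (Type u))) := by
    rw [terminal.hom_ext (terminal.from (⊤_ Sheaf J (Type u))) (𝟙 _)]; infer_instance
  obtain ⟨K, hKS, hK, -⟩ := hSa _ this
  obtain ⟨n, hn, W, κ, hP, hcov⟩ := qc_sections_of_prod (hSb K hKS)
    (fun W _ => ∃ (l' : Λ) (t : l ⟶ l'), (LHom.ofHom φ W).post (D.map t) = LHom.zero F (D.obj l') W) fun U s => by
      refine (locally_exists_gens F U).bind fun V g hg => ?_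
      obtain ⟨m, x, hx⟩ := hg
      refine (locally_zero hc hx (LHom.ofHom φ V) ?_).mono fun V' k hk => hk
      rw [LHom.ofHom_post, hφ]
      exact LHom.hext fun W f y => rfl
  haveI := Fintype.ofFinite n
  obtain ⟨l', t, ht⟩ := exists_common_stage Finset.univ
    (fun i l' t => (LHom.ofHom φ (W i)).post (D.map t) = LHom.zero F (D.obj l') (W i))
    (fun i a b t r h => by rw [Functor.map_comp, ← LHom.post_post, h, LHom.zero_post]) fun i _ => hP i
  refine ⟨l', t, hom_ext_ofHom fun U => LHom.ext_locally ?_⟩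
  refine (locally_nonempty_of_epi hK U).bind fun V g hg => (hcov V hg.some).mono fun V' k hk => ?_
  obtain ⟨i, h, -⟩ := hk
  rw [LHom.ofHom_res, LHom.ofHom_res]
  have e := congrArg (fun τ : LHom F (D.obj l') (W i) => τ.res h) (ht i (Finset.mem_univ i))
  simp only [LHom.ofHom_res, LHom.ofHom_post] at e
  exact e.trans (LHom.hext fun W f y => rfl)

/-- A lift at some stage. -/
abbrev LiftT (φ : F ⟶ c.pt) (U : C) : Type u :=
  Σ l : Λ, {ψ : LHom F (D.obj l) U // ψ.post (c.ι.app l) = LHom.ofHom φ U}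

lemma liftT_ext (φ : F ⟶ c.pt) {U : C} {l : Λ} {ψ ψ' : LHom F (D.obj l) U} (h : ψ = ψ')
    (hp : ψ.post (c.ι.app l) = LHom.ofHom φ U) (hq : ψ'.post (c.ι.app l) = LHom.ofHom φ U) :
    (⟨l, ψ, hp⟩ : LiftT φ U) = ⟨l, ψ', hq⟩ := by
  subst h; rfl

/-- The presheaf of lifts of a map to the colimit. -/
def liftsPre (φ : F ⟶ c.pt) : Cᵒᵖ ⥤ Type u where
  obj U := LiftT φ U.unop
  map {U V} g := ↾fun e => ⟨e.1, e.2.1.res g.unop, by rw [← LHom.post_res, e.2.2, LHom.ofHom_res]⟩
  map_id U := by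
    refine ConcreteCategory.hom_ext _ _ fun e => ?_
    obtain ⟨l, ψ, hψ⟩ := e
    exact liftT_ext φ (LHom.res_id ψ) _ hψ
  map_comp {U V W} g h := by
    refine ConcreteCategory.hom_ext _ _ fun e => ?_
    obtain ⟨l, ψ, hψ⟩ := e
    exact liftT_ext φ (LHom.res_res ψ g.unop h.unop).symm (by rw [← LHom.post_res, hψ, LHom.ofHom_res]) _

include hSa hSb in
/-- Surjectivity. -/
theorem exists_lift [SheafOfModules.IsFinitePresentation (R := ModSite.ringSh O) F] (hc : IsColimit c)
    (φ : F ⟶ c.pt) : ∃ (l : Λ) (ψ : F ⟶ D.obj l), ψ ≫ c.ι.app l = φ := by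
  classical
  let Lp := liftsPre φ
  let A := (presheafToSheaf J (Type u)).obj Lp
  let η := toSheafify J Lp
  have hA : Epi (terminal.from A) := epi_of_locally_nonempty fun U =>
    (locally_exists_pres F U).bind fun V g hg => (locally_lift hc hg.some (LHom.ofHom φ V)).mono fun V' k hk => by
      obtain ⟨l, ψ, hψ⟩ := hk
      exact ⟨η.app (op V') (⟨l, ψ, hψ⟩ : Lp.obj (op V'))⟩
  obtain ⟨K, hKS, hK, ⟨f⟩⟩ := hSa A hA
  obtain ⟨n, hn, W, κ, hP, hcov⟩ := qc_sections_of_prod (hSb K hKS)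
    (fun W κ => ∃ e : Lp.obj (op W), η.app (op W) e = f.hom.app (op W) κ) fun U s =>
      ⟨_, Presheaf.imageSieve_mem J η (U := op U) (f.hom.app (op U) s), fun V g hg =>
        ⟨hg.choose, hg.choose_spec.trans (NatTrans.naturality_apply f.hom g.op s).symm⟩⟩
  choose e he using hP
  haveI := Fintype.ofFinite n
  let l₀ : Λ := IsFiltered.nonempty.some
  obtain ⟨m, hm⟩ := IsFiltered.sup_objs_exists (insert l₀ (Finset.univ.image fun i => (e i).1))
  let pushm : ∀ {U : C}, Lp.obj (op U) → LHom F (D.obj m) U := fun {U} x =>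
    if h : Nonempty (x.1 ⟶ m) then x.2.1.post (D.map h.some) else LHom.zero F (D.obj m) U
  have pushm_res : ∀ {U V : C} (a : V ⟶ U) (x : Lp.obj (op U)), pushm (Lp.map a.op x) = (pushm x).res a := by
    intro U V a x
    show dite _ _ _ = (dite _ _ _ : LHom F (D.obj m) U).res a
    by_cases h : Nonempty (x.1 ⟶ m)
    · rw [dif_pos h, dif_pos (show Nonempty ((Lp.map a.op x).1 ⟶ m) from h)]
      rfl
    · rw [dif_neg h, dif_neg (show ¬Nonempty ((Lp.map a.op x).1 ⟶ m) from h)]
      rfl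
  have hne : ∀ i, Nonempty ((e i).1 ⟶ m) := fun i =>
    hm (Finset.mem_insert_of_mem (Finset.mem_image_of_mem _ (Finset.mem_univ i)))
  let ψi : ∀ i, LHom F (D.obj m) (W i) := fun i => pushm (e i)
  have hψi : ∀ i, (ψi i).post (c.ι.app m) = LHom.ofHom φ (W i) := fun i => by
    show (dite _ _ _ : LHom F (D.obj m) (W i)).post _ = _
    rw [dif_pos (hne i), LHom.post_post, c.w]
    exact (e i).2.2
  have key : ∀ {V : C} (i j : n) (h : V ⟶ W i) (h' : V ⟶ W j),
      K.obj.map h.op (κ i) = K.obj.map h'.op (κ j) → (ψi i).res h = (ψi j).res h' := by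
    intro V i j h h' hh
    have e1 : η.app (op V) (Lp.map h.op (e i)) = η.app (op V) (Lp.map h'.op (e j)) := by
      rw [NatTrans.naturality_apply η h.op, NatTrans.naturality_apply η h'.op, he, he,
        ← NatTrans.naturality_apply f.hom h.op, ← NatTrans.naturality_apply f.hom h'.op, hh]
    refine LHom.ext_locally ⟨_, Presheaf.equalizerSieve_mem J η (X := op V) _ _ e1, fun V' k hk => ?_⟩
    have hk' : Lp.map k.op (Lp.map h.op (e i)) = Lp.map k.op (Lp.map h'.op (e j)) := hk
    have := congrArg pushm hk'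
    rwa [pushm_res, pushm_res, pushm_res, pushm_res] at this
  let S' : ∀ {U : C}, K.obj.obj (op U) → Sieve U := fun {U} s =>
    { arrows := fun V g => ∃ (i : n) (h : V ⟶ W i), K.obj.map h.op (κ i) = K.obj.map g.op s
      downward_closed := by
        rintro V V' g ⟨i, h, hh⟩ k
        exact ⟨i, k ≫ h, by rw [map_comp_op, hh, ← map_comp_op]⟩ }
  have hex : ∀ (U : C) (s : K.obj.obj (op U)), ∃ σ : LHom F (D.obj m) U,
      ∀ ⦃V : C⦄ (g : V ⟶ U) (i : n) (h : V ⟶ W i), K.obj.map h.op (κ i) = K.obj.map g.op s →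
        σ.res g = (ψi i).res h := by
    intro U s
    have hS' : S' s ∈ J U := by
      obtain ⟨T, hT, hTp⟩ := hcov U s
      exact J.superset_covering (fun V g hg => hTp g hg) hT
    obtain ⟨σ, hσ⟩ := exists_glue (S' s) hS' (fun V g hg => (ψi hg.choose).res hg.choose_spec.choose)
      (fun V' V k g hg => by
        rw [LHom.res_res]
        refine key _ _ _ _ ((Exists.choose_spec (Exists.choose_spec ((S' s).downward_closed hg k))).trans ?_)
        rw [map_comp_op, map_comp_op, hg.choose_spec.choose_spec])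
    refine ⟨σ, fun V g i h hh => ?_⟩
    have hg : S' s g := ⟨i, h, hh⟩
    exact (hσ g hg).trans (key _ _ _ _ (hg.choose_spec.choose_spec.trans hh.symm))
  choose σ hσ using hex
  have σ_res : ∀ {U V : C} (a : V ⟶ U) (s : K.obj.obj (op U)), (σ U s).res a = σ V (K.obj.map a.op s) := by
    intro U V a s
    refine LHom.ext_locally ((hcov V (K.obj.map a.op s)).mono fun V' g hg => ?_)
    obtain ⟨i, h, hh⟩ := hg
    rw [LHom.res_res, hσ U s (g ≫ a) i h (by rw [hh, map_comp_op]), hσ V _ g i h hh]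
  have σ_post : ∀ (U : C) (s : K.obj.obj (op U)), (σ U s).post (c.ι.app m) = LHom.ofHom φ U := by
    intro U s
    refine LHom.ext_locally ((hcov U s).mono fun V g hg => ?_)
    obtain ⟨i, h, hh⟩ := hg
    rw [LHom.post_res, hσ U s g i h hh, ← LHom.post_res, hψi, LHom.ofHom_res, LHom.ofHom_res]
  let q₁ : K ⨯ K ⟶ K := prod.fst
  let q₂ : K ⨯ K ⟶ K := prod.snd
  obtain ⟨n₂, hn₂, W₂, p, hp, hcov₂⟩ := qc_sections (hSb K hKS)
    (fun W p => ∃ (m' : Λ) (t : m ⟶ m'),
      (σ W (q₁.hom.app (op W) p)).post (D.map t) = (σ W (q₂.hom.app (op W) p)).post (D.map t)) fun U p => by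
      refine (locally_exists_gens F U).bind fun V g hg => ?_
      obtain ⟨k', x, hx⟩ := hg
      let d := (σ V (q₁.hom.app _ ((K ⨯ K).obj.map g.op p))).sub (σ V (q₂.hom.app _ ((K ⨯ K).obj.map g.op p)))
      refine (locally_zero hc hx d (by rw [LHom.sub_post, σ_post, σ_post, LHom.sub_self]; rfl)).mono fun V' k hk => ?_
      obtain ⟨m', t, ht⟩ := hk
      refine ⟨m', t, LHom.sub_eq_zero ?_⟩
      rw [map_comp_op, NatTrans.naturality_apply q₁.hom k.op, NatTrans.naturality_apply q₂.hom k.op,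
        ← σ_res, ← σ_res, ← LHom.sub_post]
      exact ht
  haveI := Fintype.ofFinite n₂
  obtain ⟨m', t, ht⟩ := exists_common_stage Finset.univ
    (fun i m' t => (σ (W₂ i) (q₁.hom.app _ (p i))).post (D.map t) = (σ (W₂ i) (q₂.hom.app _ (p i))).post (D.map t))
    (fun i a b t r h => by rw [Functor.map_comp, ← LHom.post_post, ← LHom.post_post, h]) fun i _ => hp i
  have indep : ∀ (U : C) (s₁ s₂ : K.obj.obj (op U)), (σ U s₁).post (D.map t) = (σ U s₂).post (D.map t) := by
    intro U s₁ s₂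
    obtain ⟨pp, h₁, h₂⟩ := exists_pair s₁ s₂
    refine LHom.ext_locally ((hcov₂ U pp).mono fun V g hg => ?_)
    obtain ⟨i, h, hh⟩ := hg
    have e0 := congrArg (fun τ : LHom F (D.obj m') (W₂ i) => τ.res h) (ht i (Finset.mem_univ i))
    simp only [LHom.post_res, σ_res] at e0 ⊢
    rw [← NatTrans.naturality_apply q₁.hom h.op, ← NatTrans.naturality_apply q₂.hom h.op, hh,
      NatTrans.naturality_apply q₁.hom g.op, NatTrans.naturality_apply q₂.hom g.op] at e0
    rw [← h₁, ← h₂]
    exact e0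
  let T : ∀ U : C, Sieve U := fun U =>
    { arrows := fun V _ => Nonempty (K.obj.obj (op V))
      downward_closed := fun {V V' _} hV k => hV.map (K.obj.map k.op) }
  have hT : ∀ U, T U ∈ J U := fun U => by
    obtain ⟨R, hR, hRp⟩ := locally_nonempty_of_epi hK U
    exact J.superset_covering (fun V g hg => hRp g hg) hR
  choose τ hτ using fun U => exists_glue (T U) (hT U) (fun V g hg => (σ V hg.some).post (D.map t))
    (fun V' V k g hg => by rw [LHom.post_res, σ_res]; exact indep V' _ _)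
  have τ_res : ∀ {V U : C} (g : V ⟶ U) (s : K.obj.obj (op V)), (τ U).res g = (σ V s).post (D.map t) := fun g s =>
    (hτ _ g ⟨s⟩).trans (indep _ _ _)
  obtain ⟨ψ, hψ⟩ := exists_hom τ fun V U a => LHom.ext_locally ((locally_nonempty_of_epi hK V).mono fun V' g hg => by
    rw [LHom.res_res, τ_res (g ≫ a) hg.some, τ_res g hg.some])
  refine ⟨m', ψ, hom_ext_ofHom fun U => LHom.ext_locally ((locally_nonempty_of_epi hK U).mono fun V g hg => ?_)⟩
  rw [← LHom.ofHom_post, hψ, LHom.post_res, τ_res g hg.some, LHom.post_post, c.w, σ_post, LHom.ofHom_res]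

include hSa hSb in
/-- Maps out of a finitely presented module commute with filtered colimits. -/
theorem preservesColimit_coyoneda [SheafOfModules.IsFinitePresentation (R := ModSite.ringSh O) F] :
    PreservesColimit D (coyoneda.obj (op F)) := by
  refine ⟨fun {c} hc => ⟨Types.FilteredColimit.isColimitOf _ _ ?_ ?_⟩⟩
  · intro φ
    obtain ⟨l, ψ, hψ⟩ := exists_lift S hSa hSb hc φ
    exact ⟨l, ψ, hψ.symm⟩
  · intro i j a b hab
    let k := IsFiltered.max i j
    let ri := IsFiltered.leftToMax i j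
    let rj := IsFiltered.rightToMax i j
    obtain ⟨l', t, ht⟩ := exists_comp_eq_zero S hSa hSb hc (l := k) (a ≫ D.map ri - b ≫ D.map rj) (by
      rw [Preadditive.sub_comp, Category.assoc, Category.assoc, c.w, c.w, sub_eq_zero]
      exact hab)
    refine ⟨l', ri ≫ t, rj ≫ t, ?_⟩
    rw [Preadditive.sub_comp, sub_eq_zero, Category.assoc, Category.assoc, ← Functor.map_comp,
      ← Functor.map_comp] at ht
    exact ht

end Groth.Agent.HomColim
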