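import Groth.Agent.ModTensor.Basic
import Mathlib

/-!
# Quasi-coherent modules for the chaotic topology
-/

set_option autoImplicit false
set_option backward.isDefEq.respectTransparency false
set_option linter.style.haveILetI false
set_option linter.unusedSectionVars false
set_option maxHeartbeats 400000

universe u

open CategoryTheory CategoryTheory.Limits Opposite TensorProduct

noncomputable section

namespace Groth.Agent.Chaotic

open Groth.Agent.ModTensor

variable {D : Type u} [SmallCategory D] {K : GrothendieckTopology D}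

/-- The topology has only maximal covering sieves. -/
def Triv (K : GrothendieckTopology D) : Prop := ∀ (X : D) (S : Sieve X), S ∈ K X → S = ⊤

theorem triv_bot : Triv (⊥ : GrothendieckTopology D) := fun _ _ hS =>
  GrothendieckTopology.bot_covering.1 hS

theorem triv_over (hK : Triv K) (U : D) : Triv (K.over U) := fun Z S hS => by
  have h : Sieve.overEquiv Z S = ⊤ := hK _ _ (by simpa [GrothendieckTopology.mem_over_iff] using hS)
  rw [← Sieve.id_mem_iff_eq_top]
  have h1 : (Sieve.overEquiv Z S).arrows (𝟙 Z.left) := by rw [h]; trivial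
  have h2 := (Sieve.overEquiv_iff _ _).1 h1
  obtain ⟨g, hg, e⟩ : ∃ g : Z ⟶ Z, S.arrows g ∧ g = 𝟙 Z :=
    ⟨_, S.downward_closed h2 (Over.homMk (𝟙 Z.left) (by simp) : Z ⟶ Over.mk (𝟙 Z.left ≫ Z.hom)),
      Over.OverMorphism.ext (by simp)⟩
  rw [← e]
  exact hg

theorem isSheaf_of_triv (hK : Triv K) {A : Type*} [Category A] (P : Dᵒᵖ ⥤ A) :
    Presheaf.IsSheaf K P := fun E U S hS => by
  rw [hK U S hS]
  exact Presieve.isSheafFor_top_sieve _

variable (O : Sheaf K CommRingCat.{u})

theorem isEquivalence_fg (hK : Triv K) : (fg O).IsEquivalence :=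
  haveI : (fg O).EssSurj := ⟨fun P => ⟨⟨P, isSheaf_of_triv hK _⟩, ⟨Iso.refl _⟩⟩⟩
  { faithful := inferInstance, full := inferInstance, essSurj := inferInstance }

/-- Evaluation. -/
abbrev ev (V : Dᵒᵖ) : ModSite.Mod O ⥤ ModuleCat.{u} (O.obj.obj V) :=
  SheafOfModules.forget (ModSite.ringSh O) ⋙
    PresheafOfModules.evaluation.{u} (ModSite.ringSh O).obj V

/-- The sections over an object as a module over the sections of the ring. -/
abbrev md (M : ModSite.Mod O) (V : Dᵒᵖ) : ModuleCat.{u} (O.obj.obj V) := M.val.obj V

/-- Restriction as a semilinear map. -/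
abbrev mp (M : ModSite.Mod O) {V U : Dᵒᵖ} (g : V ⟶ U) :
    md O M V ⟶ (ModuleCat.restrictScalars (O.obj.map g).hom).obj (md O M U) := M.val.map g

theorem preservesColimits_ev (hK : Triv K) (V : Dᵒᵖ) : PreservesColimitsOfSize.{u, u} (ev O V) :=
  haveI := isEquivalence_fg O hK
  haveI h1 : PreservesColimitsOfSize.{u, u} (SheafOfModules.forget.{u} (ModSite.ringSh O)) :=
    inferInstanceAs (PreservesColimitsOfSize.{u, u} (fg O))
  haveI h2 : PreservesColimitsOfSize.{u, u}
      (PresheafOfModules.evaluation.{u} (ModSite.ringSh O).obj V) := inferInstance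
  @comp_preservesColimits _ _ _ _ _ _ _ _ h1 h2

theorem preservesFiniteLimits_ev (V : Dᵒᵖ) : PreservesFiniteLimits (ev O V) :=
  haveI h1 : PreservesFiniteLimits (SheafOfModules.forget.{u} (ModSite.ringSh O)) := inferInstance
  haveI h2 : PreservesFiniteLimits
      (PresheafOfModules.evaluation.{u} (ModSite.ringSh O).obj V) := inferInstance
  @comp_preservesFiniteLimits _ _ _ _ _ _ _ _ h1 h2

theorem preservesZeroMorphisms_ev (W : Dᵒᵖ) : (ev O W).PreservesZeroMorphisms := ⟨fun _ _ => rfl⟩

variable {V U : Dᵒᵖ} (g : V ⟶ U)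

/-- Base change of sections. -/
abbrev bc : ModSite.Mod O ⥤ ModuleCat.{u} (O.obj.obj U) :=
  ev O V ⋙ ModuleCat.extendScalars.{u, u, u} (O.obj.map g).hom

theorem preservesColimits_bc (hK : Triv K) : PreservesColimitsOfSize.{u, u} (bc O g) :=
  haveI := preservesColimits_ev O hK V
  haveI : PreservesColimitsOfSize.{u, u} (ModuleCat.extendScalars.{u, u, u} (O.obj.map g).hom) :=
    (ModuleCat.extendRestrictScalarsAdj (O.obj.map g).hom).leftAdjoint_preservesColimits
  comp_preservesColimits _ _

/-- The comparison from base change of sections to sections. -/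
def theta : bc O g ⟶ ev O U where
  app M := ((ModuleCat.extendRestrictScalarsAdj (O.obj.map g).hom).homEquiv
    (md O M V) (md O M U)).symm (mp O M g)
  naturality M N f := by
    apply ((ModuleCat.extendRestrictScalarsAdj (O.obj.map g).hom).homEquiv _ _).injective
    refine ((ModuleCat.extendRestrictScalarsAdj (O.obj.map g).hom).homEquiv_naturality_left _ _).trans ?_
    refine Eq.trans ?_ ((ModuleCat.extendRestrictScalarsAdj (O.obj.map g).hom).homEquiv_naturality_right _ _).symm
    refine (congrArg (fun z => (ev O V).map f ≫ z) (Equiv.apply_symm_apply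
      ((ModuleCat.extendRestrictScalarsAdj (O.obj.map g).hom).homEquiv (md O N V) (md O N U)) _)).trans ?_
    refine Eq.trans ?_ (congrArg (fun z => z ≫ (ModuleCat.restrictScalars (O.obj.map g).hom).map ((ev O U).map f))
      (Equiv.apply_symm_apply
        ((ModuleCat.extendRestrictScalarsAdj (O.obj.map g).hom).homEquiv (md O M V) (md O M U)) _)).symm
    exact (f.val.naturality g).symm

theorem theta_tmul (M : ModSite.Mod O) (m : M.val.obj V) :
    ((theta O g).app M).hom ((1 : O.obj.obj U) ⊗ₜ m) = (M.val.map g).hom m := by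
  have h := ((ModuleCat.extendRestrictScalarsAdj (O.obj.map g).hom).homEquiv
    (md O M V) (md O M U)).apply_symm_apply (mp O M g)
  exact congrArg (fun φ => φ.hom m) h

/-- The structure sheaf. -/
abbrev un : ModSite.Mod O := SheafOfModules.unit (ModSite.ringSh O)

/-- The unit of the sections of the structure sheaf. -/
abbrev oneAt (W : Dᵒᵖ) : md O (un O) W := (1 : O.obj.obj W)

theorem hom_ext_one {W : Dᵒᵖ} {N : ModuleCat.{u} (O.obj.obj W)} {f f' : md O (un O) W ⟶ N}
    (h : f.hom (oneAt O W) = f'.hom (oneAt O W)) : f = f' := by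
  refine ModuleCat.hom_ext (LinearMap.ext fun x => ?_)
  have hx : x = (show O.obj.obj W from x) • oneAt O W :=
    (mul_one (show O.obj.obj W from x)).symm
  rw [hx, map_smul, map_smul, h]

theorem isIso_theta_unit : IsIso ((theta O g).app (un O)) := by
  let t : (bc O g).obj (un O) := (1 : O.obj.obj U) ⊗ₜ oneAt O V
  let ψ : md O (un O) U ⟶ (bc O g).obj (un O) :=
    ModuleCat.ofHom
      { toFun := fun r => (show O.obj.obj U from r) • t
        map_add' := fun r r' => add_smul (show O.obj.obj U from r) (show O.obj.obj U from r') t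
        map_smul' := fun r r' => mul_smul r (show O.obj.obj U from r') t }
  have h1 : ((theta O g).app (un O)).hom t = oneAt O U :=
    (theta_tmul O g _ _).trans (map_one (O.obj.map g).hom)
  have h2 : ψ.hom (oneAt O U) = t := one_smul _ t
  refine ⟨ψ, ?_, ?_⟩
  · apply ((ModuleCat.extendRestrictScalarsAdj (O.obj.map g).hom).homEquiv _ _).injective
    refine hom_ext_one O ?_
    exact (congrArg ψ.hom h1).trans h2
  · refine hom_ext_one O ?_
    exact (congrArg ((theta O g).app (un O)).hom h2).trans h1

/-- Natural transformations invertible on a diagram are invertible at its colimit. -/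
theorem isIso_app_of_isColimit {A B : Type*} [Category A] [Category B] {J : Type*} [Category J]
    {F G : A ⥤ B} (α : F ⟶ G) {L : J ⥤ A} (c : Cocone L) (hc : IsColimit c)
    [PreservesColimit L F] [PreservesColimit L G] (h : ∀ j, IsIso (α.app (L.obj j))) :
    IsIso (α.app c.pt) := by
  haveI : ∀ j, IsIso ((Functor.whiskerLeft L α).app j) := h
  haveI : IsIso (Functor.whiskerLeft L α) := NatIso.isIso_of_isIso_app _
  let e : L ⋙ F ≅ L ⋙ G := asIso (Functor.whiskerLeft L α)
  have he : α.app c.pt = (IsColimit.coconePointsIsoOfNatIso (isColimitOfPreserves F hc)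
      (isColimitOfPreserves G hc) e).hom := by
    refine (isColimitOfPreserves F hc).hom_ext fun j => ?_
    rw [IsColimit.comp_coconePointsIsoOfNatIso_hom]
    exact α.naturality (c.ι.app j)
  rw [he]
  infer_instance

theorem isIso_theta_free (hK : Triv K) (I : Type u) :
    IsIso ((theta O g).app (SheafOfModules.free (R := ModSite.ringSh O) I)) := by
  haveI := preservesColimits_ev O hK U
  haveI := preservesColimits_bc O g hK
  have h0 : ∀ j : Discrete I, IsIso ((theta O g).app
      ((Discrete.functor fun _ : I => un O).obj j)) := fun _ => isIso_theta_unit O g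
  exact @isIso_app_of_isColimit (ModSite.Mod O) (ModuleCat.{u} (O.obj.obj U)) _ _ (Discrete I) _
    (bc O g) (ev O U) (theta O g) (Discrete.functor fun _ : I => un O)
    (SheafOfModules.freeCofan (R := ModSite.ringSh O) I)
    (SheafOfModules.isColimitFreeCofan I) inferInstance inferInstance h0

theorem isIso_theta_of_isColimit (hK : Triv K) {A B M : ModSite.Mod O} {a : A ⟶ B} {p : B ⟶ M}
    (w : a ≫ p = 0) (hc : IsColimit (CokernelCofork.ofπ p w))
    (hA : IsIso ((theta O g).app A)) (hB : IsIso ((theta O g).app B)) :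
    IsIso ((theta O g).app M) := by
  haveI := preservesColimits_ev O hK U
  haveI := preservesColimits_bc O g hK
  haveI := preservesColimitsOfSize_shrink.{0, u, 0, u} (ev O U)
  haveI := preservesColimitsOfSize_shrink.{0, u, 0, u} (bc O g)
  have h0 : ∀ j, IsIso ((theta O g).app ((parallelPair a 0).obj j)) := by
    rintro (_ | _)
    · exact hA
    · exact hB
  exact @isIso_app_of_isColimit (ModSite.Mod O) (ModuleCat.{u} (O.obj.obj U)) _ _ WalkingParallelPair _
    (bc O g) (ev O U) (theta O g) (parallelPair a 0) (CokernelCofork.ofπ p w) hc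
    inferInstance inferInstance h0

theorem isIso_theta_of_presentation (hK : Triv K) {M : ModSite.Mod O}
    (P : SheafOfModules.Presentation (R := ModSite.ringSh O) M) : IsIso ((theta O g).app M) :=
  isIso_theta_of_isColimit O g hK (p := P.generators.π) (by simp) P.isColimit (isIso_theta_free O g hK _) (isIso_theta_free O g hK _)

section Terminal

variable {O} {T : D} (hT : IsTerminal T)

/-- The global section with a given value at the terminal object. -/
def secOf (M : ModSite.Mod O) (s : M.val.obj (op T)) : M.sections :=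
  PresheafOfModules.sectionsMk (fun Z => (M.val.map (hT.from Z.unop).op).hom s) fun Z W f => by
    refine (M.val.map_comp_apply (hT.from Z.unop).op f s).symm.trans ?_
    exact PresheafOfModules.congr_map_apply M.val (Quiver.Hom.unop_inj (hT.hom_ext _ _)) s

theorem secOf_val (M : ModSite.Mod O) (s : M.val.obj (op T)) : (secOf hT M s).val (op T) = s := by
  refine (PresheafOfModules.congr_map_apply M.val
    (show (hT.from T).op = 𝟙 (op T) from congrArg Quiver.Hom.op (hT.from_self)) s).trans ?_
  rw [PresheafOfModules.map_id]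
  rfl

theorem free_apply (M : ModSite.Mod O) {I : Type u} (s : I → M.sections) (i : I) (Z : Dᵒᵖ) :
    ((M.freeHomEquiv.symm s).val.app Z).hom ((SheafOfModules.freeSection i).val Z) = (s i).val Z := by
  have h := congrFun (M.freeHomEquiv.apply_symm_apply s) i
  rw [SheafOfModules.freeHomEquiv_apply] at h
  exact congrArg (fun t : M.sections => t.val Z) h

include hT in
theorem nonempty_presentation (hK : Triv K) (M : ModSite.Mod O)
    (hM : ∀ Z : Dᵒᵖ, IsIso ((theta O (hT.from Z.unop).op).app M)) :
    Nonempty (SheafOfModules.Presentation (R := ModSite.ringSh O) M) := by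
  haveI := preservesColimits_ev O hK (op T)
  let F₀ : ModSite.Mod O := SheafOfModules.free (R := ModSite.ringSh O) (M.val.obj (op T) : Type u)
  let p : F₀ ⟶ M := M.freeHomEquiv.symm (fun s : (M.val.obj (op T) : Type u) => secOf hT M s)
  let R₀ : Type u := {x : ((ev O (op T)).obj F₀ : Type u) // ((ev O (op T)).map p).hom x = 0}
  let a : SheafOfModules.free (R := ModSite.ringSh O) R₀ ⟶ F₀ :=
    F₀.freeHomEquiv.symm (fun x : R₀ => secOf hT F₀ x.1)
  have w : a ≫ p = 0 := by
    apply M.freeHomEquiv.injective
    funext x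
    rw [SheafOfModules.freeHomEquiv_comp_apply, Equiv.apply_symm_apply]
    refine PresheafOfModules.sections_ext _ _ fun Z => ?_
    refine (PresheafOfModules.naturality_apply p.val (hT.from Z.unop).op x.1).trans ?_
    refine (congrArg (M.val.map (hT.from Z.unop).op).hom x.2).trans ?_
    rw [map_zero]
    rfl
  have hp : Function.Surjective ((ev O (op T)).map p).hom := fun s =>
    ⟨(SheafOfModules.freeSection s).val (op T), (free_apply M _ s (op T)).trans (secOf_val hT M s)⟩
  haveI : PreservesColimitsOfSize.{0, 0} (ev O (op T)) := preservesColimitsOfSize_shrink.{0, u, 0, u} _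
  let q : cokernel a ⟶ M := cokernel.desc a p w
  have hq : cokernel.π a ≫ q = p := cokernel.π_desc a p w
  have hbij : IsIso ((ev O (op T)).map q) := by
    rw [ConcreteCategory.isIso_iff_bijective]
    refine ⟨(injective_iff_map_eq_zero ((ev O (op T)).map q).hom).2 fun y hy => ?_, fun s => ?_⟩
    · haveI : Epi ((ev O (op T)).map (cokernel.π a)) := inferInstance
      obtain ⟨x, rfl⟩ := (ModuleCat.epi_iff_surjective _).1 this y
      have hx : ((ev O (op T)).map p).hom x = 0 := by
        rw [← hq, Functor.map_comp]
        exact hy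
      have e : ((ev O (op T)).map a).hom ((SheafOfModules.freeSection (⟨x, hx⟩ : R₀)).val (op T)) = x :=
        (free_apply F₀ _ (⟨x, hx⟩ : R₀) (op T)).trans (secOf_val hT F₀ x)
      rw [← e, ← LinearMap.comp_apply, ← ModuleCat.hom_comp, ← Functor.map_comp, cokernel.condition,
        Functor.map_zero]
      rfl
    · obtain ⟨x, rfl⟩ := hp s
      exact ⟨((ev O (op T)).map (cokernel.π a)).hom x, by rw [← hq, Functor.map_comp]; rfl⟩
  haveI : IsIso q := by
    haveI : ∀ Z : Dᵒᵖ, IsIso ((ev O Z).map q) := fun Z => by
      let h := (hT.from Z.unop).op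
      haveI := hbij
      haveI := hM Z
      haveI : IsIso ((theta O h).app (cokernel a)) := isIso_theta_of_isColimit O h hK (cokernel.condition a)
        (cokernelIsCokernel a) (isIso_theta_free O h hK _) (isIso_theta_free O h hK _)
      haveI : IsIso ((bc O h).map q) :=
        Functor.map_isIso (ModuleCat.extendScalars.{u, u, u} (O.obj.map h).hom) ((ev O (op T)).map q)
      have n := (theta O h).naturality q
      have e : (ev O Z).map q = inv ((theta O h).app (cokernel a)) ≫ (bc O h).map q ≫ (theta O h).app M := by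
        rw [n, IsIso.inv_hom_id_assoc]
      rw [e]
      infer_instance
    haveI := isEquivalence_fg O hK
    haveI : IsIso ((fg O).map q) := by
      haveI : IsIso ((PresheafOfModules.toPresheaf _).map ((fg O).map q)) := by
        refine @NatIso.isIso_of_isIso_app _ _ _ _ _ _ _ fun Z => ?_
        exact (forget₂ (ModuleCat.{u} (O.obj.obj Z)) AddCommGrpCat.{u}).map_isIso ((ev O Z).map q)
      exact isIso_of_reflects_iso ((fg O).map q) (PresheafOfModules.toPresheaf _)
    exact isIso_of_reflects_iso q (fg O)
  exact ⟨(SheafOfModules.presentationOfIsCokernelFree a (cokernel.π a) (cokernel.condition a)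
    (cokernelIsCokernel a)).ofIsIso q⟩

end Terminal

section Qc

variable {O}

set_option maxHeartbeats 1600000 in
theorem isIso_theta_of_qc (hK : Triv K) (F : ModSite.Mod O)
    (hF : SheafOfModules.IsQuasicoherent (R := ModSite.ringSh O) F) {V U : Dᵒᵖ} (g : V ⟶ U) :
    IsIso ((theta O g).app F) := by
  obtain ⟨q⟩ := hF.nonempty_quasicoherentData
  have h1 : (Sieve.ofObjects q.X V.unop).arrows (𝟙 V.unop) := by
    rw [hK _ _ (q.coversTop V.unop)]; trivial
  obtain ⟨j, ⟨a⟩⟩ := (Sieve.mem_ofObjects_iff ..).1 h1
  have h2 : IsIso ((theta (K := K.over (q.X j)) (O.over (q.X j))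
      ((Over.homMk g.unop rfl : Over.mk (g.unop ≫ a) ⟶ Over.mk a).op)).app
        ((ModSite.restr O (q.X j)).obj F)) :=
    isIso_theta_of_presentation (K := K.over (q.X j)) (O.over (q.X j)) _ (triv_over hK _)
      (M := (ModSite.restr O (q.X j)).obj F) (q.presentation j)
  exact h2

theorem isQuasicoherent_of_theta (hK : Triv K) (F : ModSite.Mod O)
    (h : ∀ {V U : Dᵒᵖ} (g : V ⟶ U), IsIso ((theta O g).app F)) :
    SheafOfModules.IsQuasicoherent (R := ModSite.ringSh O) F := by
  have hp : ∀ W : D, Nonempty (SheafOfModules.Presentation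
      (SheafOfModules.over (R := ModSite.ringSh O) F W)) := fun W =>
    nonempty_presentation (O := O.over W) (Over.mkIdTerminal (X := W)) (triv_over hK W)
      ((ModSite.restr O W).obj F)
      (fun Z => h ((Over.mkIdTerminal (X := W)).from Z.unop).left.op)
  constructor
  exact ⟨{ I := D
           X := fun W => W
           coversTop := fun W => K.covering_of_eq_top (Sieve.id_mem_iff_eq_top.1 ⟨W, ⟨𝟙 W⟩⟩)
           presentation := fun W => (hp W).some }⟩

end Qc

section Flat

variable {O}

theorem preservesFiniteLimits_bc (hg : (O.obj.map g).hom.Flat) : PreservesFiniteLimits (bc O g) :=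
  haveI := preservesFiniteLimits_ev O V
  haveI : PreservesFiniteLimits (ModuleCat.extendScalars.{u, u, u} (O.obj.map g).hom) :=
    ModuleCat.preservesFiniteLimits_extendScalars_of_flat hg
  comp_preservesFiniteLimits _ _

theorem isIso_theta_kernel (hg : (O.obj.map g).hom.Flat) {A B : ModSite.Mod O} (α : A ⟶ B)
    (hA : IsIso ((theta O g).app A)) (hB : IsIso ((theta O g).app B)) :
    IsIso ((theta O g).app (kernel α)) := by
  haveI := preservesFiniteLimits_bc g hg
  haveI := preservesFiniteLimits_ev O U
  haveI : ∀ W, (ev O W).PreservesZeroMorphisms := preservesZeroMorphisms_ev O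
  haveI : (ModuleCat.extendScalars.{u, u, u} (O.obj.map g).hom).Additive :=
    (ModuleCat.extendRestrictScalarsAdj (O.obj.map g).hom).left_adjoint_additive
  haveI : (bc O g).PreservesZeroMorphisms := inferInstance
  let e₁ := kernelIsKernel α
  haveI hm : Mono ((bc O g).map (kernel.ι α)) := inferInstance
  have k1 := KernelFork.mapIsLimit _ e₁ (bc O g)
  have k2 := KernelFork.mapIsLimit _ e₁ (ev O U)
  haveI := hA
  haveI := hB
  haveI : Mono ((theta O g).app B) := @IsIso.mono_of_iso _ _ _ _ _ hB
  have w : ((ev O U).map (kernel.ι α) ≫ inv ((theta O g).app A)) ≫ (bc O g).map α = 0 := by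
    have n := (theta O g).naturality α
    rw [← cancel_mono ((theta O g).app B), zero_comp, Category.assoc, Category.assoc, n,
      IsIso.inv_hom_id_assoc, ← Functor.map_comp, kernel.condition, Functor.map_zero]
  obtain ⟨l, hl⟩ := KernelFork.IsLimit.lift' k1 _ w
  change l ≫ (bc O g).map (kernel.ι α) = _ at hl
  refine ⟨l, ?_, ?_⟩
  · rw [← cancel_mono ((bc O g).map (kernel.ι α)), Category.assoc, hl, Category.id_comp,
      ← Category.assoc, ← (theta O g).naturality, Category.assoc, IsIso.hom_inv_id, Category.comp_id]
  · haveI : Mono ((ev O U).map (kernel.ι α)) := inferInstance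
    rw [← cancel_mono ((ev O U).map (kernel.ι α)), Category.assoc, Category.id_comp,
      ← (theta O g).naturality, ← Category.assoc, hl, Category.assoc, IsIso.inv_hom_id, Category.comp_id]

theorem isIso_theta_ext (hK : Triv K) (hg : (O.obj.map g).hom.Flat) {S : ShortComplex (ModSite.Mod O)}
    (hS : S.ShortExact) (h₁ : IsIso ((theta O g).app S.X₁)) (h₃ : IsIso ((theta O g).app S.X₃)) :
    IsIso ((theta O g).app S.X₂) := by
  haveI := preservesFiniteLimits_bc g hg
  haveI := preservesFiniteLimits_ev O U
  haveI := preservesColimits_ev O hK U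
  haveI := preservesColimits_bc O g hK
  haveI := preservesColimitsOfSize_shrink.{0, u, 0, u} (ev O U)
  haveI := preservesColimitsOfSize_shrink.{0, u, 0, u} (bc O g)
  haveI : PreservesFiniteColimits (ev O U) := ⟨fun _ => inferInstance⟩
  haveI : PreservesFiniteColimits (bc O g) := ⟨fun _ => inferInstance⟩
  haveI : ∀ W, (ev O W).PreservesZeroMorphisms := preservesZeroMorphisms_ev O
  haveI : (ModuleCat.extendScalars.{u, u, u} (O.obj.map g).hom).Additive :=
    (ModuleCat.extendRestrictScalarsAdj (O.obj.map g).hom).left_adjoint_additive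
  haveI : (bc O g).PreservesZeroMorphisms := inferInstance
  exact ShortComplex.isIso₂_of_shortExact_of_isIso₁₃'
    (S.mapNatTrans (theta O g)) (hS.map_of_exact (bc O g)) (hS.map_of_exact (ev O U)) h₁ h₃

end Flat

end Groth.Agent.Chaotic
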