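import Groth.Prelude.Def_CohCx
import Groth.Agent.QCoh.Ab.Cech

/-!
# Elementwise Cech complexes of presheaves on a category with finite products; cofree presheaves
-/

universe u

open CategoryTheory CategoryTheory.Limits Opposite

namespace Groth.Agent.SiteBase

variable {D : Type u} [SmallCategory D] [HasFiniteProducts D] {ι : Type u} (Y : ι → D)

section

variable (P : Dᵒᵖ ⥤ AddCommGrpCat.{u})

/-- The terms of Mathlib's Cech complex, written out. -/
noncomputable abbrev cX (n : ℕ) : AddCommGrpCat.{u} :=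
  ∏ᶜ fun i : Fin (n + 1) → ι => P.obj (op (∏ᶜ fun k => Y (i k)))

/-- The value of a Cech cochain on a tuple. -/
noncomputable def cev (n : ℕ) (i : Fin (n + 1) → ι) :
    ((cechComplexFunctor Y).obj P).X n →+ P.obj (op (∏ᶜ fun k => Y (i k))) :=
  (Pi.π (fun j : Fin (n + 1) → ι => P.obj (op (∏ᶜ fun k => Y (j k)))) i).hom

/-- The transition map between products of members of the family. -/
noncomputable abbrev tmap {n m : ℕ} (i : Fin (n + 1) → ι) (f : Fin (m + 1) → Fin (n + 1)) :
    ∏ᶜ (fun k => Y (i k)) ⟶ ∏ᶜ fun k => Y (i (f k)) :=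
  Pi.lift fun k => Pi.π (fun k => Y (i k)) (f k)

lemma cX_ext {n : ℕ} {x y : cX Y P n}
    (h : ∀ i, (Pi.π (fun j : Fin (n + 1) → ι => P.obj (op (∏ᶜ fun k => Y (j k)))) i).hom x =
      (Pi.π (fun j : Fin (n + 1) → ι => P.obj (op (∏ᶜ fun k => Y (j k)))) i).hom y) : x = y :=
  Concrete.limit_ext _ x y fun ⟨i⟩ => h i

lemma cev_ext {n : ℕ} {x y : ((cechComplexFunctor Y).obj P).X n}
    (h : ∀ i, cev Y P n i x = cev Y P n i y) : x = y :=
  cX_ext Y P h

lemma exists_cev {n : ℕ} (g : ∀ i : Fin (n + 1) → ι, P.obj (op (∏ᶜ fun k => Y (i k)))) :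
    ∃ x, ∀ i, cev Y P n i x = g i :=
  ⟨(Concrete.productEquiv (fun j : Fin (n + 1) → ι => P.obj (op (∏ᶜ fun k => Y (j k))))).symm g,
    fun i => Concrete.productEquiv_symm_apply_π _ g i⟩

lemma hom_sum_apply {α : Type*} {A B : AddCommGrpCat.{u}} (s : Finset α) (f : α → (A ⟶ B))
    (x : A) : (∑ i ∈ s, f i).hom x = ∑ i ∈ s, (f i).hom x :=
  map_sum (AddMonoidHom.mk' (fun g : A ⟶ B => g.hom x) fun _ _ => rfl) f s

lemma cev_d (n : ℕ) (i : Fin (n + 2) → ι) (x : ((cechComplexFunctor Y).obj P).X n) :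
    cev Y P (n + 1) i ((((cechComplexFunctor Y).obj P).d n (n + 1)).hom x) =
      ∑ j : Fin (n + 2), (-1 : ℤ) ^ (j : ℕ) •
        (P.map (tmap Y i j.succAbove).op).hom (cev Y P n (i ∘ j.succAbove) x) := by
  have e : ((cechComplexFunctor Y).obj P).d n (n + 1) =
      AlgebraicTopology.AlternatingCofaceMapComplex.objD
        ((FormalCoproduct.cosimplicialObjectFunctor (FormalCoproduct.mk _ Y).cech).obj P) n := by
    simp [cechComplexFunctor, FormalCoproduct.cochainComplexFunctor,
      AlgebraicTopology.alternatingCofaceMapComplex,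
      AlgebraicTopology.AlternatingCofaceMapComplex.obj]
  rw [e, AlgebraicTopology.AlternatingCofaceMapComplex.objD]
  refine (congrArg (cev Y P (n + 1) i) (hom_sum_apply _ _ x)).trans ?_
  refine (map_sum _ _ _).trans ?_
  refine Finset.sum_congr rfl fun j _ => ?_
  refine (map_zsmul _ _ _).trans ?_
  congr 1
  exact ConcreteCategory.congr_hom (Pi.lift_π (fun i : Fin (n + 2) → ι =>
    (Pi.π (fun j : Fin (n + 1) → ι => P.obj (op (∏ᶜ fun k => Y (j k)))) (i ∘ j.succAbove)) ≫
      P.map (tmap Y i j.succAbove).op) i) x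

lemma cev_map {Q : Dᵒᵖ ⥤ AddCommGrpCat.{u}} (φ : P ⟶ Q) (n : ℕ) (i : Fin (n + 1) → ι)
    (x : ((cechComplexFunctor Y).obj P).X n) :
    cev Y Q n i ((((cechComplexFunctor Y).map φ).f n).hom x) =
      (φ.app (op (∏ᶜ fun k => Y (i k)))).hom (cev Y P n i x) :=
  ConcreteCategory.congr_hom (Pi.map_π (fun i : Fin (n + 1) → ι => φ.app (op (∏ᶜ fun k => Y (i k)))) i) x

end

/-- The cofree presheaf on the values of a presheaf. -/
@[simps]
def cofreeAll (Q : Dᵒᵖ ⥤ AddCommGrpCat.{u}) : Dᵒᵖ ⥤ AddCommGrpCat.{u} where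
  obj T := AddCommGrpCat.of (∀ T0 : D, (T0 ⟶ T.unop) → Q.obj (op T0))
  map f := AddCommGrpCat.ofHom
    { toFun := fun x T0 h => x T0 (h ≫ f.unop)
      map_zero' := rfl
      map_add' := fun _ _ => rfl }
  map_id T := AddCommGrpCat.hom_ext <| AddMonoidHom.ext fun x => funext₂ fun T0 h =>
    congrArg (x T0) (Category.comp_id h)
  map_comp f g := AddCommGrpCat.hom_ext <| AddMonoidHom.ext fun x => funext₂ fun T0 h =>
    congrArg (x T0) (Category.assoc h _ _).symm

/-- The canonical map into the cofree presheaf. -/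
def toCofreeAll (Q : Dᵒᵖ ⥤ AddCommGrpCat.{u}) : Q ⟶ cofreeAll Q where
  app T := AddCommGrpCat.ofHom
    { toFun := fun s _ h => (Q.map h.op).hom s
      map_zero' := by funext T0 h; simp
      map_add' := fun _ _ => by funext T0 h; simp }
  naturality S T f := by
    ext s; funext T0 h
    exact congrArg (fun t => t.hom s) (Q.map_comp f h.op).symm

section

variable (Q : Dᵒᵖ ⥤ AddCommGrpCat.{u})

/-- Lifts of an object to the family. -/
abbrev Lifts (T0 : D) : Type u := Σ k : ι, T0 ⟶ Y k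

/-- A cofree cochain as a function on tuples of lifts. -/
noncomputable def toFn {n : ℕ} (x : ((cechComplexFunctor Y).obj (cofreeAll Q)).X n) (T0 : D)
    (e : Fin (n + 1) → Lifts Y T0) : Q.obj (op T0) :=
  cev Y (cofreeAll Q) n (fun k => (e k).1) x T0 (Pi.lift fun k => (e k).2)

lemma toFn_d {n : ℕ} (x : ((cechComplexFunctor Y).obj (cofreeAll Q)).X n) (T0 : D)
    (e : Fin (n + 2) → Lifts Y T0) :
    toFn Y Q ((((cechComplexFunctor Y).obj (cofreeAll Q)).d n (n + 1)).hom x) T0 e =
      QCoh.Ab.delta (toFn Y Q x T0) e := by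
  simp only [toFn, cev_d, QCoh.Ab.delta]
  erw [Finset.sum_apply, Finset.sum_apply]
  refine Finset.sum_congr rfl fun j _ => ?_
  show ((-1 : ℤ) ^ (j : ℕ)) • cev Y (cofreeAll Q) n ((fun k => (e k).1) ∘ j.succAbove) x T0
    (Pi.lift (fun k => (e k).2) ≫ tmap Y (fun k => (e k).1) j.succAbove) = _
  have hl : Pi.lift (fun k => (e k).2) ≫ tmap Y (fun k => (e k).1) j.succAbove =
      Pi.lift (fun k => (e (j.succAbove k)).2) := Pi.hom_ext _ _ fun k => by simp
  exact congrArg (fun g => ((-1 : ℤ) ^ (j : ℕ)) •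
    cev Y (cofreeAll Q) n (fun k => (e (j.succAbove k)).1) x T0 g) hl

lemma toFn_injective {n : ℕ} {x y : ((cechComplexFunctor Y).obj (cofreeAll Q)).X n}
    (h : toFn Y Q x = toFn Y Q y) : x = y := by
  refine cev_ext Y _ fun i => funext fun T0 => funext fun g => ?_
  have h' := congrFun (congrFun h T0) (fun k => ⟨i k, g ≫ Pi.π (fun k => Y (i k)) k⟩)
  have e : Pi.lift (fun k => g ≫ Pi.π (fun k => Y (i k)) k) = g := by
    apply Pi.hom_ext; intro k; simp
  simp only [toFn] at h'
  rwa [e] at h'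

lemma toFn_surjective {n : ℕ} (g : ∀ T0 : D, (Fin (n + 1) → Lifts Y T0) → Q.obj (op T0)) :
    ∃ x, toFn Y Q (n := n) x = g := by
  obtain ⟨x, hx⟩ := exists_cev Y (cofreeAll Q) (n := n)
    (fun i T0 h => g T0 fun k => ⟨i k, h ≫ Pi.π (fun k => Y (i k)) k⟩)
  refine ⟨x, funext fun T0 => funext fun e => ?_⟩
  simp only [toFn, hx]
  congr 1
  funext k
  simp

theorem exactAt_cech_cofreeAll (n : ℕ) :
    ((cechComplexFunctor Y).obj (cofreeAll Q)).ExactAt (n + 1) := by
  rw [HomologicalComplex.exactAt_iff' _ n (n + 1) (n + 2) (by simp) (by simp),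
    ShortComplex.ab_exact_iff]
  suffices H : ∀ x : ((cechComplexFunctor Y).obj (cofreeAll Q)).X (n + 1),
      (((cechComplexFunctor Y).obj (cofreeAll Q)).d (n + 1) (n + 2)).hom x = 0 →
      ∃ y, (((cechComplexFunctor Y).obj (cofreeAll Q)).d n (n + 1)).hom y = x from H
  intro x hx
  show ∃ y, (((cechComplexFunctor Y).obj (cofreeAll Q)).d n (n + 1)).hom y = x
  classical
  obtain ⟨y, hy⟩ : ∃ y, toFn Y Q (n := n) y = fun T0 e =>
      if h : Nonempty (Lifts Y T0) then toFn Y Q x T0 (Fin.cons h.some e) else 0 :=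
    toFn_surjective Y Q _
  refine ⟨y, toFn_injective Y Q (funext fun T0 => funext fun e => ?_)⟩
  rw [toFn_d, hy]
  have hne : Nonempty (Lifts Y T0) := ⟨e 0⟩
  simp only [dif_pos hne]
  have h0 : QCoh.Ab.delta (toFn Y Q x T0) (Fin.cons hne.some e) = 0 := by
    rw [← toFn_d, hx]
    simp only [toFn, map_zero]
    rfl
  rw [QCoh.Ab.delta_cons, sub_eq_zero] at h0
  exact h0.symm

theorem exactAt_cech_of_retract {P : Dᵒᵖ ⥤ AddCommGrpCat.{u}} (i : P ⟶ cofreeAll Q)
    (r : cofreeAll Q ⟶ P) (h : i ≫ r = 𝟙 P) (n : ℕ) :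
    ((cechComplexFunctor Y).obj P).ExactAt (n + 1) := by
  rw [HomologicalComplex.exactAt_iff_isZero_homology, IsZero.iff_id_eq_zero]
  have hz := (HomologicalComplex.exactAt_iff_isZero_homology _ _).1 (exactAt_cech_cofreeAll Y Q n)
  rw [← HomologicalComplex.homologyMap_id, ← (cechComplexFunctor Y).map_id, ← h, Functor.map_comp,
    HomologicalComplex.homologyMap_comp, hz.eq_of_tgt (HomologicalComplex.homologyMap _ _) 0, zero_comp]

end

/-- An injective presheaf restricted along a functor to a category with products has no higher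
Cech cohomology, as soon as the comparison of cofree presheaves exists. -/
theorem exactAt_cech_forget {C : Type u} [SmallCategory C] [HasPullbacks C] {U : C} {κ : Type u}
    (Z : κ → Over U) (I : Cᵒᵖ ⥤ AddCommGrpCat.{u}) [Injective I] (n : ℕ) :
    ((cechComplexFunctor Z).obj ((Over.forget U).op ⋙ I)).ExactAt (n + 1) := by
  let Q : (Over U)ᵒᵖ ⥤ AddCommGrpCat.{u} := (Over.forget U).op ⋙ I
  have : Mono (toCofreeAll I) := by
    have : ∀ T, Mono ((toCofreeAll I).app T) := fun T => (AddCommGrpCat.mono_iff_injective _).2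
      fun a b hab => by
        have h : (I.map (𝟙 T.unop).op).hom a = (I.map (𝟙 T.unop).op).hom b :=
          congrFun (congrFun hab T.unop) (𝟙 _)
        simpa using h
    exact NatTrans.mono_of_mono_app _
  have key : ∀ (S : Over U) (x : (cofreeAll Q).obj (op S)) (V : C) (g g' : V ⟶ U) (_ : g = g')
      (p : Over.mk g ⟶ S) (q : Over.mk g' ⟶ S), p.left = q.left →
        (show I.obj (op V) from x (Over.mk g) p) = (show I.obj (op V) from x (Over.mk g') q) := by
    intro S x V g g' hg p q hpq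
    subst hg
    obtain rfl : p = q := Over.OverMorphism.ext hpq
    rfl
  let θ : cofreeAll Q ⟶ (Over.forget U).op ⋙ cofreeAll I :=
    { app := fun T => AddCommGrpCat.ofHom
        { toFun := fun x V h => x (Over.mk (h ≫ T.unop.hom)) (Over.homMk h)
          map_zero' := rfl
          map_add' := fun _ _ => rfl }
      naturality := fun S T f => by
        ext x; funext V h
        exact key S.unop x V _ _ (by
          exact (congrArg (fun t : T.unop.left ⟶ U => (show V ⟶ T.unop.left from h) ≫ t)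
            (Over.w f.unop)).symm.trans (Category.assoc _ _ _).symm) _ _ rfl }
  refine exactAt_cech_of_retract Z Q (toCofreeAll Q)
    (θ ≫ Functor.whiskerLeft _ (Injective.factorThru (𝟙 I) (toCofreeAll I))) ?_ n
  have hi : toCofreeAll Q ≫ θ = Functor.whiskerLeft (Over.forget U).op (toCofreeAll I) := by
    ext T s; rfl
  rw [← Category.assoc, hi, ← Functor.whiskerLeft_comp, Injective.comp_factorThru]
  rfl

end Groth.Agent.SiteBase
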