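import Groth.Prelude.Def_CechEdge
import Groth.Agent.SiteBase.CechInst
import Groth.Agent.SiteBase.CofreeFam
import Groth.Agent.SiteBase.UnivDelta
import Mathlib.Algebra.Homology.HomologySequenceLemmas

/-!
# Cech cohomology and sheafified cohomology as connected sequences on presheaves
-/

universe u

open CategoryTheory CategoryTheory.Limits Opposite

namespace Groth.Agent.SiteBase.Edge

variable {C : Type u} [SmallCategory C]

theorem enoughInjectives_presheaf : EnoughInjectives (Cᵒᵖ ⥤ AddCommGrpCat.{u}) := ⟨fun P => by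
  let pr := fun T : C => Classical.choice (EnoughInjectives.presentation (P.obj (op T)))
  let Q : C → AddCommGrpCat.{u} := fun T => (pr T).J
  have hQ : ∀ T, Injective (Q T) := fun T => (pr T).injective
  have : Injective (cofreeFam Q) := injective_cofreeFam Q hQ
  have : Mono (toCofreeFam P Q fun T => (pr T).f) := by
    have : ∀ T, Mono ((toCofreeFam P Q fun T => (pr T).f).app T) := fun T =>
      (AddCommGrpCat.mono_iff_injective _).2 fun a b hab => by
        have h : (pr T.unop).f.hom ((P.map (𝟙 T.unop).op).hom a) =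
            (pr T.unop).f.hom ((P.map (𝟙 T.unop).op).hom b) := congrFun (congrFun hab T.unop) (𝟙 _)
        have := (AddCommGrpCat.mono_iff_injective _).1 (pr T.unop).mono h
        simpa using this
    exact NatTrans.mono_of_mono_app _
  exact ⟨{ J := cofreeFam Q, f := toCofreeFam P Q fun T => (pr T).f, injective := inferInstance, mono := inferInstance }⟩⟩

variable [HasPullbacks C] {U : C} {ι : Type u} (Y : ι → Over U)

lemma cx_shortExact {S : ShortComplex (Cᵒᵖ ⥤ AddCommGrpCat.{u})} (hS : S.ShortExact) :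
    (S.map (CechEdge.cxFunctor Y)).ShortExact := by
  refine HomologicalComplex.shortExact_of_degreewise_shortExact _ fun n => ?_
  have hT : ∀ T : Cᵒᵖ, (S.map ((evaluation Cᵒᵖ AddCommGrpCat.{u}).obj T)).ShortExact := fun T =>
    hS.map_of_exact _
  let L := (Over.forget U).op
  have hm : Mono (((cechComplexFunctor Y).map (Functor.whiskerLeft L S.f)).f n) :=
    (AddCommGrpCat.mono_iff_injective _).2 fun a b hab => cev_ext Y _ fun i =>
      (AddCommGrpCat.mono_iff_injective _).1 (hT _).mono_f (by
        have := congrArg (cev Y (L ⋙ S.X₂) n i) hab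
        rwa [cev_map, cev_map] at this)
  have he : Epi (((cechComplexFunctor Y).map (Functor.whiskerLeft L S.g)).f n) :=
    (AddCommGrpCat.epi_iff_surjective _).2 fun z => by
      choose t ht using fun i : Fin (n + 1) → ι =>
        (AddCommGrpCat.epi_iff_surjective _).1 (hT (op (∏ᶜ fun k => Y (i k)).left)).epi_g (cev Y (L ⋙ S.X₃) n i z)
      obtain ⟨x, hx⟩ := exists_cev Y (L ⋙ S.X₂) t
      exact ⟨x, cev_ext Y _ fun i => by rw [cev_map, hx]; exact ht i⟩
  refine ShortComplex.ShortExact.mk' ?_ hm he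
  rw [ShortComplex.ab_exact_iff]
  intro x hx
  choose t ht using fun i : Fin (n + 1) → ι =>
    (ShortComplex.ab_exact_iff _).1 (hT (op (∏ᶜ fun k => Y (i k)).left)).exact (cev Y (L ⋙ S.X₂) n i x) (by
      have := congrArg (cev Y (L ⋙ S.X₃) n i) hx
      exact (cev_map Y _ _ n i x).symm.trans (this.trans (map_zero _)))
  obtain ⟨y, hy⟩ := exists_cev Y (L ⋙ S.X₁) t
  exact ⟨y, cev_ext Y _ fun i => (cev_map Y _ _ n i y).trans ((congrArg _ (hy i)).trans (ht i))⟩

/-- Cech cohomology on presheaves. -/
noncomputable def cechSeq : ConnSeq.{u} (Cᵒᵖ ⥤ AddCommGrpCat.{u}) where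
  F p := CechEdge.cxFunctor Y ⋙ HomologicalComplex.homologyFunctor _ _ p
  δ hS p := (cx_shortExact Y hS).δ p (p + 1) rfl
  δ_natural hS hT φ p := HomologicalComplex.HomologySequence.δ_naturality
    ((CechEdge.cxFunctor Y).mapShortComplex.map φ) (cx_shortExact Y hS) (cx_shortExact Y hT) p (p + 1) rfl
  map_comp_δ hS p := (cx_shortExact Y hS).comp_δ p (p + 1) rfl

lemma isZero_cechSeq_injective (I : Cᵒᵖ ⥤ AddCommGrpCat.{u}) [Injective I] (p : ℕ) :
    IsZero (((cechSeq Y).F (p + 1)).obj I) :=
  (HomologicalComplex.exactAt_iff_isZero_homology _ _).1 (exactAt_cech_forget Y I p)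

theorem effaced_cechSeq : (cechSeq Y).Effaced := fun {S} hS _ p => by
  refine ⟨?_, fun x hx => (ShortComplex.ab_exact_iff _).1 ((cx_shortExact Y hS).homology_exact₃ p (p + 1) rfl) x hx⟩
  exact (AddCommGrpCat.epi_iff_surjective _).1 (((cx_shortExact Y hS).homology_exact₁ p (p + 1) rfl).epi_f
    ((isZero_cechSeq_injective Y S.X₂ p).eq_of_tgt _ _))

end Groth.Agent.SiteBase.Edge
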