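import Groth.Agent.ModPull.FlatPull
import Groth.Agent.SiteBase.FlatRelEquiv
import Groth.Prelude.Def_ModSite2

/-!
# Morphisms along which relations lift have exact inverse images of modules
-/

universe u

open CategoryTheory CategoryTheory.Limits Opposite MonoidalCategory
open Groth.Agent.ModTensor Groth.Agent.ModPull
open scoped TensorProduct

namespace Groth.Agent.SiteBase

variable {C D : Type u} [SmallCategory C] [SmallCategory D] {J : GrothendieckTopology C}
  {K : GrothendieckTopology D} {O_C : Sheaf J CommRingCat.{u}} {O_D : Sheaf K CommRingCat.{u}}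
  (f : ModSite.RMor O_C O_D)

/-- Relations in `A` with coefficients from `O_D` are locally trivialised over `O_D`. -/
def RelLift (A : ModSite.Mod O_C) : Prop :=
  ∀ (W : C) (V : D) (h : W ⟶ f.fn.obj V) (σ Y : Type) [Fintype σ] [Fintype Y]
    (c : σ → Y → O_D.obj.obj (op V)) (a : σ → ((fg O_C).obj A).obj (op W)),
    (∀ y, ∑ l, (O_C.obj.map h.op).hom (shp f (c l y)) • a l = 0) →
    Locally J W (fun W' g => ∃ (V' : D) (d : V' ⟶ V) (h' : W' ⟶ f.fn.obj V') (n : ℕ)
      (N : σ → Fin n → O_D.obj.obj (op V')) (b : Fin n → ((fg O_C).obj A).obj (op W')),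
      h' ≫ f.fn.map d = g ≫ h ∧
      (∀ l, rs ((fg O_C).obj A) g.op (a l) = ∑ j, (O_C.obj.map h'.op).hom (shp f (N l j)) • b j) ∧
      ∀ j y, ∑ l, N l j * (O_D.obj.map d.op).hom (c l y) = 0)

variable {A : ModSite.Mod O_C} {S : ShortComplex (ModSite.Mod O_D)}

/-- Last stage: vanishing coefficients. -/
theorem shu_tRep_eq_zero_of_coeff' (hS : S.ShortExact) (hR : RelLift f A)
    {W : C} {V : D} (h : W ⟶ f.fn.obj V) {σ Y : Type} [Fintype σ] [Fintype Y]
    (a : σ → ((fg O_C).obj A).obj (op W)) (k : σ → ((fg O_D).obj S.X₁).obj (op V))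
    (c : σ → Y → O_D.obj.obj (op V)) (e : Y → ((fg O_D).obj S.X₂).obj (op V))
    (hk : ∀ l, ((fg O_D).map S.f).app (op V) (k l) = ∑ y, c l y • e y)
    (hv : ∀ y, ∑ l, (O_C.obj.map h.op).hom (shp f (c l y)) • a l = 0) :
    shu (tPull f A S.X₁) (tRep f A S.X₁ h a k) = 0 := by
  have := hS.mono_f
  refine eq_of_locally' _ ((hR W V h σ Y c a hv).mono fun W' g ⟨V', d, h', n, N, b, eh, hb, hN⟩ => ?_)
  refine Eq.trans ?_ (map_zero (((fg O_C).obj ((sh O_C).obj (tPull f A S.X₁))).map g.op).hom).symm
  rw [rs_shu, rs_tRep, tRep_map f d _ h' eh]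
  refine (congrArg (fun z => shu (tPull f A S.X₁) z) ?_).trans (shu_zero _)
  have hk0 : ∀ j, ∑ l, N l j • rs ((fg O_D).obj S.X₁) d.op (k l) = 0 := fun j => by
    refine app_injective S.f (op V') (Eq.trans ?_ (map_zero (((fg O_D).map S.f).app (op V')).hom).symm)
    simp only [map_sum, map_smul, app_rs, hk, rs_sum, rs_smul, Finset.smul_sum, smul_smul]
    rw [Finset.sum_comm]
    exact Finset.sum_eq_zero fun y _ => by rw [← Finset.sum_smul, hN j y, zero_smul]
  let κ := fun l => rs ((fg O_C).obj (f.pull.obj S.X₁)) h'.op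
    (pu f S.X₁ (U := op V') (rs ((fg O_D).obj S.X₁) d.op (k l)))
  calc ∑ l, tm (R := O_C.obj) (rs ((fg O_C).obj A) g.op (a l)) (κ l)
      = ∑ j, tm (R := O_C.obj) (b j) (∑ l, (O_C.obj.map h'.op).hom (shp f (N l j)) • κ l) := by
        simp only [tm_sum_right]
        rw [Finset.sum_comm]
        refine Finset.sum_congr rfl fun l _ => ?_
        rw [hb l, tm_sum_left]
        exact Finset.sum_congr rfl fun j _ => TensorProduct.smul_tmul _ _ _
    _ = 0 := Finset.sum_eq_zero fun j _ => by
        have e0 : ∑ l, (O_C.obj.map h'.op).hom (shp f (N l j)) • κ l = 0 := by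
          have := congrArg (fun z => rs ((fg O_C).obj (f.pull.obj S.X₁)) h'.op (pu f S.X₁ (U := op V') z)) (hk0 j)
          rw [pu_sum, rs_sum] at this
          refine Eq.trans ?_ (this.trans ((congrArg (fun z => rs ((fg O_C).obj (f.pull.obj S.X₁)) h'.op z)
            (pu_zero f S.X₁)).trans (map_zero (((fg O_C).obj (f.pull.obj S.X₁)).map h'.op).hom)))
          exact Finset.sum_congr rfl fun l _ =>
            ((congrArg (fun z => rs _ h'.op z) (pu_smul f S.X₁ _ _)).trans (rs_smul h'.op _ _)).symm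
        rw [e0]
        exact TensorProduct.tmul_zero _ _

variable {ι : Type u} {U : ι → D} {X₁ X₃ : ModSite.Mod O_D}

/-- Tensors killed by a presentation vanish, if relations lift. -/
theorem shu_tRep_eq_zero' (κ : X₁ ⟶ (sh O_D).obj (sigFree O_D U)) (π : (sh O_D).obj (sigFree O_D U) ⟶ X₃)
    (w : κ ≫ π = 0) (hS : (ShortComplex.mk κ π w).ShortExact) (hR : RelLift f A)
    {W : C} {V : D} (h : W ⟶ f.fn.obj V) {σ : Type} [Fintype σ]
    (a : σ → ((fg O_C).obj A).obj (op W)) (k : σ → ((fg O_D).obj X₁).obj (op V))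
    (h0 : ((fg O_C).map (((ModSite.tensorBi O_C).obj A).map (f.pull.map κ ≫ pullFreeHom f U))).app (op W)
      (shu (tPull f A X₁) (tRep f A X₁ h a k)) = 0) :
    shu (tPull f A X₁) (tRep f A X₁ h a k) = 0 := by
  classical
  let F := sigFree O_D U
  let F' := sigFree O_C (imgFam f U)
  let A' := (fg O_C).obj A
  -- expand `κ k_l` in finitely many basis sections
  refine eq_of_locally' _ (((locally_lift f (Locally.forall_fintype fun l =>
    locally_exists_shu F (((fg O_D).map κ).app (op V) (k l))) h)).bind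
      fun W' g ⟨V', c, h', hφ, e⟩ => ?_)
  choose φ hφ using hφ
  obtain ⟨Y, _, i, b, cc, hcc⟩ := exists_common_basis U φ
  let a' := fun l => rs A' g.op (a l)
  let k' := fun l => rs ((fg O_D).obj X₁) c.op (k l)
  have et : rs ((fg O_C).obj ((sh O_C).obj (tPull f A X₁))) g.op (shu (tPull f A X₁) (tRep f A X₁ h a k)) =
      shu (tPull f A X₁) (tRep f A X₁ h' a' k') := by
    rw [rs_shu, rs_tRep, tRep_map f c _ h' e]
  let v : Y → A'.obj (op W') := fun y => ∑ l, (O_C.obj.map h'.op).hom (shp f (cc l y)) • a' l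
  let x : Y → (sigYon (imgFam f U)).obj (op W') := fun y => ⟨i y, h' ≫ f.fn.map (b y)⟩
  let z₀ : (A' ⊗ F' : P₀ O_C).obj (op W') := ∑ y, tm (R := O_C.obj) (v y) (bs (imgFam f U) (x y).1 (x y).2)
  have hz : shu (A' ⊗ F' : P₀ O_C) z₀ = shu (A' ⊗ F' : P₀ O_C) 0 := by
    have : IsIso ((sh O_C).map (A' ◁ (shAdj O_C).unit.app F')) := isIso_sh_map_whiskerLeft_unit A' F'
    refine app_injective ((sh O_C).map (A' ◁ (shAdj O_C).unit.app F')) (op W') ?_
    refine (shu_naturality _ z₀).trans (Eq.trans ?_ ((shu_naturality _ 0).trans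
      ((congrArg (fun z => shu _ z) (map_zero _)).trans (shu_zero _))).symm)
    let T := (fg O_C).map (((ModSite.tensorBi O_C).obj A).map (f.pull.map κ ≫ pullFreeHom f U))
    have h1 : T.app (op W') (shu (tPull f A X₁) (tRep f A X₁ h' a' k')) = 0 :=
      (congrArg (fun z => T.app (op W') z) et.symm).trans ((app_rs T g.op _).trans
        ((congrArg (fun z => rs _ g.op z) h0).trans
          (map_zero (((fg O_C).obj (((ModSite.tensorBi O_C).obj A).obj ((sh O_C).obj F'))).map g.op).hom)))
    refine Eq.trans ?_ h1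
    refine Eq.trans ?_ (shu_naturality (A' ◁ (fg O_C).map (f.pull.map κ ≫ pullFreeHom f U)) _).symm
    refine congrArg (fun z => shu (A' ⊗ (fg O_C).obj ((sh O_C).obj F') : P₀ O_C) z) ?_
    refine Eq.trans ?_ (map_sum _ _ _).symm
    refine (map_sum _ _ _).trans ?_
    have el : ∀ l, ((fg O_C).map (f.pull.map κ ≫ pullFreeHom f U)).app (op W')
        (rs ((fg O_C).obj (f.pull.obj X₁)) h'.op (pu f X₁ (U := op V') (k' l))) =
        ∑ y, (O_C.obj.map h'.op).hom (shp f (cc l y)) • shu F' (bs (imgFam f U) (x y).1 (x y).2) := fun l => by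
      rw [app_rs]
      have e1 : ((fg O_C).map (f.pull.map κ ≫ pullFreeHom f U)).app (op (f.fn.obj V')) (pu f X₁ (U := op V') (k' l)) =
          ∑ y, shp f (cc l y) • shu F' (bs (imgFam f U) (i y) (f.fn.map (b y))) := by
        refine (congrArg (fun z => ((fg O_C).map (pullFreeHom f U)).app (op (f.fn.obj V')) z)
          (pu_naturality f κ _)).trans ?_
        have e2 : ((fg O_D).map κ).app (op V') (k' l) = ∑ y, cc l y • shu F (bs U (i y) (b y)) := by
          rw [show k' l = rs _ c.op (k l) from rfl, app_rs, ← hφ l, hcc l]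
          exact (map_sum (((shAdj O_D).unit.app F).app (op V')).hom _ _).trans
            (Finset.sum_congr rfl fun y _ => shu_smul _ _ _)
        rw [e2, pu_sum]
        refine (map_sum _ _ _).trans (Finset.sum_congr rfl fun y _ => ?_)
        refine (congrArg _ (pu_smul f _ (cc l y) _)).trans ((map_smul _ _ _).trans ?_)
        exact congrArg (fun z => shp f (cc l y) • z) (pullFreeHom_pu f U (V := op V') (i y) (b y))
      rw [e1, rs_sum]
      refine Finset.sum_congr rfl fun y _ => ?_
      refine (rs_smul _ _ _).trans (congrArg (fun z => (O_C.obj.map h'.op).hom (shp f (cc l y)) • z) ?_)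
      refine (rs_shu F' h'.op _).trans ?_
      exact congrArg (fun z => shu F' z) (rs_bs (imgFam f U) h'.op _ _)
    refine Eq.trans ?_ (Finset.sum_congr rfl fun l _ =>
      (congrArg (fun z => tm (R := O_C.obj) (a' l) z) (el l)).trans (tm_sum_right _ Finset.univ _)).symm
    rw [Finset.sum_comm]
    refine Finset.sum_congr rfl fun y _ => ?_
    refine Eq.trans ?_ ((tm_sum_left _ Finset.univ _).trans
      (Finset.sum_congr rfl fun l _ => TensorProduct.smul_tmul _ _ _))
    rfl
  suffices goal' : Locally J W' (fun W'' g' => rs ((fg O_C).obj ((sh O_C).obj (tPull f A X₁))) g'.op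
      (shu (tPull f A X₁) (tRep f A X₁ h' a' k')) = 0) by
    refine goal'.mono fun W'' g' hg' => ?_
    refine ((rs_comp g.op g'.op _).trans ((congrArg (fun z => rs _ g'.op z) et).trans hg')).trans ?_
    exact (map_zero (((fg O_C).obj ((sh O_C).obj (tPull f A X₁))).map (g' ≫ g).op).hom).symm
  refine (locally_eq_of_shu_eq _ z₀ 0 hz).bind fun W'' g' hg' => ?_
  -- now `z₀` vanishes; merge equal basis sections
  have hg0 : ∑ y, tm (R := O_C.obj) (rs A' g'.op (v y))
      (bs (imgFam f U) (i y) ((g' ≫ h') ≫ f.fn.map (b y))) = 0 := by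
    refine Eq.trans ?_ (hg'.trans (map_zero _))
    refine Eq.trans ?_ (rs_sum (P := (A' ⊗ F' : P₀ O_C)) g'.op Finset.univ _).symm
    refine Finset.sum_congr rfl fun y _ => Eq.trans ?_ (rs_tm g'.op _ _).symm
    exact congrArg (fun z => tm (R := O_C.obj) (rs A' g'.op (v y)) z)
      ((congrArg (fun t => bs (imgFam f U) (i y) t) (Category.assoc _ _ _)).trans (rs_bs _ _ _ _).symm)
  let x' : Y → (sigYon (imgFam f U)).obj (op W'') := fun y => ⟨i y, (g' ≫ h') ≫ f.fn.map (b y)⟩
  let P : Finset (Y × Y) := Finset.univ.filter fun p => x' p.1 = x' p.2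
  refine (locally_equalize f U (g' ≫ h') i b P fun p hp => (Finset.mem_filter.1 hp).2).mono
    fun W₃ g'' ⟨V'', d, h'', ed, hd⟩ => ?_
  rw [op_comp, rs_comp, rs_shu, rs_tRep, rs_shu, rs_tRep, tRep_map f d _ h'' (by rw [ed])]
  let γ : Y → (sigYon U).obj (op V'') := fun y => ⟨i y, d ≫ b y⟩
  letI : Setoid Y := Setoid.ker γ
  let Y' := Quotient (Setoid.ker γ)
  refine shu_tRep_eq_zero_of_coeff' f hS hR (Y := Y') h'' _ _
    (fun l q => ∑ y ∈ Finset.univ.filter (fun y => Quotient.mk'' y = q), (O_D.obj.map d.op).hom (cc l y))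
    (fun q => shu F (bs U (Setoid.kerLift γ q).1 (Setoid.kerLift γ q).2)) (fun l => ?_) (fun q => ?_)
  · have e2 : ((fg O_D).map κ).app (op V'') (rs ((fg O_D).obj X₁) d.op (k' l)) =
        ∑ y, (O_D.obj.map d.op).hom (cc l y) • shu F (bs U (γ y).1 (γ y).2) := by
      rw [app_rs, show ((fg O_D).map κ).app (op V') (k' l) = shu F (φ l) from
        (app_rs ((fg O_D).map κ) c.op (k l)).trans (hφ l).symm, hcc l, rs_shu, rs_sum]
      refine (map_sum (((shAdj O_D).unit.app F).app (op V'')).hom _ _).trans (Finset.sum_congr rfl fun y _ => ?_)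
      refine (congrArg (fun z => shu F z) ((rs_smul _ _ _).trans
        (congrArg (fun z => (O_D.obj.map d.op).hom (cc l y) • z) (rs_bs U d.op (i y) (b y))))).trans ?_
      exact shu_smul _ _ _
    refine e2.trans ?_
    rw [← Finset.sum_fiberwise Finset.univ (fun y => (Quotient.mk'' y : Y'))]
    refine Finset.sum_congr rfl fun q _ => ?_
    rw [Finset.sum_smul]
    refine Finset.sum_congr rfl fun y hy => ?_
    rw [← (Finset.mem_filter.1 hy).2]
    rfl
  · -- the coefficient of `q` is a sum of the `v`'s over whole fibres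
    have hfib : ∀ q : Y', ∑ y ∈ Finset.univ.filter (fun y => Quotient.mk'' y = q), rs A' g'.op (v y) = 0 := by
      intro q
      rw [← Finset.sum_fiberwise_of_maps_to (t := Finset.univ.image x') (g := x')
        (fun y _ => Finset.mem_image_of_mem x' (Finset.mem_univ y))]
      refine Finset.sum_eq_zero fun s _ => ?_
      by_cases hs : ∃ y, x' y = s ∧ (Quotient.mk'' y : Y') = q
      · obtain ⟨y₀, hy₀, hq⟩ := hs
        refine Eq.trans ?_ (sum_filter_eq_zero_of_tensor (fun y => rs A' g'.op (v y)) x' hg0 s)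
        refine Finset.sum_congr ?_ fun _ _ => rfl
        ext y
        simp only [Finset.mem_filter, Finset.mem_univ, true_and]
        refine ⟨fun h => h.2, fun h => ⟨?_, h⟩⟩
        rw [← hq]
        exact Quotient.sound (hd (y, y₀) (Finset.mem_filter.2 ⟨Finset.mem_univ _, h.trans hy₀.symm⟩))
      · refine Finset.sum_eq_zero fun y hy => absurd ⟨y, ?_⟩ hs
        simp only [Finset.mem_filter, Finset.mem_univ, true_and] at hy
        exact ⟨hy.2, hy.1⟩
    refine Eq.trans ?_ ((congrArg (fun z => rs A' g''.op z) (hfib q)).trans (map_zero _))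
    refine Eq.trans ?_ (rs_sum (P := A') g''.op _ _).symm
    refine Eq.trans ?_ (Finset.sum_congr rfl fun y _ => (congrArg (fun z => rs A' g''.op z)
      (rs_sum (P := A') g'.op Finset.univ _)).trans (rs_sum g''.op Finset.univ _)).symm
    rw [Finset.sum_comm]
    refine Finset.sum_congr rfl fun l _ => ?_
    rw [shp_sum, map_sum]
    refine Eq.trans Finset.sum_smul ?_
    refine Finset.sum_congr rfl fun y _ => ?_
    rw [rs_smul, rs_smul]
    refine congrArg (fun r : O_C.obj.obj (op W₃) => r • rs A' g''.op (rs A' g'.op (a' l))) ?_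
    refine (shp_restrict f d ((g'' ≫ g') ≫ h') h'' (ed.trans (Category.assoc _ _ _).symm) (cc l y)).trans ?_
    simp only [op_comp, Category.assoc, Functor.map_comp]
    rfl

/-- The inverse image of a presentation of a flat module by a free one stays injective after tensoring. -/
theorem mono_tensor_pull' {ι : Type u} {U : ι → D} {X₁ X₃ : ModSite.Mod O_D}
    (κ : X₁ ⟶ (sh O_D).obj (sigFree O_D U)) (π : (sh O_D).obj (sigFree O_D U) ⟶ X₃)
    (w : κ ≫ π = 0) (hS : (ShortComplex.mk κ π w).ShortExact) (A : ModSite.Mod O_C)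
    (hR : RelLift f A) : Mono (((ModSite.tensorBi O_C).obj A).map (f.pull.map κ)) := by
  let T := ((ModSite.tensorBi O_C).obj A).map (f.pull.map κ ≫ pullFreeHom f U)
  have hT : Mono T := by
    refine mono_of_app_eq_zero T fun W x hx => ?_
    refine eq_of_locally' _ ((locally_exists_shu (tPull f A X₁) x).bind fun W' g ⟨t, ht⟩ => ?_)
    refine (locally_hasRep f t).mono fun W'' g' ⟨V, h, n, a, k, hrep⟩ => ?_
    have e : rs ((fg O_C).obj ((sh O_C).obj (tPull f A X₁))) (g' ≫ g).op x =
        shu (tPull f A X₁) (tRep f A X₁ h a k) :=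
      (rs_comp (P := (fg O_C).obj ((sh O_C).obj (tPull f A X₁))) g.op g'.op x).trans
        ((congrArg (fun z => rs ((fg O_C).obj ((sh O_C).obj (tPull f A X₁))) g'.op z) ht.symm).trans
          ((rs_shu (tPull f A X₁) g'.op t).trans (congrArg (fun z => shu (tPull f A X₁) z) hrep)))
    refine e.trans ((shu_tRep_eq_zero' f κ π w hS hR h a k ?_).trans (map_zero _).symm)
    refine (congrArg (fun z => ((fg O_C).map T).app (op W'') z) e.symm).trans ?_
    exact (app_rs ((fg O_C).map T) (g' ≫ g).op x).trans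
      ((congrArg (fun z => rs _ (g' ≫ g).op z) hx).trans
        (map_zero (((fg O_C).obj (((ModSite.tensorBi O_C).obj A).obj _)).map (g' ≫ g).op).hom))
  exact @mono_of_mono _ _ _ _ _ _ (((ModSite.tensorBi O_C).obj A).map (pullFreeHom f U))
    (by rw [← Functor.map_comp]; exact hT)

/-- The inverse image of such a presentation is injective. -/
theorem mono_pull' {ι : Type u} {U : ι → D} {X₁ X₃ : ModSite.Mod O_D}
    (κ : X₁ ⟶ (sh O_D).obj (sigFree O_D U)) (π : (sh O_D).obj (sigFree O_D U) ⟶ X₃)
    (w : κ ≫ π = 0) (hS : (ShortComplex.mk κ π w).ShortExact) (hR : RelLift f (ModSite.unit O_C)) :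
    Mono (f.pull.map κ) :=
  ((MorphismProperty.monomorphisms _).arrow_mk_iso_iff
    (((Functor.mapArrowFunctor _ _).mapIso (unitTensorIso O_C)).app (Arrow.mk (f.pull.map κ)))).1
    (mono_tensor_pull' f κ π w hS (ModSite.unit O_C) hR)

/-- If relations lift, inverse images of short exact sequences are short exact. -/
theorem shortExact_pull' [f.pull.PreservesZeroMorphisms] {S : ShortComplex (ModSite.Mod O_D)} (hS : S.ShortExact)
    (hR : RelLift f (ModSite.unit O_C)) : (S.map f.pull).ShortExact := by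
  have := hS.mono_f
  have := hS.epi_g
  let q := coverHom S.X₂
  let π := q ≫ S.g
  let κ := kernel.ι π
  have hπ : (ShortComplex.mk κ π (kernel.condition π)).ShortExact :=
    { exact := ShortComplex.exact_of_f_is_kernel _ (kernelIsKernel π) }
  have hmono : Mono (f.pull.map κ) := mono_pull' f κ π (kernel.condition π) hπ hR
  let j : kernel π ⟶ S.X₁ := hS.exact.lift (κ ≫ q) (by rw [Category.assoc]; exact kernel.condition π)
  have hj : j ≫ S.f = κ ≫ q := hS.exact.lift_f _ _
  let l : kernel q ⟶ kernel π := kernel.lift π (kernel.ι q) (by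
    show kernel.ι q ≫ q ≫ S.g = 0
    rw [kernel.condition_assoc, zero_comp])
  have hl : l ≫ κ = kernel.ι q := kernel.lift_ι _ _ _
  have hlj : l ≫ j = 0 := (cancel_mono S.f).1 (by
    rw [Category.assoc, hj, ← Category.assoc, hl, kernel.condition, zero_comp])
  have hepi : Epi j := by
    rw [epi_iff_surjective_up_to_refinements]
    intro T z
    obtain ⟨T', π₀, h₀, y, hy⟩ := surjective_up_to_refinements_of_epi q (z ≫ S.f)
    refine ⟨T', π₀, h₀, kernel.lift π y ?_, (cancel_mono S.f).1 ?_⟩
    · show y ≫ q ≫ S.g = 0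
      rw [← Category.assoc, ← hy, Category.assoc, Category.assoc, S.zero, comp_zero, comp_zero]
    · simp only [Category.assoc]
      refine hy.trans (Eq.trans ?_ (congrArg (fun t => kernel.lift π y _ ≫ t) hj).symm)
      exact (kernel.lift_ι_assoc _ _ _ _).symm
  have : f.pull.PreservesEpimorphisms := Functor.preservesEpimorphisms_of_adjunction f.adj
  let S₀ := ShortComplex.mk (kernel.ι q) q (kernel.condition q)
  have hS₀ : S₀.Exact := ShortComplex.exact_of_f_is_kernel _ (kernelIsKernel q)
  have hE : (S₀.map f.pull).Exact := hS₀.map_of_epi_of_preservesCokernel f.pull inferInstance inferInstance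
  have e0 : f.pull.map l ≫ f.pull.map κ = f.pull.map (kernel.ι q) := by rw [← Functor.map_comp, hl]
  have hw : (f.pull.map l ≫ f.pull.map κ) ≫ f.pull.map q = 0 := by
    rw [e0, ← Functor.map_comp, kernel.condition, Functor.map_zero]
  have hf : Mono (f.pull.map S.f) :=
    mono_of_common_kernel (f.pull.map l) (f.pull.map j) (f.pull.map κ) (f.pull.map q) (f.pull.map S.f)
      (by rw [← Functor.map_comp, hj, Functor.map_comp]) hw (by rw [← Functor.map_comp, hlj, Functor.map_zero])
      ((ShortComplex.exact_iff_of_iso (ShortComplex.isoMk (S₁ := S₀.map f.pull)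
        (S₂ := ShortComplex.mk (f.pull.map l ≫ f.pull.map κ) (f.pull.map q) hw) (Iso.refl _) (Iso.refl _) (Iso.refl _)
        (by simp [e0]; rfl) (by simp; rfl))).1 hE)
  exact ShortComplex.ShortExact.mk' (hS.exact.map_of_epi_of_preservesCokernel f.pull inferInstance inferInstance)
    hf (f.pull.map_epi S.g)

theorem isFlat_of_relLift (hR : RelLift f (ModSite.unit O_C)) : f.IsFlat := by
  have := additive_pull f
  exact (Functor.preservesFiniteLimits_iff_forall_exact_map_and_mono f.pull).2 fun S hS =>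
    ⟨(shortExact_pull' f hS hR).exact, (shortExact_pull' f hS hR).mono_f⟩

end Groth.Agent.SiteBase
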