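import Mathlib.CategoryTheory.Abelian.Refinements
import Mathlib.Algebra.Homology.ShortComplex.Abelian
import Mathlib.Algebra.Homology.ShortComplex.ShortExact
import Mathlib.CategoryTheory.Limits.Shapes.BinaryBiproducts

/-!
# Objects presented by a class of generators

`Gen P`: the class `P` contains zero objects, is closed under biproducts, and maps out of it lift
through epimorphisms after composing with an epimorphism from an object of `P`. `SGen P`: moreover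
the kernel of the latter epimorphism can be taken finitely generated.
-/

set_option autoImplicit false
set_option backward.isDefEq.respectTransparency false
set_option linter.style.haveILetI false
set_option linter.unusedSectionVars false

universe v u

open CategoryTheory CategoryTheory.Category CategoryTheory.Limits ZeroObject

noncomputable section

namespace Groth.Agent.FreePres

variable {A : Type u} [Category.{v} A] [Abelian A] (P : A → Prop)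

/-- A quotient of a generator. -/
def Fg (X : A) : Prop := ∃ (Q : A), P Q ∧ ∃ π : Q ⟶ X, Epi π

/-- A cokernel of a map of generators. -/
def Fp (X : A) : Prop :=
  ∃ (Q R : A), P Q ∧ P R ∧ ∃ (ψ : R ⟶ Q) (π : Q ⟶ X) (w : ψ ≫ π = 0),
    Epi π ∧ (ShortComplex.mk ψ π w).Exact

/-- A class of generators. -/
structure Gen : Prop where
  zero : ∀ X : A, IsZero X → P X
  biprod : ∀ X Y : A, P X → P Y → P (X ⊞ Y)
  lift : ∀ {X Y Q : A} (p : X ⟶ Y) [Epi p] (f : Q ⟶ Y), P Q →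
    ∃ (Q' : A), P Q' ∧ ∃ (e : Q' ⟶ Q) (g : Q' ⟶ X), Epi e ∧ g ≫ p = e ≫ f

/-- A class of generators with finitely generated relations of coverings. -/
structure SGen : Prop extends Gen P where
  lift' : ∀ {X Y Q : A} (p : X ⟶ Y) [Epi p] (f : Q ⟶ Y), P Q →
    ∃ (Q' : A), P Q' ∧ ∃ (e : Q' ⟶ Q) (g : Q' ⟶ X), Epi e ∧ g ≫ p = e ≫ f ∧ Fg P (kernel e)

variable {P}

lemma fg_of_epi {X Y : A} (hX : Fg P X) (f : X ⟶ Y) [Epi f] : Fg P Y := by
  obtain ⟨Q, hQ, π, hπ⟩ := hX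
  exact ⟨Q, hQ, π ≫ f, epi_comp _ _⟩

lemma fg_of_fp {X : A} (hX : Fp P X) : Fg P X := by
  obtain ⟨Q, R, hQ, -, ψ, π, w, hπ, -⟩ := hX
  exact ⟨Q, hQ, π, hπ⟩

lemma fp_of_iso {X Y : A} (hX : Fp P X) (e : X ≅ Y) : Fp P Y := by
  obtain ⟨Q, R, hQ, hR, ψ, π, w, hπ, hex⟩ := hX
  exact ⟨Q, R, hQ, hR, ψ, π ≫ e.hom, by rw [reassoc_of% w, zero_comp], epi_comp _ _,
    (ShortComplex.exact_iff_of_iso (ShortComplex.isoMk (S₁ := ShortComplex.mk ψ π w)
      (S₂ := ShortComplex.mk ψ (π ≫ e.hom) (by rw [reassoc_of% w, zero_comp]))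
      (Iso.refl _) (Iso.refl _) e (by simp) (by simp))).1 hex⟩

lemma fp_cokernel_map {Q R : A} (hQ : P Q) (hR : P R) (ψ : R ⟶ Q) : Fp P (cokernel ψ) :=
  ⟨Q, R, hQ, hR, ψ, cokernel.π ψ, cokernel.condition ψ, inferInstance,
    ShortComplex.exact_of_g_is_cokernel _ (cokernelIsCokernel ψ)⟩

lemma exists_iso_cokernel {X : A} (hX : Fp P X) :
    ∃ (Q R : A) (ψ : R ⟶ Q), P Q ∧ P R ∧ Nonempty (X ≅ cokernel ψ) := by
  obtain ⟨Q, R, hQ, hR, ψ, π, w, hπ, hex⟩ := hX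
  haveI : Epi (ShortComplex.mk ψ π w).g := hπ
  exact ⟨Q, R, ψ, hQ, hR, ⟨hex.gIsCokernel.coconePointUniqueUpToIso (colimit.isColimit _)⟩⟩

lemma fp_self (hP : Gen P) {Q : A} (hQ : P Q) : Fp P Q :=
  ⟨Q, 0, hQ, hP.zero _ (isZero_zero A), 0, 𝟙 Q, zero_comp, inferInstance,
    (ShortComplex.exact_iff_mono _ rfl).2 (inferInstanceAs (Mono (𝟙 Q)))⟩

lemma fp_biprod (hP : Gen P) {X Y : A} (hX : Fp P X) (hY : Fp P Y) : Fp P (X ⊞ Y) := by
  obtain ⟨Q₁, R₁, hQ₁, hR₁, ψ₁, π₁, w₁, hπ₁, hex₁⟩ := hX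
  obtain ⟨Q₂, R₂, hQ₂, hR₂, ψ₂, π₂, w₂, hπ₂, hex₂⟩ := hY
  haveI : Epi (ShortComplex.mk ψ₁ π₁ w₁).g := hπ₁
  haveI : Epi (ShortComplex.mk ψ₂ π₂ w₂).g := hπ₂
  haveI : Epi (biprod.map π₁ π₂) := inferInstance
  have w : biprod.map ψ₁ ψ₂ ≫ biprod.map π₁ π₂ = 0 := by
    apply biprod.hom_ext' <;> simp [reassoc_of% w₁, reassoc_of% w₂]
  refine ⟨_, _, hP.biprod _ _ hQ₁ hQ₂, hP.biprod _ _ hR₁ hR₂, biprod.map ψ₁ ψ₂, biprod.map π₁ π₂, w, ‹_›, ?_⟩
  rw [ShortComplex.exact_iff_exact_up_to_refinements]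
  intro T x hx
  change T ⟶ Q₁ ⊞ Q₂ at x
  have hx' : x ≫ biprod.map π₁ π₂ = 0 := hx
  have h1 : (x ≫ biprod.fst) ≫ π₁ = 0 := by
    have := congrArg (· ≫ biprod.fst) hx'
    simpa using this
  have h2 : (x ≫ biprod.snd) ≫ π₂ = 0 := by
    have := congrArg (· ≫ biprod.snd) hx'
    simpa using this
  obtain ⟨T₁, e₁, he₁, y₁, hy₁⟩ := hex₁.exact_up_to_refinements (x ≫ biprod.fst) h1
  obtain ⟨T₂, e₂, he₂, y₂, hy₂⟩ := hex₂.exact_up_to_refinements (e₁ ≫ x ≫ biprod.snd) (by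
    show (e₁ ≫ x ≫ biprod.snd) ≫ π₂ = 0
    rw [assoc, h2, comp_zero])
  change e₁ ≫ x ≫ biprod.fst = y₁ ≫ ψ₁ at hy₁
  change e₂ ≫ e₁ ≫ x ≫ biprod.snd = y₂ ≫ ψ₂ at hy₂
  refine ⟨T₂, e₂ ≫ e₁, epi_comp _ _, biprod.lift (e₂ ≫ y₁) y₂, ?_⟩
  show (e₂ ≫ e₁) ≫ x = biprod.lift (e₂ ≫ y₁) y₂ ≫ biprod.map ψ₁ ψ₂
  apply biprod.hom_ext
  · simp [hy₁]
  · simp [hy₂]

/-- Finitely generated objects are closed under extensions. -/
lemma fg_of_exact (hP : Gen P) (S : ShortComplex A) (hS : S.Exact) [Epi S.g] (h₁ : Fg P S.X₁) (h₃ : Fg P S.X₃) :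
    Fg P S.X₂ := by
  obtain ⟨Q₁, hQ₁, π₁, hπ₁⟩ := h₁
  obtain ⟨Q₃, hQ₃, π₃, hπ₃⟩ := h₃
  obtain ⟨Q, hQ, e, h, he, hh⟩ := hP.lift S.g π₃ hQ₃
  refine ⟨_, hP.biprod _ _ hQ₁ hQ, biprod.desc (π₁ ≫ S.f) h, ?_⟩
  rw [epi_iff_surjective_up_to_refinements]
  intro T y
  haveI : Epi (e ≫ π₃) := epi_comp _ _
  obtain ⟨T₁, e₁, he₁, z, hz⟩ := surjective_up_to_refinements_of_epi (e ≫ π₃) (y ≫ S.g)
  obtain ⟨T₂, e₂, he₂, w, hw⟩ := hS.exact_up_to_refinements (e₁ ≫ y - z ≫ h)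
    (by rw [Preadditive.sub_comp, assoc, hz, assoc, hh, sub_self])
  obtain ⟨T₃, e₃, he₃, v, hv⟩ := surjective_up_to_refinements_of_epi π₁ w
  refine ⟨T₃, e₃ ≫ e₂ ≫ e₁, epi_comp _ _, biprod.lift v (e₃ ≫ e₂ ≫ z), ?_⟩
  rw [biprod.lift_desc, ← reassoc_of% hv, ← hw, Preadditive.comp_sub, Preadditive.comp_sub]
  simp only [assoc, sub_add_cancel]

lemma fg_kernel_π {Q R : A} (hR : P R) {X : A} (ψ : R ⟶ Q) (π : Q ⟶ X) (w : ψ ≫ π = 0)
    (hex : (ShortComplex.mk ψ π w).Exact) : Fg P (kernel π) :=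
  ⟨R, hR, kernel.lift π ψ w, hex.epi_kernelLift⟩

lemma fp_of_fg_kernel {Q X : A} (hQ : P Q) (π : Q ⟶ X) [Epi π] (h : Fg P (kernel π)) : Fp P X := by
  obtain ⟨R, hR, r, hr⟩ := h
  have w : (r ≫ kernel.ι π) ≫ π = 0 := by rw [assoc, kernel.condition, comp_zero]
  refine ⟨Q, R, hQ, hR, r ≫ kernel.ι π, π, w, inferInstance, ?_⟩
  rw [ShortComplex.exact_iff_exact_up_to_refinements]
  intro T x hx
  obtain ⟨T', e, he, y, hy⟩ := surjective_up_to_refinements_of_epi r (kernel.lift π x hx)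
  refine ⟨T', e, he, y, ?_⟩
  show e ≫ x = y ≫ r ≫ kernel.ι π
  rw [← reassoc_of% hy, kernel.lift_ι]

/-- The cokernel of a map from a finitely generated to a finitely presented object. -/
theorem fp_cokernel (hP : Gen P) {F G : A} (α : F ⟶ G) (hF : Fg P F) (hG : Fp P G) : Fp P (cokernel α) := by
  obtain ⟨Q₀, hQ₀, πF, hπF⟩ := hF
  obtain ⟨Q, R, hQ, hR, ψ, π, w, hπ, hex⟩ := hG
  obtain ⟨Q', hQ', e, h, he, hh⟩ := hP.lift π (πF ≫ α) hQ₀
  haveI : Epi (π ≫ cokernel.π α) := epi_comp _ _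
  haveI : Epi (ShortComplex.mk ψ π w).g := hπ
  have w' : biprod.desc ψ h ≫ π ≫ cokernel.π α = 0 := by
    apply biprod.hom_ext'
    · rw [biprod.inl_desc_assoc, reassoc_of% w, zero_comp, comp_zero]
    · rw [biprod.inr_desc_assoc, reassoc_of% hh, cokernel.condition, comp_zero, comp_zero, comp_zero]
  refine ⟨Q, _, hQ, hP.biprod _ _ hR hQ', biprod.desc ψ h, π ≫ cokernel.π α, w', ‹_›, ?_⟩
  rw [ShortComplex.exact_iff_exact_up_to_refinements]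
  intro T x hx
  change T ⟶ Q at x
  have hx' : (x ≫ π) ≫ cokernel.π α = 0 := (assoc _ _ _).trans hx
  obtain ⟨T₁, e₁, he₁, f, hf⟩ := (ShortComplex.exact_of_g_is_cokernel
    (ShortComplex.mk α (cokernel.π α) (cokernel.condition α)) (cokernelIsCokernel α)).exact_up_to_refinements (x ≫ π) hx'
  change e₁ ≫ x ≫ π = f ≫ α at hf
  haveI : Epi (e ≫ πF) := epi_comp _ _
  obtain ⟨T₂, e₂, he₂, a, ha⟩ := surjective_up_to_refinements_of_epi (e ≫ πF) f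
  obtain ⟨T₃, e₃, he₃, r, hr⟩ := hex.exact_up_to_refinements (e₂ ≫ e₁ ≫ x - a ≫ h) (by
    show (e₂ ≫ e₁ ≫ x - a ≫ h) ≫ π = 0
    rw [Preadditive.sub_comp, sub_eq_zero, assoc, assoc, hf, assoc, hh, reassoc_of% ha])
  refine ⟨T₃, e₃ ≫ e₂ ≫ e₁, epi_comp _ _, biprod.lift r (e₃ ≫ a), ?_⟩
  show (e₃ ≫ e₂ ≫ e₁) ≫ x = biprod.lift r (e₃ ≫ a) ≫ biprod.desc ψ h
  change e₃ ≫ (e₂ ≫ e₁ ≫ x - a ≫ h) = r ≫ ψ at hr
  rw [biprod.lift_desc, ← hr, Preadditive.comp_sub, assoc, assoc, assoc, sub_add_cancel]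

/-- Kernels of epimorphisms from generators onto finitely presented objects. -/
theorem fg_kernel (hP : SGen P) {Q₀ X : A} (hQ₀ : P Q₀) (g : Q₀ ⟶ X) [Epi g] (hX : Fp P X) : Fg P (kernel g) := by
  obtain ⟨Q, R, hQ, hR, ψ, π, w, hπ, hex⟩ := hX
  obtain ⟨Q', hQ', e, h, he, hh, hke⟩ := hP.lift' g π hQ
  haveI : Epi (e ≫ π) := epi_comp _ _
  let a : kernel e ⟶ kernel (e ≫ π) := kernel.lift _ (kernel.ι e) (by rw [kernel.condition_assoc, zero_comp])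
  let b : kernel (e ≫ π) ⟶ kernel π :=
    kernel.lift _ (kernel.ι (e ≫ π) ≫ e) (by rw [assoc, kernel.condition])
  have hab : a ≫ b = 0 := by
    rw [← cancel_mono (kernel.ι π)]
    simp [a, b]
  haveI : Epi b := by
    rw [epi_iff_surjective_up_to_refinements]
    intro T y
    obtain ⟨T', e', he', z, hz⟩ := surjective_up_to_refinements_of_epi e (y ≫ kernel.ι π)
    refine ⟨T', e', he', kernel.lift _ z (by rw [← reassoc_of% hz, kernel.condition, comp_zero, comp_zero]), ?_⟩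
    rw [← cancel_mono (kernel.ι π)]
    simp [b, hz]
  haveI : Epi (ShortComplex.mk a b hab).g := ‹Epi b›
  have hK' : Fg P (kernel (e ≫ π)) := fg_of_exact hP.toGen (ShortComplex.mk a b hab) (by
    rw [ShortComplex.exact_iff_exact_up_to_refinements]
    intro T x hx
    change T ⟶ kernel (e ≫ π) at x
    change x ≫ b = 0 at hx
    refine ⟨T, 𝟙 T, inferInstance, kernel.lift e (x ≫ kernel.ι (e ≫ π)) ?_, ?_⟩
    · have := congrArg (· ≫ kernel.ι π) hx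
      simpa [b] using this
    · show 𝟙 T ≫ x = kernel.lift e _ _ ≫ a
      rw [← cancel_mono (kernel.ι (e ≫ π))]
      simp [a]) hke (fg_kernel_π hR ψ π w hex)
  obtain ⟨Q₁, hQ₁, p₁, hp₁⟩ := hK'
  obtain ⟨Q₂, hQ₂, e₂, k, he₂, hk⟩ := hP.lift (e ≫ π) g hQ₀
  let h' : kernel (e ≫ π) ⟶ kernel g :=
    kernel.lift _ (kernel.ι (e ≫ π) ≫ h) (by rw [assoc, hh, kernel.condition])
  let t : Q₂ ⟶ kernel g := kernel.lift _ (e₂ - k ≫ h) (by
    rw [Preadditive.sub_comp, assoc, hh, hk, sub_self])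
  refine ⟨_, hP.biprod _ _ hQ₁ hQ₂, biprod.desc (p₁ ≫ h') t, ?_⟩
  rw [epi_iff_surjective_up_to_refinements]
  intro T x
  obtain ⟨T₁, d₁, hd₁, y, hy⟩ := surjective_up_to_refinements_of_epi e₂ (x ≫ kernel.ι g)
  obtain ⟨T₂, d₂, hd₂, z, hz⟩ := surjective_up_to_refinements_of_epi p₁
    (kernel.lift (e ≫ π) (y ≫ k) (by rw [assoc, hk, ← reassoc_of% hy, kernel.condition, comp_zero, comp_zero]))
  have hz' := congrArg (· ≫ kernel.ι (e ≫ π)) hz
  simp only [assoc, kernel.lift_ι] at hz'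
  refine ⟨T₂, d₂ ≫ d₁, epi_comp _ _, biprod.lift z (d₂ ≫ y), ?_⟩
  rw [← cancel_mono (kernel.ι g), biprod.lift_desc]
  simp only [assoc, Preadditive.add_comp, h', t, kernel.lift_ι, Preadditive.comp_sub]
  rw [← reassoc_of% hz', hy]
  abel

/-- Extensions of finitely presented objects. -/
theorem fp_extension (hP : SGen P) (S : ShortComplex A) (hS : S.ShortExact) (h₁ : Fp P S.X₁) (h₃ : Fp P S.X₃) :
    Fp P S.X₂ := by
  haveI := hS.mono_f
  haveI := hS.epi_g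
  obtain ⟨Q₁, R₁, hQ₁, hR₁, ψ₁, π₁, w₁, hπ₁, hex₁⟩ := h₁
  obtain ⟨Q₃, R₃, hQ₃, hR₃, ψ₃, π₃, w₃, hπ₃, hex₃⟩ := h₃
  obtain ⟨Q, hQ, e, h, he, hh⟩ := hP.lift S.g π₃ hQ₃
  haveI : Epi (e ≫ π₃) := epi_comp _ _
  have hker₃ : Fg P (kernel (e ≫ π₃)) :=
    fg_kernel hP hQ (e ≫ π₃) ⟨Q₃, R₃, hQ₃, hR₃, ψ₃, π₃, w₃, hπ₃, hex₃⟩
  let π : Q₁ ⊞ Q ⟶ S.X₂ := biprod.desc (π₁ ≫ S.f) h
  have hπg : π ≫ S.g = biprod.snd ≫ e ≫ π₃ := by
    apply biprod.hom_ext' <;> simp [π, hh]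
  haveI : Epi π := by
    rw [epi_iff_surjective_up_to_refinements]
    intro T y
    obtain ⟨T₁, e₁, he₁, z, hz⟩ := surjective_up_to_refinements_of_epi (e ≫ π₃) (y ≫ S.g)
    obtain ⟨T₂, e₂, he₂, w, hw⟩ := hS.exact.exact_up_to_refinements (e₁ ≫ y - z ≫ h)
      (by rw [Preadditive.sub_comp, assoc, hz, assoc, hh, sub_self])
    obtain ⟨T₃, e₃, he₃, v, hv⟩ := surjective_up_to_refinements_of_epi π₁ w
    refine ⟨T₃, e₃ ≫ e₂ ≫ e₁, epi_comp _ _, biprod.lift v (e₃ ≫ e₂ ≫ z), ?_⟩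
    rw [biprod.lift_desc, ← reassoc_of% hv, ← hw, Preadditive.comp_sub, Preadditive.comp_sub]
    simp only [assoc, sub_add_cancel]
  refine fp_of_fg_kernel (hP.biprod _ _ hQ₁ hQ) π ?_
  let a : kernel π₁ ⟶ kernel π := kernel.lift _ (kernel.ι π₁ ≫ biprod.inl) (by
    rw [assoc, biprod.inl_desc, kernel.condition_assoc, zero_comp])
  let b : kernel π ⟶ kernel (e ≫ π₃) := kernel.lift _ (kernel.ι π ≫ biprod.snd) (by
    rw [assoc, ← hπg, kernel.condition_assoc, zero_comp])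
  have hab : a ≫ b = 0 := by
    rw [← cancel_mono (kernel.ι (e ≫ π₃))]
    simp [a, b]
  haveI : Epi b := by
    rw [epi_iff_surjective_up_to_refinements]
    intro T y
    obtain ⟨T₁, e₁, he₁, w, hw⟩ := hS.exact.exact_up_to_refinements (y ≫ kernel.ι (e ≫ π₃) ≫ h)
      (by rw [assoc, assoc, hh, kernel.condition, comp_zero])
    obtain ⟨T₂, e₂, he₂, v, hv⟩ := surjective_up_to_refinements_of_epi π₁ w
    refine ⟨T₂, e₂ ≫ e₁, epi_comp _ _,
      kernel.lift _ (biprod.lift (-v) (e₂ ≫ e₁ ≫ y ≫ kernel.ι (e ≫ π₃))) ?_, ?_⟩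
    · rw [biprod.lift_desc, Preadditive.neg_comp, ← reassoc_of% hv, ← hw]
      simp only [assoc, neg_add_cancel]
    · rw [← cancel_mono (kernel.ι (e ≫ π₃))]
      simp [b]
  haveI : Epi (ShortComplex.mk a b hab).g := ‹Epi b›
  refine fg_of_exact hP.toGen (ShortComplex.mk a b hab) ?_ (fg_kernel_π hR₁ ψ₁ π₁ w₁ hex₁) hker₃
  rw [ShortComplex.exact_iff_exact_up_to_refinements]
  intro T x hx
  change T ⟶ kernel π at x
  change x ≫ b = 0 at hx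
  have h2 : x ≫ kernel.ι π ≫ biprod.snd = 0 := by
    have := congrArg (· ≫ kernel.ι (e ≫ π₃)) hx
    simpa [b] using this
  have h1 : (x ≫ kernel.ι π ≫ biprod.fst) ≫ π₁ = 0 := by
    rw [← cancel_mono S.f, zero_comp]
    have hπ' : π = biprod.fst ≫ π₁ ≫ S.f + biprod.snd ≫ h := by
      apply biprod.hom_ext' <;> simp [π]
    have := congrArg (x ≫ kernel.ι π ≫ ·) hπ'
    simp only [kernel.condition, comp_zero, Preadditive.comp_add, assoc, reassoc_of% h2, zero_comp,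
      add_zero] at this
    simpa only [assoc] using this.symm
  refine ⟨T, 𝟙 T, inferInstance, kernel.lift π₁ _ h1, ?_⟩
  show 𝟙 T ≫ x = kernel.lift π₁ _ h1 ≫ a
  rw [← cancel_mono (kernel.ι π)]
  apply biprod.hom_ext
  · simp [a]
  · simp [a, h2]

/-- Kernels, when kernels of maps of generators are finitely presented. -/
theorem fp_kernel (hP : SGen P) (hker : ∀ {Q R : A} (φ : R ⟶ Q), P R → P Q → Fp P (kernel φ))
    {F G : A} (α : F ⟶ G) (hF : Fp P F) (hG : Fp P G) : Fp P (kernel α) := by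
  have hF' := hF
  obtain ⟨Q₁, R₁, hQ₁, hR₁, ψ₁, π₁, w₁, hπ₁, hex₁⟩ := hF
  obtain ⟨Q₂, R₂, hQ₂, hR₂, ψ₂, π₂, w₂, hπ₂, hex₂⟩ := hG
  obtain ⟨Q, hQ, e, h, he, hh⟩ := hP.lift π₂ (π₁ ≫ α) hQ₁
  let p := e ≫ π₁
  haveI : Epi p := epi_comp _ _
  have hp : h ≫ π₂ = p ≫ α := by rw [hh, assoc]
  let Φ : Q ⊞ R₂ ⟶ Q₂ := biprod.desc h (-ψ₂)
  have hΦ : Φ = biprod.fst ≫ h - biprod.snd ≫ ψ₂ := by
    apply biprod.hom_ext' <;> simp [Φ]
  let q : kernel Φ ⟶ kernel α := kernel.lift _ (kernel.ι Φ ≫ biprod.fst ≫ p) (by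
    have e1 := congrArg (kernel.ι Φ ≫ ·) hΦ
    simp only [kernel.condition, Preadditive.comp_sub] at e1
    rw [eq_comm, sub_eq_zero] at e1
    rw [assoc, assoc, ← hp, reassoc_of% e1, w₂, comp_zero, comp_zero])
  haveI : Epi q := by
    rw [epi_iff_surjective_up_to_refinements]
    intro T x
    obtain ⟨T₁, e₁, he₁, y, hy⟩ := surjective_up_to_refinements_of_epi p (x ≫ kernel.ι α)
    obtain ⟨T₂, e₂, he₂, z, hz⟩ := hex₂.exact_up_to_refinements (y ≫ h) (by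
      show (y ≫ h) ≫ π₂ = 0
      rw [assoc, hp, ← reassoc_of% hy, kernel.condition, comp_zero, comp_zero])
    change e₂ ≫ y ≫ h = z ≫ ψ₂ at hz
    refine ⟨T₂, e₂ ≫ e₁, epi_comp _ _, kernel.lift Φ (biprod.lift (e₂ ≫ y) z)
      (by rw [biprod.lift_desc, Preadditive.comp_neg, assoc, hz, add_neg_cancel]), ?_⟩
    rw [← cancel_mono (kernel.ι α)]
    simp [q, hy]
  let b : kernel q ⟶ kernel p := kernel.lift _ (kernel.ι q ≫ kernel.ι Φ ≫ biprod.fst) (by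
    have hq : q ≫ kernel.ι α = kernel.ι Φ ≫ biprod.fst ≫ p := kernel.lift_ι _ _ _
    rw [assoc, assoc, ← hq, kernel.condition_assoc, zero_comp])
  let a : kernel ψ₂ ⟶ kernel q :=
    kernel.lift _ (kernel.lift Φ (kernel.ι ψ₂ ≫ biprod.inr) (by simp [Φ])) (by
      rw [← cancel_mono (kernel.ι α)]; simp [q])
  have hab : a ≫ b = 0 := by
    rw [← cancel_mono (kernel.ι p)]
    simp [a, b]
  haveI : Epi b := by
    rw [epi_iff_surjective_up_to_refinements]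
    intro T y
    obtain ⟨T₂, e₂, he₂, z, hz⟩ := hex₂.exact_up_to_refinements (y ≫ kernel.ι p ≫ h) (by
      show (y ≫ kernel.ι p ≫ h) ≫ π₂ = 0
      rw [assoc, assoc, hp, kernel.condition_assoc, zero_comp, comp_zero])
    change e₂ ≫ y ≫ kernel.ι p ≫ h = z ≫ ψ₂ at hz
    refine ⟨T₂, e₂, he₂, kernel.lift q (kernel.lift Φ (biprod.lift (e₂ ≫ y ≫ kernel.ι p) z)
      (by rw [biprod.lift_desc, Preadditive.comp_neg, assoc, assoc, hz, add_neg_cancel])) ?_, ?_⟩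
    · rw [← cancel_mono (kernel.ι α)]
      simp [q]
    · rw [← cancel_mono (kernel.ι p)]
      simp [b]
  haveI : Epi (ShortComplex.mk a b hab).g := ‹Epi b›
  have hkp : Fg P (kernel p) := fg_kernel hP hQ p hF'
  have hN : Fg P (kernel q) := by
    refine fg_of_exact hP.toGen (ShortComplex.mk a b hab) ?_ (fg_of_fp (hker ψ₂ hR₂ hQ₂)) hkp
    rw [ShortComplex.exact_iff_exact_up_to_refinements]
    intro T x hx
    change T ⟶ kernel q at x
    change x ≫ b = 0 at hx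
    let w := x ≫ kernel.ι q ≫ kernel.ι Φ
    have h1 : w ≫ biprod.fst = 0 := by
      have := congrArg (· ≫ kernel.ι p) hx
      simpa [b, w] using this
    have h2 : (w ≫ biprod.snd) ≫ ψ₂ = 0 := by
      have e1 : w ≫ Φ = 0 := by simp [w]
      rw [hΦ, Preadditive.comp_sub, reassoc_of% h1, zero_comp, zero_sub, neg_eq_zero] at e1
      rw [assoc, e1]
    refine ⟨T, 𝟙 T, inferInstance, kernel.lift ψ₂ _ h2, ?_⟩
    show 𝟙 T ≫ x = kernel.lift ψ₂ _ h2 ≫ a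
    rw [← cancel_mono (kernel.ι q), ← cancel_mono (kernel.ι Φ)]
    apply biprod.hom_ext
    · simpa [a, w] using h1
    · simp [a, w]
  exact fp_of_iso (fp_cokernel hP.toGen (kernel.ι q) hN (hker Φ (hP.biprod _ _ hQ hR₂) hQ₂))
    ((cokernelIsCokernel (kernel.ι q)).coconePointUniqueUpToIso
      (Abelian.epiIsCokernelOfKernel (KernelFork.ofι (kernel.ι q) (kernel.condition q)) (kernelIsKernel q)))

end Groth.Agent.FreePres
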