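import Groth.Agent.SiteBase.FreeNerve
import Groth.Agent.SiteBase.SieveAcyclic

/-!
# Totally acyclic sheaves and Cech complexes of nerves of epimorphisms
-/

universe u

open CategoryTheory CategoryTheory.Limits Opposite Simplicial Abelian

namespace Groth.Agent.SiteBase

variable {C : Type u} [SmallCategory C] {J : GrothendieckTopology C}

/-- The free abelian sheaf on a sheaf of sets. -/
noncomputable abbrev freeSh (K : Sheaf J (Type u)) : Sheaf J AddCommGrpCat.{u} :=
  (Sheaf.composeAndSheafify J AddCommGrpCat.free.{u}).obj K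

/-- The positive Cech cohomology of `G` for a simplicial sheaf of sets vanishes. -/
def CechKill (G : Sheaf J AddCommGrpCat.{u}) (X : SimplicialObject.Augmented (Sheaf J (Type u))) : Prop :=
  ∀ (n : ℕ) (w : (freeShChain X).X (n + 1) ⟶ G), (freeShChain X).d (n + 2) (n + 1) ≫ w = 0 →
    ∃ b : (freeShChain X).X n ⟶ G, (freeShChain X).d (n + 1) n ≫ b = w

variable {X : SimplicialObject.Augmented (Sheaf J (Type u))}

theorem cechKill_of_injective (hX : SheafNerveLike X) (I : Sheaf J AddCommGrpCat.{u}) [Injective I] :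
    CechKill I X := fun n w hw => by
  have h := exactAt_freeShChain hX n
  rw [HomologicalComplex.exactAt_iff' _ (n + 2) (n + 1) n (by simp) (by simp)] at h
  exact ⟨h.descToInjective w hw, h.comp_descToInjective w hw⟩

theorem cechKill_X₃ {E : ShortComplex (Sheaf J AddCommGrpCat.{u})} (hE : E.ShortExact)
    (h₁ : CechKill E.X₁ X) (h₂ : CechKill E.X₂ X)
    (hlift : ∀ (K : Sheaf J (Type u)) (φ : freeSh K ⟶ E.X₃), ∃ ψ, ψ ≫ E.g = φ) : CechKill E.X₃ X := by
  intro n w hw
  have := hE.mono_f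
  obtain ⟨w₂, rfl⟩ : ∃ ψ : (freeShChain X).X (n + 1) ⟶ E.X₂, ψ ≫ E.g = w :=
    hlift (X.left.obj (op ⦋n + 1⦌)) w
  have hv : ((freeShChain X).d (n + 2) (n + 1) ≫ w₂) ≫ E.g = 0 := by rw [Category.assoc, hw]
  have hv' : (freeShChain X).d (n + 3) (n + 2) ≫ hE.exact.lift _ hv = 0 := by
    rw [← cancel_mono E.f, Category.assoc, hE.exact.lift_f, zero_comp, ← Category.assoc,
      HomologicalComplex.d_comp_d, zero_comp]
  obtain ⟨b₁, hb₁⟩ := h₁ (n + 1) _ hv'
  obtain ⟨b₂, hb₂⟩ := h₂ n (w₂ - b₁ ≫ E.f) (by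
    rw [Preadditive.comp_sub, sub_eq_zero, ← Category.assoc, hb₁, hE.exact.lift_f])
  refine ⟨b₂ ≫ E.g, ?_⟩
  rw [← Category.assoc, hb₂, Preadditive.sub_comp, Category.assoc, E.zero, comp_zero, sub_zero]

section Lift

variable {K' K : Sheaf J (Type u)} (f : K' ⟶ K)

/-- The augmentation of the free nerve. -/
noncomputable abbrev augSh : (freeShChain (nerve f)).X 0 ⟶ freeSh K :=
  (freeShNerve (nerve f)).hom.app (op ⦋0⦌)

lemma d_comp_augSh : (freeShChain (nerve f)).d 1 0 ≫ augSh f = 0 := d_comp_aug _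

lemma epi_augSh [Epi f] : Epi (augSh f) := epi_freeShNerve_aug f

lemma exists_desc [Epi f] {G : Sheaf J AddCommGrpCat.{u}} (b : (freeShChain (nerve f)).X 0 ⟶ G)
    (h : (freeShChain (nerve f)).d 1 0 ≫ b = 0) :
    ∃ c : freeSh K ⟶ G, augSh f ≫ c = b := by
  have := epi_freeShNerve_aug f
  exact ⟨(exact_freeShAugSc (sheafNerveLike_nerve f)).desc b h,
    (exact_freeShAugSc (sheafNerveLike_nerve f)).g_desc b h⟩

end Lift

/-- Sections of the free sheaf on a sheaf of sets. -/
noncomputable def freeShEquiv (K : Sheaf J (Type u)) (F : Sheaf J AddCommGrpCat.{u}) :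
    (freeSh K ⟶ F) ≃ (K ⟶ (sheafCompose J (CategoryTheory.forget AddCommGrpCat.{u})).obj F) :=
  { toFun := fun φ => ⟨freeEquiv J K.obj F φ⟩
    invFun := fun a => (freeEquiv J K.obj F).symm a.hom
    left_inv := fun φ => (freeEquiv J K.obj F).symm_apply_apply φ
    right_inv := fun a => (sheafToPresheaf J (Type u)).map_injective
      ((freeEquiv J K.obj F).apply_symm_apply a.hom) }

lemma freeShEquiv_comp {K : Sheaf J (Type u)} {F G : Sheaf J AddCommGrpCat.{u}} (φ : freeSh K ⟶ F)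
    (g : F ⟶ G) :
    freeShEquiv K G (φ ≫ g) =
      freeShEquiv K F φ ≫ (sheafCompose J (CategoryTheory.forget AddCommGrpCat.{u})).map g := rfl

lemma freeShEquiv_precomp {K K' : Sheaf J (Type u)} (a : K ⟶ K') {F : Sheaf J AddCommGrpCat.{u}}
    (φ : freeSh K' ⟶ F) :
    freeShEquiv K F ((Sheaf.composeAndSheafify J AddCommGrpCat.free.{u}).map a ≫ φ) =
      a ≫ freeShEquiv K' F φ := by
  apply (sheafToPresheaf J (Type u)).map_injective
  exact freeEquiv_precomp a.hom φ

/-- The zeroth fibre power. -/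
noncomputable abbrev pb0 {K' K : Sheaf J (Type u)} (f : K' ⟶ K) : Sheaf J (Type u) :=
  widePullback K (fun _ : Fin 1 => K') (fun _ => f)

theorem exists_lift_of_cechKill {E : ShortComplex (Sheaf J AddCommGrpCat.{u})} (hE : E.ShortExact)
    (h₁ : ∀ (K' K : Sheaf J (Type u)) (f : K' ⟶ K), Epi f → CechKill E.X₁ (nerve f))
    (K : Sheaf J (Type u)) (φ : freeSh K ⟶ E.X₃) : ∃ ψ, ψ ≫ E.g = φ := by
  let Φ := sheafCompose J (CategoryTheory.forget AddCommGrpCat.{u})
  have hloc : Sheaf.IsLocallySurjective E.g := (Sheaf.isLocallySurjective_iff_epi' _ E.g).2 hE.epi_g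
  let φ' : K ⟶ Φ.obj E.X₃ := freeShEquiv K E.X₃ φ
  let K' := pullback φ' (Φ.map E.g)
  let f : K' ⟶ K := pullback.fst _ _
  have : Epi f := by
    have : Sheaf.IsLocallySurjective f := ⟨fun {U} s => by
      refine J.superset_covering ?_ (hloc.imageSieve_mem (φ'.hom.app (op U) s))
      rintro V g ⟨t, ht⟩
      let a : hSheaf J V ⟶ K := (secT V K).symm (K.obj.map g.op s)
      let b : hSheaf J V ⟶ Φ.obj E.X₂ := (secT V (Φ.obj E.X₂)).symm t
      have hab : a ≫ φ' = b ≫ Φ.map E.g := (secT V (Φ.obj E.X₃)).injective (by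
        rw [secT_comp, secT_comp, Equiv.apply_symm_apply, Equiv.apply_symm_apply]
        exact (ConcreteCategory.congr_hom (φ'.hom.naturality g.op) s).trans ht.symm)
      refine ⟨secT V K' (pullback.lift a b hab), (secT_comp V _ f).symm.trans ?_⟩
      rw [pullback.lift_fst, Equiv.apply_symm_apply]⟩
    exact (Sheaf.isLocallySurjective_iff_epi f).1 this
  have := epi_augSh f
  let p : pb0 f ⟶ K' := WidePullback.π (fun _ : Fin 1 => f) 0
  let ψ₀ : (freeShChain (nerve f)).X 0 ⟶ E.X₂ :=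
    (freeShEquiv (pb0 f) E.X₂).symm (p ≫ pullback.snd _ _)
  have hψ₀ : ψ₀ ≫ E.g = augSh f ≫ φ := by
    apply (freeShEquiv (pb0 f) E.X₃).injective
    refine (freeShEquiv_comp ψ₀ E.g).trans (Eq.trans ?_ (freeShEquiv_precomp _ φ).symm)
    refine (congrArg (· ≫ Φ.map E.g) (Equiv.apply_symm_apply _ _)).trans ?_
    refine (Category.assoc _ _ _).trans ?_
    refine (congrArg (p ≫ ·) (pullback.condition (f := φ') (g := Φ.map E.g)).symm).trans ?_
    exact (Category.assoc _ _ _).symm.trans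
      (congrArg (· ≫ φ') (WidePullback.π_arrow (fun _ : Fin 1 => f) 0))
  have := hE.mono_f
  have hw : ((freeShChain (nerve f)).d 1 0 ≫ ψ₀) ≫ E.g = 0 := by
    rw [Category.assoc, hψ₀, ← Category.assoc, d_comp_augSh, zero_comp]
  obtain ⟨b, hb⟩ := h₁ _ _ f ‹_› 0 (hE.exact.lift _ hw) (by
    rw [← cancel_mono E.f, Category.assoc, hE.exact.lift_f, zero_comp, ← Category.assoc,
      HomologicalComplex.d_comp_d, zero_comp])
  obtain ⟨ψ, hψ⟩ := exists_desc f (ψ₀ - b ≫ E.f) (by
    rw [Preadditive.comp_sub, sub_eq_zero, ← Category.assoc, hb, hE.exact.lift_f])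
  refine ⟨ψ, (cancel_epi (augSh f)).1 ?_⟩
  rw [← Category.assoc, hψ, Preadditive.sub_comp, Category.assoc, E.zero, comp_zero, sub_zero, hψ₀]

/-- Vanishing of Cech cohomology for all epimorphisms gives total acyclicity. -/
theorem isTotallyAcyclic_of_cechKill (G : Sheaf J AddCommGrpCat.{u})
    (h : ∀ (K' K : Sheaf J (Type u)) (f : K' ⟶ K), Epi f → CechKill G (nerve f)) :
    CohCx.IsTotallyAcyclic G := by
  intro K q
  suffices H : ∀ E : ShortComplex (Sheaf J AddCommGrpCat.{u}), E.ShortExact → Injective E.X₂ →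
      (∀ (K' K : Sheaf J (Type u)) (f : K' ⟶ K), Epi f → CechKill E.X₁ (nerve f)) →
      ∀ K : Sheaf J (Type u), Subsingleton (Ext (freeSh K) E.X₁ (q + 1)) from by
    obtain ⟨E, hE, hI, rfl⟩ : ∃ E : ShortComplex (Sheaf J AddCommGrpCat.{u}),
        E.ShortExact ∧ Injective E.X₂ ∧ E.X₁ = G :=
      ⟨injectiveSES G, injectiveSES_shortExact G, inferInstance, injectiveSES_X₁ G⟩
    exact H E hE hI h K
  clear h G K
  induction q with
  | zero =>
    intro E hE hI h₁ K
    exact subsingleton_ext_one_X₁ _ hE (Ext.subsingleton_of_injective _ E.X₂ 0)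
      (exists_lift_of_cechKill hE h₁ K)
  | succ q ih =>
    intro E hE hI h₁ K
    refine subsingleton_ext_X₁ _ hE (q + 1) (Ext.subsingleton_of_injective _ E.X₂ (q + 1)) ?_
    have h₃ : ∀ (K' K : Sheaf J (Type u)) (f : K' ⟶ K), Epi f → CechKill E.X₃ (nerve f) :=
      fun K' K f hf => cechKill_X₃ hE (h₁ K' K f hf)
        (cechKill_of_injective (sheafNerveLike_nerve f) E.X₂) (exists_lift_of_cechKill hE h₁)
    obtain ⟨E', hE', hI', hX⟩ : ∃ E' : ShortComplex (Sheaf J AddCommGrpCat.{u}),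
        E'.ShortExact ∧ Injective E'.X₂ ∧ E'.X₁ = E.X₃ :=
      ⟨injectiveSES E.X₃, injectiveSES_shortExact _, inferInstance, injectiveSES_X₁ _⟩
    have := ih E' hE' hI'
    rw [hX] at this
    exact this h₃ K

/-- Totally acyclic sheaves have no higher Cech cohomology for epimorphisms. -/
theorem cechKill_of_isTotallyAcyclic {K' K : Sheaf J (Type u)} (f : K' ⟶ K) [Epi f]
    (G : Sheaf J AddCommGrpCat.{u}) (hG : CohCx.IsTotallyAcyclic G) : CechKill G (nerve f) := by
  suffices H : ∀ n : ℕ, ∀ E : ShortComplex (Sheaf J AddCommGrpCat.{u}), E.ShortExact → Injective E.X₂ →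
      CohCx.IsTotallyAcyclic E.X₁ → ∀ w : (freeShChain (nerve f)).X (n + 1) ⟶ E.X₁,
      (freeShChain (nerve f)).d (n + 2) (n + 1) ≫ w = 0 →
        ∃ b : (freeShChain (nerve f)).X n ⟶ E.X₁, (freeShChain (nerve f)).d (n + 1) n ≫ b = w from by
    intro n
    obtain ⟨E, hE, hI, rfl⟩ : ∃ E : ShortComplex (Sheaf J AddCommGrpCat.{u}),
        E.ShortExact ∧ Injective E.X₂ ∧ E.X₁ = G :=
      ⟨injectiveSES G, injectiveSES_shortExact G, inferInstance, injectiveSES_X₁ G⟩
    exact H n E hE hI hG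
  clear hG G
  intro n
  induction n with
  | zero =>
    intro E hE hI hA w hw
    have := hE.mono_f
    obtain ⟨b, hb⟩ := cechKill_of_injective (sheafNerveLike_nerve f) E.X₂ 0 (w ≫ E.f)
      (by rw [← Category.assoc, hw, zero_comp])
    obtain ⟨c, hc⟩ := exists_desc f (b ≫ E.g)
      (by rw [← Category.assoc, hb, Category.assoc, E.zero, comp_zero])
    obtain ⟨e, rfl⟩ := exists_lift_of_ext_one (freeSh K) hE (hA K 0) c
    have h0 : (b - augSh f ≫ e) ≫ E.g = 0 := by
      rw [Preadditive.sub_comp, Category.assoc, hc, sub_self]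
    refine ⟨hE.exact.lift _ h0, (cancel_mono E.f).1 ?_⟩
    rw [Category.assoc, hE.exact.lift_f, Preadditive.comp_sub, hb, ← Category.assoc, d_comp_augSh,
      zero_comp, sub_zero]
  | succ n ih =>
    intro E hE hI hA w hw
    have := hE.mono_f
    obtain ⟨b, hb⟩ := cechKill_of_injective (sheafNerveLike_nerve f) E.X₂ (n + 1) (w ≫ E.f)
      (by rw [← Category.assoc, hw, zero_comp])
    have hA₃ : CohCx.IsTotallyAcyclic E.X₃ := fun K q =>
      subsingleton_ext_X₃ _ hE (q + 1) (hA K (q + 1)) (Ext.subsingleton_of_injective _ E.X₂ q)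
    obtain ⟨E', hE', hI', hX⟩ : ∃ E' : ShortComplex (Sheaf J AddCommGrpCat.{u}),
        E'.ShortExact ∧ Injective E'.X₂ ∧ E'.X₁ = E.X₃ :=
      ⟨injectiveSES E.X₃, injectiveSES_shortExact _, inferInstance, injectiveSES_X₁ _⟩
    have hih := ih E' hE' hI'
    rw [hX] at hih
    obtain ⟨c, hc⟩ := hih hA₃ (b ≫ E.g)
      (by rw [← Category.assoc, hb, Category.assoc, E.zero, comp_zero])
    obtain ⟨e, rfl⟩ := exists_lift_of_ext_one ((freeShChain (nerve f)).X n) hE (hA ((nerve f).left.obj (op ⦋n⦌)) 0) c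
    have h0 : (b - (freeShChain (nerve f)).d (n + 1) n ≫ e) ≫ E.g = 0 := by
      rw [Preadditive.sub_comp, Category.assoc, hc, sub_self]
    refine ⟨hE.exact.lift _ h0, (cancel_mono E.f).1 ?_⟩
    rw [Category.assoc, hE.exact.lift_f, Preadditive.comp_sub, hb, ← Category.assoc,
      HomologicalComplex.d_comp_d, zero_comp, sub_zero]

end Groth.Agent.SiteBase
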