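import Mathlib.Algebra.Homology.HomotopyCategory
import Mathlib.Algebra.Homology.Embedding.CochainComplex
import Mathlib.CategoryTheory.Preadditive.AdditiveFunctor
import Mathlib.CategoryTheory.Limits.Preserves.Shapes.Kernels
import Mathlib.CategoryTheory.Abelian.Basic
import Mathlib.Algebra.Homology.Functor
import Mathlib.Tactic.Abel

/-!
# Resolutions of complexes by a pointwise split embedding

Given an embedding `η : C ⟶ T C` for every object, a complex concentrated in nonnegative degrees maps to a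
complex with terms of the form `T C`, and this map becomes a homotopy equivalence after applying any right exact
functor in which every `η` splits.
-/

universe v v' u u'

open CategoryTheory CategoryTheory.Limits

namespace Groth.Agent.SiteBase.SplitRes

variable {A : Type u} [Category.{v} A] [Abelian A]

/-- A complex indexed by the natural numbers. -/
structure Seq (A : Type u) [Category.{v} A] [Abelian A] where
  /-- The terms. -/
  X : ℕ → A
  /-- The differential. -/
  d : ∀ k, X k ⟶ X (k + 1)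
  /-- It squares to zero. -/
  sq : ∀ k, d k ≫ d (k + 1) = 0

variable (F : Seq A) (T : A → A) (η : ∀ C, C ⟶ T C)

/-- An object with the map towards the next term of the complex. -/
structure St (k : ℕ) where
  /-- The object to be embedded. -/
  C : A
  /-- The map to the next term. -/
  δ : C ⟶ F.X (k + 1)
  /-- It is a cycle. -/
  w : δ ≫ F.d (k + 1) = 0

/-- The map whose cokernel is embedded next. -/
noncomputable def mk' {k : ℕ} (S : St F k) : S.C ⟶ F.X (k + 1) ⊞ T S.C :=
  biprod.lift (-S.δ) (η S.C)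

lemma mk'_fst_d {k : ℕ} (S : St F k) : mk' F T η S ≫ biprod.fst ≫ F.d (k + 1) = 0 := by
  rw [mk', ← Category.assoc, biprod.lift_fst, Preadditive.neg_comp, S.w, neg_zero]

/-- The states. -/
noncomputable def st : ∀ k : ℕ, St F k
  | 0 => ⟨F.X 0, F.d 0, F.sq 0⟩
  | k + 1 => ⟨cokernel (mk' F T η (st k)), cokernel.desc _ (biprod.fst ≫ F.d (k + 1)) (mk'_fst_d F T η _), by
      rw [← cancel_epi (cokernel.π (mk' F T η (st k))), comp_zero, ← Category.assoc, cokernel.π_desc,
        Category.assoc, F.sq, comp_zero]⟩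

/-- The objects of the states. -/
noncomputable abbrev ob (k : ℕ) : A := (st F T η k).C

/-- The projection to the next state. -/
noncomputable def pi (k : ℕ) : F.X (k + 1) ⊞ T (ob F T η k) ⟶ ob F T η (k + 1) :=
  cokernel.π (mk' F T η (st F T η k))

/-- The map of a state. -/
noncomputable def del (k : ℕ) : ob F T η k ⟶ F.X (k + 1) := (st F T η k).δ

instance (k : ℕ) : Epi (pi F T η k) := inferInstanceAs (Epi (cokernel.π _))

lemma pi_del (k : ℕ) : pi F T η k ≫ del F T η (k + 1) = biprod.fst ≫ F.d (k + 1) :=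
  cokernel.π_desc _ _ _

lemma del_zero : del F T η 0 = F.d 0 := rfl

lemma del_d (k : ℕ) : del F T η k ≫ F.d (k + 1) = 0 := (st F T η k).w

lemma lift_pi (k : ℕ) : biprod.lift (-del F T η k) (η _) ≫ pi F T η k = 0 := cokernel.condition _

lemma η_inr_pi (k : ℕ) :
    η _ ≫ biprod.inr ≫ pi F T η k = del F T η k ≫ biprod.inl ≫ pi F T η k := by
  have h := lift_pi F T η k
  simp only [biprod.lift_eq, Preadditive.add_comp, Preadditive.neg_comp, Category.assoc] at h
  exact (neg_add_eq_zero.1 h).symm

/-- The inclusion of the complex. -/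
noncomputable def inc : ∀ k : ℕ, F.X k ⟶ ob F T η k
  | 0 => 𝟙 (F.X 0)
  | k + 1 => biprod.inl ≫ pi F T η k

lemma inc_succ (k : ℕ) : inc F T η (k + 1) = biprod.inl ≫ pi F T η k := rfl

lemma inc_del : ∀ k : ℕ, inc F T η k ≫ del F T η k = F.d k
  | 0 => Category.id_comp _
  | k + 1 => by rw [inc_succ, Category.assoc, pi_del, biprod.inl_fst_assoc]

/-- The differential. -/
noncomputable def dN (k : ℕ) : T (ob F T η k) ⟶ T (ob F T η (k + 1)) :=
  biprod.inr ≫ pi F T η k ≫ η _

lemma dN_sq (k : ℕ) : dN F T η k ≫ dN F T η (k + 1) = 0 := by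
  simp only [dN, Category.assoc]
  rw [reassoc_of% (η_inr_pi F T η (k + 1)), reassoc_of% (pi_del F T η k), biprod.inr_fst_assoc, zero_comp]

lemma map_comm (k : ℕ) : (inc F T η k ≫ η _) ≫ dN F T η k = F.d k ≫ inc F T η (k + 1) ≫ η _ := by
  simp only [dN, Category.assoc, inc_succ]
  rw [reassoc_of% (η_inr_pi F T η k), reassoc_of% (inc_del F T η k)]

section

variable {B : Type u'} [Category.{v'} B] [Preadditive B] (L : A ⥤ B) [L.Additive]
  [PreservesFiniteColimits L] (r : ∀ C, L.obj (T C) ⟶ L.obj C) (hr : ∀ C, L.map (η C) ≫ r C = 𝟙 _)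

omit [PreservesFiniteColimits L] in
lemma biprod_total (X Y : A) :
    L.map (biprod.fst : X ⊞ Y ⟶ X) ≫ L.map biprod.inl + L.map biprod.snd ≫ L.map biprod.inr = 𝟙 _ := by
  rw [← L.map_comp, ← L.map_comp, ← L.map_add, biprod.total, L.map_id]

include hr in
lemma exists_desc (k : ℕ) :
    ∃ (p : L.obj (ob F T η (k + 1)) ⟶ L.obj (F.X (k + 1)))
      (q : L.obj (ob F T η (k + 1)) ⟶ L.obj (T (ob F T η k))),
      L.map (pi F T η k) ≫ p = L.map biprod.fst + L.map biprod.snd ≫ r _ ≫ L.map (del F T η k) ∧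
      L.map (pi F T η k) ≫ q = L.map biprod.snd ≫ (𝟙 _ - r _ ≫ L.map (η _)) := by
  let f := biprod.lift (-del F T η k) (η _)
  have h₀ : IsColimit (CokernelCofork.ofπ (pi F T η k) (lift_pi F T η k)) :=
    cokernelIsCokernel (mk' F T η (st F T η k))
  have hc : IsColimit (CokernelCofork.ofπ (L.map (pi F T η k))
      (show L.map f ≫ L.map (pi F T η k) = 0 by rw [← L.map_comp, lift_pi, L.map_zero])) :=
    CokernelCofork.mapIsColimit _ h₀ L
  have hf : L.map f ≫ L.map biprod.fst = -L.map (del F T η k) := by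
    rw [← L.map_comp, ← L.map_neg]; simp [f]
  have hs : L.map f ≫ L.map biprod.snd = L.map (η _) := by
    rw [← L.map_comp]; simp [f]
  obtain ⟨p, hp⟩ := CokernelCofork.IsColimit.desc' hc
    (L.map biprod.fst + L.map biprod.snd ≫ r _ ≫ L.map (del F T η k)) (by
      rw [Preadditive.comp_add, reassoc_of% hs, reassoc_of% hr, hf, neg_add_cancel])
  obtain ⟨q, hq⟩ := CokernelCofork.IsColimit.desc' hc (L.map biprod.snd ≫ (𝟙 _ - r _ ≫ L.map (η _))) (by
      rw [reassoc_of% hs, Preadditive.comp_sub, Category.comp_id, reassoc_of% hr, sub_self])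
  exact ⟨p, q, hp, hq⟩

/-- The retraction on the objects of the states. -/
noncomputable def pr : ∀ k : ℕ, L.obj (ob F T η k) ⟶ L.obj (F.X k)
  | 0 => 𝟙 _
  | k + 1 => (exists_desc F T η L r hr k).choose

/-- The homotopy on the objects of the states. -/
noncomputable def qr (k : ℕ) : L.obj (ob F T η (k + 1)) ⟶ L.obj (T (ob F T η k)) :=
  (exists_desc F T η L r hr k).choose_spec.choose

lemma pi_pr (k : ℕ) : L.map (pi F T η k) ≫ pr F T η L r hr (k + 1) =
    L.map biprod.fst + L.map biprod.snd ≫ r _ ≫ L.map (del F T η k) :=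
  (exists_desc F T η L r hr k).choose_spec.choose_spec.1

lemma pi_qr (k : ℕ) : L.map (pi F T η k) ≫ qr F T η L r hr k =
    L.map biprod.snd ≫ (𝟙 _ - r _ ≫ L.map (η _)) :=
  (exists_desc F T η L r hr k).choose_spec.choose_spec.2

lemma inc_pr : ∀ k : ℕ, L.map (inc F T η k) ≫ pr F T η L r hr k = 𝟙 _
  | 0 => by
    show L.map (𝟙 (F.X 0)) ≫ 𝟙 _ = _
    rw [L.map_id]
    exact Category.id_comp _
  | k + 1 => by
    rw [inc_succ, L.map_comp, Category.assoc, pi_pr, Preadditive.comp_add, ← L.map_comp, biprod.inl_fst,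
      ← Category.assoc, ← L.map_comp, biprod.inl_snd, L.map_zero, zero_comp, add_zero, L.map_id]

lemma total (k : ℕ) : pr F T η L r hr (k + 1) ≫ L.map (inc F T η (k + 1)) +
    qr F T η L r hr k ≫ L.map (biprod.inr ≫ pi F T η k) = 𝟙 _ := by
  have : Epi (L.map (pi F T η k)) := L.map_epi _
  rw [← cancel_epi (L.map (pi F T η k)), Preadditive.comp_add, ← Category.assoc,
    ← Category.assoc, pi_pr, pi_qr, inc_succ]
  have e : L.map (η (ob F T η k)) ≫ L.map biprod.inr ≫ L.map (pi F T η k) =
      L.map (del F T η k) ≫ L.map biprod.inl ≫ L.map (pi F T η k) := by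
    simp only [← L.map_comp, η_inr_pi]
  simp only [L.map_comp, Preadditive.add_comp, Category.assoc, Preadditive.sub_comp, Preadditive.comp_sub,
    Category.comp_id, e]
  rw [add_assoc, add_sub_cancel, ← Category.assoc, ← Category.assoc, ← Preadditive.add_comp, biprod_total,
    Category.id_comp]

include hr in
omit [Preadditive B] [L.Additive] [PreservesFiniteColimits L] in
lemma dN_r (k : ℕ) {Y : B} (t : L.obj (ob F T η (k + 1)) ⟶ Y) :
    L.map (dN F T η k) ≫ r _ ≫ t = L.map biprod.inr ≫ L.map (pi F T η k) ≫ t := by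
  rw [dN, L.map_comp, L.map_comp, Category.assoc, Category.assoc, reassoc_of% hr]

lemma pr_d : ∀ k : ℕ, pr F T η L r hr k ≫ L.map (F.d k) = L.map (del F T η k)
  | 0 => Category.id_comp _
  | k + 1 => by
    have : Epi (L.map (pi F T η k)) := L.map_epi _
    rw [← cancel_epi (L.map (pi F T η k)), ← Category.assoc, pi_pr, Preadditive.add_comp, Category.assoc,
      Category.assoc, ← L.map_comp, ← L.map_comp, ← L.map_comp, del_d, L.map_zero, comp_zero, comp_zero,
      add_zero, pi_del]

lemma inv_comm (k : ℕ) : (r _ ≫ pr F T η L r hr k) ≫ L.map (F.d k) =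
    L.map (dN F T η k) ≫ r _ ≫ pr F T η L r hr (k + 1) := by
  rw [Category.assoc, pr_d, dN_r F T η L r hr k, pi_pr, Preadditive.comp_add, ← L.map_comp, biprod.inr_fst,
    L.map_zero, zero_add, ← Category.assoc, ← Category.assoc, ← L.map_comp, biprod.inr_snd, L.map_id,
    Category.id_comp]

lemma d_h (k : ℕ) : L.map (dN F T η k) ≫ r _ ≫ qr F T η L r hr k = 𝟙 _ - r _ ≫ L.map (η _) := by
  rw [dN_r F T η L r hr k, pi_qr, ← Category.assoc, ← L.map_comp, biprod.inr_snd, L.map_id, Category.id_comp]

lemma h_d (k : ℕ) : (r _ ≫ qr F T η L r hr k) ≫ L.map (dN F T η k) =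
    r _ ≫ L.map (η _) - (r _ ≫ pr F T η L r hr (k + 1)) ≫ L.map (inc F T η (k + 1) ≫ η _) := by
  have e := eq_sub_of_add_eq' (total F T η L r hr k)
  have : dN F T η k = (biprod.inr ≫ pi F T η k) ≫ η _ := (Category.assoc _ _ _).symm
  rw [this, L.map_comp, Category.assoc, ← Category.assoc (qr F T η L r hr k), e, L.map_comp (inc F T η (k + 1)),
    Preadditive.sub_comp, Preadditive.comp_sub, Category.id_comp, Category.assoc, Category.assoc]

end

section

variable (E : CochainComplex A ℤ) [E.IsStrictlyGE 0]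

/-- The nonnegative part of a complex. -/
def seq : Seq A where
  X k := E.X (Int.ofNat k)
  d k := E.d (Int.ofNat k) (Int.ofNat (k + 1))
  sq _ := E.d_comp_d _ _ _

/-- The terms in all degrees. -/
noncomputable def obj : ℤ → A
  | Int.ofNat k => T (ob (seq E) T η k)
  | Int.negSucc _ => Classical.choose (HasZeroObject.zero (C := A))

omit [E.IsStrictlyGE 0] in
lemma isZero_obj (k : ℕ) : IsZero (obj T η E (Int.negSucc k)) :=
  Classical.choose_spec (HasZeroObject.zero (C := A))

/-- The differential in all degrees. -/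
noncomputable def dZ : ∀ n : ℤ, obj T η E n ⟶ obj T η E (n + 1)
  | Int.ofNat k => dN (seq E) T η k
  | Int.negSucc _ => 0

omit [E.IsStrictlyGE 0] in
lemma dZ_sq : ∀ n : ℤ, dZ T η E n ≫ dZ T η E (n + 1) = 0
  | Int.ofNat k => dN_sq (seq E) T η k
  | Int.negSucc _ => zero_comp

/-- The resolving complex. -/
noncomputable abbrev cx : CochainComplex A ℤ := CochainComplex.of (obj T η E) (dZ T η E) (dZ_sq T η E)

/-- The comparison in each degree. -/
noncomputable def mapN : ∀ n : ℤ, E.X n ⟶ obj T η E n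
  | Int.ofNat k => inc (seq E) T η k ≫ η _
  | Int.negSucc _ => 0

lemma mapN_comm : ∀ n : ℤ, mapN T η E n ≫ dZ T η E n = E.d n (n + 1) ≫ mapN T η E (n + 1)
  | Int.ofNat k => map_comm (seq E) T η k
  | Int.negSucc k => (E.isZero_of_isStrictlyGE 0 _ (Int.negSucc_lt_zero k)).eq_of_src _ _

/-- The comparison. -/
noncomputable def ι : E ⟶ cx T η E where
  f := mapN T η E
  comm' i j (hij : i + 1 = j) := by
    subst hij
    rw [show (cx T η E).d i (i + 1) = dZ T η E i from CochainComplex.of_d ..]
    exact mapN_comm T η E i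

instance : (cx T η E).IsStrictlyGE 0 :=
  (CochainComplex.isStrictlyGE_iff _ 0).2 fun i hi => by
    cases i with
    | ofNat k => exact absurd hi (Int.not_lt.2 (Int.natCast_nonneg k))
    | negSucc k => exact isZero_obj T η E k

variable {B : Type u'} [Category.{v'} B] [Preadditive B] (L : A ⥤ B) [L.Additive]
  [PreservesFiniteColimits L] (r : ∀ C, L.obj (T C) ⟶ L.obj C) (hr : ∀ C, L.map (η C) ≫ r C = 𝟙 _)

/-- The homotopy inverse in each degree. -/
noncomputable def invN : ∀ n : ℤ, L.obj (obj T η E n) ⟶ L.obj (E.X n)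
  | Int.ofNat k => r _ ≫ pr (seq E) T η L r hr k
  | Int.negSucc _ => 0

lemma invN_comm : ∀ n : ℤ, invN T η E L r hr n ≫ L.map (E.d n (n + 1)) =
    L.map (dZ T η E n) ≫ invN T η E L r hr (n + 1)
  | Int.ofNat k => inv_comm (seq E) T η L r hr k
  | Int.negSucc k => (L.map_isZero (isZero_obj T η E k)).eq_of_src _ _

/-- The homotopy inverse. -/
noncomputable def inv :
    (L.mapHomologicalComplex _).obj (cx T η E) ⟶ (L.mapHomologicalComplex _).obj E where
  f := invN T η E L r hr
  comm' i j (hij : i + 1 = j) := by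
    subst hij
    show invN T η E L r hr i ≫ L.map (E.d i (i + 1)) = L.map ((cx T η E).d i (i + 1)) ≫ _
    rw [show (cx T η E).d i (i + 1) = dZ T η E i from CochainComplex.of_d ..]
    exact invN_comm T η E L r hr i

lemma ι_inv : (L.mapHomologicalComplex _).map (ι T η E) ≫ inv T η E L r hr = 𝟙 _ := by
  refine HomologicalComplex.hom_ext _ _ fun n => ?_
  cases n with
  | ofNat k =>
    show L.map (inc (seq E) T η k ≫ η _) ≫ r _ ≫ pr (seq E) T η L r hr k = 𝟙 _
    rw [L.map_comp, Category.assoc, reassoc_of% hr]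
    exact inc_pr (seq E) T η L r hr k
  | negSucc k => exact (L.map_isZero (E.isZero_of_isStrictlyGE 0 _ (Int.negSucc_lt_zero k))).eq_of_src _ _

/-- The homotopy in each degree. -/
noncomputable def hN : ∀ n : ℤ, L.obj (obj T η E (n + 1)) ⟶ L.obj (obj T η E n)
  | Int.ofNat k => r _ ≫ qr (seq E) T η L r hr k
  | Int.negSucc _ => 0

lemma homotopy_comm : ∀ k : ℕ,
    (r _ ≫ pr (seq E) T η L r hr k) ≫ L.map (inc (seq E) T η k ≫ η _) - 𝟙 _ =
      L.map (dN (seq E) T η k) ≫ (-(r _ ≫ qr (seq E) T η L r hr k)) +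
        match k with
        | 0 => 0
        | k + 1 => (-(r _ ≫ qr (seq E) T η L r hr k)) ≫ L.map (dN (seq E) T η k)
  | 0 => by
    have e : pr (seq E) T η L r hr 0 ≫ L.map (inc (seq E) T η 0 ≫ η _) = L.map (η (ob (seq E) T η 0)) :=
      (Category.id_comp _).trans (congrArg L.map (Category.id_comp _))
    rw [Category.assoc, e, add_zero, Preadditive.comp_neg, d_h, neg_sub]
  | k + 1 => by
    show _ = _ + (-(r _ ≫ qr (seq E) T η L r hr k)) ≫ L.map (dN (seq E) T η k)
    rw [Preadditive.comp_neg, d_h, Preadditive.neg_comp, h_d]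
    abel

/-- The resolution is a homotopy equivalence after applying the functor. -/
noncomputable def homotopyEquiv :
    HomotopyEquiv ((L.mapHomologicalComplex (ComplexShape.up ℤ)).obj E)
      ((L.mapHomologicalComplex (ComplexShape.up ℤ)).obj (cx T η E)) where
  hom := (L.mapHomologicalComplex _).map (ι T η E)
  inv := inv T η E L r hr
  homotopyHomInvId := Homotopy.ofEq (ι_inv T η E L r hr)
  homotopyInvHomId := Homotopy.equivSubZero.symm (by
    let h : ∀ i j : ℤ, (ComplexShape.up ℤ).Rel j i →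
        (((L.mapHomologicalComplex _).obj (cx T η E)).X i ⟶ ((L.mapHomologicalComplex _).obj (cx T η E)).X j) :=
      fun i j hij => eqToHom (congrArg (fun m => L.obj (obj T η E m)) (Eq.symm hij)) ≫
        (-hN T η E L r hr j)
    refine (Homotopy.ofEq ?_).trans (Homotopy.nullHomotopy' h)
    refine HomologicalComplex.hom_ext _ _ fun n => ?_
    have hd : ∀ m : ℤ, ((L.mapHomologicalComplex (ComplexShape.up ℤ)).obj (cx T η E)).d m (m + 1) =
        L.map (dZ T η E m) := fun m => congrArg L.map (CochainComplex.of_d ..)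
    cases n with
    | negSucc k => exact (L.map_isZero (isZero_obj T η E k)).eq_of_src _ _
    | ofNat k =>
      cases k with
      | zero =>
        refine Eq.trans ?_ (Homotopy.nullHomotopicMap'_f (C := (L.mapHomologicalComplex (ComplexShape.up ℤ)).obj (cx T η E))
          (k₀ := Int.ofNat 0 + 1) (k₂ := Int.negSucc 0) (k₁ := Int.ofNat 0) rfl rfl h).symm
        refine (homotopy_comm T η E L r hr 0).trans (congrArg₂ (· + ·) ?_ ?_)
        · exact (congrArg₂ (· ≫ ·) (hd (Int.ofNat 0)) (Category.id_comp _)).symm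
        · exact (((congrArg (· ≫ _) (show h (Int.ofNat 0) (Int.negSucc 0) rfl = 0 from
            (L.map_isZero (isZero_obj T η E 0)).eq_of_tgt _ _))).trans zero_comp).symm
      | succ k =>
        refine Eq.trans ?_ (Homotopy.nullHomotopicMap'_f (C := (L.mapHomologicalComplex (ComplexShape.up ℤ)).obj (cx T η E))
          (k₀ := Int.ofNat (k + 1) + 1) (k₂ := Int.ofNat k) (k₁ := Int.ofNat (k + 1)) rfl rfl h).symm
        refine (homotopy_comm T η E L r hr (k + 1)).trans (congrArg₂ (· + ·) ?_ ?_)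
        · exact (congrArg₂ (· ≫ ·) (hd (Int.ofNat (k + 1))) (Category.id_comp _)).symm
        · exact (congrArg₂ (· ≫ ·) (Category.id_comp _) (hd (Int.ofNat k))).symm)

end

end Groth.Agent.SiteBase.SplitRes
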