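import Groth.Agent.SiteBase.CompactDevissage
import Mathlib.CategoryTheory.Abelian.FunctorCategory

/-!
# Ext commuting with direct sums by dimension shifting
-/

set_option autoImplicit false
set_option backward.isDefEq.respectTransparency false
set_option linter.style.haveILetI false

universe w' v u t

open CategoryTheory CategoryTheory.Limits CategoryTheory.Abelian

noncomputable section

namespace Groth.Agent.CompactDevissage

variable {A : Type u} [Category.{v} A] [Abelian A] [EnoughInjectives A] [HasExt.{w'} A] {J : Type t}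
  [HasColimitsOfShape (Discrete J) A] [HasExactColimitsOfShape (Discrete J) A]

/-- Generation of extension classes into direct sums, by dimension shifting. -/
theorem sumGen_of_acyclic (P : A)
    (h0 : ∀ (H : J → A) (φ : P ⟶ ∐ H), ∃ (s : Finset J) (a : ∀ i, P ⟶ H i), φ = ∑ i ∈ s, a i ≫ Sigma.ι H i)
    (hI : ∀ (I : J → A), (∀ j, Injective (I j)) → ∀ n : ℕ, Subsingleton (Ext P (∐ I) (n + 1))) :
    SumGen J P := by
  intro n
  induction n with
  | zero =>
    intro H x
    obtain ⟨φ, rfl⟩ : ∃ φ, Ext.mk₀ φ = x := (Ext.mk₀_bijective _ _).2 x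
    obtain ⟨s, a, rfl⟩ := h0 H φ
    refine ⟨s, fun i => Ext.mk₀ (a i), ?_⟩
    simp only [Ext.mk₀_comp_mk₀]
    exact map_sum (Ext.addEquiv₀ (X := P) (Y := ∐ H)).symm _ _
  | succ q ih =>
    intro H x
    let H' : Discrete J ⥤ A := Discrete.functor H
    let I : Discrete J ⥤ A := Discrete.functor fun j => Injective.under (H j)
    let t : H' ⟶ I := Discrete.natTrans fun j => Injective.ι (H j.as)
    haveI : ∀ j, Mono (t.app j) := fun j => inferInstanceAs (Mono (Injective.ι (H j.as)))
    haveI : Mono t := NatTrans.mono_of_mono_app t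
    let S := ShortComplex.mk t (cokernel.π t) (cokernel.condition t)
    have hS : S.ShortExact := { exact := ShortComplex.exact_of_g_is_cokernel _ (cokernelIsCokernel t) }
    haveI : PreservesFiniteLimits (colim (J := Discrete J) (C := A)) :=
      HasExactColimitsOfShape.preservesFiniteLimits
    have hSc : (S.map (colim (J := Discrete J) (C := A))).ShortExact := hS.map_of_exact _
    have hSj : ∀ j : J, (S.map ((evaluation (Discrete J) A).obj ⟨j⟩)).ShortExact := fun j => hS.map_of_exact _
    let toC : ∀ j : J, S.map ((evaluation (Discrete J) A).obj ⟨j⟩) ⟶ S.map colim := fun j =>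
      { τ₁ := colimit.ι H' ⟨j⟩
        τ₂ := colimit.ι I ⟨j⟩
        τ₃ := colimit.ι (cokernel t) ⟨j⟩
        comm₁₂ := ι_colimMap t ⟨j⟩
        comm₂₃ := ι_colimMap (cokernel.π t) ⟨j⟩ }
    haveI := hI (fun j => Injective.under (H j)) (fun j => inferInstance) q
    obtain ⟨z, hz⟩ := Ext.covariant_sequence_exact₁ P hSc x
      (show x.comp (Ext.mk₀ (colimMap t)) (add_zero (q + 1)) = 0 from
        @Subsingleton.elim (Ext P (∐ fun j => Injective.under (H j)) (q + 1)) inferInstance _ _)
      (rfl : q + 1 = q + 1)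
    let Q : J → A := fun j => (cokernel t).obj ⟨j⟩
    let e : colimit (cokernel t) ≅ ∐ Q := HasColimit.isoOfNatIso Discrete.natIsoFunctor
    obtain ⟨s, w, hw⟩ := ih Q (z.comp (Ext.mk₀ e.hom) (add_zero q))
    refine ⟨s, fun j => (w j).comp (hSj j).extClass rfl, ?_⟩
    have hz' : z = ∑ j ∈ s, (w j).comp (Ext.mk₀ (colimit.ι (cokernel t) ⟨j⟩)) (add_zero q) := by
      let T : Ext P (∐ Q) q →+ Ext P (colimit (cokernel t)) q :=
        AddMonoidHom.mk' (fun y => y.comp (Ext.mk₀ e.inv) (add_zero q)) fun a b => Ext.add_comp _ _ _ _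
      have h := congrArg T hw
      rw [map_sum] at h
      simp only [T, AddMonoidHom.mk'_apply, Ext.comp_assoc_of_third_deg_zero, Ext.mk₀_comp_mk₀,
        Iso.hom_inv_id, Ext.comp_mk₀_id] at h
      refine h.trans (Finset.sum_congr rfl fun j _ => ?_)
      refine congrArg (fun g => (w j).comp (Ext.mk₀ g) (add_zero q)) ?_
      rw [Iso.comp_inv_eq]
      exact ((HasColimit.isoOfNatIso_ι_hom (Discrete.natIsoFunctor (F := cokernel t)) ⟨j⟩).trans
        (Category.id_comp _)).symm
    let E : Ext P (colimit (cokernel t)) q →+ Ext P (∐ H) (q + 1) :=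
      AddMonoidHom.mk' (fun y => y.comp hSc.extClass rfl) fun a b => Ext.add_comp _ _ _ _
    refine hz.symm.trans ((congrArg E hz').trans ((map_sum E _ s).trans (Finset.sum_congr rfl fun j _ => ?_)))
    change ((w j).comp (Ext.mk₀ (toC j).τ₃) (add_zero q)).comp hSc.extClass rfl = _
    rw [Ext.comp_assoc_of_second_deg_zero, ← ShortComplex.ShortExact.extClass_naturality (hSj j) hSc (toC j),
      ← Ext.comp_assoc_of_third_deg_zero]

end Groth.Agent.CompactDevissage
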