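import Groth.Agent.ModTensor.ProjSheaf
import Groth.Agent.ModTensor.Colimits
import Mathlib.Algebra.Category.ModuleCat.Sheaf.LocallyFree
import Mathlib.Algebra.Category.ModuleCat.Sheaf.Quasicoherent

/-! Tensor products of generated, presented and free sheaves of modules. -/

set_option autoImplicit false
universe w v' u' u

open CategoryTheory Limits MonoidalCategory

namespace Groth.Agent.SiteBase.TensorPerm

variable {C : Type u} [SmallCategory C] {J : GrothendieckTopology C} {O : Sheaf J CommRingCat.{u}}

/-- Tensor product of two sheaves of modules. -/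
noncomputable abbrev ten (A B : ModSite.Mod O) : ModSite.Mod O :=
  ((ModSite.tensorBi O).obj A).obj B

/-- The free module. -/
noncomputable abbrev fre (O : Sheaf J CommRingCat.{u}) (ι : Type u) : ModSite.Mod O :=
  SheafOfModules.free (R := ModSite.ringSh O) ι

/-- A map out of a free module. -/
noncomputable def fdesc {I : Type u} {Z : ModSite.Mod O}
    (f : I → (SheafOfModules.unit (ModSite.ringSh O) ⟶ Z)) : fre O I ⟶ Z :=
  Cofan.IsColimit.desc (SheafOfModules.isColimitFreeCofan (R := ModSite.ringSh O) I) f

@[reassoc]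
theorem ι_fdesc {I : Type u} {Z : ModSite.Mod O}
    (f : I → (SheafOfModules.unit (ModSite.ringSh O) ⟶ Z)) (i : I) :
    SheafOfModules.ιFree i ≫ fdesc f = f i :=
  Cofan.IsColimit.fac (SheafOfModules.isColimitFreeCofan (R := ModSite.ringSh O) I) f i

theorem fext {I : Type u} {Z : ModSite.Mod O} {f g : fre O I ⟶ Z}
    (h : ∀ i, SheafOfModules.ιFree i ≫ f = SheafOfModules.ιFree i ≫ g) : f = g :=
  Cofan.IsColimit.hom_ext (SheafOfModules.isColimitFreeCofan (R := ModSite.ringSh O) I) f g h

/-- Tensor product of two maps. -/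
noncomputable abbrev tenMap {A A' B B' : ModSite.Mod O} (p : A ⟶ A') (q : B ⟶ B') :
    ten A B ⟶ ten A' B' :=
  ((ModSite.tensorBi O).map p).app B ≫ ((ModSite.tensorBi O).obj A').map q

/-- The tensor product of two free modules is free. -/
noncomputable def freeTensorIso (ι κ : Type u) : ten (fre O ι) (fre O κ) ≅ fre O (ι × κ) :=
  haveI : ∀ α : Type u, HasColimitsOfShape (Discrete α) (SheafOfModules.{u} (ModSite.ringSh O)) :=
    fun _ => inferInstance
  haveI : ∀ _ : ι, HasCoproduct fun _ : κ => SheafOfModules.unit (ModSite.ringSh O) :=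
    fun _ => inferInstance
  PreservesCoproduct.iso ((ModSite.tensorBi O).flip.obj (fre O κ)) (fun _ : ι => ModSite.unit O) ≪≫
    Sigma.mapIso (f := fun _ : ι => ten (ModSite.unit O) (fre O κ)) (g := fun _ : ι => fre O κ)
      (fun _ => (ModTensor.unitTensorIso O).app (fre O κ)) ≪≫
    sigmaSigmaIso (fun _ : ι => κ) (fun _ _ => SheafOfModules.unit (ModSite.ringSh O)) ≪≫
    Sigma.whiskerEquiv (f := fun _ : Σ _ : ι, κ => SheafOfModules.unit (ModSite.ringSh O))
      (g := fun _ : ι × κ => SheafOfModules.unit (ModSite.ringSh O))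
      (Equiv.sigmaEquivProd ι κ) (fun _ => Iso.refl _)

instance epi_tensorBi_map_app {A A' : ModSite.Mod O} (p : A ⟶ A') [Epi p] (B : ModSite.Mod O) :
    Epi (((ModSite.tensorBi O).map p).app B) :=
  inferInstanceAs (Epi (((ModSite.tensorBi O).flip.obj B).map p))

instance epi_tensorBi_obj_map (A : ModSite.Mod O) {B B' : ModSite.Mod O} (q : B ⟶ B') [Epi q] :
    Epi (((ModSite.tensorBi O).obj A).map q) :=
  inferInstance

variable {A B : ModSite.Mod O}

/-- Generators of a tensor product. -/
noncomputable def genTensor (σ : SheafOfModules.GeneratingSections (R := ModSite.ringSh O) A)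
    (τ : SheafOfModules.GeneratingSections (R := ModSite.ringSh O) B) :
    SheafOfModules.GeneratingSections (R := ModSite.ringSh O) (ten A B) where
  I := σ.I × τ.I
  s := SheafOfModules.freeHomEquiv _ ((freeTensorIso σ.I τ.I).inv ≫ tenMap σ.π τ.π)
  epi := by
    rw [Equiv.symm_apply_apply]
    infer_instance

theorem genTensor_π (σ : SheafOfModules.GeneratingSections (R := ModSite.ringSh O) A)
    (τ : SheafOfModules.GeneratingSections (R := ModSite.ringSh O) B) :
    (genTensor σ τ).π = (freeTensorIso σ.I τ.I).inv ≫ tenMap σ.π τ.π :=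
  Equiv.symm_apply_apply _ _

theorem genTensor_isFiniteType (σ : SheafOfModules.GeneratingSections (R := ModSite.ringSh O) A)
    (τ : SheafOfModules.GeneratingSections (R := ModSite.ringSh O) B)
    (hσ : σ.IsFiniteType) (hτ : τ.IsFiniteType) : (genTensor σ τ).IsFiniteType := by
  haveI := hσ.finite
  haveI := hτ.finite
  exact ⟨inferInstanceAs (Finite (σ.I × τ.I))⟩

theorem genTensor_isIso (σ : SheafOfModules.GeneratingSections (R := ModSite.ringSh O) A)
    (τ : SheafOfModules.GeneratingSections (R := ModSite.ringSh O) B)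
    [IsIso σ.π] [IsIso τ.π] : IsIso (genTensor σ τ).π := by
  rw [genTensor_π]
  haveI : IsIso (((ModSite.tensorBi O).map σ.π).app (fre O τ.I)) := inferInstance
  haveI : IsIso (((ModSite.tensorBi O).obj A).map τ.π) := inferInstance
  exact IsIso.comp_isIso

section Cokernel

variable {rA gA rB gB : Type u} {a : fre O rA ⟶ fre O gA} {pA : fre O gA ⟶ A}
  {b : fre O rB ⟶ fre O gB} {pB : fre O gB ⟶ B}

/-- Relations of a tensor product of two presented modules. -/
noncomputable def relTensor (a : fre O rA ⟶ fre O gA) (b : fre O rB ⟶ fre O gB) :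
    fre O ((rA × gB) ⊕ (gA × rB)) ⟶ fre O (gA × gB) :=
  fdesc (Sum.elim
    (fun x => SheafOfModules.ιFree (R := ModSite.ringSh O) x ≫ (freeTensorIso rA gB).inv ≫
      ((ModSite.tensorBi O).map a).app (fre O gB) ≫ (freeTensorIso gA gB).hom)
    (fun x => SheafOfModules.ιFree (R := ModSite.ringSh O) x ≫ (freeTensorIso gA rB).inv ≫
      ((ModSite.tensorBi O).obj (fre O gA)).map b ≫ (freeTensorIso gA gB).hom))

theorem relTensor_comp_iff {Z : ModSite.Mod O} (k : fre O (gA × gB) ⟶ Z) :
    relTensor a b ≫ k = 0 ↔
      ((ModSite.tensorBi O).map a).app (fre O gB) ≫ (freeTensorIso gA gB).hom ≫ k = 0 ∧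
        ((ModSite.tensorBi O).obj (fre O gA)).map b ≫ (freeTensorIso gA gB).hom ≫ k = 0 := by
  constructor
  · intro h
    refine ⟨?_, ?_⟩
    · rw [← cancel_epi (freeTensorIso rA gB).inv, comp_zero]
      refine fext fun x => ?_
      have := congrArg (fun t => SheafOfModules.ιFree (R := ModSite.ringSh O)
        (Sum.inl x : (rA × gB) ⊕ (gA × rB)) ≫ t) h
      simp only [comp_zero] at this
      rw [relTensor, ι_fdesc_assoc] at this
      simp only [Sum.elim_inl, Category.assoc] at this
      exact this.trans comp_zero.symm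
    · rw [← cancel_epi (freeTensorIso gA rB).inv, comp_zero]
      refine fext fun x => ?_
      have := congrArg (fun t => SheafOfModules.ιFree (R := ModSite.ringSh O)
        (Sum.inr x : (rA × gB) ⊕ (gA × rB)) ≫ t) h
      simp only [comp_zero] at this
      rw [relTensor, ι_fdesc_assoc] at this
      simp only [Sum.elim_inr, Category.assoc] at this
      exact this.trans comp_zero.symm
  · rintro ⟨h₁, h₂⟩
    refine fext fun x => ?_
    rw [relTensor, ι_fdesc_assoc, comp_zero]
    cases x with
    | inl x => simp only [Sum.elim_inl, Category.assoc, h₁, comp_zero]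
    | inr x => simp only [Sum.elim_inr, Category.assoc, h₂, comp_zero]

/-- The tensor product of two cokernels, as a cokernel. -/
theorem exists_cokernel_tensor (wA : a ≫ pA = 0) (hA : IsColimit (CokernelCofork.ofπ pA wA))
    (wB : b ≫ pB = 0) (hB : IsColimit (CokernelCofork.ofπ pB wB)) :
    ∃ w : relTensor a b ≫ (freeTensorIso gA gB).inv ≫ tenMap pA pB = 0,
      Nonempty (IsColimit (CokernelCofork.ofπ ((freeTensorIso gA gB).inv ≫ tenMap pA pB) w)) := by
  haveI : Epi pA := Cofork.IsColimit.epi hA
  haveI : Epi pB := Cofork.IsColimit.epi hB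
  have hA' := isColimitOfPreserves ((ModSite.tensorBi O).flip.obj (fre O gB)) hA
  have cA := CokernelCofork.mapIsColimit _ hA ((ModSite.tensorBi O).flip.obj (fre O gB))
  have cB := CokernelCofork.mapIsColimit _ hB ((ModSite.tensorBi O).obj A)
  have hw : relTensor a b ≫ (freeTensorIso gA gB).inv ≫ tenMap pA pB = 0 := by
    refine (relTensor_comp_iff _).2 ⟨?_, ?_⟩
    · rw [Iso.hom_inv_id_assoc, ← Category.assoc, ← NatTrans.comp_app, ← Functor.map_comp, wA,
        Functor.map_zero]
      simp
    · rw [Iso.hom_inv_id_assoc, tenMap, ← Category.assoc, NatTrans.naturality, Category.assoc,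
        ← Functor.map_comp, wB, Functor.map_zero, comp_zero]
  refine ⟨hw, ⟨CokernelCofork.IsColimit.ofπ' _ hw fun {Z} k hk => ?_⟩⟩
  have hk' := (relTensor_comp_iff k).1 hk
  obtain ⟨k₁, hk₁⟩ := CokernelCofork.IsColimit.desc' cA ((freeTensorIso gA gB).hom ≫ k) hk'.1
  change ((ModSite.tensorBi O).map pA).app (fre O gB) ≫ k₁ = _ at hk₁
  have h₂ : ((ModSite.tensorBi O).obj A).map b ≫ k₁ = 0 := by
    rw [← cancel_epi (((ModSite.tensorBi O).map pA).app (fre O rB)), comp_zero, ← Category.assoc,
      ← NatTrans.naturality, Category.assoc, hk₁]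
    exact hk'.2
  obtain ⟨k₂, hk₂⟩ := CokernelCofork.IsColimit.desc' cB k₁ h₂
  change ((ModSite.tensorBi O).obj A).map pB ≫ k₂ = _ at hk₂
  exact ⟨k₂, by rw [Category.assoc, Category.assoc, hk₂, hk₁, Iso.inv_hom_id_assoc]⟩

end Cokernel

/-- A presentation of a tensor product. -/
noncomputable def presTensor (P : SheafOfModules.Presentation (R := ModSite.ringSh O) A)
    (Q : SheafOfModules.Presentation (R := ModSite.ringSh O) B) :
    SheafOfModules.Presentation (R := ModSite.ringSh O) (ten A B) :=
  SheafOfModules.presentationOfIsCokernelFree _ _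
    (exists_cokernel_tensor _ P.isColimit _ Q.isColimit).choose
    (exists_cokernel_tensor _ P.isColimit _ Q.isColimit).choose_spec.some

theorem presTensor_isFinite (P : SheafOfModules.Presentation (R := ModSite.ringSh O) A)
    (Q : SheafOfModules.Presentation (R := ModSite.ringSh O) B) [P.IsFinite] [Q.IsFinite] :
    (presTensor P Q).IsFinite := by
  haveI := (SheafOfModules.Presentation.IsFinite.isFiniteType_generators (p := P)).finite
  haveI := (SheafOfModules.Presentation.IsFinite.isFiniteType_generators (p := Q)).finite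
  haveI := (SheafOfModules.Presentation.IsFinite.isFiniteType_relations (p := P)).finite
  haveI := (SheafOfModules.Presentation.IsFinite.isFiniteType_relations (p := Q)).finite
  exact ⟨⟨inferInstanceAs (Finite (P.generators.I × Q.generators.I))⟩,
    ⟨inferInstanceAs (Finite ((P.relations.I × Q.generators.I) ⊕
      (P.generators.I × Q.relations.I)))⟩⟩

end Groth.Agent.SiteBase.TensorPerm
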