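import Mathlib.CategoryTheory.Limits.Shapes.WidePullbacks
import Mathlib.CategoryTheory.Limits.Shapes.Pullback.IsPullback.Basic
import Mathlib.CategoryTheory.Limits.Preserves.Shapes.Pullbacks

/-!
# Functors preserving pullbacks preserve finite fibre powers
-/

universe v u v' u'

open CategoryTheory CategoryTheory.Limits

namespace Groth.Agent.SiteBase

variable {A : Type u} [Category.{v} A] [HasFiniteLimits A] {B : Type u'} [Category.{v'} B]
  {K' K : A} (f : K' ⟶ K)

/-- Forgetting the last factor of a fibre power. -/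
noncomputable def powInit (n : ℕ) :
    widePullback K (fun _ : Fin (n + 2) => K') (fun _ => f) ⟶
      widePullback K (fun _ : Fin (n + 1) => K') (fun _ => f) :=
  WidePullback.lift (arrows := fun _ : Fin (n + 1) => f) (WidePullback.base (fun _ : Fin (n + 2) => f))
    (fun i => WidePullback.π (fun _ : Fin (n + 2) => f) i.castSucc)
    (fun i => WidePullback.π_arrow (fun _ : Fin (n + 2) => f) i.castSucc)

lemma powInit_π (n : ℕ) (i : Fin (n + 1)) :
    powInit f n ≫ WidePullback.π (fun _ : Fin (n + 1) => f) i =
      WidePullback.π (fun _ : Fin (n + 2) => f) i.castSucc :=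
  WidePullback.lift_π _ _ _ _ _

lemma powInit_base (n : ℕ) :
    powInit f n ≫ WidePullback.base (fun _ : Fin (n + 1) => f) =
      WidePullback.base (fun _ : Fin (n + 2) => f) :=
  WidePullback.lift_base _ _ _ _

/-- Fibre powers are iterated fibre products. -/
theorem isPullback_powInit (n : ℕ) :
    IsPullback (powInit f n) (WidePullback.π (fun _ : Fin (n + 2) => f) (Fin.last (n + 1)))
      (WidePullback.base (fun _ : Fin (n + 1) => f)) f := by
  refine IsPullback.of_isLimit' ⟨(powInit_base f n).trans (WidePullback.π_arrow (fun _ : Fin (n + 2) => f) _).symm⟩ ?_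
  refine PullbackCone.IsLimit.mk _
    (fun s => WidePullback.lift (arrows := fun _ : Fin (n + 2) => f) (s.snd ≫ f)
      (Fin.snoc (α := fun _ => s.pt ⟶ K') (fun i => s.fst ≫ WidePullback.π (fun _ : Fin (n + 1) => f) i) s.snd)
      (fun i => ?_))
    (fun s => ?_) (fun s => ?_) (fun s m h₁ h₂ => ?_)
  · refine Fin.lastCases ?_ (fun j => ?_) i
    · rw [Fin.snoc_last]
    · rw [Fin.snoc_castSucc, Category.assoc, WidePullback.π_arrow, s.condition]
  · refine WidePullback.hom_ext _ _ _ (fun i => ?_) ?_
    · rw [Category.assoc, powInit_π, WidePullback.lift_π, Fin.snoc_castSucc]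
    · rw [Category.assoc, powInit_base, WidePullback.lift_base, s.condition]
  · rw [WidePullback.lift_π, Fin.snoc_last]
  · refine WidePullback.hom_ext _ _ _ (fun i => ?_) ?_
    · rw [WidePullback.lift_π]
      refine Fin.lastCases ?_ (fun j => ?_) i
      · rw [Fin.snoc_last, h₂]
      · rw [Fin.snoc_castSucc, ← h₁, Category.assoc, powInit_π]
    · rw [WidePullback.lift_base, ← h₂, Category.assoc, WidePullback.π_arrow]

variable (L : A ⥤ B) [PreservesLimitsOfShape WalkingCospan L]

/-- Images of fibre powers are fibre powers. -/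
theorem existsUnique_lift_pow (n : ℕ) {T : B} (b : T ⟶ L.obj K) (p : Fin (n + 1) → (T ⟶ L.obj K'))
    (hp : ∀ i, p i ≫ L.map f = b) :
    ∃! l : T ⟶ L.obj (widePullback K (fun _ : Fin (n + 1) => K') fun _ => f),
      ∀ i, l ≫ L.map (WidePullback.π (fun _ : Fin (n + 1) => f) i) = p i := by
  induction n with
  | zero =>
    have hi : IsIso (WidePullback.π (fun _ : Fin 1 => f) 0) := by
      refine ⟨WidePullback.lift (arrows := fun _ : Fin 1 => f) f (fun _ => 𝟙 _) (fun _ => Category.id_comp _),
        ?_, WidePullback.lift_π _ _ _ _ _⟩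
      refine WidePullback.hom_ext _ _ _ (fun j => ?_) ?_
      · obtain rfl : j = 0 := Subsingleton.elim j 0
        rw [Category.assoc, WidePullback.lift_π, Category.comp_id, Category.id_comp]
      · rw [Category.assoc, WidePullback.lift_base, Category.id_comp, WidePullback.π_arrow]
    refine ⟨p 0 ≫ inv (L.map (WidePullback.π (fun _ : Fin 1 => f) 0)), fun i => ?_, fun l hl => ?_⟩
    · obtain rfl : i = 0 := Fin.fin_one_eq_zero i
      rw [Category.assoc, IsIso.inv_hom_id, Category.comp_id]
    · rw [← hl 0, Category.assoc, IsIso.hom_inv_id, Category.comp_id]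
  | succ n ih =>
    obtain ⟨l₀, hl₀, huniq⟩ := ih (fun i => p i.castSucc) (fun i => hp _)
    have hb : ∀ {l : T ⟶ L.obj (widePullback K (fun _ : Fin (n + 1) => K') fun _ => f)},
        (∀ i, l ≫ L.map (WidePullback.π (fun _ : Fin (n + 1) => f) i) = p i.castSucc) →
        l ≫ L.map (WidePullback.base (fun _ : Fin (n + 1) => f)) = b := fun {l} h => by
      rw [← WidePullback.π_arrow (fun _ : Fin (n + 1) => f) 0, L.map_comp, ← Category.assoc, h 0, hp]
    have P := (isPullback_powInit f n).map L
    refine ⟨P.lift l₀ (p (Fin.last (n + 1))) ((hb hl₀).trans (hp _).symm), fun i => ?_, fun l hl => ?_⟩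
    · refine Fin.lastCases ?_ (fun j => ?_) i
      · exact P.lift_snd _ _ _
      · rw [← powInit_π, L.map_comp, ← Category.assoc, P.lift_fst, hl₀]
    · refine P.hom_ext ?_ ((hl _).trans (P.lift_snd _ _ _).symm)
      rw [P.lift_fst]
      exact huniq _ fun i => by rw [Category.assoc, ← L.map_comp, powInit_π, hl]

theorem preservesLimit_wideCospan (n : ℕ) :
    PreservesLimit (WidePullbackShape.wideCospan K (fun _ : Fin (n + 1) => K') fun _ => f) L := by
  let W := WidePullbackShape.wideCospan K (fun _ : Fin (n + 1) => K') fun _ => f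
  have hp : ∀ (s : Cone (W ⋙ L)) (i : Fin (n + 1)), s.π.app (some i) ≫ L.map f = s.π.app none :=
    fun s i => s.w (WidePullbackShape.Hom.term i)
  have h := fun s : Cone (W ⋙ L) =>
    existsUnique_lift_pow f L n (s.π.app none) (fun i => s.π.app (some i)) (hp s)
  refine preservesLimit_of_preserves_limit_cone (limit.isLimit W)
    { lift := fun s => (h s).exists.choose
      fac := fun s j => ?_
      uniq := fun s m hm => (h s).unique (fun i => hm (some i)) (h s).exists.choose_spec }
  rcases j with _ | i
  · show (h s).exists.choose ≫ L.map (WidePullback.base (fun _ : Fin (n + 1) => f)) = s.π.app none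
    rw [← WidePullback.π_arrow (fun _ : Fin (n + 1) => f) 0, L.map_comp, ← Category.assoc]
    exact (congrArg (fun t => t ≫ L.map f) ((h s).exists.choose_spec 0)).trans (hp s 0)
  · exact (h s).exists.choose_spec i

end Groth.Agent.SiteBase
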